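import Cfsg.Statements.S5420
import Mathlib
import Cfsg.Agent.Lib.PCore.Basic

set_option autoImplicit false
open Cfsg

namespace Cfsg.Agent.S5420

/-- Let Q be an extraspecial 2-subgroup of the finite group G whose centralizer in G is its centre Z and which is normal in the centralizer of Z. If Z lies in the largest normal 2-subgroup of G, then Q is a large extraspecial 2-subgroup of G: it normalizes no non-trivial subgroup of G of odd order. -/
theorem result {G : Type*} [Group G] [Finite G] (Q : Subgroup G) (hL1 : Cfsg.IsExtraspecial 2 ↥Q) (hL2 : Subgroup.centralizer (Q : Set G) = ((Subgroup.center ↥Q).map Q.subtype)) (hL3 : Subgroup.centralizer (((Subgroup.center ↥Q).map Q.subtype) : Set G) ≤ Subgroup.normalizer (Q : Set G)) (hZ : ((Subgroup.center ↥Q).map Q.subtype) ≤ Cfsg.pCore 2 G) : Cfsg.IsLargeExtraspecial Q := by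
  refine ⟨hL1, hL2, hL3, fun K hK hQK => ?_⟩
  set Z := (Subgroup.center ↥Q).map Q.subtype with hZdef
  have hcop : ∀ x ∈ Cfsg.pCore 2 G, x ∈ K → x = 1 := by
    intro x hx hxK
    obtain ⟨n, hn⟩ := (Cfsg.Agent.PCore.isPGroup_pCore (p := 2) (G := G)) ⟨x, hx⟩
    have h1 : orderOf x ∣ 2 ^ n := orderOf_dvd_of_pow_eq_one (by simpa using congrArg Subtype.val hn)
    have h2 : orderOf x ∣ Nat.card K := Subgroup.orderOf_dvd_natCard _ hxK
    have hc : (2 ^ n).Coprime (Nat.card K) := by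
      apply Nat.Coprime.pow_left
      exact Nat.coprime_two_left.mpr hK
    exact orderOf_eq_one_iff.mp (Nat.eq_one_of_dvd_coprimes hc h1 h2)
  have hKc : K ≤ Subgroup.centralizer (Z : Set G) := by
    intro k hk z hz
    have hzQ : z ∈ Q := Subgroup.map_subtype_le _ hz
    have h1 : z * k * z⁻¹ * k⁻¹ ∈ K :=
      mul_mem ((Subgroup.mem_normalizer_iff.mp (hQK hzQ) k).mp hk) (inv_mem hk)
    have h2 : z * k * z⁻¹ * k⁻¹ ∈ Cfsg.pCore 2 G := by
      have := (inferInstance : (Cfsg.pCore 2 G).Normal).conj_mem z⁻¹ (inv_mem (hZ hz)) k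
      rw [show z * k * z⁻¹ * k⁻¹ = z * (k * z⁻¹ * k⁻¹) from by group]
      exact mul_mem (hZ hz) this
    have h3 := hcop _ h2 h1
    calc z * k = (z * k * z⁻¹ * k⁻¹) * (k * z) := by group
      _ = k * z := by rw [h3, one_mul]
  rw [Subgroup.eq_bot_iff_forall]
  intro k hk
  have hkc : k ∈ Subgroup.centralizer (Q : Set G) := by
    intro q hq
    have h1 : q * k * q⁻¹ * k⁻¹ ∈ K :=
      mul_mem ((Subgroup.mem_normalizer_iff.mp (hQK hq) k).mp hk) (inv_mem hk)
    have h2 : q * k * q⁻¹ * k⁻¹ ∈ Q := by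
      have := (Subgroup.mem_normalizer_iff.mp (hL3 (hKc hk)) q⁻¹).mp (inv_mem hq)
      rw [show q * k * q⁻¹ * k⁻¹ = q * (k * q⁻¹ * k⁻¹) from by group]
      exact mul_mem hq this
    obtain ⟨n, hn⟩ := hL1.1.1 ⟨_, h2⟩
    have h3 : q * k * q⁻¹ * k⁻¹ = 1 := by
      have d1 : orderOf (q * k * q⁻¹ * k⁻¹) ∣ 2 ^ n :=
        orderOf_dvd_of_pow_eq_one (by simpa using congrArg Subtype.val hn)
      have d2 := Subgroup.orderOf_dvd_natCard _ h1
      exact orderOf_eq_one_iff.mp (Nat.eq_one_of_dvd_coprimes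
        ((Nat.coprime_two_left.mpr hK).pow_left n) d1 d2)
    calc q * k = (q * k * q⁻¹ * k⁻¹) * (k * q) := by group
      _ = k * q := by rw [h3, one_mul]
  rw [hL2] at hkc
  exact hcop k (hZ hkc) hk

end Cfsg.Agent.S5420
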