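import Cfsg.Statements.S5421
import Mathlib
import Cfsg.Agent.Lib.PCore.Basic
import Cfsg.Agent.Lib.PGroup.Extraspecial

set_option autoImplicit false
open Cfsg

namespace Cfsg.Agent.S5421

open scoped commutatorElement

section
variable {G : Type*} [Group G] [Finite G]

theorem eq_one_of_two_pow {K : Subgroup G} (hK : Odd (Nat.card K)) {x : G} (hx : x ∈ K) {n : ℕ}
    (hn : x ^ 2 ^ n = 1) : x = 1 :=
  orderOf_eq_one_iff.mp (Nat.eq_one_of_dvd_coprimes ((Nat.coprime_two_left.mpr hK).pow_left n)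
    (orderOf_dvd_of_pow_eq_one hn) (Subgroup.orderOf_dvd_natCard _ hx))

theorem pow_card_eq {K : Subgroup G} {x : G} (hx : x ∈ K) : x ^ Nat.card K = 1 :=
  congrArg Subtype.val (pow_card_eq_one' (x := (⟨x, hx⟩ : K)))

/-- a four-group acting on a group of odd order: if the fixed points of `b` and of `b z` are fixed
by `z`, so is everything -/
theorem commute_of_four_group {K : Subgroup G} (hK : Odd (Nat.card K)) {z b : G}
    (hz : z * z = 1) (hb : b * b = 1) (hbz : Commute b z)
    (hzK : ∀ x ∈ K, z * x * z⁻¹ ∈ K) (hbK : ∀ x ∈ K, b * x * b⁻¹ ∈ K)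
    (h1 : ∀ x ∈ K, Commute b x → Commute z x) (h2 : ∀ x ∈ K, Commute (b * z) x → Commute z x) :
    ∀ x ∈ K, Commute z x := by
  obtain ⟨r, hr⟩ := hK
  have hpow : ∀ x ∈ K, (x ^ (r + 1)) * (x ^ (r + 1)) = x := by
    intro x hx
    rw [← pow_add, show r + 1 + (r + 1) = (2 * r + 1) + 1 by ring, pow_succ, ← hr, pow_card_eq hx,
      one_mul]
  have huniq : ∀ x ∈ K, ∀ y ∈ K, x * x = y * y → x = y := by
    intro x hx y hy he
    have hxy : ∀ u ∈ K, (u * u) ^ (r + 1) = u := fun u hu => by
      rw [(Commute.refl u).mul_pow, hpow u hu]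
    rw [← hxy x hx, ← hxy y hy, he]
  -- every element inverted by `z` is trivial
  have main : ∀ w ∈ K, z * w * z⁻¹ = w⁻¹ → w = 1 := by
    intro w hw hzw
    set β := MulAut.conj b
    set ζ := MulAut.conj z
    have hβ : ∀ x, β x = b * x * b⁻¹ := fun x => MulAut.conj_apply b x
    have hζ : ∀ x, ζ x = z * x * z⁻¹ := fun x => MulAut.conj_apply z x
    have hβ2 : ∀ x, β (β x) = x := fun x => by
      rw [← MulAut.mul_apply, ← map_mul, hb, map_one, MulAut.one_apply]
    have hβζ : ∀ x, ζ (β x) = β (ζ x) := fun x => by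
      rw [← MulAut.mul_apply, ← map_mul, ← hbz.eq, map_mul, MulAut.mul_apply]
    set u := β w with hu
    have huK : u ∈ K := by rw [hu, hβ]; exact hbK w hw
    have hzu : ζ u = u⁻¹ := by rw [hu, hβζ, hζ, hzw, map_inv]
    set a := w ^ (r + 1) with ha
    have haK : a ∈ K := pow_mem hw _
    have haa : a * a = w := hpow w hw
    have hsK : a⁻¹ * u * a⁻¹ ∈ K := mul_mem (mul_mem (inv_mem haK) huK) (inv_mem haK)
    set s := (a⁻¹ * u * a⁻¹) ^ (r + 1) with hs
    have hsK' : s ∈ K := pow_mem hsK _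
    set m := a * s * a with hm
    have hmK : m ∈ K := mul_mem (mul_mem haK hsK') haK
    have hmeq : m * w⁻¹ * m = u := by
      rw [hm, ← haa]
      calc a * s * a * (a * a)⁻¹ * (a * s * a) = a * (s * s) * a := by group
        _ = u := by rw [hs, hpow _ hsK]; group
    have hmid : ∀ m' ∈ K, m' * w⁻¹ * m' = u → m' = m := by
      intro m' hm' he
      have : a⁻¹ * m' * a⁻¹ = s := by
        refine huniq _ (mul_mem (mul_mem (inv_mem haK) hm') (inv_mem haK)) _ hsK' ?_
        rw [hs, hpow _ hsK, ← he, ← haa]; group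
      rw [hm, ← this]; group
    have hbm : β m = m := by
      refine hmid _ (by rw [hβ]; exact hbK m hmK) ?_
      have e : β m * u⁻¹ * β m = w := by
        have := congrArg β hmeq
        rwa [map_mul, map_mul, map_inv, ← hu, hu, hβ2, ← hu] at this
      calc β m * w⁻¹ * β m = β m * (β m * u⁻¹ * β m)⁻¹ * β m := by rw [e]
        _ = u := by group
    have hzm : ζ m = m⁻¹ := by
      have : (ζ m)⁻¹ = m := by
        refine hmid _ (inv_mem (by rw [hζ]; exact hzK m hmK)) ?_
        have e := congrArg ζ hmeq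
        rw [map_mul, map_mul, map_inv, hzu, hζ w, hzw, inv_inv] at e
        calc (ζ m)⁻¹ * w⁻¹ * (ζ m)⁻¹ = (ζ m * w * ζ m)⁻¹ := by group
          _ = u := by rw [e, inv_inv]
      exact inv_eq_iff_eq_inv.mp this
    have hm1 : m = 1 := by
      have hc : Commute z m := h1 m hmK (show b * m = m * b from by
        calc b * m = (b * m * b⁻¹) * b := by group
          _ = m * b := by rw [← hβ, hbm])
      have : m = m⁻¹ := by rw [← hzm, hζ, hc.eq, mul_inv_cancel_right]
      have hm2 : m ^ 2 ^ 1 = 1 := by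
        rw [pow_one, pow_two]; nth_rewrite 2 [this]; exact mul_inv_cancel m
      exact eq_one_of_two_pow ⟨r, hr⟩ hmK hm2
    have huw : u = w⁻¹ := by rw [← hmeq, hm1, one_mul, mul_one]
    have hc : Commute z w := h2 w hw (show b * z * w = w * (b * z) from by
      calc b * z * w = b * (z * w * z⁻¹) * z := by group
        _ = (b * w * b⁻¹)⁻¹ * (b * z) := by rw [hzw]; group
        _ = w * (b * z) := by rw [← hβ, ← hu, huw, inv_inv])
    have : w = w⁻¹ := by rw [← hzw, hc.eq, mul_inv_cancel_right]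
    have hw2 : w ^ 2 ^ 1 = 1 := by
      rw [pow_one, pow_two]; nth_rewrite 2 [this]; exact mul_inv_cancel w
    exact eq_one_of_two_pow ⟨r, hr⟩ hw hw2
  intro x hx
  have h := main (z * x * z⁻¹ * x⁻¹) (mul_mem (hzK x hx) (inv_mem hx)) (by
    have hzi : z⁻¹ = z := inv_eq_of_mul_eq_one_right hz
    rw [hzi]
    calc z * (z * x * z * x⁻¹) * z = (z * z) * x * z * x⁻¹ * z := by group
      _ = x * z⁻¹ * x⁻¹ * z⁻¹ := by rw [hz, one_mul, hzi]
      _ = (z * x * z * x⁻¹)⁻¹ := by group)
  show z * x = x * z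
  calc z * x = (z * x * z⁻¹ * x⁻¹) * (x * z) := by group
    _ = x * z := by rw [h, one_mul]

end

/-- Let Q be an extraspecial 2-subgroup of the finite group G whose centralizer in G is its centre Z and which is normal in the centralizer of Z. If some involution b of Q outside Z has Z inside the largest normal 2-subgroup of the centralizer of b, then Q is a large extraspecial 2-subgroup of G. -/
theorem result {G : Type*} [Group G] [Finite G] (Q : Subgroup G) (hL1 : Cfsg.IsExtraspecial 2 ↥Q) (hL2 : Subgroup.centralizer (Q : Set G) = ((Subgroup.center ↥Q).map Q.subtype)) (hL3 : Subgroup.centralizer (((Subgroup.center ↥Q).map Q.subtype) : Set G) ≤ Subgroup.normalizer (Q : Set G)) (b : G) (hbQ : b ∈ Q) (hbZ : b ∉ ((Subgroup.center ↥Q).map Q.subtype)) (hb : orderOf b = 2) (hZ : ((Subgroup.center ↥Q).map Q.subtype) ≤ (Cfsg.pCore 2 ↥(Subgroup.centralizer ({b} : Set G))).map (Subgroup.centralizer ({b} : Set G)).subtype) : Cfsg.IsLargeExtraspecial Q := by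
  have : Fact (Nat.Prime 2) := ⟨Nat.prime_two⟩
  refine ⟨hL1, hL2, hL3, fun K hK hQK => ?_⟩
  set Z := (Subgroup.center ↥Q).map Q.subtype with hZdef
  have hconjK : ∀ q ∈ Q, ∀ x ∈ K, q * x * q⁻¹ ∈ K := fun q hq x hx =>
    (Subgroup.mem_normalizer_iff.mp (hQK hq) x).mp hx
  have hKc : K ≤ Subgroup.centralizer (Z : Set G) := by
    intro k hk z hz
    obtain ⟨z', hz', rfl⟩ := hz
    have hz2 : (z' : G) * z' = 1 := by
      have := congrArg Subtype.val (Cfsg.Agent.PGroup.special_center_pow hL1.1 hz')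
      simpa [pow_two] using this
    have hb2 : b * b = 1 := by rw [← pow_two, ← hb]; exact pow_orderOf_eq_one b
    have hbz : Commute b (z' : G) := by
      show b * (z' : G) = (z' : G) * b
      have := congrArg Subtype.val (Subgroup.mem_center_iff.mp hz' ⟨b, hbQ⟩)
      simpa using this
    have h1 : ∀ x ∈ K, Commute b x → Commute (z' : G) x := by
      intro x hx hbx
      have hxC : x ∈ Subgroup.centralizer ({b} : Set G) :=
        Subgroup.mem_centralizer_singleton_iff.mpr hbx.symm.eq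
      obtain ⟨y, hy, hye⟩ := hZ (show (z' : G) ∈ Z from ⟨z', hz', rfl⟩)
      have hmem : y * ⟨x, hxC⟩ * y⁻¹ * (⟨x, hxC⟩)⁻¹ ∈ Cfsg.pCore 2 ↥(Subgroup.centralizer ({b} : Set G)) := by
        have := (inferInstance : (Cfsg.pCore 2 ↥(Subgroup.centralizer ({b} : Set G))).Normal).conj_mem y⁻¹
          (inv_mem hy) ⟨x, hxC⟩
        rw [show y * (⟨x, hxC⟩ : Subgroup.centralizer ({b} : Set G)) * y⁻¹ * (⟨x, hxC⟩)⁻¹ =
          y * ((⟨x, hxC⟩ : Subgroup.centralizer ({b} : Set G)) * y⁻¹ * (⟨x, hxC⟩)⁻¹) from by group]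
        exact mul_mem hy this
      obtain ⟨n, hn⟩ := Cfsg.Agent.PCore.isPGroup_pCore (p := 2) ⟨_, hmem⟩
      have hn' : ((z' : G) * x * (z' : G)⁻¹ * x⁻¹) ^ 2 ^ n = 1 := by
        have hh := congrArg (fun t : Cfsg.pCore 2 ↥(Subgroup.centralizer ({b} : Set G)) => ((t : ↥(Subgroup.centralizer ({b} : Set G))) : G)) hn
        simpa [← hye] using hh
      have h := eq_one_of_two_pow hK (mul_mem (hconjK _ z'.2 x hx) (inv_mem hx)) hn'
      show (z' : G) * x = x * z'
      calc (z' : G) * x = ((z' : G) * x * (z' : G)⁻¹ * x⁻¹) * (x * z') := by group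
        _ = x * z' := by rw [h, one_mul]
    refine commute_of_four_group hK hz2 hb2 hbz (hconjK _ z'.2) (hconjK _ hbQ) h1 ?_ k hk
    intro x hx hbx
    by_cases hz1 : z' = 1
    · rw [hz1]; exact Commute.one_left x
    -- some `q ∈ Q` conjugates `b` to `b z'`
    have hbc : (⟨b, hbQ⟩ : Q) ∉ Subgroup.center ↥Q := fun h => hbZ ⟨_, h, rfl⟩
    obtain ⟨q, hq⟩ := Cfsg.Agent.PGroup.exists_commutator_eq hL1 hbc hz'
    have hq' : (q : G) * b * (q : G)⁻¹ = b * z' := by
      have := congrArg Subtype.val hq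
      simp [commutatorElement_def] at this
      rw [hbz.eq, ← this]
      group
    set x' := (q : G)⁻¹ * x * (q : G) with hx'
    have hx'K : x' ∈ K := by
      have := hconjK _ (inv_mem q.2) x hx
      rwa [inv_inv] at this
    have hc : Commute b x' := by
      show b * x' = x' * b
      calc b * x' = (q : G)⁻¹ * (((q : G) * b * (q : G)⁻¹) * x) * q := by rw [hx']; group
        _ = (q : G)⁻¹ * (x * ((q : G) * b * (q : G)⁻¹)) * q := by rw [hq', hbx.eq]
        _ = x' * b := by rw [hx']; group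
    have hc' := h1 x' hx'K hc
    have hqz : Commute (q : G) (z' : G) := by
      show (q : G) * (z' : G) = (z' : G) * q
      have := congrArg Subtype.val (Subgroup.mem_center_iff.mp hz' q)
      simpa using this
    show (z' : G) * x = x * z'
    calc (z' : G) * x = ((z' : G) * q) * x' * (q : G)⁻¹ := by rw [hx']; group
      _ = (q : G) * ((z' : G) * x') * (q : G)⁻¹ := by rw [← hqz.eq]; group
      _ = (q : G) * (x' * z') * (q : G)⁻¹ := by rw [hc'.eq]
      _ = (q : G) * x' * ((z' : G) * (q : G)⁻¹) := by group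
      _ = x * z' := by rw [← (hqz.inv_left).eq, hx']; group
  rw [Subgroup.eq_bot_iff_forall]
  intro k hk
  have hkc : k ∈ Subgroup.centralizer (Q : Set G) := by
    intro q hq
    have h1 : q * k * q⁻¹ * k⁻¹ ∈ K := mul_mem (hconjK q hq k hk) (inv_mem hk)
    have h2 : q * k * q⁻¹ * k⁻¹ ∈ Q := by
      have := (Subgroup.mem_normalizer_iff.mp (hL3 (hKc hk)) q⁻¹).mp (inv_mem hq)
      rw [show q * k * q⁻¹ * k⁻¹ = q * (k * q⁻¹ * k⁻¹) from by group]
      exact mul_mem hq this
    obtain ⟨n, hn⟩ := hL1.1.1 ⟨_, h2⟩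
    have h3 := eq_one_of_two_pow hK h1 (n := n) (by simpa using congrArg Subtype.val hn)
    calc q * k = (q * k * q⁻¹ * k⁻¹) * (k * q) := by group
      _ = k * q := by rw [h3, one_mul]
  rw [hL2] at hkc
  obtain ⟨z', hz', rfl⟩ := hkc
  exact eq_one_of_two_pow hK hk (n := 1) (by
    rw [pow_one]
    exact congrArg Subtype.val (Cfsg.Agent.PGroup.special_center_pow hL1.1 hz'))

end Cfsg.Agent.S5421
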