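import Cfsg.Statements.S5422
import Mathlib
import Cfsg.Agent.S5421
import Cfsg.Agent.Lib.PCore.Basic
import Cfsg.Agent.Lib.PGroup.Extraspecial

set_option autoImplicit false
open Cfsg

namespace Cfsg.Agent.S5422

open Cfsg.Agent

/-- the facts about `(z, Q)` that the argument uses -/
structure Core {G : Type*} [Group G] (z : G) (Q : Subgroup G) : Prop where
  mem : z ∈ Q
  sq : z * z = 1
  ne : z ≠ 1
  central : ∀ q ∈ Q, q * z = z * q
  comm : ∀ q ∈ Q, ∀ r ∈ Q, q * r * q⁻¹ = r ∨ q * r * q⁻¹ = r * z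
  sq' : ∀ q ∈ Q, q * q = 1 ∨ q * q = z
  cent : ∀ c : G, (∀ q ∈ Q, q * c = c * q) → c = 1 ∨ c = z
  norm : ∀ c : G, c * z = z * c → ∀ q ∈ Q, c * q * c⁻¹ ∈ Q

section
variable {G : Type*} [Group G]

theorem Core.conj {z : G} {Q : Subgroup G} (h : Core z Q) (g : G) :
    Core (g * z * g⁻¹) (Q.map (MulAut.conj g).toMonoidHom) := by
  have key : ∀ q, q ∈ Q.map (MulAut.conj g).toMonoidHom ↔ ∃ r ∈ Q, g * r * g⁻¹ = q := fun q => by
    simp [Subgroup.mem_map]
  refine ⟨(key _).2 ⟨z, h.mem, rfl⟩, ?_, ?_, ?_, ?_, ?_, ?_, ?_⟩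
  · calc g * z * g⁻¹ * (g * z * g⁻¹) = g * (z * z) * g⁻¹ := by group
      _ = 1 := by rw [h.sq]; group
  · intro e; exact h.ne (conj_eq_one_iff.mp e)
  · intro q hq; obtain ⟨r, hr, rfl⟩ := (key q).1 hq
    calc g * r * g⁻¹ * (g * z * g⁻¹) = g * (r * z) * g⁻¹ := by group
      _ = g * (z * r) * g⁻¹ := by rw [h.central r hr]
      _ = _ := by group
  · intro q hq r hr
    obtain ⟨q', hq', rfl⟩ := (key q).1 hq
    obtain ⟨r', hr', rfl⟩ := (key r).1 hr
    have e : g * q' * g⁻¹ * (g * r' * g⁻¹) * (g * q' * g⁻¹)⁻¹ = g * (q' * r' * q'⁻¹) * g⁻¹ := by group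
    rcases h.comm q' hq' r' hr' with h1 | h1
    · left; rw [e, h1]
    · right; rw [e, h1]; group
  · intro q hq; obtain ⟨r, hr, rfl⟩ := (key q).1 hq
    have e : g * r * g⁻¹ * (g * r * g⁻¹) = g * (r * r) * g⁻¹ := by group
    rcases h.sq' r hr with h1 | h1 <;> rw [e, h1]
    · left; group
    · right; rfl
  · intro c hc
    rcases h.cent (g⁻¹ * c * g) (fun q hq => by
      calc q * (g⁻¹ * c * g) = g⁻¹ * ((g * q * g⁻¹) * c) * g := by group
        _ = g⁻¹ * (c * (g * q * g⁻¹)) * g := by rw [hc _ ((key _).2 ⟨q, hq, rfl⟩)]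
        _ = g⁻¹ * c * g * q := by group) with e | e
    · left; calc c = g * (g⁻¹ * c * g) * g⁻¹ := by group
        _ = 1 := by rw [e]; group
    · right; calc c = g * (g⁻¹ * c * g) * g⁻¹ := by group
        _ = g * z * g⁻¹ := by rw [e]
  · intro c hc q hq; obtain ⟨r, hr, rfl⟩ := (key q).1 hq
    refine (key _).2 ⟨_, h.norm (g⁻¹ * c * g) ?_ r hr, by group⟩
    calc g⁻¹ * c * g * z = g⁻¹ * (c * (g * z * g⁻¹)) * g := by group
      _ = g⁻¹ * ((g * z * g⁻¹) * c) * g := by rw [hc]
      _ = _ := by group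

/-- moving a non-central element -/
theorem Core.exists_move {z : G} {Q : Subgroup G} (h : Core z Q) {a : G} (ha : a ∈ Q)
    (h1 : a ≠ 1) (h2 : a ≠ z) : ∃ q ∈ Q, q * a * q⁻¹ = a * z := by
  by_contra hc
  push Not at hc
  rcases h.cent a (fun q hq => mul_inv_eq_iff_eq_mul.mp
    ((h.comm q hq a ha).resolve_right (hc q hq))) with e | e
  · exact h1 e
  · exact h2 e

/-- the double centralizer of `s` -/
theorem Core.double_cent {z s : G} {Q : Subgroup G} (h : Core z Q) (hs : s ∈ Q) (hs2 : s * s = 1)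
    {q0 : G} (hq0 : q0 ∈ Q) (hmove : q0 * s * q0⁻¹ = s * z) {a : G} (ha : a ∈ Q)
    (hR : ∀ r ∈ Q, r * s = s * r → r * a = a * r) : a = 1 ∨ a = z ∨ a = s ∨ a = s * z := by
  have hzs : z * s = s * z := (h.central s hs).symm
  have split : ∀ q ∈ Q, q * s ≠ s * q → (q0⁻¹ * q) * s = s * (q0⁻¹ * q) := by
    intro q hq hne
    have e := (h.comm q hq s hs).resolve_left (fun e => hne (mul_inv_eq_iff_eq_mul.mp e))
    calc q0⁻¹ * q * s = q0⁻¹ * (q * s * q⁻¹) * q := by group
      _ = q0⁻¹ * (q0 * s * q0⁻¹) * q := by rw [e, hmove]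
      _ = s * (q0⁻¹ * q) := by group
  have key : ∀ b ∈ Q, (∀ r ∈ Q, r * s = s * r → r * b = b * r) → q0 * b = b * q0 → b = 1 ∨ b = z := by
    intro b hb hbR hb0
    refine h.cent b fun q hq => ?_
    by_cases hqs : q * s = s * q
    · exact hbR q hq hqs
    · have := hbR (q0⁻¹ * q) (mul_mem (inv_mem hq0) hq) (split q hq hqs)
      calc q * b = q0 * ((q0⁻¹ * q) * b) := by group
        _ = (q0 * b) * (q0⁻¹ * q) := by rw [this]; group
        _ = b * q := by rw [hb0]; group
  rcases h.comm q0 hq0 a ha with e | e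
  · rcases key a ha hR (mul_inv_eq_iff_eq_mul.mp e) with h | h
    · exact Or.inl h
    · exact Or.inr (Or.inl h)
  · have hb : q0 * (a * s) = a * s * q0 := by
      have hzz : a * z * (s * z) = a * s := by
        calc a * z * (s * z) = a * (z * s) * z := by group
          _ = a * s * (z * z) := by rw [hzs]; group
          _ = a * s := by rw [h.sq, mul_one]
      calc q0 * (a * s) = (q0 * a * q0⁻¹) * (q0 * s * q0⁻¹) * q0 := by group
        _ = a * s * q0 := by rw [e, hmove, hzz]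
    have hback : a = a * s * s := by rw [mul_assoc, hs2, mul_one]
    rcases key (a * s) (mul_mem ha hs) (fun r hr hrs => by
      calc r * (a * s) = (r * a) * s := (mul_assoc _ _ _).symm
        _ = a * (r * s) := by rw [hR r hr hrs, mul_assoc]
        _ = a * s * r := by rw [hrs, mul_assoc]) hb with e' | e' <;> rw [e'] at hback
    · right; right; left; rw [hback, one_mul]
    · right; right; right; rw [hback, hzs]

/-- symmetry: `z` lies in the conjugate core -/
theorem mem_conj_core [Finite G] {z g s : G} {Q : Subgroup G} (h : Core z Q) (hg : g * z * g⁻¹ = s)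
    (hsQ : s ∈ Q) (hsz : s ≠ z) (hbig : 8 < Nat.card Q) :
    z ∈ Q.map (MulAut.conj g).toMonoidHom := by
  set P := Q.map (MulAut.conj g).toMonoidHom with hP
  have h' : Core s P := hg ▸ h.conj g
  by_contra hz
  have hzs : z * s = s * z := (h.central s hsQ).symm
  obtain ⟨q0, hq0, hmove⟩ := h.exists_move hsQ h'.ne hsz
  have zi : z⁻¹ = z := inv_eq_of_mul_eq_one_right h.sq
  have si : s⁻¹ = s := inv_eq_of_mul_eq_one_right h'.sq
  have hzmove : ∀ u ∈ P, u * z * u⁻¹ ≠ z * s := by
    intro u hu e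
    set τ := q0 * u * q0 with hτ
    have q0z : q0 * z * q0⁻¹ = z := by rw [h.central q0 hq0, mul_inv_cancel_right]
    have us : u * s * u⁻¹ = s := by rw [h'.central u hu, mul_inv_cancel_right]
    have t1 : τ * z * τ⁻¹ = s := by
      calc τ * z * τ⁻¹ = q0 * (u * (q0 * z * q0⁻¹) * u⁻¹) * q0⁻¹ := by rw [hτ]; group
        _ = q0 * (z * s) * q0⁻¹ := by rw [q0z, e]
        _ = (q0 * z * q0⁻¹) * (q0 * s * q0⁻¹) := by group
        _ = s := by rw [q0z, hmove, ← mul_assoc, hzs, mul_assoc, h.sq, mul_one]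
    have t2 : τ * s * τ⁻¹ = z := by
      calc τ * s * τ⁻¹ = q0 * (u * (q0 * s * q0⁻¹) * u⁻¹) * q0⁻¹ := by rw [hτ]; group
        _ = q0 * ((u * s * u⁻¹) * (u * z * u⁻¹)) * q0⁻¹ := by rw [hmove]; group
        _ = q0 * (s * (z * s)) * q0⁻¹ := by rw [us, e]
        _ = q0 * (s * s * z) * q0⁻¹ := by rw [hzs]; group
        _ = z := by rw [h'.sq, one_mul, q0z]
    apply hz
    have hcz : (g⁻¹ * τ) * z = z * (g⁻¹ * τ) := by
      calc g⁻¹ * τ * z = g⁻¹ * (τ * z * τ⁻¹) * τ := by group
        _ = z * (g⁻¹ * τ) := by rw [t1, ← hg]; group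
    refine ⟨_, h.norm (g⁻¹ * τ) hcz s hsQ, ?_⟩
    show g * (g⁻¹ * τ * s * (g⁻¹ * τ)⁻¹) * g⁻¹ = z
    rw [← t2]; group
  set k : G → G := fun u => z * u * z * u⁻¹ with hk
  have hzu : ∀ u ∈ P, z * u * z ∈ P := fun u hu => by
    have := h'.norm z hzs u hu
    rwa [zi] at this
  have hfix : ∀ u ∈ P, k u = 1 ∨ k u = s → z * u = u * z := by
    intro u hu hku
    have h2 : k u = 1 := by
      refine hku.resolve_right fun e => hzmove u hu ?_
      have e' : z * u * z = s * u := by rw [← e, hk]; group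
      calc u * z * u⁻¹ = z * ((z * u * z) * u⁻¹) := by simp [← mul_assoc, h.sq]
        _ = z * s := by rw [e']; group
    calc z * u = (k u) * u * z⁻¹ := by rw [hk]; group
      _ = u * z := by rw [h2, one_mul, zi]
  have hkX : ∀ u ∈ P, z * k u = k u * z := by
    intro u hu
    have hkm : k u ∈ P := mul_mem (hzu u hu) (inv_mem hu)
    refine hfix _ hkm ?_
    have e : z * k u * z = (k u)⁻¹ := by
      have : (k u)⁻¹ = u * z⁻¹ * u⁻¹ * z⁻¹ := by rw [hk]; group
      rw [this, zi, hk]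
      simp [← mul_assoc, h.sq]
    show z * k u * z * (k u)⁻¹ = 1 ∨ z * k u * z * (k u)⁻¹ = s
    rw [e, ← _root_.mul_inv_rev]
    rcases h'.sq' _ hkm with e' | e' <;> rw [e']
    · exact Or.inl inv_one
    · exact Or.inr si
  have hCX : ∀ c ∈ P, (∀ x ∈ P, z * x = x * z → x * c = c * x) → z * c = c * z := by
    intro c hc hcX
    refine hfix c hc (h'.cent _ fun v hv => ?_)
    have hckv : k v * c = c * k v := hcX _ (mul_mem (hzu v hv) (inv_mem hv)) (hkX v hv)
    have hv' : z * v * z = k v * v := by rw [hk]; group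
    obtain ⟨ε, hε2, hεz, hεP, e1⟩ : ∃ ε, ε * ε = 1 ∧ z * ε = ε * z ∧ (∀ q ∈ P, q * ε = ε * q) ∧
        c * v * c⁻¹ = v * ε := by
      rcases h'.comm c hc v hv with e | e
      · exact ⟨1, one_mul 1, by simp, by simp, by rw [e, mul_one]⟩
      · exact ⟨s, h'.sq, hzs, h'.central, e⟩
    have e2 : c * (z * v * z) * c⁻¹ = z * v * z * ε := by
      calc c * (z * v * z) * c⁻¹ = (c * k v) * v * c⁻¹ := by rw [hv']; group
        _ = k v * (c * v * c⁻¹) := by rw [← hckv]; group
        _ = z * v * z * ε := by rw [e1, hv']; group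
    have e3 : (z * c * z) * v * (z * c * z)⁻¹ = v * ε := by
      calc (z * c * z) * v * (z * c * z)⁻¹ = z * (c * (z * v * z⁻¹) * c⁻¹) * z⁻¹ := by group
        _ = z * (z * v * z * ε) * z⁻¹ := by rw [zi, e2]
        _ = z * z * v * (z * ε) * z⁻¹ := by group
        _ = v * ε := by rw [hεz, h.sq]; group
    have e4 : c⁻¹ * v * c = v * ε := by
      have hv2 : v = c⁻¹ * (v * ε) * c := by rw [← e1]; group
      have hεc : ε * c = c * ε := (hεP c hc).symm
      calc c⁻¹ * v * c = c⁻¹ * (v * (ε * ε)) * c := by rw [hε2, mul_one]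
        _ = c⁻¹ * (v * ε) * (ε * c) := by group
        _ = (c⁻¹ * (v * ε) * c) * ε := by rw [hεc]; group
        _ = v * ε := by rw [← hv2]
    have hcz' : z * c * z ∈ P := hzu c hc
    calc v * (z * c * z * c⁻¹) = (v * ε) * ε * (z * c * z * c⁻¹) := by rw [mul_assoc v ε ε, hε2, mul_one]
      _ = (v * ε) * ((ε * (z * c * z)) * c⁻¹) := by group
      _ = (v * ε) * ((z * c * z) * ε * c⁻¹) := by rw [← hεP _ hcz']
      _ = (z * c * z) * v * ε * c⁻¹ := by rw [← e3]; group
      _ = (z * c * z) * (c⁻¹ * v * c) * c⁻¹ := by rw [e4]; group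
      _ = z * c * z * c⁻¹ * v := by group
  have hD : ∀ d ∈ Q, d ∈ P → d = 1 ∨ d = s := by
    intro d hdQ hdP
    have hR : ∀ r ∈ Q, r * s = s * r → r * d = d * r := by
      intro r hr hrs
      rcases h.comm r hr d hdQ with e | e
      · exact mul_inv_eq_iff_eq_mul.mp e
      · exfalso; apply hz
        have := mul_mem (inv_mem hdP) (h'.norm r hrs d hdP)
        rwa [e, inv_mul_cancel_left] at this
    rcases h.double_cent hsQ h'.sq hq0 hmove hdQ hR with e | e | e | e
    · exact Or.inl e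
    · exact absurd (e ▸ hdP) hz
    · exact Or.inr e
    · exfalso; apply hz
      have := mul_mem h'.mem (e ▸ hdP)
      rwa [← mul_assoc, h'.sq, one_mul] at this
  have hRX : ∀ r ∈ Q, r * s = s * r → ∀ x ∈ P, z * x = x * z →
      r * x * r⁻¹ * x⁻¹ = 1 ∨ r * x * r⁻¹ * x⁻¹ = s := by
    intro r hr hrs x hx hxz
    refine hD _ ?_ (mul_mem (h'.norm r hrs x hx) (inv_mem hx))
    rw [show r * x * r⁻¹ * x⁻¹ = r * (x * r⁻¹ * x⁻¹) from by group]
    exact mul_mem hr (h.norm x hxz.symm _ (inv_mem hr))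
  have hcom : ∀ r ∈ Q, r * s = s * r → ∀ u ∈ P, z * (r * u * r⁻¹ * u⁻¹) = (r * u * r⁻¹ * u⁻¹) * z := by
    intro r hr hrs u hu
    refine hCX _ (mul_mem (h'.norm r hrs u hu) (inv_mem hu)) fun x hx hxz => ?_
    obtain ⟨ε, hε2, hεr, hεP, e⟩ : ∃ ε, ε * ε = 1 ∧ r * ε = ε * r ∧ (∀ q ∈ P, q * ε = ε * q) ∧
        x * u * x⁻¹ = u * ε := by
      rcases h'.comm x hx u hu with e | e
      · exact ⟨1, one_mul 1, by simp, by simp, by rw [e, mul_one]⟩
      · exact ⟨s, h'.sq, hrs, h'.central, e⟩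
    have hxr : ∃ a, (a = 1 ∨ a = s) ∧ r⁻¹ * x * r = a * x := by
      refine ⟨_, hRX r⁻¹ (inv_mem hr) (Commute.inv_left hrs).eq x hx hxz, ?_⟩
      group
    obtain ⟨a, ha, hxr⟩ := hxr
    have hau : ∀ q ∈ P, a * q * a⁻¹ = q := by
      intro q hq; rcases ha with rfl | rfl
      · simp
      · rw [← h'.central q hq, mul_inv_cancel_right]
    have hru : r * u * r⁻¹ ∈ P := h'.norm r hrs u hu
    have e5 : x * (r * u * r⁻¹) * x⁻¹ = r * u * r⁻¹ * ε := by
      calc x * (r * u * r⁻¹) * x⁻¹ = r * ((r⁻¹ * x * r) * u * (r⁻¹ * x * r)⁻¹) * r⁻¹ := by group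
        _ = r * (a * (x * u * x⁻¹) * a⁻¹) * r⁻¹ := by rw [hxr]; group
        _ = r * (u * ε) * r⁻¹ := by rw [hau _ (mul_mem (mul_mem hx hu) (inv_mem hx)), e]
        _ = r * u * r⁻¹ * (r * ε * r⁻¹) := by group
        _ = r * u * r⁻¹ * ε := by rw [hεr, mul_inv_cancel_right]
    have e6 : x * u⁻¹ * x⁻¹ = ε⁻¹ * u⁻¹ := by
      rw [show x * u⁻¹ * x⁻¹ = (x * u * x⁻¹)⁻¹ from by group, e, _root_.mul_inv_rev]
    calc x * (r * u * r⁻¹ * u⁻¹) = (x * (r * u * r⁻¹) * x⁻¹) * (x * u⁻¹ * x⁻¹) * x := by group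
      _ = r * u * r⁻¹ * u⁻¹ * x := by rw [e5, e6]; group
  obtain ⟨r1, hr1, hr1s, r2, hr2, hr2s, h12⟩ : ∃ r1 ∈ Q, r1 * s = s * r1 ∧ ∃ r2 ∈ Q,
      r2 * s = s * r2 ∧ r1 * r2 * r1⁻¹ = r2 * z := by
    by_contra hno
    push Not at hno
    classical
    have hR4 : ∀ r ∈ Q, r * s = s * r → r ∈ ({1, z, s, s * z} : Finset G) := by
      intro r hr hrs
      simp only [Finset.mem_insert, Finset.mem_singleton]
      exact h.double_cent hsQ h'.sq hq0 hmove hr fun r' hr' hr's => mul_inv_eq_iff_eq_mul.mp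
        ((h.comm r' hr' r hr).resolve_right (hno r' hr' hr's r hr hrs))
    have : Fintype G := Fintype.ofFinite G
    have hsub : (Finset.univ.filter (· ∈ Q)) ⊆
        ({1, z, s, s * z} : Finset G) ∪ ({1, z, s, s * z} : Finset G).image (q0 * ·) := by
      intro q hq
      simp only [Finset.mem_filter, Finset.mem_univ, true_and] at hq
      by_cases hqs : q * s = s * q
      · exact Finset.mem_union_left _ (hR4 q hq hqs)
      · refine Finset.mem_union_right _ (Finset.mem_image.mpr ⟨q0⁻¹ * q, hR4 _ (mul_mem (inv_mem hq0) hq) ?_, by group⟩)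
        have e := (h.comm q hq s hsQ).resolve_left (fun e => hqs (mul_inv_eq_iff_eq_mul.mp e))
        calc q0⁻¹ * q * s = q0⁻¹ * (q * s * q⁻¹) * q := by group
          _ = q0⁻¹ * (q0 * s * q0⁻¹) * q := by rw [e, hmove]
          _ = s * (q0⁻¹ * q) := by group
    have hc := (Finset.card_le_card hsub).trans (Finset.card_union_le _ _)
    have h4 : ({1, z, s, s * z} : Finset G).card ≤ 4 := Finset.card_le_four
    have h4' := (Finset.card_image_le (f := (q0 * ·)) (s := ({1, z, s, s * z} : Finset G))).trans h4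
    have hQc : Nat.card Q = (Finset.univ.filter (· ∈ Q)).card := by
      rw [Nat.card_eq_fintype_card, Fintype.card_subtype]
    omega
  have hall : ∀ u ∈ P, z * u = u * z := by
    intro u hu
    set c1 := r1 * u * r1⁻¹ * u⁻¹ with hc1
    set c2 := r2 * u * r2⁻¹ * u⁻¹ with hc2
    have c1P : c1 ∈ P := mul_mem (h'.norm r1 hr1s u hu) (inv_mem hu)
    have c2P : c2 ∈ P := mul_mem (h'.norm r2 hr2s u hu) (inv_mem hu)
    have c1z := hcom r1 hr1 hr1s u hu
    have c2z := hcom r2 hr2 hr2s u hu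
    obtain ⟨a, ha, ea⟩ : ∃ a, (a = 1 ∨ a = s) ∧ r2 * c1 * r2⁻¹ = a * c1 :=
      ⟨_, hRX r2 hr2 hr2s c1 c1P c1z, by group⟩
    obtain ⟨b, hb, eb⟩ : ∃ b, (b = 1 ∨ b = s) ∧ r1 * c2 * r1⁻¹ = b * c2 :=
      ⟨_, hRX r1 hr1 hr1s c2 c2P c2z, by group⟩
    obtain ⟨d, hd, ed⟩ : ∃ d, (d = 1 ∨ d = s) ∧ c2 * c1 = d * (c1 * c2) := by
      rcases h'.comm c2 c2P c1 c1P with e | e
      · exact ⟨1, Or.inl rfl, by rw [one_mul, ← mul_inv_eq_iff_eq_mul, e]⟩
      · refine ⟨s, Or.inr rfl, ?_⟩
        rw [mul_inv_eq_iff_eq_mul] at e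
        rw [e, h'.central c1 c1P, mul_assoc]
    have e21 : r2 * r1 * u * (r2 * r1)⁻¹ = a * (c1 * c2 * u) := by
      calc r2 * r1 * u * (r2 * r1)⁻¹ = (r2 * c1 * r2⁻¹) * c2 * u := by rw [hc1, hc2]; group
        _ = a * (c1 * c2 * u) := by rw [ea]; group
    have e12 : r1 * r2 * u * (r1 * r2)⁻¹ = (b * d) * (c1 * c2 * u) := by
      calc r1 * r2 * u * (r1 * r2)⁻¹ = (r1 * c2 * r1⁻¹) * c1 * u := by rw [hc1, hc2]; group
        _ = b * (c2 * c1) * u := by rw [eb]; group
        _ = (b * d) * (c1 * c2 * u) := by rw [ed]; group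
    have hz12 : r1 * r2 = z * (r2 * r1) := by
      rw [mul_inv_eq_iff_eq_mul.mp h12, h.central r2 hr2, mul_assoc]
    have e : z * (a * (c1 * c2 * u)) * z = (b * d) * (c1 * c2 * u) := by
      rw [← e21, ← e12, hz12, _root_.mul_inv_rev z, zi]; group
    have za : z * a = a * z := by rcases ha with rfl | rfl <;> simp [hzs]
    have e' : z * u * z = c2⁻¹ * c1⁻¹ * (a⁻¹ * (b * d)) * (c1 * c2) * u := by
      have k1 : z * (a * (c1 * c2 * u)) * z = a * (c1 * c2) * (z * u * z) := by
        calc z * (a * (c1 * c2 * u)) * z = (z * a) * c1 * c2 * u * z := by group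
          _ = a * (z * c1) * c2 * u * z := by rw [za]; group
          _ = a * c1 * (z * c2) * u * z := by rw [show z * c1 = c1 * z from c1z]; group
          _ = a * (c1 * c2) * (z * u * z) := by rw [show z * c2 = c2 * z from c2z]; group
      calc z * u * z = (a * (c1 * c2))⁻¹ * (a * (c1 * c2) * (z * u * z)) := by group
        _ = _ := by rw [← k1, e]; group
    have hpow : ∀ t t', t = 1 ∨ t = s → t' = 1 ∨ t' = s → t * t' = 1 ∨ t * t' = s := by
      rintro t t' (rfl | rfl) (rfl | rfl) <;> simp [h'.sq]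
    have hai : a⁻¹ = 1 ∨ a⁻¹ = s := by rcases ha with rfl | rfl <;> simp [si]
    have hε := hpow _ _ hai (hpow _ _ hb hd)
    have hsc : ∀ t, t = 1 ∨ t = s → c2⁻¹ * c1⁻¹ * t * (c1 * c2) = t := by
      rintro t (rfl | rfl)
      · group
      · rw [mul_assoc, ← h'.central _ (mul_mem c1P c2P)]; group
    refine hfix u hu ?_
    show z * u * z * u⁻¹ = 1 ∨ z * u * z * u⁻¹ = s
    rw [e', hsc _ hε, mul_inv_cancel_right]
    exact hε
  rcases h'.cent z (fun q hq => (hall q hq).symm) with e | e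
  · exact h.ne e
  · exact hsz e.symm

end

/-- Let Q be an extraspecial 2-subgroup of the finite group G whose centralizer in G is its centre Z and which is normal in the centralizer of Z; suppose Q has width at least 2 (order 2^(2w+1) with w ≥ 2) and g is an element of G not normalizing Z with g Z g⁻¹ inside Q. Then Z lies inside g Q g⁻¹; writing V for the subgroup generated by Z and g Z g⁻¹ (a four-group), the normalizer of V induces on V its full automorphism group, that is, the centralizer of V has index 6 in the normalizer of V; and Q is a large extraspecial 2-subgroup of G. -/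
theorem result {G : Type*} [Group G] [Finite G] (Q : Subgroup G) (hL1 : Cfsg.IsExtraspecial 2 ↥Q) (hL2 : Subgroup.centralizer (Q : Set G) = ((Subgroup.center ↥Q).map Q.subtype)) (hL3 : Subgroup.centralizer (((Subgroup.center ↥Q).map Q.subtype) : Set G) ≤ Subgroup.normalizer (Q : Set G)) (w : ℕ) (hw : 2 ≤ w) (hcard : Nat.card ↥Q = 2 ^ (2 * w + 1)) (g : G) (hg : g ∉ Subgroup.normalizer (((Subgroup.center ↥Q).map Q.subtype) : Set G)) (hZg : (((Subgroup.center ↥Q).map Q.subtype)).map (MulAut.conj g).toMonoidHom ≤ Q) : ((Subgroup.center ↥Q).map Q.subtype) ≤ (Q).map (MulAut.conj g).toMonoidHom ∧ (Subgroup.centralizer ((((Subgroup.center ↥Q).map Q.subtype) ⊔ (((Subgroup.center ↥Q).map Q.subtype)).map (MulAut.conj g).toMonoidHom : Subgroup G) : Set G)).relIndex (Subgroup.normalizer ((((Subgroup.center ↥Q).map Q.subtype) ⊔ (((Subgroup.center ↥Q).map Q.subtype)).map (MulAut.conj g).toMonoidHom : Subgroup G) : Set G)) = 6 ∧ Cfsg.IsLargeExtraspecial Q := by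
  classical
  have : Fact (Nat.Prime 2) := ⟨Nat.prime_two⟩
  set Z := (Subgroup.center ↥Q).map Q.subtype with hZdef
  have hZcard : Nat.card Z = 2 := by
    rw [hZdef, Subgroup.card_map_of_injective (Subgroup.subtype_injective _), hL1.2]
  obtain ⟨z0, hz0, huniq⟩ : ∃ z0 : Z, z0 ≠ 1 ∧ ∀ y : Z, y = 1 ∨ y = z0 := by
    obtain ⟨a, ha, hu⟩ := (Nat.card_eq_two_iff' (1 : Z)).mp hZcard
    exact ⟨a, ha, fun y => (em (y = 1)).imp_right (hu y)⟩
  set z : G := (z0 : G) with hzdef
  have hzne : z ≠ 1 := fun e => hz0 (Subtype.ext e)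
  have hZmem : ∀ y, y ∈ Z ↔ y = 1 ∨ y = z := fun y => by
    constructor
    · intro hy; exact (huniq ⟨y, hy⟩).imp (congrArg Subtype.val) (congrArg Subtype.val)
    · rintro (rfl | rfl)
      · exact one_mem _
      · exact z0.2
  obtain ⟨zq, hzq, hzqe⟩ := z0.2
  have hcore : Core z Q := by
    refine ⟨Subgroup.map_subtype_le _ z0.2, ?_, hzne, fun q hq => ?_, fun q hq r hr => ?_,
      fun q hq => ?_, fun c hc => ?_, fun c hc q hq => ?_⟩
    · rw [hzdef, ← hzqe, ← pow_two]
      exact congrArg Subtype.val (PGroup.special_center_pow hL1.1 hzq)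
    · rw [hzdef, ← hzqe]; exact congrArg Subtype.val (Subgroup.mem_center_iff.mp hzq ⟨q, hq⟩)
    · have := (hZmem _).mp ⟨_, PGroup.special_commutator_mem_center hL1.1 ⟨q, hq⟩ ⟨r, hr⟩, rfl⟩
      simp only [commutatorElement_def, Subgroup.coe_subtype, Subgroup.coe_mul, Subgroup.coe_inv] at this
      rcases this with e | e
      · exact Or.inl (mul_inv_eq_one.mp e)
      · right
        rw [mul_inv_eq_iff_eq_mul] at e
        rw [e, hzdef, ← hzqe]
        exact (congrArg Subtype.val (Subgroup.mem_center_iff.mp hzq ⟨r, hr⟩)).symm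
    · have := (hZmem _).mp ⟨_, PGroup.special_pow_mem_center hL1.1 ⟨q, hq⟩, rfl⟩
      simpa [pow_two] using this
    · exact (hZmem c).mp (hL2 ▸ (Subgroup.mem_centralizer_iff.mpr hc))
    · refine (Subgroup.mem_normalizer_iff.mp (hL3 ?_) q).mp hq
      intro y hy
      rcases (hZmem y).mp hy with rfl | rfl
      · simp
      · exact hc.symm
  set s : G := g * z * g⁻¹ with hsdef
  have hsQ : s ∈ Q := hZg ⟨z, z0.2, rfl⟩
  have hsz : s ≠ z := by
    intro e
    apply hg
    rw [Subgroup.mem_normalizer_iff]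
    intro y
    rw [hZmem, hZmem]
    constructor
    · rintro (rfl | rfl)
      · left; group
      · right; exact e
    · rintro (h | h)
      · left; exact conj_eq_one_iff.mp h
      · right
        calc y = g⁻¹ * (g * y * g⁻¹) * g := by group
          _ = g⁻¹ * (g * z * g⁻¹) * g := by rw [h]; exact congrArg (fun t => g⁻¹ * t * g) e.symm
          _ = z := by group
  set P := Q.map (MulAut.conj g).toMonoidHom with hPdef
  have hbig : 8 < Nat.card Q := by
    rw [hcard]
    calc 8 < 2 ^ 5 := by norm_num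
      _ ≤ _ := Nat.pow_le_pow_right (by norm_num) (by omega)
  have hcoreP : Core s P := hcore.conj g
  have hzP : z ∈ P := mem_conj_core hcore rfl hsQ hsz hbig
  have hZP : Z ≤ P := fun y hy => by
    rcases (hZmem y).mp hy with rfl | rfl
    · exact one_mem _
    · exact hzP
  refine ⟨hZP, ?_, ?_⟩
  · -- the automizer of the four-group
    set Zg := Z.map (MulAut.conj g).toMonoidHom with hZg'
    set V := Z ⊔ Zg with hV
    have hzV : z ∈ V := Subgroup.mem_sup_left z0.2
    have hsV : s ∈ V := Subgroup.mem_sup_right ⟨z, z0.2, rfl⟩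
    have hzs : z * s = s * z := (hcore.central s hsQ).symm
    have zi : z⁻¹ = z := inv_eq_of_mul_eq_one_right hcore.sq
    have si : s⁻¹ = s := inv_eq_of_mul_eq_one_right hcoreP.sq
    let V4 : Subgroup G :=
      { carrier := {y | y = 1 ∨ y = z ∨ y = s ∨ y = z * s}
        one_mem' := Or.inl rfl
        mul_mem' := by
          have a1 : ∀ t, z * (z * t) = t := fun t => by rw [← mul_assoc, hcore.sq, one_mul]
          have a2 : ∀ t, s * (s * t) = t := fun t => by rw [← mul_assoc, hcoreP.sq, one_mul]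
          have a3 : ∀ t, s * (z * t) = z * (s * t) := fun t => by rw [← mul_assoc, ← hzs, mul_assoc]
          rintro a b (rfl | rfl | rfl | rfl) (rfl | rfl | rfl | rfl) <;>
            simp [mul_assoc, hcore.sq, hcoreP.sq, hzs.symm, a1, a2, a3]
        inv_mem' := by rintro a (rfl | rfl | rfl | rfl) <;> simp [zi, si, hzs.symm] }
    have hVV4 : V ≤ V4 := by
      refine sup_le (fun y hy => ?_) ?_
      · rcases (hZmem y).mp hy with rfl | rfl
        · exact Or.inl rfl
        · exact Or.inr (Or.inl rfl)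
      · rintro y ⟨x, hx, rfl⟩
        rcases (hZmem x).mp hx with rfl | rfl
        · left; simp
        · exact Or.inr (Or.inr (Or.inl rfl))
    have hVmem : ∀ y ∈ V, y = 1 ∨ y = z ∨ y = s ∨ y = z * s := fun y hy => hVV4 hy
    have hV4V : ∀ y, (y = 1 ∨ y = z ∨ y = s ∨ y = z * s) → y ∈ V := by
      rintro y (rfl | rfl | rfl | rfl)
      exacts [one_mem _, hzV, hsV, mul_mem hzV hsV]
    let T := {y : G // y = z ∨ y = s ∨ y = z * s}
    let f : Subgroup.normalizer (V : Set G) → {ab : T × T // ab.1 ≠ ab.2} := fun n =>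
      ⟨(⟨(n : G) * z * (n : G)⁻¹, ((hVmem _ ((Subgroup.mem_normalizer_iff.mp n.2 z).mp hzV)).resolve_left
          (fun e => hzne (conj_eq_one_iff.mp e)))⟩,
        ⟨(n : G) * s * (n : G)⁻¹, ((hVmem _ ((Subgroup.mem_normalizer_iff.mp n.2 s).mp hsV)).resolve_left
          (fun e => hcoreP.ne (conj_eq_one_iff.mp e)))⟩), fun e => hsz (by
            have := congrArg Subtype.val e
            simpa using this.symm)⟩
    set C := (Subgroup.centralizer (V : Set G)).subgroupOf (Subgroup.normalizer (V : Set G))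
    have hf : ∀ n m, f n = f m ↔ n⁻¹ * m ∈ C := by
      intro n m
      constructor
      · intro e
        have e1 : (n : G) * z * (n : G)⁻¹ = (m : G) * z * (m : G)⁻¹ := congrArg (fun x => (x.1.1 : G)) e
        have e2 : (n : G) * s * (n : G)⁻¹ = (m : G) * s * (m : G)⁻¹ := congrArg (fun x => (x.1.2 : G)) e
        show (n : G)⁻¹ * m ∈ Subgroup.centralizer (V : Set G)
        have cc : ∀ y, (n : G) * y * (n : G)⁻¹ = (m : G) * y * (m : G)⁻¹ →
            y * ((n : G)⁻¹ * m) = (n : G)⁻¹ * m * y := fun y hy => by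
          calc y * ((n : G)⁻¹ * m) = (n : G)⁻¹ * ((n : G) * y * (n : G)⁻¹) * m := by group
            _ = _ := by rw [hy]; group
        intro y hy
        rcases hVmem y hy with rfl | rfl | rfl | rfl
        · simp
        · exact cc _ e1
        · exact cc _ e2
        · calc z * s * ((n : G)⁻¹ * m) = z * (s * ((n : G)⁻¹ * m)) := mul_assoc _ _ _
            _ = (z * ((n : G)⁻¹ * m)) * s := by rw [cc _ e2]; group
            _ = _ := by rw [cc _ e1]; group
      · intro hc
        have cc : ∀ y ∈ V, (n : G) * y * (n : G)⁻¹ = (m : G) * y * (m : G)⁻¹ := fun y hy => by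
          have := Subgroup.mem_centralizer_iff.mp (show (n : G)⁻¹ * m ∈ Subgroup.centralizer (V : Set G) from hc) y hy
          calc (n : G) * y * (n : G)⁻¹ = (n : G) * (y * ((n : G)⁻¹ * m)) * (m : G)⁻¹ := by group
            _ = _ := by rw [this]; group
        apply Subtype.ext
        exact Prod.ext (Subtype.ext (cc z hzV)) (Subtype.ext (cc s hsV))
    let F : Subgroup.normalizer (V : Set G) ⧸ C → {ab : T × T // ab.1 ≠ ab.2} :=
      fun x => x.liftOn' f fun n m h => (hf n m).mpr (QuotientGroup.leftRel_apply.mp h)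
    have hFinj : Function.Injective F := by
      intro a b
      refine QuotientGroup.induction_on a fun n => QuotientGroup.induction_on b fun m => ?_
      intro e
      exact QuotientGroup.eq.mpr ((hf n m).mp e)
    -- realising all six automorphisms
    obtain ⟨q, hq, hqm⟩ := hcore.exists_move hsQ hcoreP.ne hsz
    obtain ⟨u, hu, hum⟩ := hcoreP.exists_move hzP hzne (Ne.symm hsz)
    have qz : q * z * q⁻¹ = z := by rw [hcore.central q hq, mul_inv_cancel_right]
    have us : u * s * u⁻¹ = s := by rw [hcoreP.central u hu, mul_inv_cancel_right]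
    have hnorm : ∀ n : G, n * z * n⁻¹ ∈ V → n * s * n⁻¹ ∈ V → n ∈ Subgroup.normalizer (V : Set G) := by
      intro n h1 h2
      have hle : ∀ y ∈ V, n * y * n⁻¹ ∈ V := by
        intro y hy
        rcases hVmem y hy with rfl | rfl | rfl | rfl
        · simp
        · exact h1
        · exact h2
        · rw [show n * (z * s) * n⁻¹ = (n * z * n⁻¹) * (n * s * n⁻¹) from by group]
          exact mul_mem h1 h2
      rw [Subgroup.mem_normalizer_iff]
      refine fun y => ⟨hle y, fun hy => ?_⟩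
      have hinj : Function.Injective (fun x : V => (⟨n * x * n⁻¹, hle x x.2⟩ : V)) := fun a b e => by
        have := congrArg Subtype.val e
        simpa using this
      obtain ⟨x, hx⟩ := (Finite.injective_iff_surjective.mp hinj) ⟨_, hy⟩
      have := congrArg Subtype.val hx
      have hxy : (x : G) = y := by simpa using this
      exact hxy ▸ x.2
    have comp : ∀ n m y y' y'' : G, m * y * m⁻¹ = y' → n * y' * n⁻¹ = y'' → (n * m) * y * (n * m)⁻¹ = y'' :=
      fun n m y y' y'' h1 h2 => by rw [← h2, ← h1]; group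
    have qzs : q * (z * s) * q⁻¹ = s := by
      rw [show q * (z * s) * q⁻¹ = (q * z * q⁻¹) * (q * s * q⁻¹) from by group, qz, hqm, ← mul_assoc,
        hzs, mul_assoc, hcore.sq, mul_one]
    have usz : u * (z * s) * u⁻¹ = z := by
      rw [show u * (z * s) * u⁻¹ = (u * z * u⁻¹) * (u * s * u⁻¹) from by group, us, hum, mul_assoc,
        hcoreP.sq, mul_one]
    have hqm' : q * s * q⁻¹ = z * s := by rw [hqm, hzs]
    have hsurj : Function.Surjective F := by
      have mk : ∀ n a b, n * z * n⁻¹ = a → n * s * n⁻¹ = b → a ∈ V → b ∈ V →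
          ∀ p : {ab : T × T // ab.1 ≠ ab.2}, (p.1.1 : G) = a → (p.1.2 : G) = b → ∃ x, F x = p := by
        intro n a b h1 h2 ha hb p p1 p2
        refine ⟨QuotientGroup.mk ⟨n, hnorm n (h1 ▸ ha) (h2 ▸ hb)⟩, ?_⟩
        apply Subtype.ext
        exact Prod.ext (Subtype.ext (h1.trans p1.symm)) (Subtype.ext (h2.trans p2.symm))
      rintro ⟨⟨⟨a, ha⟩, ⟨b, hb⟩⟩, hab⟩
      have m2 := mul_mem hzV hsV
      rcases ha with rfl | rfl | rfl <;> rcases hb with rfl | rfl | rfl
      all_goals first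
        | exact absurd (Subtype.ext rfl) hab
        | exact mk 1 _ _ (by simp) (by simp) hzV hsV _ rfl rfl
        | exact mk q _ _ qz hqm' hzV m2 _ rfl rfl
        | exact mk u _ _ hum us m2 hsV _ rfl rfl
        | exact mk (q * u) _ _ (comp q u z _ _ hum qzs) (comp q u s _ _ us hqm') hsV m2 _ rfl rfl
        | exact mk (u * q) _ _ (comp u q z _ _ qz hum) (comp u q s _ _ hqm' usz) m2 hzV _ rfl rfl
        | exact mk (q * (u * q)) _ _ (comp q _ z _ _ (comp u q z _ _ qz hum) qzs)
            (comp q _ s _ _ (comp u q s _ _ hqm' usz) qz) hsV hzV _ rfl rfl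
    show C.index = 6
    rw [Subgroup.index, Nat.card_congr (Equiv.ofBijective F ⟨hFinj, hsurj⟩)]
    let e3 : Fin 3 → T := ![⟨z, Or.inl rfl⟩, ⟨s, Or.inr (Or.inl rfl)⟩, ⟨z * s, Or.inr (Or.inr rfl)⟩]
    have he3 : Function.Bijective e3 := by
      refine ⟨fun i j h => ?_, ?_⟩
      · have h' := congrArg Subtype.val h
        fin_cases i <;> fin_cases j <;> simp [e3] at h' ⊢
        all_goals first
          | exact hsz h'.symm
          | exact hsz h'
          | exact hcoreP.ne h'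
          | exact hzne h'
          | exact hcoreP.ne h'.symm
          | exact hzne h'.symm
      · rintro ⟨y, rfl | rfl | rfl⟩
        exacts [⟨0, rfl⟩, ⟨1, rfl⟩, ⟨2, rfl⟩]
    let e := Equiv.ofBijective e3 he3
    rw [Nat.card_congr (Equiv.subtypeEquiv (p := fun ab : T × T => ab.1 ≠ ab.2)
      (q := fun ab : Fin 3 × Fin 3 => ab.1 ≠ ab.2) (e.symm.prodCongr e.symm) (fun ab => by simp))]
    rw [Nat.card_eq_fintype_card]
    decide
  · refine Cfsg.Agent.S5421.result Q hL1 hL2 hL3 s hsQ ?_ ?_ ?_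
    · intro hs
      rcases (hZmem s).mp hs with e | e
      · exact hcoreP.ne e
      · exact hsz e
    · exact orderOf_eq_prime (by rw [pow_two, hcoreP.sq]) hcoreP.ne
    · set C := Subgroup.centralizer ({s} : Set G)
      have hPC : P ≤ C := fun q hq => Subgroup.mem_centralizer_singleton_iff.mpr (hcoreP.central q hq)
      have hn : (P.subgroupOf C).Normal := ⟨fun a ha c =>
        hcoreP.norm (c : G) (Subgroup.mem_centralizer_singleton_iff.mp c.2) (a : G) ha⟩
      have hp : IsPGroup 2 (P.subgroupOf C) :=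
        ((hL1.1.1).map (MulAut.conj g).toMonoidHom).comap_subtype
      intro y hy
      exact ⟨⟨y, hPC (hZP hy)⟩, Cfsg.Agent.PCore.le_pCore (p := 2) hp (show y ∈ P from hZP hy), rfl⟩

end Cfsg.Agent.S5422
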