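import Cfsg.Statements.S5423
import Mathlib
import Cfsg.Agent.S5420
import Cfsg.Agent.Lib.PCore.Basic
import Cfsg.Agent.Lib.PGroup.Extraspecial

set_option autoImplicit false
open Cfsg

namespace Cfsg.Agent.S5423

open Cfsg.Agent
open scoped commutatorElement

theorem zmod_two_cases : ∀ a : ZMod 2, a = 0 ∨ a = 1 := by decide

theorem zmod_two_one_add : (1 : ZMod 2) + 1 = 0 := by decide

/-- the linear group over `F₂` is transitive on non-zero vectors -/
theorem exists_map_eq {X : Type*} [AddCommGroup X] [Module (ZMod 2) X] [Module.Finite (ZMod 2) X]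
    {v w : X} (hv : v ≠ 0) (hw : w ≠ 0) : ∃ A : X ≃ₗ[ZMod 2] X, A v = w := by
  obtain ⟨f, hfv, hfw⟩ : ∃ f : X →ₗ[ZMod 2] ZMod 2, f v = 1 ∧ f w = 1 := by
    let b := Module.finBasis (ZMod 2) X
    by_cases h : ∃ i, b.coord i v = 1 ∧ b.coord i w = 1
    · obtain ⟨i, hi, hi'⟩ := h; exact ⟨b.coord i, hi, hi'⟩
    push Not at h
    have nz : ∀ u : X, u ≠ 0 → ∃ i, b.coord i u = 1 := fun u hu => by
      by_contra hc
      push Not at hc
      exact hu (b.forall_coord_eq_zero_iff.mp fun i => (zmod_two_cases _).resolve_right (hc i))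
    obtain ⟨i, hi⟩ := nz v hv
    obtain ⟨j, hj⟩ := nz w hw
    have hi' := (zmod_two_cases (b.coord i w)).resolve_right (h i hi)
    have hj' := (zmod_two_cases (b.coord j v)).resolve_right fun e => h j e hj
    refine ⟨b.coord i + b.coord j, ?_, ?_⟩
    · rw [LinearMap.add_apply, hi, hj', add_zero]
    · rw [LinearMap.add_apply, hi', hj, zero_add]
  have h2 : ∀ x : X, x + x = 0 := fun x => by
    rw [← two_smul (ZMod 2) x, show (2 : ZMod 2) = 0 from rfl, zero_smul]
  have hfd : f (v + w) = 0 := by rw [map_add, hfv, hfw, zmod_two_one_add]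
  let T : X →ₗ[ZMod 2] X := LinearMap.id + f.smulRight (v + w)
  have hT : ∀ x, T x = x + f x • (v + w) := fun x => rfl
  have hinv : Function.Involutive T := fun x => by
    rw [hT, hT, map_add, map_smul, hfd, smul_zero, add_zero, add_assoc, h2, add_zero]
  refine ⟨LinearEquiv.ofInvolutive T hinv, ?_⟩
  show T v = w
  rw [hT, hfv, one_smul, ← add_assoc, h2, zero_add]

variable {n : ℕ}

abbrev Vec (n : ℕ) : Type := Fin n → ZMod 2
abbrev Big (n : ℕ) : Type := ZMod 2 × Vec n

theorem big_add_self (w : Big n) : w + w = 0 :=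
  Prod.ext (CharTwo.add_self_eq_zero _) (funext fun _ => CharTwo.add_self_eq_zero _)

theorem vec_add_self (w : Vec n) : w + w = 0 := funext fun _ => CharTwo.add_self_eq_zero _

/-- a group with no normal 2-subgroup -/
theorem normal_two_subgroup_eq_bot (N : Subgroup (Vec n ≃ₗ[ZMod 2] Vec n)) [N.Normal]
    (hN : IsPGroup 2 N) : N = ⊥ := by
  have : Fact (Nat.Prime 2) := ⟨Nat.prime_two⟩
  rcases Nat.eq_zero_or_pos n with rfl | hn
  · exact Subgroup.eq_bot_of_subsingleton _
  have hdvd : 2 ∣ Nat.card (Vec n) := by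
    rw [Nat.card_eq_fintype_card, Fintype.card_fun, ZMod.card, Fintype.card_fin]
    exact dvd_pow_self 2 hn.ne'
  have h0 : (0 : Vec n) ∈ MulAction.fixedPoints N (Vec n) := fun A => map_zero A.1
  obtain ⟨u, hu, hu0⟩ := hN.exists_fixed_point_of_prime_dvd_card_of_fixed_point (Vec n) hdvd h0
  rw [Subgroup.eq_bot_iff_forall]
  intro A hA
  refine LinearEquiv.ext fun v => ?_
  show A v = v
  by_cases hv : v = 0
  · rw [hv, map_zero]
  obtain ⟨B, hB⟩ := exists_map_eq (Ne.symm hu0) hv
  have hmem : B⁻¹ * A * B ∈ N := by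
    simpa using (inferInstance : N.Normal).conj_mem A hA B⁻¹
  have := hu ⟨_, hmem⟩
  have e : B.symm (A (B u)) = u := this
  rw [hB] at e
  rw [← B.apply_symm_apply (A v), e, hB]

/-- the functional attached to a vector -/
noncomputable def dot (c : Vec n) : Vec n →ₗ[ZMod 2] ZMod 2 := ∑ i, c i • LinearMap.proj i

theorem dot_single (c : Vec n) (i : Fin n) : dot c (Pi.single i 1) = c i := by
  simp [dot, LinearMap.sum_apply, Pi.single_apply]

theorem dot_add (c c' v : Vec n) : dot (c + c') v = dot c v + dot c' v := by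
  simp [dot, LinearMap.sum_apply, add_mul, Finset.sum_add_distrib]

theorem eq_dot (f : Vec n →ₗ[ZMod 2] ZMod 2) : f = dot fun i => f (Pi.single i 1) := by
  refine LinearMap.pi_ext' fun i => LinearMap.ext_ring ?_
  simp [dot_single]

/-- the transvection attached to a functional -/
noncomputable def tra (c : Vec n) : Big n ≃ₗ[ZMod 2] Big n :=
  LinearEquiv.ofInvolutive (LinearMap.id + (LinearMap.inl (ZMod 2) (ZMod 2) (Vec n)).comp
    ((dot c).comp (LinearMap.snd (ZMod 2) (ZMod 2) (Vec n)))) fun w => by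
      refine Prod.ext ?_ (by simp)
      simp [add_assoc, CharTwo.add_self_eq_zero]

theorem tra_apply (c : Vec n) (w : Big n) : tra c w = (w.1 + dot c w.2, w.2) := by
  show w + ((dot c w.2, 0) : Big n) = _
  exact Prod.ext rfl (add_zero _)

/-- the block diagonal embedding -/
noncomputable def blk : (Vec n ≃ₗ[ZMod 2] Vec n) →* (Big n ≃ₗ[ZMod 2] Big n) where
  toFun A := (LinearEquiv.refl (ZMod 2) (ZMod 2)).prodCongr A
  map_one' := rfl
  map_mul' _ _ := rfl

theorem blk_apply (A : Vec n ≃ₗ[ZMod 2] Vec n) (w : Big n) : blk A w = (w.1, A w.2) := rfl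

theorem blk_injective : Function.Injective (blk (n := n)) := fun A B h =>
  LinearEquiv.ext fun v => congrArg Prod.snd (LinearEquiv.congr_fun h (0, v))

/-- the special vector -/
def base (n : ℕ) : Big n := (1, 0)

/-- the data of the holomorph -/
structure Holo (G : Type*) [Group G] (n : ℕ) where
  ι : Big n → G
  ι_add : ∀ a b, ι (a + b) = ι a * ι b
  ι_inj : Function.Injective ι
  α : G →* (Big n ≃ₗ[ZMod 2] Big n)
  conj : ∀ g w, g * ι w * g⁻¹ = ι (α g w)
  μ : (Big n ≃ₗ[ZMod 2] Big n) →* G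
  α_μ : ∀ φ, α (μ φ) = φ
  decomp : ∀ g, ∃ w, g = ι w * μ (α g)

section
variable {G : Type*} [Group G] (H : Holo G n)

theorem Holo.ι_zero : H.ι 0 = 1 := by
  have := H.ι_add 0 0
  rw [add_zero] at this
  exact left_eq_mul.mp this

theorem Holo.α_ι (w : Big n) : H.α (H.ι w) = 1 := by
  refine LinearEquiv.ext fun v => H.ι_inj ?_
  rw [← H.conj, mul_inv_eq_iff_eq_mul]
  show H.ι w * H.ι v = H.ι v * H.ι w
  rw [← H.ι_add, ← H.ι_add, add_comm]

theorem Holo.comm_ι_iff (g : G) (w : Big n) : g * H.ι w = H.ι w * g ↔ H.α g w = w := by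
  rw [← mul_inv_eq_iff_eq_mul, H.conj, H.ι_inj.eq_iff]

/-- the centraliser of the special involution -/
def Holo.cen : Subgroup G := Subgroup.centralizer ({H.ι (base n)} : Set G)

theorem Holo.mem_cen (g : G) : g ∈ H.cen ↔ H.α g (base n) = base n := by
  rw [Holo.cen, Subgroup.mem_centralizer_singleton_iff]
  exact H.comm_ι_iff g (base n)

theorem Holo.cen_apply {g : G} (hg : g ∈ H.cen) (w : Big n) :
    H.α g w = (w.1 + (H.α g (0, w.2)).1, (H.α g (0, w.2)).2) := by
  have e : w = w.1 • base n + (0, w.2) := by simp [base]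
  conv_lhs => rw [e, map_add, map_smul, (H.mem_cen g).mp hg]
  refine Prod.ext ?_ ?_ <;> simp [base]

/-- the induced action on the quotient -/
noncomputable def Holo.β : H.cen →* (Vec n ≃ₗ[ZMod 2] Vec n) :=
  let f : H.cen → (Vec n →ₗ[ZMod 2] Vec n) := fun g =>
    (LinearMap.snd (ZMod 2) (ZMod 2) (Vec n)).comp
      ((H.α g.1).toLinearMap.comp (LinearMap.inr (ZMod 2) (ZMod 2) (Vec n)))
  have hf : ∀ (g h : H.cen) v, f g (f h v) = f (g * h) v := fun g h v => by
    show (H.α g.1 (0, (H.α h.1 (0, v)).2)).2 = (H.α (g.1 * h.1) (0, v)).2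
    rw [map_mul]
    show _ = (H.α g.1 (H.α h.1 (0, v))).2
    rw [H.cen_apply g.2 (H.α h.1 (0, v))]
  have hf1 : ∀ v, f 1 v = v := fun v => by
    show (H.α (1 : G) (0, v)).2 = v
    rw [map_one]; rfl
  { toFun := fun g =>
      { f g with
        invFun := f g⁻¹
        left_inv := fun v => by
          show f g⁻¹ (f g v) = v
          rw [hf, inv_mul_cancel, hf1]
        right_inv := fun v => by
          show f g (f g⁻¹ v) = v
          rw [hf, mul_inv_cancel, hf1] }
    map_one' := LinearEquiv.ext hf1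
    map_mul' := fun g h => LinearEquiv.ext fun v => (hf g h v).symm }

theorem Holo.β_apply (g : H.cen) (v : Vec n) : H.β g v = (H.α g.1 (0, v)).2 := rfl

/-- the candidate for the 2-core -/
noncomputable def Holo.core : Subgroup G := H.β.ker.map H.cen.subtype

/-- its elements -/
noncomputable def Holo.el (p : Big n × Vec n) : G := H.ι p.1 * H.μ (tra p.2)

theorem Holo.α_el (p : Big n × Vec n) : H.α (H.el p) = tra p.2 := by
  rw [Holo.el, map_mul, H.α_ι, one_mul, H.α_μ]

theorem Holo.el_injective : Function.Injective H.el := by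
  intro p q h
  have h2 : p.2 = q.2 := by
    funext i
    have := congrArg (fun φ => (φ ((0, Pi.single i 1) : Big n)).1) (congrArg H.α h)
    simpa [H.α_el, tra_apply, dot_single] using this
  refine Prod.ext (H.ι_inj ?_) h2
  simpa [Holo.el, h2] using h

theorem Holo.mem_core (g : G) : g ∈ H.core ↔ ∃ p, H.el p = g := by
  constructor
  · rintro ⟨x, hx, rfl⟩
    obtain ⟨w, hw⟩ := H.decomp x.1
    let f : Vec n →ₗ[ZMod 2] ZMod 2 := (LinearMap.fst (ZMod 2) (ZMod 2) (Vec n)).comp
      ((H.α x.1).toLinearMap.comp (LinearMap.inr (ZMod 2) (ZMod 2) (Vec n)))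
    refine ⟨(w, fun i => f (Pi.single i 1)), ?_⟩
    have e : H.α x.1 = tra fun i => f (Pi.single i 1) := by
      refine LinearEquiv.ext fun u => ?_
      rw [H.cen_apply x.2 u, tra_apply, ← eq_dot f]
      have h2 : H.β x u.2 = u.2 := by rw [MonoidHom.mem_ker.mp hx]; rfl
      rw [H.β_apply] at h2
      exact Prod.ext rfl h2
    rw [Holo.el, ← e, Subgroup.coe_subtype]
    exact hw.symm
  · rintro ⟨p, rfl⟩
    have hc : H.el p ∈ H.cen := by
      rw [H.mem_cen, H.α_el, tra_apply]; simp [base]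
    refine ⟨⟨_, hc⟩, MonoidHom.mem_ker.mpr (LinearEquiv.ext fun v => ?_), rfl⟩
    rw [H.β_apply, H.α_el, tra_apply]; rfl

theorem tra_add (c c' : Vec n) : tra c * tra c' = tra (c + c') := by
  refine LinearEquiv.ext fun u => ?_
  show tra c (tra c' u) = _
  rw [tra_apply, tra_apply, tra_apply, dot_add]
  refine Prod.ext ?_ rfl
  ring

theorem Holo.el_mul (p q : Big n × Vec n) :
    H.el p * H.el q = H.el (p.1 + tra p.2 q.1, p.2 + q.2) := by
  rw [Holo.el, Holo.el, Holo.el, H.ι_add, ← tra_add, map_mul]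
  have := H.conj (H.μ (tra p.2)) q.1
  rw [H.α_μ] at this
  rw [← this]
  group

theorem Holo.ι_mem_core (w : Big n) : H.ι w ∈ H.core := by
  refine (H.mem_core _).mpr ⟨(w, 0), ?_⟩
  rw [Holo.el, show tra (0 : Vec n) = 1 from LinearEquiv.ext fun u => by
    rw [tra_apply]; simp [dot], map_one, mul_one]

theorem Holo.card_core [Finite G] : Nat.card H.core = 2 ^ (2 * n + 1) := by
  rw [← Nat.card_congr (Equiv.ofBijective (fun p => (⟨H.el p, (H.mem_core _).mpr ⟨p, rfl⟩⟩ : H.core))
    ⟨fun p q h => H.el_injective (congrArg Subtype.val h), fun g => by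
      obtain ⟨p, hp⟩ := (H.mem_core g.1).mp g.2
      exact ⟨p, Subtype.ext hp⟩⟩)]
  rw [Nat.card_eq_fintype_card]
  simp only [Fintype.card_prod, Fintype.card_fun, ZMod.card, Fintype.card_fin]
  rw [mul_assoc, ← pow_add, ← pow_succ']; congr 1; omega

/-- the complement -/
noncomputable def Holo.compl : (Vec n ≃ₗ[ZMod 2] Vec n) →* G := H.μ.comp blk

theorem Holo.compl_mem (A : Vec n ≃ₗ[ZMod 2] Vec n) : H.compl A ∈ H.cen := by
  rw [H.mem_cen, Holo.compl, MonoidHom.comp_apply, H.α_μ, blk_apply]; simp [base]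

theorem Holo.β_compl (A : Vec n ≃ₗ[ZMod 2] Vec n) : H.β ⟨H.compl A, H.compl_mem A⟩ = A := by
  refine LinearEquiv.ext fun v => ?_
  rw [H.β_apply]
  show (H.α (H.μ (blk A)) (0, v)).2 = _
  rw [H.α_μ, blk_apply]

theorem Holo.pCore_cen [Finite G] : Cfsg.pCore 2 H.cen = H.β.ker := by
  have : Fact (Nat.Prime 2) := ⟨Nat.prime_two⟩
  have hsurj : Function.Surjective H.β := fun A => ⟨_, H.β_compl A⟩
  have hker : IsPGroup 2 H.β.ker := by
    refine IsPGroup.of_card (n := 2 * n + 1) ?_
    rw [← H.card_core, Holo.core, Subgroup.card_map_of_injective (Subgroup.subtype_injective _)]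
  refine le_antisymm ?_ (PCore.le_pCore hker)
  have hn : ((Cfsg.pCore 2 H.cen).map H.β).Normal := Subgroup.Normal.map inferInstance _ hsurj
  have := normal_two_subgroup_eq_bot ((Cfsg.pCore 2 H.cen).map H.β) (PCore.isPGroup_pCore.map _)
  rwa [Subgroup.map_eq_bot_iff] at this

theorem Holo.centralizer_core (g : G) :
    (∀ q ∈ H.core, q * g = g * q) ↔ g = 1 ∨ g = H.ι (base n) := by
  constructor
  · intro h
    have hα : H.α g = 1 := LinearEquiv.ext fun w =>
      (H.comm_ι_iff g w).mp (h _ (H.ι_mem_core w)).symm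
    obtain ⟨w, hw⟩ := H.decomp g
    rw [hα, map_one, mul_one] at hw
    subst hw
    have h2 : w.2 = 0 := by
      funext i
      have := (H.comm_ι_iff _ w).mp (h _ ((H.mem_core _).mpr ⟨(0, Pi.single i 1), rfl⟩))
      rw [H.α_el, tra_apply] at this
      have e := congrArg Prod.fst this
      simp [dot, LinearMap.sum_apply, Pi.single_apply] at e
      exact e
    rcases zmod_two_cases w.1 with h1 | h1
    · left; rw [show w = 0 from Prod.ext h1 h2, H.ι_zero]
    · right; rw [show w = base n from Prod.ext h1 h2]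
  · rintro (rfl | rfl) q hq
    · simp
    · obtain ⟨p, rfl⟩ := (H.mem_core q).mp hq
      rw [H.comm_ι_iff, H.α_el, tra_apply]
      simp [base]

theorem Holo.card_center_core [Finite G] :
    (Subgroup.center H.core).map H.core.subtype = Subgroup.centralizer (H.core : Set G) := by
  ext g
  constructor
  · rintro ⟨x, hx, rfl⟩ q hq
    exact congrArg Subtype.val (Subgroup.mem_center_iff.mp hx ⟨q, hq⟩)
  · intro hg
    have hmem : g ∈ H.core := by
      rcases (H.centralizer_core g).mp hg with rfl | rfl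
      · exact one_mem _
      · exact H.ι_mem_core _
    exact ⟨⟨g, hmem⟩, Subgroup.mem_center_iff.mpr fun q => Subtype.ext (hg q.1 q.2), rfl⟩

theorem Holo.isExtraspecial [Finite G] (hn : 1 ≤ n) : Cfsg.IsExtraspecial 2 H.core := by
  have : Fact (Nat.Prime 2) := ⟨Nat.prime_two⟩
  have hP : IsPGroup 2 H.core := IsPGroup.of_card H.card_core
  have hbne : H.ι (base n) ≠ 1 := fun e => by
    rw [← H.ι_zero] at e
    simpa [base] using congrArg Prod.fst (H.ι_inj e)
  have hzc : ∀ x : H.core, x ∈ Subgroup.center H.core ↔ x.1 = 1 ∨ x.1 = H.ι (base n) := fun x => by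
    rw [← H.centralizer_core, Subgroup.mem_center_iff]
    exact ⟨fun h q hq => congrArg Subtype.val (h ⟨q, hq⟩), fun h q => Subtype.ext (h q.1 q.2)⟩
  have hcard : Nat.card (Subgroup.center H.core) = 2 := by
    rw [Nat.card_eq_two_iff' (1 : Subgroup.center H.core)]
    refine ⟨⟨⟨H.ι (base n), H.ι_mem_core _⟩, (hzc _).mpr (Or.inr rfl)⟩,
      fun e => hbne (congrArg (fun x => x.1.1) e), fun y hy => ?_⟩
    rcases (hzc y.1).mp y.2 with e | e
    · exact absurd (Subtype.ext (Subtype.ext e)) hy
    · exact Subtype.ext (Subtype.ext e)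
  -- the map to the abelian group of pairs
  have key : ∀ x : H.core, ∃ p, H.el p = x.1 := fun x => (H.mem_core x.1).mp x.2
  choose P hP' using key
  have Pmul : ∀ x y, P (x * y) = ((P x).1 + tra (P x).2 (P y).1, (P x).2 + (P y).2) := fun x y =>
    H.el_injective (by rw [← H.el_mul, hP', hP', hP', Subgroup.coe_mul])
  have zero_pair : ∀ x, (P x).1.2 = 0 → (P x).2 = 0 → x ∈ Subgroup.center H.core := fun x h1 h2 => by
    rw [hzc, ← hP' x, Holo.el, h2, show tra (0 : Vec n) = 1 from LinearEquiv.ext fun u => by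
      rw [tra_apply]; simp [dot], map_one, mul_one]
    rcases zmod_two_cases (P x).1.1 with h | h
    · left; rw [show (P x).1 = 0 from Prod.ext h h1, H.ι_zero]
    · right; rw [show (P x).1 = base n from Prod.ext h h1]
  let γ : H.core →* Multiplicative (Vec n × Vec n) := MonoidHom.mk'
    (fun x => Multiplicative.ofAdd ((P x).1.2, (P x).2)) fun x y => by
      rw [Pmul, tra_apply, ← ofAdd_add]
      rfl
  have hγ : ∀ x, γ x = 1 → x ∈ Subgroup.center H.core := fun x h => by
    have h' := congrArg Multiplicative.toAdd h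
    exact zero_pair x (congrArg Prod.fst h') (congrArg Prod.snd h')
  have hle : commutator H.core ≤ Subgroup.center H.core := by
    rw [commutator_def, Subgroup.commutator_le]
    intro a _ b _
    exact hγ _ (by rw [map_commutatorElement, commutatorElement_eq_one_iff_mul_comm, mul_comm])
  have hsq : ∀ x : H.core, x ^ 2 ∈ Subgroup.center H.core := fun x => hγ _ (by
    rw [map_pow, pow_two]
    refine Multiplicative.toAdd.injective ?_
    rw [toAdd_mul, toAdd_one]
    exact Prod.ext (vec_add_self _) (vec_add_self _))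
  have hcomm : commutator H.core = Subgroup.center H.core := by
    refine Subgroup.eq_of_le_of_card_ge hle ?_
    rw [hcard]
    let i : Fin n := ⟨0, hn⟩
    let a : H.core := ⟨_, H.ι_mem_core (0, Pi.single i 1)⟩
    let b : H.core := ⟨_, (H.mem_core _).mpr ⟨(0, Pi.single i 1), rfl⟩⟩
    have hne : b * a ≠ a * b := fun e => by
      have := (H.comm_ι_iff _ _).mp (congrArg Subtype.val e)
      rw [H.α_el, tra_apply] at this
      simpa [dot_single] using congrArg Prod.fst this
    have hmem : ⁅b, a⁆ ∈ commutator H.core :=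
      Subgroup.commutator_mem_commutator (Subgroup.mem_top b) (Subgroup.mem_top a)
    have : Nontrivial (commutator H.core) :=
      ⟨⟨⟨_, hmem⟩, 1, fun e => hne (commutatorElement_eq_one_iff_mul_comm.mp (congrArg Subtype.val e))⟩⟩
    exact Finite.one_lt_card
  exact ⟨⟨hP, le_antisymm (PGroup.frattini_le (p := 2) hle hsq) (hcomm ▸ PGroup.commutator_le_frattini hP),
    hcomm⟩, hcard⟩

end

/-- Let G be a finite group that is the split extension of an elementary abelian normal subgroup U of order 2^(n+1), n ≥ 1, by its full automorphism group: U has a complement M in G whose conjugation action on U is faithful and realizes every automorphism of U. Let Z be a subgroup of U of order 2 and Q the largest normal 2-subgroup of the centralizer C of Z. Then Q is extraspecial of order 2^(2n+1) with an elementary abelian subgroup of order 2^(n+1) (plus type), Q is a large extraspecial 2-subgroup of G, and C is the split extension of Q by the general linear group of degree n over the field with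 two elements. -/
theorem result {G : Type*} [Group G] [Finite G] (n : ℕ) (hn : 1 ≤ n) (U M : Subgroup G) [U.Normal] (hU : Cfsg.IsElementaryAbelian 2 U) (hUcard : Nat.card ↥U = 2 ^ (n + 1)) (hUM : U ⊓ M = ⊥) (hUM' : U ⊔ M = ⊤) (hfaith : ∀ m ∈ M, (∀ u ∈ U, m * u * m⁻¹ = u) → m = 1) (hfull : ∀ φ : ↥U ≃* ↥U, ∃ m ∈ M, ∀ u : ↥U, ((φ u : ↥U) : G) = m * u * m⁻¹) (Z : Subgroup G) (hZU : Z ≤ U) (hZ : Nat.card ↥Z = 2) (Q : Subgroup G) (hQ : Q = (Cfsg.pCore 2 ↥(Subgroup.centralizer (Z : Set G))).map (Subgroup.centralizer (Z : Set G)).subtype) : Cfsg.IsExtraspecial 2 ↥Q ∧ Nat.card ↥Q = 2 ^ (2 * n + 1) ∧ (∃ E : Subgroup G, E ≤ Q ∧ Cfsg.IsElementaryAbelian 2 E ∧ Nat.card ↥E = 2 ^ (n + 1)) ∧ Cfsg.IsLargeExtraspecial Q ∧ ∃ K : Subgroup G, K ≤ Subgroup.centralizer (Z : Set G) ∧ Q ⊓ K = ⊥ ∧ Q ⊔ K = Subgroup.centralizer (Z : Set G) ∧ Nonempty (↥K ≃* Matrix.GeneralLinearGroup (Fin n) (ZMod 2)) := by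
  classical
  have : Fact (Nat.Prime 2) := ⟨Nat.prime_two⟩
  have hcomm : ∀ a b : U, a * b = b * a := fun a b => hU.1.is_comm.comm a b
  letI : CommGroup U := { (inferInstance : Group U) with mul_comm := hcomm }
  letI : Module (ZMod 2) (Additive U) := AddCommGroup.zmodModule (n := 2) fun x => by
    have := hU.2 x.toMul.1 x.toMul.2
    exact congrArg Additive.ofMul (Subtype.ext (by simpa using this))
  obtain ⟨z0, hz0, huniq⟩ : ∃ z0 : Z, z0 ≠ 1 ∧ ∀ y : Z, y ≠ 1 → y = z0 := by
    obtain ⟨a, ha, hu⟩ := (Nat.card_eq_two_iff' (1 : Z)).mp hZ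
    exact ⟨a, ha, hu⟩
  let zu : Additive U := Additive.ofMul ⟨z0.1, hZU z0.2⟩
  have hzu : zu ≠ 0 := fun e => hz0 (Subtype.ext (congrArg (fun x : Additive U => (x.toMul : G)) e))
  have hfr : Module.finrank (ZMod 2) (Additive U) = Module.finrank (ZMod 2) (Big n) := by
    have h1 := Module.natCard_eq_pow_finrank (K := ZMod 2) (V := Additive U)
    rw [Nat.card_congr Additive.toMul, hUcard, Nat.card_zmod] at h1
    rw [← Nat.pow_right_injective le_rfl h1]
    simp [add_comm]
  let e0 : Additive U ≃ₗ[ZMod 2] Big n := LinearEquiv.ofFinrankEq _ _ hfr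
  obtain ⟨A0, hA0⟩ := exists_map_eq (v := e0 zu) (w := base n)
    (fun e => hzu (e0.injective (by rw [e, map_zero]))) (fun e => by simpa [base] using congrArg Prod.fst e)
  let e : Additive U ≃ₗ[ZMod 2] Big n := e0.trans A0
  have he : e zu = base n := hA0
  let cj : G → (Additive U →ₗ[ZMod 2] Additive U) := fun g =>
    (MonoidHom.toAdditive (MulAut.conjNormal (H := U) g).toMonoidHom).toZModLinearMap 2
  have cj_val : ∀ g (x : Additive U), ((cj g x).toMul : G) = g * (x.toMul : G) * g⁻¹ := fun g x =>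
    MulAut.conjNormal_apply _ _
  let actMap : G → (Big n →ₗ[ZMod 2] Big n) := fun g => e.toLinearMap.comp ((cj g).comp e.symm.toLinearMap)
  let ι : Big n → G := fun w => ((e.symm w).toMul : G)
  have ι_add : ∀ a b, ι (a + b) = ι a * ι b := fun a b => by
    show ((e.symm (a + b)).toMul : G) = _
    rw [map_add]; rfl
  have ι_inj : Function.Injective ι := fun a b h =>
    e.symm.injective (Additive.toMul.injective (Subtype.ext h))
  have hU' : ∀ u ∈ U, ∃ w, ι w = u := fun u hu => ⟨e (Additive.ofMul ⟨u, hu⟩), by simp [ι]⟩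
  have hι : ∀ w, ι w ∈ U := fun w => (e.symm w).toMul.2
  have act_conj : ∀ g w, ι (actMap g w) = g * ι w * g⁻¹ := fun g w => by
    show ((e.symm (e (cj g (e.symm w)))).toMul : G) = _
    rw [e.symm_apply_apply]; exact cj_val g _
  have act_mul : ∀ g h w, actMap g (actMap h w) = actMap (g * h) w := fun g h w =>
    ι_inj (by rw [act_conj, act_conj, act_conj]; group)
  have act_one : ∀ w, actMap 1 w = w := fun w => ι_inj (by rw [act_conj]; group)
  let α : G →* (Big n ≃ₗ[ZMod 2] Big n) :=
    { toFun := fun g =>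
        { actMap g with
          invFun := actMap g⁻¹
          left_inv := fun w => by
            show actMap g⁻¹ (actMap g w) = w
            rw [act_mul, inv_mul_cancel, act_one]
          right_inv := fun w => by
            show actMap g (actMap g⁻¹ w) = w
            rw [act_mul, mul_inv_cancel, act_one] }
      map_one' := LinearEquiv.ext act_one
      map_mul' := fun g h => LinearEquiv.ext fun w => (act_mul g h w).symm }
  have hconj : ∀ g w, g * ι w * g⁻¹ = ι (α g w) := fun g w => (act_conj g w).symm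
  let αM : M →* (Big n ≃ₗ[ZMod 2] Big n) := α.comp M.subtype
  have hinj : Function.Injective αM := by
    rw [injective_iff_map_eq_one]
    intro m hm
    refine Subtype.ext (hfaith m.1 m.2 fun u hu => ?_)
    obtain ⟨w, rfl⟩ := hU' u hu
    rw [hconj, show α m.1 = 1 from hm]; rfl
  have hsurj : Function.Surjective αM := by
    intro φ
    let ψ : U ≃* U :=
      { toFun := fun u => (e.symm (φ (e (Additive.ofMul u)))).toMul
        invFun := fun u => (e.symm (φ.symm (e (Additive.ofMul u)))).toMul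
        left_inv := fun u => by simp
        right_inv := fun u => by simp
        map_mul' := fun a b => by
          rw [ofMul_mul, map_add, map_add, map_add, toMul_add] }
    obtain ⟨m, hm, hm'⟩ := hfull ψ
    refine ⟨⟨m, hm⟩, LinearEquiv.ext fun w => ι_inj ?_⟩
    show ι (α m w) = _
    rw [← hconj, ← hm' (e.symm w).toMul]
    show ((e.symm (φ (e (Additive.ofMul (e.symm w).toMul)))).toMul : G) = _
    rw [ofMul_toMul, e.apply_symm_apply]
  let eM : M ≃* (Big n ≃ₗ[ZMod 2] Big n) := MulEquiv.ofBijective αM ⟨hinj, hsurj⟩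
  let μ : (Big n ≃ₗ[ZMod 2] Big n) →* G := M.subtype.comp eM.symm.toMonoidHom
  have α_μ : ∀ φ, α (μ φ) = φ := fun φ => eM.apply_symm_apply φ
  have decomp : ∀ g, ∃ w, g = ι w * μ (α g) := by
    intro g
    have hg : g ∈ ((U ⊔ M : Subgroup G) : Set G) := by rw [hUM']; trivial
    rw [Subgroup.normal_mul] at hg
    obtain ⟨u, hu, m, hm, rfl⟩ := Set.mem_mul.mp hg
    obtain ⟨w, rfl⟩ := hU' u hu
    refine ⟨w, ?_⟩
    have h1 : α (ι w) = 1 := LinearEquiv.ext fun v => ι_inj (by
      rw [← hconj, mul_inv_eq_iff_eq_mul]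
      show ι w * ι v = ι v * ι w
      rw [← ι_add, ← ι_add, add_comm])
    rw [map_mul, h1, one_mul]
    show ι w * m = ι w * (eM.symm (eM ⟨m, hm⟩) : G)
    rw [eM.symm_apply_apply]
  let H : Holo G n := ⟨ι, ι_add, ι_inj, α, hconj, μ, α_μ, decomp⟩
  have hbase : H.ι (base n) = z0.1 := by
    show ((e.symm (base n)).toMul : G) = _
    rw [← he, e.symm_apply_apply]; rfl
  have hcen : Subgroup.centralizer (Z : Set G) = H.cen := by
    ext g
    rw [Holo.cen, Subgroup.mem_centralizer_singleton_iff, hbase]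
    refine ⟨fun h => (Subgroup.mem_centralizer_iff.mp h _ z0.2).symm, fun h => ?_⟩
    refine Subgroup.mem_centralizer_iff.mpr fun y hy => ?_
    by_cases h1 : (⟨y, hy⟩ : Z) = 1
    · rw [show y = 1 from congrArg Subtype.val h1]; simp
    · rw [show y = z0.1 from congrArg Subtype.val (huniq _ h1)]; exact h.symm
  rw [hcen] at hQ ⊢
  have hQc : Q = H.core := by rw [hQ, H.pCore_cen]; rfl
  subst hQc
  have hUQ : U ≤ H.core := fun u hu => by
    obtain ⟨w, hw⟩ := hU' u hu
    exact hw ▸ H.ι_mem_core w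
  have hCU : (Subgroup.center H.core).map H.core.subtype ≤ U := fun g hg => by
    rw [H.card_center_core] at hg
    rcases (H.centralizer_core g).mp hg with rfl | rfl
    · exact one_mem _
    · exact hι _
  have hCC : Subgroup.centralizer (((Subgroup.center H.core).map H.core.subtype : Subgroup G) : Set G) ≤ H.cen := by
    intro g hg
    rw [Holo.cen, Subgroup.mem_centralizer_singleton_iff]
    refine (Subgroup.mem_centralizer_iff.mp hg _ ?_).symm
    rw [SetLike.mem_coe, H.card_center_core]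
    exact (H.centralizer_core _).mpr (Or.inr rfl)
  have hnorm : H.cen ≤ Subgroup.normalizer (H.core : Set G) := fun g hg => by
    have hN : H.β.ker.Normal := inferInstance
    rw [Subgroup.mem_normalizer_iff]
    intro x
    constructor
    · rintro ⟨y, hy, rfl⟩
      exact ⟨_, hN.conj_mem y hy ⟨g, hg⟩, rfl⟩
    · rintro ⟨y, hy, he'⟩
      refine ⟨_, hN.conj_mem y hy ⟨g, hg⟩⁻¹, ?_⟩
      simp only [Subgroup.coe_subtype] at he'
      simp [he', mul_assoc]
  have hn' : IsPGroup 2 U := IsPGroup.of_card hUcard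
  refine ⟨H.isExtraspecial hn, H.card_core, ⟨U, hUQ, hU, hUcard⟩, ?_, ?_⟩
  · exact Cfsg.Agent.S5420.result H.core (H.isExtraspecial hn) H.card_center_core.symm
      (hCC.trans hnorm) (hCU.trans (PCore.le_pCore hn'))
  · have hKinj : Function.Injective H.compl := fun A B h => by
      refine blk_injective ?_
      have := congrArg H.α h
      simpa [Holo.compl, H.α_μ] using this
    refine ⟨H.compl.range, ?_, ?_, ?_, ⟨(MonoidHom.ofInjective hKinj).symm.trans
      ((Matrix.GeneralLinearGroup.toLin).trans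
        (LinearMap.GeneralLinearGroup.generalLinearEquiv (ZMod 2) (Vec n))).symm⟩⟩
    · rintro g ⟨A, rfl⟩; exact H.compl_mem A
    · rw [Subgroup.eq_bot_iff_forall]
      rintro g ⟨⟨x, hx, rfl⟩, A, hA⟩
      have hxA : x = ⟨H.compl A, H.compl_mem A⟩ := Subtype.ext hA.symm
      rw [hxA, SetLike.mem_coe, MonoidHom.mem_ker, H.β_compl] at hx
      rw [Subgroup.coe_subtype, hxA, hx]
      exact map_one _
    · refine le_antisymm (sup_le (fun g hg => ?_) ?_) fun g hg => ?_
      · obtain ⟨x, -, rfl⟩ := hg; exact x.2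
      · rintro g ⟨A, rfl⟩; exact H.compl_mem A
      · have h1 : g * (H.compl (H.β ⟨g, hg⟩))⁻¹ ∈ H.core :=
          ⟨⟨g, hg⟩ * ⟨_, H.compl_mem (H.β ⟨g, hg⟩)⟩⁻¹, by
            rw [SetLike.mem_coe, MonoidHom.mem_ker, map_mul, map_inv, H.β_compl, mul_inv_cancel], rfl⟩
        have := Subgroup.mul_mem_sup h1 (show H.compl (H.β ⟨g, hg⟩) ∈ H.compl.range from ⟨_, rfl⟩)
        rwa [inv_mul_cancel_right] at this

end Cfsg.Agent.S5423
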