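import Cfsg.Statements.S5424
import Cfsg.Agent.Lib.PCore.Basic
import Cfsg.Agent.Lib.PGroup.SymplecticType

set_option autoImplicit false
open Cfsg

namespace Cfsg.Agent.S5424

open Matrix
open scoped MatrixGroups commutatorElement

theorem val_mul {N : Type*} [Fintype N] [DecidableEq N] {R : Type*} [CommRing R] (A B : SpecialLinearGroup N R) :
    (A * B).1 = A.1 * B.1 := rfl

@[simp] theorem val_one {N : Type*} [Fintype N] [DecidableEq N] {R : Type*} [CommRing R] :
    (1 : SpecialLinearGroup N R).1 = 1 := rfl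

variable {n : ℕ}

/-- The block matrix with rows `(1,a,u)`, `(0,1,0)`, `(0,v,A)`. -/
def mk (a : ZMod 2) (u v : Fin n → ZMod 2) (A : Matrix (Fin n) (Fin n) (ZMod 2)) :
    Matrix (Fin (n + 2)) (Fin (n + 2)) (ZMod 2) :=
  Matrix.of (Fin.cases (Fin.cases 1 (Fin.cases a u))
    (Fin.cases (Fin.cases 0 (Fin.cases 1 fun _ => 0)) fun i => Fin.cases 0 (Fin.cases (v i) (A i))))

section entries
variable (a : ZMod 2) (u v : Fin n → ZMod 2) (A : Matrix (Fin n) (Fin n) (ZMod 2)) (k l : Fin n)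

@[simp] theorem mk_00 : mk a u v A 0 0 = 1 := rfl
@[simp] theorem mk_01 : mk a u v A 0 1 = a := rfl
@[simp] theorem mk_02 : mk a u v A 0 k.succ.succ = u k := rfl
@[simp] theorem mk_10 : mk a u v A 1 0 = 0 := rfl
@[simp] theorem mk_11 : mk a u v A 1 1 = 1 := rfl
@[simp] theorem mk_12 : mk a u v A 1 k.succ.succ = 0 := rfl
@[simp] theorem mk_20 : mk a u v A k.succ.succ 0 = 0 := rfl
@[simp] theorem mk_21 : mk a u v A k.succ.succ 1 = v k := rfl
@[simp] theorem mk_22 : mk a u v A k.succ.succ l.succ.succ = A k l := rfl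

end entries

theorem mk_mul (a a' : ZMod 2) (u v u' v' : Fin n → ZMod 2) (A A' : Matrix (Fin n) (Fin n) (ZMod 2)) :
    mk a u v A * mk a' u' v' A' = mk (a' + a + u ⬝ᵥ v') (u' + u ᵥ* A') (v + A *ᵥ v') (A * A') := by
  ext i j
  cases i using Fin.cases with
  | zero =>
    cases j using Fin.cases with
    | zero => simp [Matrix.mul_apply, Fin.sum_univ_succ]
    | succ j => cases j using Fin.cases <;>
        simp [Matrix.mul_apply, Fin.sum_univ_succ, dotProduct, vecMul, add_assoc]
  | succ i =>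
    cases i using Fin.cases with
    | zero =>
      cases j using Fin.cases with
      | zero => simp [Matrix.mul_apply, Fin.sum_univ_succ]
      | succ j => cases j using Fin.cases <;> simp [Matrix.mul_apply, Fin.sum_univ_succ]
    | succ i =>
      cases j using Fin.cases with
      | zero => simp [Matrix.mul_apply, Fin.sum_univ_succ]
      | succ j => cases j using Fin.cases <;>
          simp [Matrix.mul_apply, Fin.sum_univ_succ, mulVec, dotProduct]

theorem mk_one : mk (n := n) 0 0 0 1 = 1 := by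
  ext i j
  cases i using Fin.cases with
  | zero =>
    cases j using Fin.cases with
    | zero => simp
    | succ j => cases j using Fin.cases <;> simp [Matrix.one_apply, Fin.ext_iff]
  | succ i =>
    cases i using Fin.cases with
    | zero =>
      cases j using Fin.cases with
      | zero => simp [Matrix.one_apply, Fin.ext_iff]
      | succ j => cases j using Fin.cases <;> simp [Matrix.one_apply, Fin.ext_iff]
    | succ i =>
      cases j using Fin.cases with
      | zero => simp [Matrix.one_apply, Fin.ext_iff]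
      | succ j => cases j using Fin.cases <;> simp [Matrix.one_apply, Fin.ext_iff]

theorem mk_det (a : ZMod 2) (u v : Fin n → ZMod 2) (A : Matrix (Fin n) (Fin n) (ZMod 2)) :
    (mk a u v A).det = A.det := by
  rw [Matrix.det_succ_column_zero, Finset.sum_eq_single 0]
  · rw [Matrix.det_succ_row_zero, Finset.sum_eq_single 0]
    · simp [Matrix.submatrix]
      rfl
    · intro j _ hj
      obtain ⟨k, rfl⟩ := Fin.exists_succ_eq.2 hj
      simp
    · simp
  · intro i _ hi
    obtain ⟨k, rfl⟩ := Fin.exists_succ_eq.2 hi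
    cases k using Fin.cases <;> simp
  · simp

/-- The element of `SL`. -/
def el (a : ZMod 2) (u v : Fin n → ZMod 2) (A : SpecialLinearGroup (Fin n) (ZMod 2)) :
    SpecialLinearGroup (Fin (n + 2)) (ZMod 2) :=
  ⟨mk a u v A.1, (mk_det a u v A.1).trans A.2⟩

theorem el_mul (a a' : ZMod 2) (u v u' v' : Fin n → ZMod 2) (A A' : SpecialLinearGroup (Fin n) (ZMod 2)) :
    el a u v A * el a' u' v' A' =
      el (a' + a + u ⬝ᵥ v') (u' + u ᵥ* A'.1) (v + A.1 *ᵥ v') (A * A') :=
  Subtype.ext (mk_mul a a' u v u' v' A.1 A'.1)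

theorem el_one : el (n := n) 0 0 0 1 = 1 := Subtype.ext mk_one

theorem el_inj {a a' : ZMod 2} {u v u' v' : Fin n → ZMod 2} {A A' : SpecialLinearGroup (Fin n) (ZMod 2)}
    (h : el a u v A = el a' u' v' A') : a = a' ∧ u = u' ∧ v = v' ∧ A = A' := by
  have h' : ∀ i j, mk a u v A.1 i j = mk a' u' v' A'.1 i j := fun i j => by
    have := congrArg (fun g : SpecialLinearGroup (Fin (n + 2)) (ZMod 2) => g.1 i j) h
    exact this
  refine ⟨?_, funext fun k => ?_, funext fun k => ?_, Subtype.ext (Matrix.ext fun k l => ?_)⟩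
  · simpa using h' 0 (Fin.succ 0)
  · simpa using h' 0 k.succ.succ
  · simpa using h' k.succ.succ (Fin.succ 0)
  · simpa using h' k.succ.succ l.succ.succ

/-- The transvection. -/
def zt (n : ℕ) : SpecialLinearGroup (Fin (n + 2)) (ZMod 2) := el 1 0 0 1

theorem zt_coe : (zt n).1 = Matrix.transvection 0 1 1 := by
  show mk 1 0 0 1 = _
  rw [show (1 : Fin (n + 2)) = Fin.succ 0 from rfl]
  ext i j
  cases i using Fin.cases with
  | zero =>
    cases j using Fin.cases with
    | zero => simp [Matrix.transvection, Matrix.single, Fin.ext_iff]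
    | succ j => cases j using Fin.cases <;> simp [Matrix.transvection, Matrix.single, Matrix.one_apply, Fin.ext_iff]
  | succ i =>
    cases i using Fin.cases with
    | zero =>
      cases j using Fin.cases with
      | zero => simp [Matrix.transvection, Matrix.single, Matrix.one_apply, Fin.ext_iff]
      | succ j => cases j using Fin.cases <;> simp [Matrix.transvection, Matrix.single, Matrix.one_apply, Fin.ext_iff]
    | succ i =>
      cases j using Fin.cases with
      | zero => simp [Matrix.transvection, Matrix.single, Matrix.one_apply, Fin.ext_iff]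
      | succ j => cases j using Fin.cases <;> simp [Matrix.transvection, Matrix.single, Matrix.one_apply, Fin.ext_iff]

theorem eq_one_of_det (x : ZMod 2) (h : x ≠ 0) : x = 1 := by revert h; revert x; decide

theorem mem_C_iff {g : SpecialLinearGroup (Fin (n + 2)) (ZMod 2)} :
    g ∈ Subgroup.centralizer ({zt n} : Set (SpecialLinearGroup (Fin (n + 2)) (ZMod 2))) ↔
      ∃ a u v A, g = el a u v A := by
  rw [Subgroup.mem_centralizer_singleton_iff]
  constructor
  · intro h
    have h' : g.1 * Matrix.transvection 0 1 1 = Matrix.transvection 0 1 1 * g.1 := by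
      rw [← zt_coe]
      exact congrArg Subtype.val h
    rw [Matrix.transvection, Matrix.mul_add, Matrix.add_mul, Matrix.mul_one, Matrix.one_mul] at h'
    have h'' := add_left_cancel h'
    rw [show (1 : Fin (n + 2)) = Fin.succ 0 from rfl] at h''
    have hc : ∀ i, i ≠ 0 → g.1 i 0 = 0 := fun i hi => by
      have := congrFun (congrFun h'' i) (Fin.succ 0)
      rw [Matrix.mul_single_apply_same, Matrix.single_mul_apply_of_ne _ _ _ _ _ hi] at this
      simpa using this
    have hr : ∀ j, j ≠ Fin.succ 0 → g.1 (Fin.succ 0) j = 0 := fun j hj => by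
      have := congrFun (congrFun h'' 0) j
      rw [Matrix.mul_single_apply_of_ne _ _ _ _ _ hj, Matrix.single_mul_apply_same] at this
      simpa using this.symm
    have he : g.1 0 0 = g.1 (Fin.succ 0) (Fin.succ 0) := by
      have := congrFun (congrFun h'' 0) (Fin.succ 0)
      rw [Matrix.mul_single_apply_same, Matrix.single_mul_apply_same] at this
      simpa using this
    have h00 : g.1 0 0 = 1 := eq_one_of_det _ fun h0 => by
      have := g.2
      rw [Matrix.det_eq_zero_of_column_eq_zero 0 fun i => if hi : i = 0 then hi ▸ h0 else hc i hi] at this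
      exact zero_ne_one this
    have hg : g.1 = mk (g.1 0 (Fin.succ 0)) (fun k => g.1 0 k.succ.succ) (fun k => g.1 k.succ.succ (Fin.succ 0))
        (g.1.submatrix (fun k => k.succ.succ) fun k => k.succ.succ) := by
      ext i j
      cases i using Fin.cases with
      | zero =>
        cases j using Fin.cases with
        | zero => simp [h00]
        | succ j => cases j using Fin.cases <;> simp
      | succ i =>
        cases i using Fin.cases with
        | zero =>
          cases j using Fin.cases with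
          | zero => simpa using hc (Fin.succ 0) (Fin.succ_ne_zero _)
          | succ j =>
            cases j using Fin.cases with
            | zero => simpa using he.symm.trans h00
            | succ j => simpa using hr j.succ.succ (by simp [Fin.ext_iff])
        | succ i =>
          cases j using Fin.cases with
          | zero => simpa using hc i.succ.succ (Fin.succ_ne_zero _)
          | succ j => cases j using Fin.cases <;> simp
    exact ⟨_, _, _, ⟨_, (mk_det _ _ _ _).symm.trans ((congrArg Matrix.det hg).symm.trans g.2)⟩, Subtype.ext hg⟩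
  · rintro ⟨a, u, v, A, rfl⟩
    simp [zt, el_mul, add_comm]

/-- The elementary abelian bottom group. -/
def inQ (g : SpecialLinearGroup (Fin (n + 2)) (ZMod 2)) : Prop := ∃ a u v, g = el a u v 1

/-- The unipotent radical. -/
def Q0 (n : ℕ) : Subgroup (SpecialLinearGroup (Fin (n + 2)) (ZMod 2)) where
  carrier := {g | inQ g}
  one_mem' := ⟨0, 0, 0, el_one.symm⟩
  mul_mem' := by
    rintro g h ⟨a, u, v, rfl⟩ ⟨a', u', v', rfl⟩
    exact ⟨_, _, _, by rw [el_mul, mul_one]⟩
  inv_mem' := by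
    rintro g ⟨a, u, v, rfl⟩
    refine ⟨a + u ⬝ᵥ v, u, v, inv_eq_of_mul_eq_one_right ?_⟩
    rw [el_mul, ← el_one]
    simp only [val_one, vecMul_one, one_mulVec, mul_one]
    congr 1
    · rw [add_assoc (a + u ⬝ᵥ v), CharTwo.add_self_eq_zero]
    · exact funext fun k => CharTwo.add_self_eq_zero _
    · exact funext fun k => CharTwo.add_self_eq_zero _

theorem mem_Q0 {g : SpecialLinearGroup (Fin (n + 2)) (ZMod 2)} : g ∈ Q0 n ↔ ∃ a u v, g = el a u v 1 := Iff.rfl

theorem Q0_le_C : Q0 n ≤ Subgroup.centralizer ({zt n} : Set (SpecialLinearGroup (Fin (n + 2)) (ZMod 2))) := by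
  rintro g ⟨a, u, v, rfl⟩
  exact mem_C_iff.2 ⟨_, _, _, _, rfl⟩

theorem pCore_SL (hn : 2 ≤ n) : pCore 2 (SpecialLinearGroup (Fin n) (ZMod 2)) = ⊥ := by
  rw [PCore.pCore_eq_bot_iff]
  intro N hN hp
  let act : MulAction ↥N (Fin n → ZMod 2) :=
    { smul := fun g x => g.1.1 *ᵥ x
      one_smul := fun x => Matrix.one_mulVec x
      mul_smul := fun g h x => (Matrix.mulVec_mulVec x g.1.1 h.1.1).symm }
  have hsmul : ∀ (g : ↥N) (x : Fin n → ZMod 2), g • x = g.1.1 *ᵥ x := fun _ _ => rfl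
  classical
  have hmod := hp.card_modEq_card_fixedPoints (Fin n → ZMod 2)
  obtain ⟨x, hxne, hx⟩ : ∃ x : Fin n → ZMod 2, x ≠ 0 ∧ ∀ g ∈ N, g.1 *ᵥ x = x := by
    by_contra hno
    push Not at hno
    have h1 : Nat.card (MulAction.fixedPoints ↥N (Fin n → ZMod 2)) = 1 := by
      rw [Nat.card_eq_one_iff_unique]
      refine ⟨⟨fun a b => Subtype.ext ?_⟩, ⟨⟨0, fun g => Matrix.mulVec_zero _⟩⟩⟩
      have hz : ∀ a : MulAction.fixedPoints ↥N (Fin n → ZMod 2), a.1 = 0 := fun a => by
        by_contra ha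
        obtain ⟨g, hg, hne⟩ := hno a.1 ha
        exact hne (a.2 ⟨g, hg⟩)
      rw [hz a, hz b]
    rw [h1, Nat.card_fun, Nat.card_zmod, Nat.card_fin] at hmod
    have h2 : (2 : ℕ) ^ n % 2 = 0 := Nat.mod_eq_zero_of_dvd <| dvd_pow_self 2 (by omega)
    unfold Nat.ModEq at hmod
    omega
  -- the fixed space is invariant, so it contains the standard basis
  let W : Set (Fin n → ZMod 2) := {x | ∀ g ∈ N, g.1 *ᵥ x = x}
  have hinv : ∀ (s : SpecialLinearGroup (Fin n) (ZMod 2)) (y : Fin n → ZMod 2), y ∈ W → s.1 *ᵥ y ∈ W := by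
    intro s y hy g hg
    have h := hy _ (hN.conj_mem g hg s⁻¹)
    rw [inv_inv] at h
    change (s⁻¹ * g * s).1 *ᵥ y = y at h
    have e : g.1 * s.1 = s.1 * (s⁻¹ * g * s : SpecialLinearGroup (Fin n) (ZMod 2)).1 := by
      exact congrArg Subtype.val (show g * s = s * (s⁻¹ * g * s) by simp [mul_assoc])
    rw [Matrix.mulVec_mulVec, e, ← Matrix.mulVec_mulVec, h]
  have hadd : ∀ y y' : Fin n → ZMod 2, y ∈ W → y' ∈ W → y - y' ∈ W := fun y y' hy hy' g hg => by
    rw [Matrix.mulVec_sub, hy g hg, hy' g hg]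
  have hstep : ∀ y ∈ W, ∀ i j : Fin n, i ≠ j → y j = 1 → Pi.single i (1 : ZMod 2) ∈ W := by
    intro y hy i j hij hyj
    have h := hadd _ _ (hinv ⟨Matrix.transvection i j 1, Matrix.det_transvection_of_ne i j hij 1⟩ y hy) hy
    simpa [Matrix.transvection, Matrix.add_mulVec, Matrix.single_mulVec, hyj, Pi.single] using h
  obtain ⟨j, hj⟩ := Function.ne_iff.1 hxne
  have hxj : x j = 1 := eq_one_of_det _ hj
  have hall : ∀ i, Pi.single i (1 : ZMod 2) ∈ W := by
    haveI : Nontrivial (Fin n) := Fin.nontrivial_iff_two_le.2 hn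
    obtain ⟨i0, hi0⟩ := exists_ne j
    intro i
    by_cases h : i = j
    · exact hstep _ (hstep x hx i0 j hi0 hxj) i i0 (h ▸ hi0.symm) (Pi.single_eq_same _ _)
    · exact hstep x hx i j h hxj
  rw [Subgroup.eq_bot_iff_forall]
  intro g hg
  refine Subtype.ext (Matrix.ext_of_mulVec_single fun i => ?_)
  rw [val_one, Matrix.one_mulVec]
  exact hall i g hg

theorem isPGroup_Q0 : IsPGroup 2 ↥(Q0 n) := by
  rintro ⟨g, a, u, v, rfl⟩
  refine ⟨2, Subtype.ext ?_⟩
  rw [SubgroupClass.coe_pow, show (2 : ℕ) ^ 2 = 2 * 2 from rfl, pow_mul, pow_two (el a u v 1), el_mul, pow_two,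
    el_mul, OneMemClass.coe_one, ← el_one]
  have hw : ∀ w : Fin n → ZMod 2, w + w = 0 := fun w => funext fun k => CharTwo.add_self_eq_zero _
  simp only [val_one, vecMul_one, one_mulVec, mul_one, CharTwo.add_self_eq_zero, hw,
    zero_dotProduct, add_zero, zero_add]

theorem pCore_C (hn : 2 ≤ n) :
    (pCore 2 ↥(Subgroup.centralizer ({zt n} : Set (SpecialLinearGroup (Fin (n + 2)) (ZMod 2))))).map
      (Subgroup.centralizer ({zt n} : Set (SpecialLinearGroup (Fin (n + 2)) (ZMod 2)))).subtype = Q0 n := by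
  set C := Subgroup.centralizer ({zt n} : Set (SpecialLinearGroup (Fin (n + 2)) (ZMod 2))) with hC
  choose fa fu fv fA hf using fun g : C => mem_C_iff.1 g.2
  let π : C →* SpecialLinearGroup (Fin n) (ZMod 2) := MonoidHom.mk' fA fun g h => by
    have e := hf (g * h)
    rw [Subgroup.coe_mul, hf g, hf h, el_mul] at e
    exact (el_inj e).2.2.2.symm
  have hsurj : Function.Surjective π := fun A =>
    ⟨⟨el 0 0 0 A, mem_C_iff.2 ⟨_, _, _, _, rfl⟩⟩, (el_inj (hf ⟨el 0 0 0 A, mem_C_iff.2 ⟨_, _, _, _, rfl⟩⟩)).2.2.2.symm⟩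
  have hker : π.ker = (Q0 n).subgroupOf C := by
    ext g
    constructor
    · intro h
      exact ⟨_, _, _, (hf g).trans (by rw [show fA g = 1 from h])⟩
    · rintro ⟨a, u, v, e⟩
      exact (el_inj ((hf g).symm.trans e)).2.2.2
  have hp : IsPGroup 2 π.ker := by
    rw [hker]
    exact isPGroup_Q0.of_equiv (Subgroup.subgroupOfEquivOfLe Q0_le_C).symm
  rw [← PCore.comap_pCore_of_ker π hsurj hp, pCore_SL hn, MonoidHom.comap_bot, hker,
    Subgroup.map_subgroupOf_eq_of_le Q0_le_C]

theorem center_Q0 {g : SpecialLinearGroup (Fin (n + 2)) (ZMod 2)}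
    (hg : ∀ q ∈ Q0 n, g * q = q * g) : g = 1 ∨ g = zt n := by
  obtain ⟨a, u, v, A, rfl⟩ := mem_C_iff.1 (Subgroup.mem_centralizer_singleton_iff.2 (hg (zt n) ⟨_, _, _, rfl⟩))
  have hu : ∀ u' : Fin n → ZMod 2, u' ⬝ᵥ v = 0 ∧ u' ᵥ* A.1 = u' := fun u' => by
    have h := hg (el 0 u' 0 1) ⟨_, _, _, rfl⟩
    rw [el_mul, el_mul] at h
    obtain ⟨h1, h2, -, -⟩ := el_inj h
    simp only [val_one, vecMul_one, dotProduct_zero, add_zero, zero_add] at h1 h2
    refine ⟨?_, ?_⟩
    · simpa using h1.symm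
    · rw [add_comm u'] at h2
      exact (add_left_cancel h2).symm
  have hv : ∀ v' : Fin n → ZMod 2, u ⬝ᵥ v' = 0 := fun v' => by
    have h := hg (el 0 0 v' 1) ⟨_, _, _, rfl⟩
    rw [el_mul, el_mul] at h
    obtain ⟨h1, -, -, -⟩ := el_inj h
    simpa using h1
  have hv0 : v = 0 := funext fun k => by simpa using (hu (Pi.single k 1)).1
  have hu0 : u = 0 := funext fun k => by simpa using hv (Pi.single k 1)
  have hA : A = 1 := Subtype.ext (Matrix.ext fun i j => by
    have := congrFun (hu (Pi.single i 1)).2 j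
    rw [Matrix.single_one_vecMul] at this
    rw [val_one, Matrix.one_apply]
    simpa [Pi.single_apply, eq_comm] using this)
  subst hv0 hu0 hA
  rcases (by decide : ∀ x : ZMod 2, x = 0 ∨ x = 1) a with rfl | rfl
  · exact Or.inl el_one
  · exact Or.inr rfl

theorem zt_ne_one : zt n ≠ 1 := fun h => one_ne_zero (el_inj (h.trans el_one.symm)).1

theorem zt_sq : zt n * zt n = 1 := by
  rw [zt, el_mul, ← el_one]
  simp [CharTwo.add_self_eq_zero]

theorem center_eq : (Subgroup.center ↥(Q0 n)).map (Q0 n).subtype = Subgroup.zpowers (zt n) := by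
  refine le_antisymm ?_ ?_
  · rintro _ ⟨⟨g, hg⟩, hc, rfl⟩
    rcases center_Q0 (g := g) fun q hq => congrArg Subtype.val (Subgroup.mem_center_iff.1 hc ⟨q, hq⟩).symm with
      rfl | rfl
    · exact one_mem _
    · exact Subgroup.mem_zpowers _
  · rw [Subgroup.zpowers_le]
    refine ⟨⟨zt n, ⟨_, _, _, rfl⟩⟩, Subgroup.mem_center_iff.2 fun q => Subtype.ext ?_, rfl⟩
    exact (Subgroup.mem_centralizer_singleton_iff.1 (Q0_le_C q.2))

theorem card_zpowers_zt : Nat.card (Subgroup.zpowers (zt n)) = 2 := by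
  rw [Nat.card_zpowers]
  exact orderOf_eq_prime (by rw [pow_two, zt_sq]) zt_ne_one

theorem card_Q0 : Nat.card ↥(Q0 n) = 2 ^ (2 * n + 1) := by
  rw [Nat.card_congr (Equiv.ofBijective
    (fun x : ZMod 2 × (Fin n → ZMod 2) × (Fin n → ZMod 2) => (⟨el x.1 x.2.1 x.2.2 1, ⟨_, _, _, rfl⟩⟩ : ↥(Q0 n)))
    ⟨fun x y h => by
      obtain ⟨h1, h2, h3, -⟩ := el_inj (congrArg Subtype.val h)
      exact Prod.ext h1 (Prod.ext h2 h3),
    fun ⟨g, a, u, v, e⟩ => ⟨(a, u, v), Subtype.ext e.symm⟩⟩).symm,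
    Nat.card_prod, Nat.card_prod, Nat.card_fun, Nat.card_zmod, Nat.card_fin]
  ring

theorem isExtraspecial_Q0 (hn : 2 ≤ n) : IsExtraspecial 2 ↥(Q0 n) := by
  haveI : Fact (Nat.Prime 2) := ⟨Nat.prime_two⟩
  have hZ : Nat.card ↥(Subgroup.center ↥(Q0 n)) = 2 := by
    rw [← Subgroup.card_map_of_injective (Q0 n).subtype_injective, center_eq, card_zpowers_zt]
  have hcen : ∀ q : ↥(Q0 n), (∃ a, (q : SpecialLinearGroup (Fin (n + 2)) (ZMod 2)) = el a 0 0 1) →
      q ∈ Subgroup.center ↥(Q0 n) := by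
    rintro q ⟨a, ha⟩
    refine Subgroup.mem_center_iff.2 fun r => Subtype.ext ?_
    obtain ⟨a', u, v, hr⟩ := r.2
    rw [Subgroup.coe_mul, Subgroup.coe_mul, ha, hr, el_mul, el_mul]
    simp [add_comm]
  refine PGroup.isExtraspecial_of isPGroup_Q0 hZ ?_ (fun x y => hcen _ ?_) (fun x => hcen _ ?_)
  · intro h
    have := congrArg (fun H : Subgroup ↥(Q0 n) => Nat.card H) h
    simp only [hZ, Subgroup.card_top, card_Q0] at this
    have h2 : 2 ^ 2 ≤ 2 ^ (2 * n + 1) := Nat.pow_le_pow_right (by norm_num) (by omega)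
    omega
  · obtain ⟨a, u, v, hx⟩ := x.2
    obtain ⟨a', u', v', hy⟩ := y.2
    obtain ⟨b, s, t, hb⟩ := (⁅x, y⁆).2
    refine ⟨b, ?_⟩
    have e : (⁅x, y⁆ : ↥(Q0 n)).1 * (y.1 * x.1) = x.1 * y.1 := by
      simp [commutatorElement_def, mul_assoc]
    rw [hb, hx, hy, el_mul, el_mul, el_mul] at e
    obtain ⟨-, h2, h3, -⟩ := el_inj e
    simp only [val_one, vecMul_one, one_mulVec, mul_one] at h2 h3
    rw [hb, show s = 0 from add_eq_right.1 (by rw [← add_comm s] at h2; rw [h2, add_comm]),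
      show t = 0 from add_eq_right.1 (by rw [h3, add_comm])]
  · obtain ⟨a, u, v, hx⟩ := x.2
    refine ⟨u ⬝ᵥ v, ?_⟩
    rw [SubgroupClass.coe_pow, pow_two, hx, el_mul]
    simp only [val_one, vecMul_one, one_mulVec, mul_one, CharTwo.add_self_eq_zero, zero_add]
    congr 1 <;> exact funext fun k => CharTwo.add_self_eq_zero _

theorem eq_one_of_inverted {G : Type*} [Group G] {K : Subgroup G} (hodd : Odd (Nat.card K)) {k : G} (hk : k ∈ K)
    (h : k * k = 1) : k = 1 := by
  have h1 : orderOf (⟨k, hk⟩ : K) ∣ 2 := orderOf_dvd_of_pow_eq_one (by rw [pow_two]; exact Subtype.ext h)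
  have h2 : orderOf (⟨k, hk⟩ : K) ∣ Nat.card K := orderOf_dvd_natCard _
  have h3 := Nat.eq_one_of_dvd_coprimes (Nat.coprime_two_left.2 hodd) h1 h2
  exact congrArg Subtype.val (orderOf_eq_one_iff.1 h3)

/-- An involution with no fixed points inverts. -/
theorem inverts_of_fixed_point_free {G : Type*} [Group G] [Finite G] {K : Subgroup G} {z : G}
    (hz : z * z = 1) (hK : ∀ k ∈ K, z * k * z ∈ K) (hfix : ∀ k ∈ K, z * k = k * z → k = 1) :
    ∀ k ∈ K, z * k * z = k⁻¹ := by
  let f : ↥K → ↥K := fun k => ⟨k⁻¹ * (z * k * z), K.mul_mem (K.inv_mem k.2) (hK k k.2)⟩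
  have hinj : Function.Injective f := fun a b h => by
    have h' : (a : G)⁻¹ * (z * a * z) = (b : G)⁻¹ * (z * b * z) := congrArg Subtype.val h
    have h2 : z * ((b : G) * (a : G)⁻¹) = (b : G) * (a : G)⁻¹ * z := by
      have h3 : (b : G) * (a : G)⁻¹ = z * (b * (a : G)⁻¹) * z := by
        calc (b : G) * (a : G)⁻¹ = b * ((a : G)⁻¹ * (z * a * z)) * (z * a * z)⁻¹ := by group
          _ = b * ((b : G)⁻¹ * (z * b * z)) * (z * a * z)⁻¹ := by rw [h']
          _ = z * (b * (a : G)⁻¹) * z⁻¹ := by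
            simp [mul_assoc, inv_eq_of_mul_eq_one_right hz, show ∀ x : G, z * (z * x) = x from fun x => by
              rw [← mul_assoc, hz, one_mul]]
          _ = _ := by rw [inv_eq_of_mul_eq_one_right hz]
      calc z * ((b : G) * (a : G)⁻¹) = z * ((b : G) * (a : G)⁻¹) * (z * z) := by rw [hz, mul_one]
        _ = z * ((b : G) * (a : G)⁻¹) * z * z := by simp [mul_assoc]
        _ = _ := by rw [← h3]
    exact Subtype.ext (mul_inv_eq_one.1 (hfix _ (K.mul_mem b.2 (K.inv_mem a.2)) h2)).symm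
  intro k hk
  obtain ⟨a, ha⟩ := (Finite.injective_iff_surjective.1 hinj) ⟨k, hk⟩
  have hk' : k = (a : G)⁻¹ * (z * a * z) := (congrArg Subtype.val ha).symm
  rw [hk', _root_.mul_inv_rev, inv_inv, _root_.mul_inv_rev, _root_.mul_inv_rev, inv_eq_of_mul_eq_one_right hz]
  calc z * ((a : G)⁻¹ * (z * a * z)) * z = z * (a : G)⁻¹ * z * a * (z * z) := by simp [mul_assoc]
    _ = _ := by rw [hz, mul_one]; simp [mul_assoc]

theorem conj_Q0 {c g : SpecialLinearGroup (Fin (n + 2)) (ZMod 2)}
    (hc : c ∈ Subgroup.centralizer ({zt n} : Set (SpecialLinearGroup (Fin (n + 2)) (ZMod 2)))) (hg : g ∈ Q0 n) :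
    c * g * c⁻¹ ∈ Q0 n := by
  obtain ⟨a, u, v, rfl⟩ := hg
  obtain ⟨b, s, t, A, rfl⟩ := mem_C_iff.1 hc
  obtain ⟨b', s', t', A', hi⟩ := mem_C_iff.1 ((Subgroup.centralizer _).inv_mem hc)
  have hA : A * A' = 1 := by
    have := mul_inv_cancel (el b s t A)
    rw [hi, el_mul, ← el_one] at this
    exact (el_inj this).2.2.2
  rw [hi, el_mul, el_mul, mul_one, hA]
  exact ⟨_, _, _, rfl⟩

theorem swap_transvection {N : Type*} [Fintype N] [DecidableEq N] {R : Type*} [CommRing R] {a b c : N}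
    (hab : a ≠ b) (hac : a ≠ c) :
    (Equiv.swap b c).permMatrix R * Matrix.transvection a b 1 =
      Matrix.transvection a c 1 * (Equiv.swap b c).permMatrix R := by
  rw [Equiv.Perm.permMatrix, PEquiv.toMatrix_toPEquiv_mul, PEquiv.mul_toMatrix_toPEquiv]
  ext i j
  simp only [Matrix.submatrix_apply, id_eq, Matrix.transvection, Matrix.add_apply, Matrix.one_apply, Matrix.single_apply,
    Equiv.symm_swap]
  have e1 : (a = Equiv.swap b c i) = (a = i) := propext
    ⟨fun h => by rw [← Equiv.swap_apply_self b c i, ← h, Equiv.swap_apply_of_ne_of_ne hab hac],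
      fun h => by rw [← h, Equiv.swap_apply_of_ne_of_ne hab hac]⟩
  have e2 : (c = Equiv.swap b c j) = (b = j) := propext
    ⟨fun h => by rw [← Equiv.swap_apply_self b c j, ← h, Equiv.swap_apply_right],
      fun h => by rw [← h, Equiv.swap_apply_left]⟩
  have e3 : (Equiv.swap b c i = j) = (i = Equiv.swap b c j) := propext
    ⟨fun h => by rw [← h, Equiv.swap_apply_self], fun h => by rw [h, Equiv.swap_apply_self]⟩
  simp only [e1, e2, e3]

theorem transvection_comm {N : Type*} [Fintype N] [DecidableEq N] {a b c : N} (hab : a ≠ b) (hac : a ≠ c)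
    (hbc : b ≠ c) :
    Matrix.transvection b c (1 : ZMod 2) * Matrix.transvection a b 1 =
      Matrix.transvection a b 1 * Matrix.transvection a c 1 * Matrix.transvection b c 1 := by
  simp only [Matrix.transvection, add_mul, mul_add, one_mul, mul_one,
    Matrix.single_mul_single_of_ne _ _ _ _ hac.symm, Matrix.single_mul_single_of_ne _ _ _ _ hab.symm,
    Matrix.single_mul_single_of_ne _ _ _ _ hbc.symm, Matrix.single_mul_single_same, zero_mul, mul_zero, add_zero]
  ext i j
  simp only [Matrix.add_apply]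
  generalize Matrix.single a b (1 : ZMod 2) i j = x
  generalize Matrix.single a c (1 : ZMod 2) i j = y
  generalize Matrix.single b c (1 : ZMod 2) i j = w
  generalize (1 : Matrix N N (ZMod 2)) i j = o
  revert x y w o
  decide

theorem mk_single (k : Fin n) :
    mk 0 (Pi.single k 1) 0 1 = Matrix.transvection 0 k.succ.succ 1 := by
  ext i j
  cases i using Fin.cases with
  | zero =>
    cases j using Fin.cases with
    | zero => simp [Matrix.transvection, Matrix.single, Fin.ext_iff]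
    | succ j => cases j using Fin.cases <;>
        simp [Pi.single_apply, Matrix.transvection, Matrix.single, Matrix.one_apply, Fin.ext_iff, eq_comm (a := (k : ℕ))]
  | succ i =>
    cases i using Fin.cases with
    | zero =>
      cases j using Fin.cases with
      | zero => simp [Matrix.transvection, Matrix.single, Matrix.one_apply, Fin.ext_iff]
      | succ j => cases j using Fin.cases <;>
          simp [Matrix.transvection, Matrix.single, Matrix.one_apply, Fin.ext_iff]
    | succ i =>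
      cases j using Fin.cases with
      | zero => simp [Matrix.transvection, Matrix.single, Matrix.one_apply, Fin.ext_iff]
      | succ j => cases j using Fin.cases <;>
          simp [Matrix.transvection, Matrix.single, Matrix.one_apply, Fin.ext_iff]

theorem no_odd_normalised (hn : 2 ≤ n) (K : Subgroup (SpecialLinearGroup (Fin (n + 2)) (ZMod 2)))
    (hodd : Odd (Nat.card K)) (hQK : Q0 n ≤ Subgroup.normalizer (K : Set _)) : K = ⊥ := by
  haveI : Fact (Nat.Prime 2) := ⟨Nat.prime_two⟩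
  have hcop : ∀ x ∈ Q0 n, x ∈ K → x = 1 := fun x hx hxK => by
    obtain ⟨m, hm⟩ := isPGroup_Q0 ⟨x, hx⟩
    have h1 : orderOf x ∣ 2 ^ m := orderOf_dvd_of_pow_eq_one (congrArg Subtype.val hm)
    have h2 : orderOf x ∣ Nat.card K := K.orderOf_dvd_natCard hxK
    exact orderOf_eq_one_iff.1 (Nat.eq_one_of_dvd_coprimes ((Nat.coprime_two_left.2 hodd).pow_left m) h1 h2)
  have hmem : ∀ q ∈ Q0 n, ∀ k ∈ K, q * k * q⁻¹ ∈ K := fun q hq k hk =>
    (Subgroup.mem_normalizer_iff.1 (hQK hq) k).1 hk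
  have hself : (zt n)⁻¹ = zt n := inv_eq_of_mul_eq_one_right zt_sq
  have hz : ∀ k ∈ K, zt n * k * zt n = k⁻¹ := by
    refine inverts_of_fixed_point_free zt_sq (fun k hk => ?_) fun k hk hzk => ?_
    · have := hmem (zt n) ⟨_, _, _, rfl⟩ k hk
      rwa [hself] at this
    · rcases center_Q0 (g := k) fun q hq => by
        have hkC : k ∈ Subgroup.centralizer ({zt n} : Set (SpecialLinearGroup (Fin (n + 2)) (ZMod 2))) :=
          Subgroup.mem_centralizer_singleton_iff.2 hzk.symm
        have h1 := hcop (k * q * k⁻¹ * q⁻¹) ((Q0 n).mul_mem (conj_Q0 hkC hq) ((Q0 n).inv_mem hq))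
          (by simpa [mul_assoc] using K.mul_mem hk (hmem q hq _ (K.inv_mem hk)))
        rwa [mul_inv_eq_one, mul_inv_eq_iff_eq_mul] at h1
        with rfl | rfl
      · rfl
      · exact hcop _ ⟨_, _, _, rfl⟩ hk
  have hconj : ∀ g : SpecialLinearGroup (Fin (n + 2)) (ZMod 2), g * zt n * g⁻¹ ∈ Q0 n → g⁻¹ * zt n * g ∈ Q0 n →
      ∀ k ∈ K, g * zt n * g⁻¹ * k * (g * zt n * g⁻¹) = k⁻¹ := by
    intro g h1 h2
    have hsq : g * zt n * g⁻¹ * (g * zt n * g⁻¹) = 1 := by
      rw [show g * zt n * g⁻¹ * (g * zt n * g⁻¹) = g * (zt n * zt n) * g⁻¹ by group, zt_sq]; group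
    refine inverts_of_fixed_point_free hsq (fun k hk => ?_) fun k hk hc => eq_one_of_inverted hodd hk ?_
    · have := hmem _ h1 k hk
      rwa [inv_eq_of_mul_eq_one_right hsq] at this
    · have hkC : g⁻¹ * k * g ∈ Subgroup.centralizer ({zt n} : Set (SpecialLinearGroup (Fin (n + 2)) (ZMod 2))) := by
        refine Subgroup.mem_centralizer_singleton_iff.2 ?_
        have e := congrArg (fun x => g⁻¹ * x * g) hc
        simp only [mul_assoc, inv_mul_cancel_left, inv_mul_cancel, mul_one] at e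
        simpa only [mul_assoc] using e.symm
      -- `[k, z]` lies in the conjugate of `Q` and in `K`
      have h3 := (Q0 n).mul_mem (conj_Q0 hkC h2) ((Q0 n).inv_mem h2)
      rw [show g⁻¹ * k * g * (g⁻¹ * zt n * g) * (g⁻¹ * k * g)⁻¹ * (g⁻¹ * zt n * g)⁻¹ =
        g⁻¹ * (k * (zt n * k⁻¹ * (zt n)⁻¹)) * g by group, hself,
        hz k⁻¹ (K.inv_mem hk), inv_inv] at h3
      obtain ⟨m, hm⟩ := isPGroup_Q0 ⟨_, h3⟩
      have h4 : orderOf (k * k) ∣ 2 ^ m := by
        rw [← show orderOf (g⁻¹ * (k * k) * g) = orderOf (k * k) by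
          simpa using (SemiconjBy.orderOf_eq g (x := g⁻¹ * (k * k) * g) (y := k * k) (by simp [SemiconjBy, mul_assoc]))]
        exact orderOf_dvd_of_pow_eq_one (congrArg Subtype.val hm)
      exact orderOf_eq_one_iff.1 (Nat.eq_one_of_dvd_coprimes ((Nat.coprime_two_left.2 hodd).pow_left m) h4
        (K.orderOf_dvd_natCard (K.mul_mem hk hk)))
  obtain ⟨k0⟩ : Nonempty (Fin n) := ⟨⟨0, by omega⟩⟩
  -- two row operations moving `zt` into `zt * Q`
  let g2 : SpecialLinearGroup (Fin (n + 2)) (ZMod 2) :=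
    ⟨Matrix.transvection (Fin.succ 0) k0.succ.succ 1,
      Matrix.det_transvection_of_ne _ _ (by simp [Fin.ext_iff]) 1⟩
  let g1 : SpecialLinearGroup (Fin (n + 2)) (ZMod 2) :=
    ⟨(Equiv.swap (Fin.succ 0 : Fin (n + 2)) k0.succ.succ).permMatrix (ZMod 2), by
      rw [Matrix.det_permutation, Equiv.Perm.sign_swap (by simp [Fin.ext_iff])]; decide⟩
  let q : SpecialLinearGroup (Fin (n + 2)) (ZMod 2) := el 0 (Pi.single k0 1) 0 1
  have hqQ : q ∈ Q0 n := ⟨_, _, _, rfl⟩
  have hq : q.1 = Matrix.transvection 0 k0.succ.succ 1 := mk_single k0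
  have h1 : g1 * zt n * g1⁻¹ = q := by
    rw [mul_inv_eq_iff_eq_mul]
    refine Subtype.ext ?_
    rw [val_mul, val_mul, zt_coe, hq,
      show (1 : Fin (n + 2)) = Fin.succ 0 from rfl]
    exact swap_transvection (by simp [Fin.ext_iff]) (by simp [Fin.ext_iff])
  have h2 : g2 * zt n * g2⁻¹ = zt n * q := by
    rw [mul_inv_eq_iff_eq_mul]
    refine Subtype.ext ?_
    rw [val_mul, val_mul, val_mul, zt_coe, hq,
      show (1 : Fin (n + 2)) = Fin.succ 0 from rfl]
    exact transvection_comm (by simp [Fin.ext_iff]) (by simp [Fin.ext_iff]) (by simp [Fin.ext_iff])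
  have hg1 : g1⁻¹ = g1 := inv_eq_of_mul_eq_one_right (Subtype.ext (by
    rw [val_mul, val_one]
    show _ * _ = _
    rw [← Matrix.permMatrix_mul, Equiv.swap_mul_self, Matrix.permMatrix_one]))
  have hg2 : g2⁻¹ = g2 := inv_eq_of_mul_eq_one_right (Subtype.ext (by
    rw [val_mul, val_one]
    show Matrix.transvection _ _ _ * Matrix.transvection _ _ _ = _
    rw [Matrix.transvection_mul_transvection_same _ _ (by simp [Fin.ext_iff]),
      show (1 : ZMod 2) + 1 = 0 from rfl, Matrix.transvection_zero]))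
  have hi1 : ∀ k ∈ K, q * k * q = k⁻¹ := fun k hk => by
    have := hconj g1 (h1 ▸ hqQ) (by rw [hg1]; nth_rw 2 [← hg1]; exact h1 ▸ hqQ) k hk
    rwa [h1] at this
  have hzq : zt n * q ∈ Q0 n := (Q0 n).mul_mem ⟨_, _, _, rfl⟩ hqQ
  have hi2 : ∀ k ∈ K, zt n * q * k * (zt n * q) = k⁻¹ := fun k hk => by
    have := hconj g2 (h2 ▸ hzq) (by rw [hg2]; nth_rw 2 [← hg2]; exact h2 ▸ hzq) k hk
    rwa [h2] at this
  rw [Subgroup.eq_bot_iff_forall]
  intro k hk
  refine eq_one_of_inverted hodd hk (mul_eq_one_iff_eq_inv.2 ?_)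
  have hcomm : q * zt n = zt n * q :=
    Subgroup.mem_centralizer_singleton_iff.1 (Q0_le_C hqQ)
  calc k = zt n * k⁻¹ * zt n := by rw [hz _ (K.inv_mem hk), inv_inv]
    _ = zt n * (q * k * q) * zt n := by rw [hi1 k hk]
    _ = zt n * q * k * (q * zt n) := by simp only [mul_assoc]
    _ = k⁻¹ := by rw [hcomm, hi2 k hk]

/-- Let G be the special linear group of degree n + 2 over the field with two elements, n ≥ 2, let z be a transvection, and let Q be the largest normal 2-subgroup of the centralizer C of z. Then Q is extraspecial of order 2^(2n+1) with an elementary abelian subgroup of order 2^(n+1) (plus type), Q is a large extraspecial 2-subgroup of G, and C is the split extension of Q by the special linear group of degree n over the field with two elements. -/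
theorem result (n : ℕ) (hn : 2 ≤ n) (z : Matrix.SpecialLinearGroup (Fin (n + 2)) (ZMod 2)) (hz : (z : Matrix (Fin (n + 2)) (Fin (n + 2)) (ZMod 2)) = Matrix.transvection 0 1 1) (Q : Subgroup (Matrix.SpecialLinearGroup (Fin (n + 2)) (ZMod 2))) (hQ : Q = (Cfsg.pCore 2 ↥(Subgroup.centralizer ({z} : Set (Matrix.SpecialLinearGroup (Fin (n + 2)) (ZMod 2))))).map (Subgroup.centralizer ({z} : Set (Matrix.SpecialLinearGroup (Fin (n + 2)) (ZMod 2)))).subtype) : Cfsg.IsExtraspecial 2 ↥Q ∧ Nat.card ↥Q = 2 ^ (2 * n + 1) ∧ (∃ E : Subgroup (Matrix.SpecialLinearGroup (Fin (n + 2)) (ZMod 2)), E ≤ Q ∧ Cfsg.IsElementaryAbelian 2 E ∧ Nat.card ↥E = 2 ^ (n + 1)) ∧ Cfsg.IsLargeExtraspecial Q ∧ ∃ K : Subgroup (Matrix.SpecialLinearGroup (Fin (n + 2)) (ZMod 2)), K ≤ Subgroup.centralizer ({z} : Set (Matrix.SpecialLinearGroup (Fin (n + 2)) (ZMod 2))) ∧ Q ⊓ K = ⊥ ∧ Q ⊔ K = Subgroup.centralizer ({z} : Set (Matrix.SpecialLinearGroup (Fin (n + 2)) (ZMod 2))) ∧ Nonempty (↥K ≃* Matrix.SpecialLinearGroup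 (Fin n) (ZMod 2)) := by
  obtain rfl : z = zt n := Subtype.ext (hz.trans zt_coe.symm)
  rw [pCore_C hn] at hQ
  subst hQ
  haveI : Fact (Nat.Prime 2) := ⟨Nat.prime_two⟩
  have hE : ∀ x y : ZMod 2 × (Fin n → ZMod 2),
      el x.1 x.2 0 1 * el y.1 y.2 0 1 = el (x.1 + y.1) (x.2 + y.2) 0 1 := fun x y => by
    rw [el_mul]; simp [add_comm]
  let E : Subgroup (SpecialLinearGroup (Fin (n + 2)) (ZMod 2)) :=
    { carrier := {g | ∃ x : ZMod 2 × (Fin n → ZMod 2), g = el x.1 x.2 0 1}
      one_mem' := ⟨0, el_one.symm⟩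
      mul_mem' := by rintro _ _ ⟨x, rfl⟩ ⟨y, rfl⟩; exact ⟨x + y, hE x y⟩
      inv_mem' := by
        rintro _ ⟨x, rfl⟩
        refine ⟨x, inv_eq_of_mul_eq_one_right ?_⟩
        rw [hE, CharTwo.add_self_eq_zero, show x.2 + x.2 = 0 from funext fun _ => CharTwo.add_self_eq_zero _, el_one] }
  have hcen : Subgroup.centralizer (Q0 n : Set (SpecialLinearGroup (Fin (n + 2)) (ZMod 2))) =
      (Subgroup.center ↥(Q0 n)).map (Q0 n).subtype := by
    rw [center_eq]
    refine le_antisymm (fun g hg => ?_) ?_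
    · rcases center_Q0 (g := g) (fun q hq => (Subgroup.mem_centralizer_iff.1 hg q hq).symm) with rfl | rfl
      · exact one_mem _
      · exact Subgroup.mem_zpowers _
    · rw [Subgroup.zpowers_le]
      exact Subgroup.mem_centralizer_iff.2 fun q hq => Subgroup.mem_centralizer_singleton_iff.1 (Q0_le_C hq)
  refine ⟨isExtraspecial_Q0 hn, card_Q0, ⟨E, ?_, ⟨?_, ?_⟩, ?_⟩,
    ⟨isExtraspecial_Q0 hn, hcen, ?_, no_odd_normalised hn⟩, ?_⟩
  · rintro _ ⟨x, rfl⟩
    exact ⟨_, _, _, rfl⟩
  · refine ⟨⟨?_⟩⟩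
    rintro ⟨_, x, rfl⟩ ⟨_, y, rfl⟩
    exact Subtype.ext (by rw [Subgroup.coe_mul, Subgroup.coe_mul, hE, hE, add_comm x.1, add_comm x.2])
  · rintro g ⟨x, rfl⟩
    rw [pow_two, hE, CharTwo.add_self_eq_zero,
      show x.2 + x.2 = 0 from funext fun _ => CharTwo.add_self_eq_zero _, el_one]
  · rw [Nat.card_congr (Equiv.ofBijective
      (fun x : ZMod 2 × (Fin n → ZMod 2) => (⟨el x.1 x.2 0 1, x, rfl⟩ : ↥E))
      ⟨fun x y h => by
        obtain ⟨h1, h2, -, -⟩ := el_inj (congrArg Subtype.val h)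
        exact Prod.ext h1 h2,
      fun ⟨g, x, e⟩ => ⟨x, Subtype.ext e.symm⟩⟩).symm, Nat.card_prod, Nat.card_fun, Nat.card_zmod, Nat.card_fin,
      pow_succ, mul_comm]
  · rw [center_eq, Subgroup.zpowers_eq_closure, Subgroup.centralizer_closure]
    intro c hc
    rw [Subgroup.mem_normalizer_iff]
    intro g
    refine ⟨conj_Q0 hc, fun h => ?_⟩
    have := conj_Q0 ((Subgroup.centralizer _).inv_mem hc) h
    simpa [mul_assoc] using this
  · let f : SpecialLinearGroup (Fin n) (ZMod 2) →* SpecialLinearGroup (Fin (n + 2)) (ZMod 2) :=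
      MonoidHom.mk' (fun A => el 0 0 0 A) fun A B => by rw [el_mul]; simp
    refine ⟨f.range, ?_, ?_, le_antisymm (sup_le Q0_le_C ?_) ?_, ⟨(MonoidHom.ofInjective (f := f)
      fun A B h => (el_inj h).2.2.2).symm⟩⟩
    · rintro _ ⟨A, rfl⟩; exact mem_C_iff.2 ⟨_, _, _, _, rfl⟩
    · rw [Subgroup.eq_bot_iff_forall]
      rintro _ ⟨⟨a, u, v, hq⟩, A, rfl⟩
      rw [show A = 1 from (el_inj (hq : el 0 0 0 A = el a u v 1)).2.2.2, map_one]
    · rintro _ ⟨A, rfl⟩; exact mem_C_iff.2 ⟨_, _, _, _, rfl⟩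
    · intro g hg
      obtain ⟨a, u, v, A, rfl⟩ := mem_C_iff.1 hg
      obtain ⟨B, hB⟩ : ∃ B, B * A = 1 := ⟨A⁻¹, inv_mul_cancel A⟩
      rw [show el a u v A = el a (u ᵥ* B.1) v 1 * f A by
        rw [show f A = el 0 0 0 A from rfl, el_mul, Matrix.vecMul_vecMul, ← val_mul, hB]
        simp]
      exact Subgroup.mul_mem_sup ⟨_, _, _, rfl⟩ ⟨A, rfl⟩

end Cfsg.Agent.S5424
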