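import Cfsg.Statements.S5425
import Cfsg.Agent.Lib.Mathieu.Stab.OctadInvolution
import Cfsg.Agent.S5423
import Cfsg.Agent.Lib.Coprime.Generation
import Cfsg.Agent.Lib.TI.Extraspecial

set_option autoImplicit false
set_option maxHeartbeats 1000000
open Cfsg
open Cfsg.Agent.Mathieu
open scoped Pointwise

namespace Cfsg.Agent.S5425

/-- In the Mathieu group of degree 24 (the automorphism group of the length-24 binary Golay code, acting on the 24 coordinates), let z be an involution whose fixed points form an octad (the support of a code word of weight 8), and let Q be the largest normal 2-subgroup of the centralizer C of z. Then Q is extraspecial of order 2^7 with an elementary abelian subgroup of order 16 (plus type), Q is a large extraspecial 2-subgroup, and C is the split extension of Q by the special linear group of degree 3 over the field with two elements. -/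
theorem result (z : ↥Cfsg.M24) (hz : orderOf z = 2) (hfix : (Finset.univ.filter fun p : Cfsg.GolayPt => (z : Equiv.Perm Cfsg.GolayPt) p = p) ∈ Cfsg.octads) (Q : Subgroup ↥Cfsg.M24) (hQ : Q = (Cfsg.pCore 2 ↥(Subgroup.centralizer ({z} : Set ↥Cfsg.M24))).map (Subgroup.centralizer ({z} : Set ↥Cfsg.M24)).subtype) : Cfsg.IsExtraspecial 2 ↥Q ∧ Nat.card ↥Q = 2 ^ 7 ∧ (∃ E : Subgroup ↥Cfsg.M24, E ≤ Q ∧ Cfsg.IsElementaryAbelian 2 E ∧ Nat.card ↥E = 2 ^ 4) ∧ Cfsg.IsLargeExtraspecial Q ∧ ∃ K : Subgroup ↥Cfsg.M24, K ≤ Subgroup.centralizer ({z} : Set ↥Cfsg.M24) ∧ Q ⊓ K = ⊥ ∧ Q ⊔ K = Subgroup.centralizer ({z} : Set ↥Cfsg.M24) ∧ Nonempty (↥K ≃* Matrix.SpecialLinearGroup (Fin 3) (ZMod 2)) := by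
  obtain ⟨o, hofix⟩ : ∃ o : Finset GolayPt,
      (Finset.univ.filter fun p : GolayPt => (z : Equiv.Perm GolayPt) p = p) = o := ⟨_, rfl⟩
  rw [hofix] at hfix
  have hzF : (z : Equiv.Perm GolayPt) ∈ octFix o := mem_octFix_of_fixedPoints hofix
  have hz1 : z ≠ 1 := fun h => by rw [h, orderOf_one] at hz; norm_num at hz
  obtain ⟨p, hp⟩ : (oᶜ : Finset GolayPt).Nonempty := Finset.card_pos.1 (by
    rw [Finset.card_compl, octad_card hfix, ← Finset.card_univ, card_univ_pts]; norm_num)
  rw [Finset.mem_compl] at hp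
  let S := MulAction.stabilizer M24 o
  let z0 : S := ⟨z, octFix_le_stab hzF⟩
  have hz0 : z0 ≠ 1 := fun h => hz1 (congrArg Subtype.val h)
  have hord : orderOf z0 = 2 := (Subgroup.orderOf_coe z0).symm.trans hz
  have := octU_normal o
  set Z : Subgroup S := Subgroup.zpowers z0 with hZdef
  have hZU : Z ≤ octU o := Subgroup.zpowers_le.2 hzF
  have hZc : Subgroup.centralizer (Z : Set S) = Subgroup.centralizer ({z0} : Set S) := by
    rw [hZdef, Subgroup.zpowers_eq_closure, Subgroup.centralizer_closure]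
  set C := Subgroup.centralizer ({z0} : Set S) with hC
  have hCmap := centralizer_eq_map hfix z0 hzF hz0
  obtain ⟨hext, hcard, ⟨E, hEQ, hE, hEcard⟩, hlarge, K, hKC, hQK, hQK', ⟨eK⟩⟩ :=
    Cfsg.Agent.S5423.result 3 (by norm_num) (octU o) (octM o p) (octU_elementary hfix)
      ((card_octU hfix).trans (by norm_num)) (octU_inf_octM hfix hp) (octU_sup_octM hfix hp)
      (octM_faithful hfix hp) (octM_full hfix hp) Z hZU ((Nat.card_zpowers z0).trans hord)
      ((Cfsg.pCore 2 ↥C).map C.subtype) (by rw [hC, hZc])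
  set Q0 : Subgroup S := (Cfsg.pCore 2 ↥C).map C.subtype with hQ0
  have hQC : Q0 ≤ C := by rintro _ ⟨x, -, rfl⟩; exact x.2
  have hinj : Function.Injective (MulAction.stabilizer M24 o).subtype := Subgroup.subtype_injective _
  obtain rfl : Q = Q0.map (MulAction.stabilizer M24 o).subtype := by
    rw [hQ]
    let eC : ↥C ≃* ↥(Subgroup.centralizer ({z} : Set ↥M24)) :=
      (C.equivMapOfInjective _ hinj).trans (MulEquiv.subgroupCongr hCmap.symm)
    rw [← Cfsg.Agent.PCore.map_pCore_mulEquiv eC, Subgroup.map_map, hQ0, Subgroup.map_map]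
    rfl
  let eQ := Q0.equivMapOfInjective _ hinj
  have hcard2 : Nat.card (Q0.map (MulAction.stabilizer M24 o).subtype) = 2 ^ 7 := by
    rw [← Nat.card_congr eQ.toEquiv, hcard]
  have hext2 := Cfsg.Agent.TI.isExtraspecial_congr eQ hext
  obtain ⟨-, hcen, hnorm, hodd⟩ := hlarge
  -- the central involution
  have hUQ : octU o ≤ Q0 := by
    have hUC : octU o ≤ C := fun u hu => Subgroup.mem_centralizer_singleton_iff.2
      (congrArg Subtype.val ((octU_elementary hfix).1.is_comm.comm ⟨u, hu⟩ ⟨z0, hzF⟩))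
    intro u hu
    refine ⟨⟨u, hUC hu⟩, ?_, rfl⟩
    have hn : ((octU o).subgroupOf C).Normal := Subgroup.Normal.subgroupOf inferInstance _
    exact Cfsg.Agent.PCore.le_pCore ((IsPGroup.of_card (n := 4) ((card_octU hfix).trans
      (by norm_num))).comap_of_injective C.subtype C.subtype_injective) hu
  have hz0Q : z0 ∈ Q0 := hUQ hzF
  have hzc : z0 ∈ Subgroup.centralizer (Q0 : Set S) := fun q hq =>
    Subgroup.mem_centralizer_singleton_iff.1 (hQC hq)
  have hZeq : (Subgroup.center ↥Q0).map Q0.subtype = Z := by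
    refine (Subgroup.eq_of_le_of_card_ge ?_ ?_).symm
    · rw [hZdef, Subgroup.zpowers_le, ← hcen]
      exact hzc
    · rw [Subgroup.card_map_of_injective Q0.subtype_injective, hext.2, hZdef, Nat.card_zpowers, hord]
  have hcenmap : (Subgroup.center ↥(Q0.map (MulAction.stabilizer M24 o).subtype)).map
      (Q0.map (MulAction.stabilizer M24 o).subtype).subtype = Subgroup.zpowers z := by
    refine (Subgroup.eq_of_le_of_card_ge ?_ ?_).symm
    · rw [Subgroup.zpowers_le]
      refine ⟨⟨z, z0, hz0Q, rfl⟩, Subgroup.mem_center_iff.2 ?_, rfl⟩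
      rintro ⟨_, q, hq, rfl⟩
      exact Subtype.ext (congrArg (MulAction.stabilizer M24 o).subtype (hzc q hq))
    · rw [Subgroup.card_map_of_injective (Subgroup.subtype_injective _), hext2.2, Nat.card_zpowers,
        hz]
  have hKC' : K ≤ C := by rw [← hZc]; exact hKC
  refine ⟨hext2, hcard2, ⟨E.map (MulAction.stabilizer M24 o).subtype, Subgroup.map_mono hEQ, ?_, ?_⟩,
    ⟨hext2, ?_, ?_, ?_⟩, K.map (MulAction.stabilizer M24 o).subtype, ?_, ?_, ?_, ?_⟩
  · refine ⟨⟨⟨?_⟩⟩, ?_⟩
    · rintro ⟨_, a, ha, rfl⟩ ⟨_, b, hb, rfl⟩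
      exact Subtype.ext (congrArg (fun x : ↥E => ((x : S) : ↥M24))
        (hE.1.is_comm.comm ⟨a, ha⟩ ⟨b, hb⟩))
    · rintro _ ⟨a, ha, rfl⟩
      rw [← map_pow, hE.2 a ha, map_one]
  · rw [← Nat.card_congr (E.equivMapOfInjective _ hinj).toEquiv, hEcard]
  · rw [hcenmap]
    refine le_antisymm (fun g hg => ?_) ?_
    · have hgC : g ∈ Subgroup.centralizer ({z} : Set ↥M24) :=
        Subgroup.mem_centralizer_singleton_iff.2 (hg z ⟨z0, hz0Q, rfl⟩).symm
      rw [hCmap] at hgC
      obtain ⟨x, -, rfl⟩ := hgC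
      have hx : x ∈ Subgroup.centralizer (Q0 : Set S) := fun q hq =>
        Subtype.ext (hg _ ⟨q, hq, rfl⟩)
      rw [hcen, hZeq] at hx
      obtain ⟨n, rfl⟩ := Subgroup.mem_zpowers_iff.1 hx
      exact Subgroup.mem_zpowers_iff.2 ⟨n, ((MulAction.stabilizer M24 o).subtype.map_zpow z0 n).symm⟩
    · rw [Subgroup.zpowers_le]
      rintro _ ⟨q, hq, rfl⟩
      exact congrArg Subtype.val (hzc q hq)
  · rw [hcenmap, Subgroup.zpowers_eq_closure, Subgroup.centralizer_closure, hCmap]
    refine (Subgroup.map_mono ?_).trans (Subgroup.le_normalizer_map _)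
    change C ≤ _
    rw [← hZc, ← hZeq]
    exact hnorm
  · intro K' hodd' hK'
    let U' : Subgroup ↥M24 := (octU o).map (MulAction.stabilizer M24 o).subtype
    have hU'card : Nat.card U' = 16 := by
      rw [← Nat.card_congr ((octU o).equivMapOfInjective _ hinj).toEquiv, card_octU hfix]
    have hUcomm : IsMulCommutative U' := ⟨⟨by
      rintro ⟨_, a, ha, rfl⟩ ⟨_, b, hb, rfl⟩
      exact Subtype.ext (congrArg (fun x : ↥(octU o) => ((x : S) : ↥M24))
        ((octU_elementary hfix).1.is_comm.comm ⟨a, ha⟩ ⟨b, hb⟩))⟩⟩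
    have hncyc : ¬ IsCyclic U' := fun hc => by
      obtain ⟨g, hg⟩ := IsCyclic.exists_generator (α := U')
      have h16 : orderOf g = 16 := (orderOf_eq_card_of_forall_mem_zpowers hg).trans hU'card
      obtain ⟨_, a, ha, rfl⟩ := g
      have : orderOf a ∣ 2 := orderOf_dvd_of_pow_eq_one ((octU_elementary hfix).2 a ha)
      rw [← Subgroup.orderOf_coe, orderOf_injective (MulAction.stabilizer M24 o).subtype hinj] at h16
      rw [h16] at this
      norm_num at this
    have hcop : (Nat.card U').Coprime (Nat.card K') := by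
      rw [hU'card, show (16 : ℕ) = 2 ^ 4 by norm_num]
      exact Nat.Coprime.pow_left _ (Nat.coprime_two_left.2 hodd')
    have hK'le : K' ≤ MulAction.stabilizer M24 o := by
      rw [← Coprime.iSup_centralizer_eq hncyc ((Subgroup.map_mono hUQ).trans hK') hcop]
      refine iSup₂_le ?_
      rintro a ⟨⟨u, hu, rfl⟩, ha1⟩
      exact inf_le_right.trans (centralizer_le_stabilizer hfix hu ha1)
    obtain ⟨K0, rfl⟩ : ∃ K0 : Subgroup S, K0.map (MulAction.stabilizer M24 o).subtype = K' :=
      ⟨K'.subgroupOf _, Subgroup.map_subgroupOf_eq_of_le hK'le⟩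
    rw [hodd K0 ?_ ?_, Subgroup.map_bot]
    · rwa [← Nat.card_congr (K0.equivMapOfInjective _ hinj).toEquiv] at hodd'
    · intro q hq
      have hqn := hK' ⟨q, hq, rfl⟩
      rw [Subgroup.mem_normalizer_iff] at hqn ⊢
      intro x
      have := hqn (x : ↥M24)
      constructor
      · intro hx
        obtain ⟨y, hy, he⟩ := this.1 ⟨x, hx, rfl⟩
        have e : y = q * x * q⁻¹ := Subtype.ext he
        exact e ▸ hy
      · intro hx
        obtain ⟨y, hy, he⟩ := this.2 ⟨_, hx, rfl⟩
        exact (Subtype.ext he : y = x) ▸ hy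
  · rw [hCmap]
    exact Subgroup.map_mono hKC'
  · rw [← Subgroup.map_inf_eq _ _ _ hinj, hQK, Subgroup.map_bot]
  · rw [hCmap, ← Subgroup.map_sup, hQK', hZc]
  · exact ⟨((K.equivMapOfInjective _ hinj).symm.trans eK).trans glEquivSL.symm⟩

end Cfsg.Agent.S5425
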