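import Cfsg.Statements.S5426
import Cfsg.Agent.Lib.Components.Inf
import Cfsg.Agent.Lib.Coprime.Basic
import Cfsg.Agent.Lib.IsolatedP.MaxTransfer
import Cfsg.Agent.Lib.LargeExtraspecial.Pair
import Cfsg.Agent.Lib.LocalStructure.PClosed
import Cfsg.Agent.Lib.PGroup.Basic
import Cfsg.Agent.Lib.PGroup.Frattini
import Cfsg.Agent.Lib.Solvable.System
import Cfsg.Agent.Lib.Transfer.Burnside
-- import your own Cfsg.Agent.* helpers here

set_option autoImplicit false
open Cfsg

namespace Cfsg.Agent.S5426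

open Cfsg.Agent.Components Cfsg.Agent Subgroup
open scoped commutatorElement

variable {G : Type*} [Group G] [Finite G] {Q : Subgroup G} {z : G}

/-- A `2`-group containing `Q` centralises `z`. -/
theorem commute_of_twoGroup (h : LargeExtraspecial.Hub Q z) {R : Subgroup G} (hR : IsPGroup 2 ↥R)
    (hQR : Q ≤ R) : ∀ r ∈ R, Commute r z := by
  have : Fact (Nat.Prime 2) := ⟨Nat.prime_two⟩
  have : Nontrivial ↥R := ⟨⟨⟨z, hQR h.mem⟩, 1, fun e => h.ne_one (congrArg Subtype.val e)⟩⟩
  have := hR.center_nontrivial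
  obtain ⟨⟨c, hc⟩, hc1⟩ := exists_ne (1 : center ↥R)
  have hcG : ∀ r ∈ R, Commute r (c : G) := fun r hr =>
    congrArg Subtype.val (mem_center_iff.mp hc ⟨r, hr⟩)
  rcases h.self (c : G) (fun q hq => (hcG q (hQR hq)).symm) with e | e
  · exact absurd (Subtype.ext (Subtype.ext e)) hc1
  · exact fun r hr => e ▸ hcG r hr

/-- A subgroup of even order normalised by `Q` contains `z`. -/
theorem mem_of_even (h : LargeExtraspecial.Hub Q z) (hQ2 : IsPGroup 2 ↥Q) {A : Subgroup G}
    (hQA : Q ≤ normalizer (A : Set G)) (hA : 2 ∣ Nat.card A) : z ∈ A := by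
  have : Fact (Nat.Prime 2) := ⟨Nat.prime_two⟩
  set X := A ⊔ Q with hX
  have hAn : (A.subgroupOf X).Normal :=
    (normal_subgroupOf_iff_le_normalizer le_sup_left).mpr (sup_le le_normalizer hQA)
  obtain ⟨R, hR⟩ := (hQ2.comap_of_injective X.subtype X.subtype_injective).exists_le_sylow
  obtain ⟨⟨t, htA⟩, ht⟩ := exists_prime_orderOf_dvd_card' 2 hA
  rw [orderOf_mk] at ht
  set t' : X := ⟨t, mem_sup_left htA⟩ with ht'
  have ht2 : IsPGroup 2 ↥(zpowers t') := IsPGroup.of_card (n := 1)
    (by rw [Nat.card_zpowers, orderOf_mk, ht, pow_one])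
  obtain ⟨R0, hR0⟩ := ht2.exists_le_sylow
  obtain ⟨g, rfl⟩ := MulAction.exists_smul_eq X R0 R
  have hcR : g * t' * g⁻¹ ∈ (g • R0 : Sylow 2 X) := by
    show g * t' * g⁻¹ ∈ ((g • R0 : Sylow 2 X) : Subgroup X)
    rw [Sylow.coe_subgroup_smul]
    exact ⟨t', hR0 (mem_zpowers _), rfl⟩
  have hcA : g * t' * g⁻¹ ∈ A.subgroupOf X := hAn.conj_mem t' htA g
  have hne : (A.subgroupOf X).subgroupOf ((g • R0 : Sylow 2 X) : Subgroup X) ≠ ⊥ := by
    intro e
    have h1 : (⟨_, hcR⟩ : ((g • R0 : Sylow 2 X) : Subgroup X)) ∈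
        (A.subgroupOf X).subgroupOf ((g • R0 : Sylow 2 X) : Subgroup X) := hcA
    rw [e, mem_bot] at h1
    have h2 := congrArg Subtype.val h1
    simp only [OneMemClass.coe_one, conj_eq_one_iff] at h2
    have h3 : t = 1 := congrArg Subtype.val h2
    rw [h3, orderOf_one] at ht
    omega
  have := PGroup.inf_center_ne_bot (g • R0).2 _ hne
  obtain ⟨c, hc, hc1⟩ := ((bot_or_exists_ne_one _).resolve_left this)
  obtain ⟨hcA', hcZ⟩ := hc
  rcases h.self ((c : X) : G) (fun q hq => by
      have hqR : (⟨q, mem_sup_right hq⟩ : X) ∈ ((g • R0 : Sylow 2 X) : Subgroup X) := hR hq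
      exact (congrArg (fun u : ↥((g • R0 : Sylow 2 X) : Subgroup X) => ((u : X) : G)) (mem_center_iff.mp hcZ ⟨_, hqR⟩)).symm) with e | e
  · exact absurd (Subtype.ext (Subtype.ext e)) hc1
  · exact e ▸ hcA'

/-- A subgroup of order prime to `2` normalised by `Q` is trivial, so `z` lies in any nontrivial one. -/
theorem mem_of_ne_bot (h : LargeExtraspecial.Hub Q z) (hQ : Cfsg.IsLargeExtraspecial Q) {A : Subgroup G}
    (hQA : Q ≤ normalizer (A : Set G)) (hA : A ≠ ⊥) : z ∈ A := by
  refine mem_of_even h hQ.1.1.1 hQA ?_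
  by_contra h2
  exact hA (hQ.2.2.2 A (Nat.odd_iff.mpr (by omega)) hQA)

omit [Finite G] in
/-- A subgroup containing all squares contains the derived group. -/
theorem commutator_le_of_sq_mem {X : Type*} [Group X] (N : Subgroup X) (hN : ∀ x : X, x ^ 2 ∈ N) :
    commutator X ≤ N := by
  rw [commutator_def, commutator_le]
  intro a _ b _
  have : ⁅a, b⁆ = a ^ 2 * (a⁻¹ * b) ^ 2 * b⁻¹ ^ 2 := by
    simp only [commutatorElement_def, pow_two]; group
  rw [this]
  exact mul_mem (mul_mem (hN a) (hN _)) (hN _)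

omit [Finite G] in
theorem mem_conj_map {K : Subgroup G} {k : G} (hk : k ∈ K) (g : G) :
    g * k * g⁻¹ ∈ K.map (MulAut.conj g).toMonoidHom := ⟨k, hk, rfl⟩

/-- No component centralises `z`. -/
theorem component_not_centralize (h : LargeExtraspecial.Hub Q z) (hQ2 : IsPGroup 2 ↥Q)
    {K : Subgroup G} (hK : IsComponent K) : ¬ ∀ k ∈ K, Commute k z := by
  intro hKz
  have : Fact (Nat.Prime 2) := ⟨Nat.prime_two⟩
  have hKC : ∀ k ∈ K, ∀ q ∈ Q, Commute k q := by
    have key : ⁅Q, K⁆ ≤ centralizer (K : Set G) := by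
      rw [commutator_le]
      intro q hq k hk
      set K' := K.map (MulAut.conj q).toMonoidHom with hK'
      have hK'c : IsComponent K' := IsComponent.conj hK q
      have hK'z : ∀ k ∈ K', Commute k z := by
        rintro _ ⟨k, hk, rfl⟩
        have h1 := (hKz k hk).map (MulAut.conj q).toMonoidHom
        simpa [(h.central q hq).eq] using h1
      set B := K ⊔ K' with hB
      have hBz : B ≤ centralizer ({z} : Set G) := sup_le
        (fun k hk => mem_centralizer_singleton_iff.mpr (hKz k hk))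
        (fun k hk => mem_centralizer_singleton_iff.mpr (hK'z k hk))
      have hBn : B ≤ normalizer (Q : Set G) := fun b hb => mem_normalizer_iff.mpr fun r => by
        have hbz : Commute b z := mem_centralizer_singleton_iff.mp (hBz hb)
        refine ⟨h.normalizes b hbz r, fun hr => ?_⟩
        have := h.normalizes b⁻¹ hbz.inv_left _ hr
        simpa [mul_assoc] using this
      have hBl : layer G ≤ normalizer (B : Set G) := sSup_le fun L hL =>
        (le_inf (IsComponent.le_normalizer hL hK) (IsComponent.le_normalizer hL hK'c)).trans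
          (fun g hg => IsolatedP.mem_normalizer_sup hg.1 hg.2)
      have hBs : B.IsSubnormal := isSubnormal_of_normalized
        (inferInstance : (layer G).Normal).isSubnormal
        (sup_le (IsComponent.le_layer hK) (IsComponent.le_layer hK'c)) hBl
      have hDs : (B ⊓ Q).IsSubnormal := isSubnormal_of_normalized hBs inf_le_left
        ((le_inf le_normalizer hBn).trans inf_normalizer_le_normalizer_inf)
      have : Group.IsNilpotent ↥(B ⊓ Q) := (hQ2.to_le inf_le_right).isNilpotent
      refine le_centralizer_of_commutator_eq_bot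
        (commutator_eq_bot_symm (IsComponent.commutator_eq_bot_of_isSolvable hK hDs)) ?_
      rw [commutatorElement_def]
      refine Subgroup.mem_inf.mpr ⟨mul_mem (mem_sup_right (mem_conj_map hk q)) (inv_mem (mem_sup_left hk)), ?_⟩
      show q * k * q⁻¹ * k⁻¹ ∈ Q
      rw [show q * k * q⁻¹ * k⁻¹ = q * (k * q⁻¹ * k⁻¹) by group]
      exact mul_mem hq (h.normalizes k (hKz k hk) _ (inv_mem hq))
    have h1 : ⁅⁅Q, K⁆, K⁆ = ⊥ := commutator_eq_bot_iff_le_centralizer.mpr key
    have h2 : ⁅⁅K, Q⁆, K⁆ = ⊥ := by rwa [commutator_comm K Q]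
    have h3 := commutator_commutator_eq_bot_of_rotate h2 h1
    rw [IsComponent.commutator_self hK] at h3
    intro k hk q hq
    exact (mem_centralizer_iff.mp (le_centralizer_of_commutator_eq_bot h3 hk) q hq).symm
  refine IsQuasisimple.not_isMulCommutative (IsComponent.isQuasisimple hK) ⟨⟨fun a b => Subtype.ext ?_⟩⟩
  rcases h.self (a : G) (hKC a a.2) with e | e
  · show (a : G) * b = b * a
    rw [e, one_mul, mul_one]
  · show (a : G) * b = b * a
    rw [e]
    exact (hKz b b.2).symm.eq

omit [Finite G] in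
/-- A perfect group with a normal `p`-complement has order prime to `p`. -/
theorem not_dvd_card_of_isPerfect {K : Type*} [Group K] [Finite K] {p : ℕ} [Fact p.Prime]
    [hK : Group.IsPerfect K] (h : Cfsg.HasNormalPComplement p K) : ¬ p ∣ Nat.card K := by
  obtain ⟨P, N, hN, hc⟩ := h
  have hPq : IsPGroup p (K ⧸ N) := by
    obtain ⟨n, hn⟩ := P.2.exists_card_eq
    refine IsPGroup.of_card (n := n) ?_
    rw [← index_eq_card, hc.symm.index_eq_card, hn]
  have : Group.IsNilpotent (K ⧸ N) := hPq.isNilpotent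
  have htop : N = ⊤ := by
    by_contra hne
    have : Nontrivial (K ⧸ N) := QuotientGroup.nontrivial_iff.mpr hne
    have hperf : Group.IsPerfect (K ⧸ N) :=
      Group.IsPerfect.ofSurjective (QuotientGroup.mk'_surjective N)
    exact (Group.IsPerfect.not_isNilpotent (G := K ⧸ N)) inferInstance
  have h1 : Nat.card P = 1 := by rw [← hc.symm.index_eq_card, htop, index_top]
  have h2 := P.not_dvd_index
  rwa [(card_eq_one (H := (P : Subgroup K))).mp h1, index_bot] at h2

/-- Let Q be a large extraspecial 2-subgroup of the finite group G (extraspecial; centralizer equal to its centre; normal in the centralizer of its centre; normalizing no non-trivial subgroup of odd order) with centre generated by z, and let M be the normal closure of z in G. Then one of the following holds: Q is normal in G; or M is abelian and the generalized Fitting subgroup of G is its largest normal 2-subgroup; or M is the generalized Fitting subgroup of G and is a non-abelian simple group; or M is the generalized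 Fitting subgroup of G and is the direct product of a non-abelian simple subgroup L and its conjugate u L u⁻¹ by some u in Q (the two meet trivially and commute elementwise), with z = z₁ (u z₁ u⁻¹) for some z₁ in L whose centralizer in L is a Sylow 2-subgroup of L with Frattini subgroup inside the subgroup generated by z₁, and Q is not the largest normal 2-subgroup of the centralizer of z. -/
theorem result {G : Type*} [Group G] [Finite G] (Q : Subgroup G) (hQ : Cfsg.IsLargeExtraspecial Q) (z : G) (hz : ((Subgroup.center ↥Q).map Q.subtype) = Subgroup.zpowers z) (M : Subgroup G) (hM : M = Subgroup.normalClosure ({z} : Set G)) : Q.Normal ∨ (IsMulCommutative ↥M ∧ Cfsg.generalizedFittingSubgroup G = Cfsg.pCore 2 G) ∨ (M = Cfsg.generalizedFittingSubgroup G ∧ IsSimpleGroup ↥M ∧ ¬ IsMulCommutative ↥M) ∨ (M = Cfsg.generalizedFittingSubgroup G ∧ ∃ (L : Subgroup G) (u : G), u ∈ Q ∧ IsSimpleGroup ↥L ∧ ¬ IsMulCommutative ↥L ∧ L ⊓ (L).map (MulAut.conj u).toMonoidHom = ⊥ ∧ (∀ x ∈ L, ∀ y ∈ (L).map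 (MulAut.conj u).toMonoidHom, x * y = y * x) ∧ L ⊔ (L).map (MulAut.conj u).toMonoidHom = M ∧ ∃ z₁ ∈ L, z = z₁ * (u * z₁ * u⁻¹) ∧ (∃ R : Sylow 2 ↥L, (R : Subgroup ↥L) = (Subgroup.centralizer ({z₁} : Set G)).subgroupOf L ∧ (frattini ↥(R : Subgroup ↥L)).map ((L.subtype).comp (R : Subgroup ↥L).subtype) ≤ Subgroup.zpowers z₁) ∧ Q ≠ (Cfsg.pCore 2 ↥(Subgroup.centralizer ({z} : Set G))).map (Subgroup.centralizer ({z} : Set G)).subtype) := by
  have h2p : Fact (Nat.Prime 2) := ⟨Nat.prime_two⟩
  have hz2 : orderOf z = 2 := by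
    rw [← Nat.card_zpowers, ← hz, card_map_of_injective Q.subtype_injective]
    exact hQ.1.2
  have h : LargeExtraspecial.Hub Q z := LargeExtraspecial.Hub.of_isLargeExtraspecial hQ hz hz2
  have hQ2 : IsPGroup 2 ↥Q := hQ.1.1.1
  have hNle : ∀ A : Subgroup G, A.Normal → Q ≤ normalizer (A : Set G) :=
    fun A hA => by rw [normalizer_eq_top_iff.mpr hA]; exact le_top
  have hpc : (Cfsg.pCore 2 G).Normal := pCore_normal' 2
  have hFle : fittingSubgroup G ≤ Cfsg.pCore 2 G := by
    rw [fittingSubgroup_eq_iSup_pCore]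
    refine iSup_le fun q => ?_
    by_cases hq : (q : ℕ) = 2
    · rw [hq]
    · have : Fact (q : ℕ).Prime := ⟨Nat.prime_of_mem_primeFactors q.2⟩
      obtain ⟨n, hn⟩ := (isPGroup_pCore' (G := G) (q : ℕ)).exists_card_eq
      rw [hQ.2.2.2 _ (hn ▸ ((this.out.odd_of_ne_two hq).pow)) (hNle _ (pCore_normal' _))]
      exact bot_le
  have hzO : ∀ r ∈ Cfsg.pCore 2 G, Commute r z := fun r hr =>
    commute_of_twoGroup h (IsPGroup.to_sup_of_normal_left (isPGroup_pCore' 2) hQ2) le_sup_right r
      (mem_sup_left hr)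
  by_cases hcomp : HasComponent G
  swap
  · refine Or.inr (Or.inl ?_)
    have hF : generalizedFittingSubgroup G = Cfsg.pCore 2 G := by
      rw [generalizedFittingSubgroup_eq_fittingSubgroup_iff.mpr hcomp]
      exact le_antisymm hFle (pCore_le_fittingSubgroup Nat.prime_two)
    have hzmem : z ∈ Cfsg.pCore 2 G := by
      rw [← hF]
      refine centralizer_generalizedFittingSubgroup_le ?_
      rw [hF]
      exact mem_centralizer_iff.mpr fun r hr => hzO r hr
    set Z := (center ↥(Cfsg.pCore 2 G)).map (Cfsg.pCore 2 G).subtype with hZ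
    have hMZ : M ≤ Z := by
      rw [hM]
      refine normalClosure_le_normal (Set.singleton_subset_iff.mpr
        ⟨⟨z, hzmem⟩, mem_center_iff.mpr fun r => Subtype.ext (hzO r r.2), rfl⟩)
    refine ⟨⟨⟨fun a b => Subtype.ext ?_⟩⟩, hF⟩
    obtain ⟨a', ha', hae⟩ := hMZ a.2
    obtain ⟨b', -, hbe⟩ := hMZ b.2
    show (a : G) * b = b * a
    rw [← hae, ← hbe]
    exact (congrArg Subtype.val (mem_center_iff.mp ha' b')).symm
  obtain ⟨K, hK⟩ := hcomp
  have hK : IsComponent K := hK
  have hO : Cfsg.pCore 2 G = ⊥ := by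
    by_contra hne
    refine component_not_centralize h hQ2 hK fun k hk => ?_
    have : Group.IsNilpotent ↥(Cfsg.pCore 2 G) := (isPGroup_pCore' 2).isNilpotent
    exact (mem_centralizer_iff.mp (le_centralizer_of_commutator_eq_bot
      (IsComponent.commutator_eq_bot_of_isSolvable hK hpc.isSubnormal) hk)
      z (mem_of_ne_bot h hQ (hNle _ hpc) hne)).symm
  have hF : fittingSubgroup G = ⊥ := le_bot_iff.mp (hFle.trans hO.le)
  have hF2 : generalizedFittingSubgroup G = layer G := by
    rw [generalizedFittingSubgroup, hF, sup_bot_eq]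
  have hEn : (layer G).Normal := inferInstance
  have hzE : z ∈ layer G := mem_of_ne_bot h hQ (hNle _ hEn) fun e =>
    IsComponent.ne_bot hK (le_bot_iff.mp (e ▸ IsComponent.le_layer hK))
  have hME : M = layer G := by
    rw [hM]
    refine le_antisymm (normalClosure_le_normal (Set.singleton_subset_iff.mpr hzE)) (sSup_le fun L hL => ?_)
    have : (normalClosure ({z} : Set G)).Normal := normalClosure_normal
    refine (IsComponent.le_or_commutator_eq_bot_of_normal hL _).resolve_right fun hc => ?_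
    exact component_not_centralize h hQ2 hL fun l hl =>
      (mem_centralizer_iff.mp (le_centralizer_of_commutator_eq_bot hc hl) z
        (subset_normalClosure rfl)).symm
  have hsimple : ∀ L : Subgroup G, IsComponent L →
      IsSimpleGroup ↥L ∧ ¬ IsMulCommutative ↥L ∧ ∀ c ∈ L, (∀ l ∈ L, Commute c l) → c = 1 := by
    intro L hL
    have hc : ∀ c ∈ L, (∀ l ∈ L, Commute c l) → c = 1 := by
      intro c hcL hcc
      have := inf_centralizer_le_fittingSubgroup (IsComponent.isSubnormal hL)
        ⟨hcL, mem_centralizer_iff.mpr fun l hl => (hcc l hl).symm⟩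
      rwa [hF, mem_bot] at this
    have hZ : center ↥L = ⊥ := eq_bot_iff.mpr fun c hcz => mem_bot.mpr (Subtype.ext (hc c c.2
      fun l hl => (congrArg Subtype.val (mem_center_iff.mp hcz ⟨l, hl⟩)).symm))
    have := IsQuasisimple.simpleQuotient (IsComponent.isQuasisimple hL)
    have : Nontrivial ↥L := IsQuasisimple.nontrivial (IsComponent.isQuasisimple hL)
    exact ⟨IsSimpleGroup.isSimpleGroup_of_surjective
      (((QuotientGroup.quotientMulEquivOfEq hZ).trans QuotientGroup.quotientBot).toMonoidHom)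
      (MulEquiv.surjective _), IsQuasisimple.not_isMulCommutative (IsComponent.isQuasisimple hL), hc⟩
  obtain ⟨hKsimple, hKnc, hKZ⟩ := hsimple K hK
  by_cases honly : ∀ L : Subgroup G, IsComponent L → L = K
  · have hEK : layer G = K :=
      le_antisymm (sSup_le fun L hL => (honly L hL).le) (IsComponent.le_layer hK)
    exact Or.inr (Or.inr (Or.inl ⟨by rw [hF2, hME], by rw [hME, hEK]; exact hKsimple,
      by rw [hME, hEK]; exact hKnc⟩))
  push Not at honly
  obtain ⟨L0, hL0, hL0K⟩ := honly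
  have hcomm : ∀ J J' : Subgroup G, IsComponent J → IsComponent J' → J ≠ J' →
      ∀ a ∈ J, ∀ b ∈ J', Commute a b := fun J J' hJ hJ' hne a ha b hb =>
    (mem_centralizer_iff.mp (le_centralizer_of_commutator_eq_bot
      (IsComponent.commutator_eq_bot hJ hJ' hne) ha) b hb).symm
  have hEK : layer G ≤ centralizer (K : Set G) ⊔ K := sSup_le fun L hL => by
    by_cases hLK : L = K
    · exact hLK ▸ le_sup_right
    · exact le_sup_of_le_left fun l hl => mem_centralizer_iff.mpr fun k hk =>
        (hcomm K L hK hL (Ne.symm hLK) k hk l hl)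
  obtain ⟨d, hd, z1, hz1K, hdz⟩ :=
    (Coprime.mem_sup_iff_of_le_normalizer (centralizer_le_normalizer _)).mp (hEK hzE)
  have hdK : ∀ k ∈ K, Commute k d := fun k hk => mem_centralizer_iff.mp hd k hk
  have huniq : ∀ (e k : G), (∀ l ∈ K, Commute l e) → k ∈ K → e * k = z → k = z1 := by
    intro e k he hk hek
    refine mul_inv_eq_one.mp (hKZ _ (mul_mem hk (inv_mem hz1K)) fun l hl => ?_)
    have e1 : k * z1⁻¹ = e⁻¹ * d := by
      calc k * z1⁻¹ = e⁻¹ * (e * k) * z1⁻¹ := by group
        _ = e⁻¹ * (d * z1) * z1⁻¹ := by rw [hek, hdz]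
        _ = e⁻¹ * d := by group
    rw [e1]
    exact ((he l hl).inv_right.mul_right (hdK l hl)).symm
  have hzc : ∀ k ∈ K, Commute k z ↔ Commute k z1 := by
    intro k hk
    constructor
    · intro hkz
      have h1 := (hdK k hk).inv_right.mul_right hkz
      rwa [← hdz, inv_mul_cancel_left] at h1
    · intro hkz
      rw [← hdz]
      exact (hdK k hk).mul_right hkz
  have hz1sq : z1 * z1 = 1 := by
    refine hKZ _ (mul_mem hz1K hz1K) fun l hl => ?_
    have e1 : z1 * z1 = (d * d)⁻¹ := by
      rw [eq_inv_iff_mul_eq_one]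
      calc z1 * z1 * (d * d) = z1 * (z1 * d) * d := by group
        _ = z1 * (d * z1) * d := by rw [(hdK z1 hz1K).eq]
        _ = (z1 * d) * (z1 * d) := by group
        _ = 1 := by rw [(hdK z1 hz1K).eq, hdz, h.sq]
    rw [e1]
    exact (((hdK l hl).mul_right (hdK l hl)).inv_right).symm
  have hz1ne : z1 ≠ 1 := fun e => component_not_centralize h hQ2 hK fun k hk =>
    (hzc k hk).mpr (e ▸ Commute.one_right k)
  have hz1inv : z1⁻¹ = z1 := inv_eq_of_mul_eq_one_right hz1sq
  have hz1o : orderOf z1 = 2 := orderOf_eq_prime (by rw [pow_two, hz1sq]) hz1ne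
  have htrans : ∀ L : Subgroup G, IsComponent L →
      ∃ q ∈ Q, K.map (MulAut.conj q).toMonoidHom = L := by
    intro L hL
    by_contra hne
    push Not at hne
    set A := ⨆ q : Q, K.map (MulAut.conj (q : G)).toMonoidHom with hA
    have hQA : Q ≤ normalizer (A : Set G) := by
      rw [le_normalizer_iff]
      intro r hr a ha
      have : A ≤ A.comap (MulAut.conj r).toMonoidHom := iSup_le fun q => by
        rintro _ ⟨k, hk, rfl⟩
        show r * ((q : G) * k * (q : G)⁻¹) * r⁻¹ ∈ A
        refine mem_iSup_of_mem (⟨r * q, mul_mem hr q.2⟩ : Q) ?_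
        exact ⟨k, hk, by simp [mul_assoc]⟩
      exact this ha
    have hKA : K ≤ A := fun k hk => mem_iSup_of_mem (1 : Q) ⟨k, hk, by simp⟩
    have hzA := mem_of_ne_bot h hQ hQA (fun e => IsComponent.ne_bot hK (le_bot_iff.mp (e ▸ hKA)))
    refine component_not_centralize h hQ2 hL fun l hl => ?_
    have hAC : A ≤ centralizer (L : Set G) := iSup_le fun q a ha => mem_centralizer_iff.mpr fun l hl =>
      (hcomm _ L (IsComponent.conj hK _) hL (hne q q.2) a ha l hl).symm
    exact mem_centralizer_iff.mp (hAC hzA) l hl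
  obtain ⟨u, hu, rfl⟩ := htrans L0 hL0
  set K' := K.map (MulAut.conj u).toMonoidHom with hK'
  have hKK' : ∀ a ∈ K, a ∈ K' → a = 1 := fun a ha ha' => hKZ a ha fun l hl =>
    (hcomm K K' hK hL0 (Ne.symm hL0K) l hl a ha').symm
  have huz : Commute u z := h.central u hu
  have hPQ : ∀ k ∈ K, Commute k z → u * k * u⁻¹ * k⁻¹ ∈ Q := fun k hk hkz => by
    rw [show u * k * u⁻¹ * k⁻¹ = u * (k * u⁻¹ * k⁻¹) by group]
    exact mul_mem hu (h.normalizes k hkz _ (inv_mem hu))
  have hsq : ∀ k ∈ K, Commute k z → k * k = 1 ∨ k * k = z1 := by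
    intro k hk hkz
    have hck : Commute (u * k * u⁻¹) k⁻¹ :=
      (hcomm K K' hK hL0 (Ne.symm hL0K) k hk _ (mem_conj_map hk u)).symm.inv_right
    have e1 : (u * k * u⁻¹ * k⁻¹) * (u * k * u⁻¹ * k⁻¹) = u * (k * k) * u⁻¹ * (k * k)⁻¹ := by
      calc _ = u * k * u⁻¹ * (k⁻¹ * (u * k * u⁻¹)) * k⁻¹ := by group
        _ = u * k * u⁻¹ * ((u * k * u⁻¹) * k⁻¹) * k⁻¹ := by rw [hck.eq]
        _ = _ := by group
    have hkk' : u * (k * k) * u⁻¹ ∈ K' := mem_conj_map (mul_mem hk hk) u
    rcases h.sq_cases _ (hPQ k hk hkz) with e | e <;> rw [e1] at e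
    · left
      exact hKK' _ (mul_mem hk hk) (mul_inv_eq_one.mp e ▸ hkk')
    · right
      have h1 := huniq _ _ (fun l hl => hcomm K K' hK hL0 (Ne.symm hL0K) l hl _ hkk')
        (inv_mem (mul_mem hk hk)) e
      rw [← hz1inv, ← h1, inv_inv]
  obtain ⟨S, hS⟩ := hQ2.exists_le_sylow
  set P := (centralizer ({z1} : Set G)).subgroupOf K with hP
  have hPmem : ∀ k : ↥K, k ∈ P ↔ Commute (k : G) z := fun k => by
    rw [hzc k k.2]
    exact mem_centralizer_singleton_iff
  have hP2 : IsPGroup 2 ↥P := fun k => ⟨2, Subtype.ext (Subtype.ext (by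
    have h1 := hsq _ k.1.2 ((hPmem k.1).mp k.2)
    simp only [SubmonoidClass.coe_pow, OneMemClass.coe_one]
    rw [show 2 ^ 2 = 2 + 2 from rfl, pow_add, pow_two]
    rcases h1 with e | e <;> rw [e]
    · rw [one_mul]
    · exact hz1sq))⟩
  have hPidx : ¬ 2 ∣ P.index := by
    have h1 : (S : Subgroup G).relIndex K ∣ (S : Subgroup G).index := by
      refine dvd_trans ?_ (Solvable.relIndex_dvd_index_of_normal_right (S : Subgroup G) (layer G))
      have hn := IsComponent.normal_subgroupOf_layer hK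
      have := Solvable.relIndex_dvd_index_of_normal_right ((S : Subgroup G).subgroupOf (layer G))
        (K.subgroupOf (layer G))
      rwa [relIndex_subgroupOf (IsComponent.le_layer hK)] at this
    have h2 : (S : Subgroup G).subgroupOf K ≤ P := fun k hk =>
      (hPmem k).mpr (commute_of_twoGroup h S.2 hS _ hk)
    exact fun h3 => S.not_dvd_index ((h3.trans (index_dvd_of_le h2)).trans h1)
  have hbig : ∃ k ∈ K, Commute k z ∧ k ≠ 1 ∧ k ≠ z1 := by
    by_contra hno
    push Not at hno
    have : Group.IsPerfect ↥K := IsQuasisimple.isPerfect (IsComponent.isQuasisimple hK)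
    have hz1P : (⟨z1, hz1K⟩ : K) ∈ P := mem_centralizer_singleton_iff.mpr rfl
    refine not_dvd_card_of_isPerfect (K := ↥K) (p := 2)
      (Transfer.hasNormalPComplement_of_normalizer_le_centralizer (hP2.toSylow hPidx) ?_) ?_
    · intro n hn
      have hn1 := (mem_normalizer_iff.mp hn (⟨z1, hz1K⟩ : K)).mp hz1P
      have e1 : n * ⟨z1, hz1K⟩ * n⁻¹ = (⟨z1, hz1K⟩ : K) := by
        refine Subtype.ext (hno _ (n * ⟨z1, hz1K⟩ * n⁻¹ : K).2 ((hPmem _).mp hn1) fun e => hz1ne ?_)
        exact congrArg Subtype.val (conj_eq_one_iff.mp (Subtype.ext e :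
          n * ⟨z1, hz1K⟩ * n⁻¹ = (1 : K)))
      refine mem_centralizer_iff.mpr fun k hk => ?_
      by_cases hk1 : k = 1
      · rw [hk1, one_mul, mul_one]
      · have : k = ⟨z1, hz1K⟩ := Subtype.ext (hno _ k.2 ((hPmem k).mp hk)
          fun e => hk1 (Subtype.ext e))
        rw [this]
        exact (mul_inv_eq_iff_eq_mul.mp e1).symm
    · have h1 := orderOf_dvd_natCard (⟨z1, hz1K⟩ : K)
      rwa [orderOf_mk, hz1o] at h1
  obtain ⟨k, hk, hkz, hk1, hkz1⟩ := hbig
  have hall : ∀ L : Subgroup G, IsComponent L → L = K ∨ L = K' := by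
    intro L hL
    by_contra hno
    push Not at hno
    set a := u * k * u⁻¹ * k⁻¹ with ha
    have hk' : u * k * u⁻¹ ∈ K' := mem_conj_map hk u
    have hcKk' : ∀ l ∈ K, Commute l (u * k * u⁻¹) := fun l hl =>
      hcomm K K' hK hL0 (Ne.symm hL0K) l hl _ hk'
    have ha1 : a ≠ 1 := fun e => hk1 (hKK' k hk (mul_inv_eq_one.mp e ▸ hk'))
    have haz : a ≠ z := fun e => hkz1 (by
      rw [← hz1inv, ← huniq _ _ hcKk' (inv_mem hk) e, inv_inv])
    obtain ⟨y, hy, hya⟩ : ∃ y ∈ Q, y * a * y⁻¹ = a * z := by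
      by_contra hny
      push Not at hny
      rcases h.self a (fun y hy => (mul_inv_eq_iff_eq_mul.mp
        ((h.comm y hy a (hPQ k hk hkz)).resolve_right (hny y hy))).symm) with e | e
      exacts [ha1 e, haz e]
    set J1 := K.map (MulAut.conj y).toMonoidHom with hJ1
    set J2 := K'.map (MulAut.conj y).toMonoidHom with hJ2
    have hout : ∀ J : Subgroup G, IsComponent J → J ≠ J1 → J ≠ J2 →
        ∀ l ∈ J, Commute l (a * z) := by
      intro J hJ h1 h2 l hl
      rw [← hya, show y * a * y⁻¹ = (y * (u * k * u⁻¹) * y⁻¹) * (y * k * y⁻¹)⁻¹ by rw [ha]; group]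
      exact (hcomm J J2 hJ (IsComponent.conj hL0 y) h2 l hl _ (mem_conj_map hk' y)).mul_right
        (hcomm J J1 hJ (IsComponent.conj hK y) h1 l hl _ (mem_conj_map hk y)).inv_right
    have hnL : ¬ ∀ l ∈ L, Commute l (a * z) := by
      intro hc
      refine component_not_centralize h hQ2 hL fun l hl => ?_
      have h1 : Commute l a :=
        (hcomm L K' hL hL0 hno.2 l hl _ hk').mul_right (hcomm L K hL hK hno.1 l hl k hk).inv_right
      have h2 := h1.inv_right.mul_right (hc l hl)
      rwa [inv_mul_cancel_left] at h2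
    have hnK : ¬ ∀ l ∈ K, Commute l (a * z) := by
      intro hc
      have e1 : a * z = u * k * u⁻¹ * d * (k⁻¹ * z1) := by
        rw [ha, ← hdz]
        calc u * k * u⁻¹ * k⁻¹ * (d * z1) = u * k * u⁻¹ * (k⁻¹ * d) * z1 := by group
          _ = u * k * u⁻¹ * (d * k⁻¹) * z1 := by rw [(hdK _ (inv_mem hk)).eq]
          _ = _ := by group
      refine hkz1 (inv_mul_eq_one.mp (hKZ _ (mul_mem (inv_mem hk) hz1K) fun l hl => ?_))
      have h1 := ((hcKk' l hl).mul_right (hdK l hl)).inv_right.mul_right (e1 ▸ hc l hl)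
      rw [inv_mul_cancel_left] at h1
      exact h1.symm
    have hnK' : ¬ ∀ l ∈ K', Commute l (a * z) := by
      intro hc
      have hK'' : ∀ l ∈ K, Commute l (u⁻¹ * k⁻¹ * u) := fun l hl => by
        have h1 := (hcomm K' K hL0 hK hL0K _ (mem_conj_map hl u) _ (inv_mem hk)).map
          (MulAut.conj u⁻¹).toMonoidHom
        simpa [mul_assoc] using h1
      have e1 : u⁻¹ * (a * z) * u = u⁻¹ * k⁻¹ * u * d * (k * z1) := by
        have hz' : u⁻¹ * z * u = z := by rw [mul_assoc, ← huz.eq, inv_mul_cancel_left]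
        calc u⁻¹ * (a * z) * u = k * (u⁻¹ * k⁻¹ * u) * (u⁻¹ * z * u) := by rw [ha]; group
          _ = u⁻¹ * k⁻¹ * u * k * (d * z1) := by rw [hz', ← hdz, (hK'' k hk).eq]
          _ = u⁻¹ * k⁻¹ * u * (k * d) * z1 := by group
          _ = u⁻¹ * k⁻¹ * u * (d * k) * z1 := by rw [(hdK k hk).eq]
          _ = _ := by group
      have hz1' : k * z1 = 1 := hKZ _ (mul_mem hk hz1K) fun l hl => by
        have h0 := (hc _ (mem_conj_map hl u)).map (MulAut.conj u⁻¹).toMonoidHom
        have h0' : Commute l (u⁻¹ * (a * z) * u) := by simpa [mul_assoc] using h0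
        rw [e1] at h0'
        have h1 := ((hK'' l hl).mul_right (hdK l hl)).inv_right.mul_right h0'
        rw [inv_mul_cancel_left] at h1
        exact h1.symm
      exact hkz1 (by rw [eq_inv_of_mul_eq_one_left hz1', hz1inv])
    by_cases hLJ : L = J1 ∨ L = J2
    · by_cases hKJ : K = J1 ∨ K = J2
      · refine hnK' (hout K' hL0 (fun e => ?_) fun e => ?_) <;>
          rcases hKJ with e1 | e1 <;> rcases hLJ with e2 | e2
        all_goals
          first
            | exact hL0K (e.trans e1.symm)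
            | exact hno.2 (e2.trans e.symm)
            | exact hno.1 (e2.trans e1.symm)
      · push Not at hKJ
        exact hnK (hout K hK hKJ.1 hKJ.2)
    · push Not at hLJ
      exact hnL (hout L hL hLJ.1 hLJ.2)
  have hEsup : K ⊔ K' = layer G := le_antisymm
    (sup_le (IsComponent.le_layer hK) (IsComponent.le_layer hL0))
    (sSup_le fun L hL => by
      rcases hall L hL with e | e <;> rw [e]
      exacts [le_sup_left, le_sup_right])
  refine Or.inr (Or.inr (Or.inr ⟨by rw [hF2, hME], K, u, hu, hKsimple, hKnc,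
    (eq_bot_iff_forall _).mpr fun a ha => hKK' a ha.1 ha.2,
    fun a ha b hb => hcomm K K' hK hL0 (Ne.symm hL0K) a ha b hb, hEsup.trans hME.symm,
    z1, hz1K, ?_, ⟨hP2.toSylow hPidx, rfl, ?_⟩, ?_⟩))
  · -- `z = z1 * z1^u`
    have hd' : d ∈ K' := by
      have hdE : d ∈ K ⊔ K' := by
        rw [hEsup, eq_mul_inv_of_mul_eq hdz]
        exact mul_mem hzE (inv_mem (IsComponent.le_layer hK hz1K))
      obtain ⟨a, ha, b, hb, hab⟩ :=
        (Coprime.mem_sup_iff_of_le_normalizer (IsComponent.le_normalizer hK hL0)).mp hdE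
      have ha1 : a = 1 := hKZ a ha fun l hl => by
        rw [eq_mul_inv_of_mul_eq hab]
        exact ((hdK l hl).mul_right (hcomm K K' hK hL0 (Ne.symm hL0K) l hl b hb).inv_right).symm
      rw [← hab, ha1, one_mul]
      exact hb
    have huu : ∀ l ∈ K, (u * u) * l * (u * u)⁻¹ ∈ K := fun l hl => by
      rcases h.sq_cases u hu with e | e <;> rw [e]
      · simpa using hl
      · rw [← hdz]
        have h1 : z1 * l * z1⁻¹ ∈ K := mul_mem (mul_mem hz1K hl) (inv_mem hz1K)
        convert h1 using 1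
        calc d * z1 * l * (d * z1)⁻¹ = d * (z1 * l * z1⁻¹) * d⁻¹ := by group
          _ = _ := by rw [← (hdK _ h1).eq, mul_inv_cancel_right]
    have hdu : u * d * u⁻¹ ∈ K := by
      obtain ⟨l, hl, rfl⟩ := hd'
      simpa [mul_assoc] using huu l hl
    have hsum : (u * z1 * u⁻¹) * (u * d * u⁻¹) = z := by
      calc _ = u * (z1 * d) * u⁻¹ := by group
        _ = u * z * u⁻¹ := by rw [(hdK z1 hz1K).eq, hdz]
        _ = z := by rw [huz.eq, mul_inv_cancel_right]
    have hc1 : ∀ l ∈ K, Commute l (u * z1 * u⁻¹) := fun l hl =>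
      hcomm K K' hK hL0 (Ne.symm hL0K) l hl _ (mem_conj_map hz1K u)
    rw [huniq _ _ hc1 hdu hsum] at hsum
    rw [(hc1 z1 hz1K).eq]
    exact hsum.symm
  · rw [map_le_iff_le_comap]
    have hPsub : ∀ x : ↥((hP2.toSylow hPidx : Sylow 2 ↥K) : Subgroup ↥K), x ^ 2 ∈
        (zpowers z1).comap ((K.subtype).comp
          ((hP2.toSylow hPidx : Sylow 2 ↥K) : Subgroup ↥K).subtype) := fun x => by
      show ((x : ↥K) : G) ^ 2 ∈ zpowers z1
      rw [pow_two]
      rcases hsq _ x.1.2 ((hPmem x.1).mp x.2) with e | e <;> rw [e]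
      exacts [one_mem _, mem_zpowers z1]
    refine PGroup.frattini_le ?_ hPsub
    exact commutator_le_of_sq_mem _ hPsub
  · intro hQeq
    have hKQ : ∀ l ∈ K, Commute l z → l ∈ Q := by
      intro l hl hlz
      set C := centralizer ({z} : Set G)
      have hs : (K.subgroupOf C).IsSubnormal := (IsComponent.isSubnormal hK).subgroupOf
      have hp' : IsPGroup 2 ↥(K.subgroupOf C) := fun c => by
        refine ⟨2, Subtype.ext (Subtype.ext ?_)⟩
        have h1 : ((c : C) : G) * c = 1 ∨ ((c : C) : G) * c = z1 :=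
          hsq _ c.2 (mem_centralizer_singleton_iff.mp c.1.2)
        simp only [SubmonoidClass.coe_pow, OneMemClass.coe_one]
        rw [show 2 ^ 2 = 2 + 2 from rfl, pow_add, pow_two]
        rcases h1 with e | e <;> rw [e]
        · rw [one_mul]
        · exact hz1sq
      rw [hQeq]
      exact ⟨⟨l, mem_centralizer_singleton_iff.mpr hlz⟩,
        LocalStructure.le_pCore_of_isSubnormal hs hp' hl, rfl⟩
    have hk' : u * k * u⁻¹ ∈ K' := mem_conj_map hk u
    rcases h.comm u hu k (hKQ k hk hkz) with e | e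
    · exact hk1 (hKK' k hk (e ▸ hk'))
    · refine hkz1 ?_
      have e1 : u * k * u⁻¹ * k⁻¹ = z := by rw [e, (hkz).eq, mul_inv_cancel_right]
      rw [← hz1inv, ← huniq _ _ (fun l hl => hcomm K K' hK hL0 (Ne.symm hL0K) l hl _ hk')
        (inv_mem hk) e1, inv_inv]

end Cfsg.Agent.S5426
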