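import Cfsg.Statements.S5433
-- import your own Cfsg.Agent.* helpers here

set_option autoImplicit false
open Cfsg

namespace Cfsg.Agent.S5433

/-- Let Q be a large extraspecial 2-subgroup of the finite group G (extraspecial; centralizer equal to its centre; normal in the centralizer of its centre; normalizing no non-trivial subgroup of odd order), and L a normal subgroup of G containing Q. Then G is the product of L and the normalizer of Q. -/
theorem result {G : Type*} [Group G] [Finite G] (Q : Subgroup G) (hQ : Cfsg.IsLargeExtraspecial Q) (L : Subgroup G) [L.Normal] (hQL : Q ≤ L) : L ⊔ Subgroup.normalizer (Q : Set G) = ⊤ := by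
  haveI : Fact (Nat.Prime 2) := ⟨Nat.prime_two⟩
  have hQL0 := hQL
  obtain ⟨⟨⟨hQp, -, -⟩, hcard⟩, hC, hN, -⟩ := hQ
  have hQL : IsPGroup 2 ↥(Q.subgroupOf L) :=
    hQp.of_equiv (Subgroup.subgroupOfEquivOfLe hQL).symm
  obtain ⟨S, hS⟩ := hQL.exists_le_sylow
  set T : Subgroup G := (S : Subgroup L).map L.subtype with hT
  have hQT : Q ≤ T := fun q hq => ⟨⟨q, hQL0 hq⟩, hS hq, rfl⟩
  have hTp : IsPGroup 2 ↥T := S.isPGroup'.map L.subtype
  set Z : Subgroup G := (Subgroup.center ↥Q).map Q.subtype with hZ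
  have hZcard : Nat.card ↥Z = 2 := by
    rw [hZ, Subgroup.card_map_of_injective Q.subtype_injective]; exact hcard
  have hQne : Nontrivial ↥T := by
    by_contra h
    rw [not_nontrivial_iff_subsingleton] at h
    have h1 : Nat.card ↥T = 1 := Nat.card_of_subsingleton 1
    have h2 : Nat.card ↥Z ≤ Nat.card ↥T :=
      Subgroup.card_le_of_le ((Subgroup.map_subtype_le _).trans hQT)
    omega
  have hCT : (Subgroup.center ↥T).map T.subtype = Z := by
    refine Subgroup.eq_of_le_of_card_ge ?_ ?_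
    · rw [← hC]
      rintro _ ⟨t, ht, rfl⟩ q hq
      exact congrArg Subtype.val (Subgroup.mem_center_iff.mp ht ⟨q, hQT hq⟩)
    · rw [hZcard, Subgroup.card_map_of_injective T.subtype_injective]
      exact Finite.one_lt_card_iff_nontrivial.mpr hTp.center_nontrivial
  have hle : Subgroup.normalizer (T : Set G) ≤ Subgroup.normalizer (Q : Set G) := by
    refine le_trans ?_ hN
    intro g hg y hy
    have hgZ : ∀ w ∈ Z, g * w * g⁻¹ ∈ Z := by
      rw [← hCT]
      rintro _ ⟨t, ht, rfl⟩
      refine ⟨⟨g * t * g⁻¹, (Subgroup.mem_normalizer_iff.mp hg t).mp t.2⟩, ?_, rfl⟩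
      refine Subgroup.mem_center_iff.mpr fun s => Subtype.ext ?_
      have hs : g⁻¹ * s * g ∈ T := by
        have := (Subgroup.mem_normalizer_iff.mp hg (g⁻¹ * s * g)).mpr (by simp [mul_assoc])
        exact this
      have h := congrArg Subtype.val (Subgroup.mem_center_iff.mp ht ⟨_, hs⟩)
      simp only [Subgroup.coe_mul] at h ⊢
      calc (s : G) * (g * t * g⁻¹) = g * ((g⁻¹ * s * g) * t) * g⁻¹ := by group
        _ = g * (t * (g⁻¹ * s * g)) * g⁻¹ := by rw [h]
        _ = g * t * g⁻¹ * s := by group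
    by_cases h1 : y = 1
    · simp [h1]
    · obtain ⟨a, b, hab, huniv⟩ := Nat.card_eq_two_iff.mp hZcard
      have e1 : (⟨g * y * g⁻¹, hgZ y hy⟩ : ↥Z) ≠ 1 := by simp [Subtype.ext_iff, h1]
      have e2 : (⟨y, hy⟩ : ↥Z) ≠ 1 := by simp [Subtype.ext_iff, h1]
      have key : ∀ c : ↥Z, c = a ∨ c = b := fun c => by
        have : c ∈ ({a, b} : Set ↥Z) := huniv ▸ Set.mem_univ c
        simpa using this
      have : (⟨g * y * g⁻¹, hgZ y hy⟩ : ↥Z) = ⟨y, hy⟩ := by
        rcases key 1 with o | o <;> rcases key ⟨g * y * g⁻¹, hgZ y hy⟩ with u | u <;>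
          rcases key ⟨y, hy⟩ with v | v <;> simp_all
      exact (mul_inv_eq_iff_eq_mul.mp (congrArg Subtype.val this)).symm
  rw [eq_top_iff, ← Sylow.normalizer_sup_eq_top S, sup_comm]
  exact sup_le_sup_left hle L

end Cfsg.Agent.S5433
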