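import Cfsg.Statements.S5436
import Cfsg.Agent.Lib.Components.GenFitting
import Cfsg.Agent.Lib.Coprime.Generation
import Cfsg.Agent.Lib.LargeExtraspecial.Setting
import Cfsg.Agent.S5426
import Cfsg.Agent.S5433
-- import your own Cfsg.Agent.* helpers here

set_option autoImplicit false
open Cfsg

namespace Cfsg.Agent.S5436

open Cfsg.Agent.Components Cfsg.Agent Subgroup
open scoped commutatorElement

variable {G : Type*} [Group G] [Finite G] {Q : Subgroup G} {z : G}

/-- With a second conjugate of `z` in `Q`, no nontrivial odd order subgroup is normalised by `Q`. -/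
theorem odd_eq_bot (h : LargeExtraspecial.Hub Q z) (hQ2 : IsPGroup 2 ↥Q) (h32 : 32 ≤ Nat.card ↥Q)
    {g : G} (hgQ : g * z * g⁻¹ ∈ Q) (hne : g * z * g⁻¹ ≠ z) {K : Subgroup G}
    (hK : Odd (Nat.card ↥K)) (hQK : Q ≤ normalizer (K : Set G)) : K = ⊥ := by
  have : Fact (Nat.Prime 2) := ⟨Nat.prime_two⟩
  set y := g * z * g⁻¹ with hy
  have h' := h.conj g
  rw [← hy] at h'
  have hzy : Commute z y := (h.central y hgQ).symm
  have hconj : ∀ g' : G, g' * z * g'⁻¹ ∈ Q → g' * z * g'⁻¹ ≠ z →
      z ∈ Q.map (MulAut.conj g').toMonoidHom := fun g' h1 h2 =>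
    h.self_mem_conj g' h1 h2 (h.exists_noncommuting_pair h32 h1 (h.conj g').sq)
  obtain ⟨r, hr, hyr⟩ := h.exists_not_commute h'.ne_one hne
  have hry : r * y * r⁻¹ = y * z := (h.comm r hr y hgQ).resolve_left fun e =>
    hyr (mul_inv_eq_iff_eq_mul.mp e).symm
  obtain ⟨n, hn⟩ := hQ2.exists_card_eq
  have hfix : ∀ k ∈ K, Commute k z → k = 1 := by
    intro k hk hkz
    have hQc := h.commute_of_odd_normalized hQ2 le_rfl hK hQK hk hkz
    refine orderOf_eq_one_iff.mp (Nat.eq_one_of_dvd_coprimes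
      (show (Nat.card ↥K).Coprime 2 from hK.coprime_two_right) (Subgroup.orderOf_dvd_natCard _ hk) ?_)
    refine orderOf_dvd_of_pow_eq_one ?_
    rcases h.self k hQc with e | e <;> rw [e, pow_two]
    · rw [one_mul]
    · exact h.sq
  have hfixy : ∀ g' : G, g' * z * g'⁻¹ ∈ Q → g' * z * g'⁻¹ ≠ z →
      ∀ k ∈ K, Commute k (g' * z * g'⁻¹) → k = 1 := by
    intro g' hg' hne k hk hky
    refine hfix k hk ?_
    exact (h.conj g').commute_of_odd_normalized (hQ2.map _)
      (R := zpowers z) (zpowers_le.mpr (hconj g' hg' hne)) hK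
      (zpowers_le.mpr (hQK h.mem)) hk hky z (mem_zpowers z)
  set V := closure ({z, y} : Set G) with hV
  have : IsMulCommutative ↥V := isMulCommutative_closure (by
    rintro u (rfl | rfl) v (rfl | rfl) <;> first | rfl | exact hzy | exact hzy.symm)
  have hVle : V ≤ Q := (closure_le Q).mpr (by
    rintro u (rfl | rfl)
    exacts [h.mem, hgQ])
  have hV4 : ∀ v ∈ V, v = 1 ∨ v = z ∨ v = y ∨ v = z * y := fun v hv =>
    LargeExtraspecial.mem_four h.sq h'.sq hzy hv
  have hVnc : ¬ IsCyclic ↥V := by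
    intro hcyc
    obtain ⟨⟨v, hv⟩, hgen⟩ := hcyc.exists_generator
    have hv2 : v * v = 1 := by
      rcases hV4 v hv with e | e | e | e <;> rw [e]
      · rw [one_mul]
      · exact h.sq
      · exact h'.sq
      · calc z * y * (z * y) = z * (y * z) * y := by group
          _ = (z * z) * (y * y) := by rw [← hzy.eq]; group
          _ = 1 := by rw [h.sq, h'.sq, one_mul]
    have hall : ∀ u ∈ V, u = 1 ∨ u = v := by
      intro u hu
      obtain ⟨i, hi⟩ := mem_zpowers_iff.mp (hgen ⟨u, hu⟩)
      have e : v ^ i = u := congrArg Subtype.val hi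
      rw [← e]
      rcases Int.even_or_odd i with ⟨m, rfl⟩ | ⟨m, rfl⟩
      · left; rw [← two_mul, zpow_mul, zpow_two, hv2, one_zpow]
      · right; rw [zpow_add, zpow_one, zpow_mul, zpow_two, hv2, one_zpow, one_mul]
    have hz' := (hall z (subset_closure (Or.inl rfl))).resolve_left h.ne_one
    have hy' := (hall y (subset_closure (Or.inr rfl))).resolve_left h'.ne_one
    exact hne (hy'.trans hz'.symm)
  have hcopV : (Nat.card ↥V).Coprime (Nat.card ↥K) := by
    obtain ⟨m, hm⟩ := (hQ2.to_le hVle).exists_card_eq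
    rw [hm]
    exact hK.coprime_two_right.symm.pow_left m
  symm
  refine Coprime.eq_of_forall_centralizer_le hVnc (hVle.trans hQK) hcopV bot_le fun v hv hv1 => ?_
  intro k hk
  have hkv : Commute k v := mem_centralizer_singleton_iff.mp hk.2
  rw [mem_bot]
  rcases hV4 v hv with e | e | e | e <;> subst e
  · exact absurd rfl hv1
  · exact hfix k hk.1 hkv
  · exact hfixy g hgQ hne k hk.1 hkv
  · have e1 : r * g * z * (r * g)⁻¹ = z * y := by
      rw [show r * g * z * (r * g)⁻¹ = r * (g * z * g⁻¹) * r⁻¹ by group, ← hy, hry, hzy.eq]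
    refine hfixy (r * g) ?_ ?_ k hk.1 ?_
    · rw [e1]; exact mul_mem h.mem hgQ
    · rw [e1]; intro e2; exact h'.ne_one (mul_eq_left.mp e2)
    · rw [e1]; exact hkv

/-- Let z be an involution of the finite group G with centralizer H whose generalized Fitting subgroup Q is extraspecial of width at least 2 (order 2^(2w+1), w ≥ 2); suppose some conjugate of z other than z lies in Q, H/Q is a non-abelian simple group, H acts irreducibly by conjugation on Q modulo the subgroup generated by z (the only H-invariant subgroups of Q containing z are that subgroup and Q), and Q is not the subgroup generated by the conjugates of z lying in H. Then G is simple. -/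
theorem result {G : Type*} [Group G] [Finite G] (z : G) (hz : orderOf z = 2) (Q : Subgroup (Subgroup.centralizer ({z} : Set G))) [Q.Normal] (hF : Cfsg.generalizedFittingSubgroup ↥(Subgroup.centralizer ({z} : Set G)) = Q) (hQ : Cfsg.IsExtraspecial 2 ↥Q) (w : ℕ) (hw : 2 ≤ w) (hcard : Nat.card ↥Q = 2 ^ (2 * w + 1)) (hnwc : ∃ g : G, (∃ hq : g * z * g⁻¹ ∈ Subgroup.centralizer ({z} : Set G), (⟨g * z * g⁻¹, hq⟩ : Subgroup.centralizer ({z} : Set G)) ∈ Q) ∧ g * z * g⁻¹ ≠ z) (hsimp : IsSimpleGroup (↥(Subgroup.centralizer ({z} : Set G)) ⧸ Q)) (hna : ¬ IsMulCommutative (↥(Subgroup.centralizer ({z} : Set G)) ⧸ Q)) (hirr : ∀ W : Subgroup (Subgroup.centralizer ({z} : Set G)), W.Normal → W ≤ Q → (W = Q ∨ ∀ x ∈ W, (x : G) ∈ Subgroup.zpowers z)) (hwcl : Subgroup.closure {x : Subgroup.centralizer ({z} : Set G) | IsConj z (x : G)} ≠ Q) : IsSimpleGroup G := by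
  have : Fact (Nat.Prime 2) := ⟨Nat.prime_two⟩
  set Q₀ := Q.map (centralizer ({z} : Set G)).subtype with hQ0
  have hQC : Q₀ ≤ (centralizer ({z} : Set G)) := map_subtype_le Q
  have hQ' : Cfsg.IsExtraspecial 2 ↥Q₀ :=
    TI.isExtraspecial_congr (Q.equivMapOfInjective (centralizer ({z} : Set G)).subtype (centralizer ({z} : Set G)).subtype_injective) hQ
  obtain ⟨h, hZ, hCQ⟩ := LargeExtraspecial.Hub.of_setting hz hQC (by rw [hF]) hQ'
  obtain ⟨g, ⟨hgH, hgQ⟩, hgne⟩ := hnwc
  have hgQ0 : g * z * g⁻¹ ∈ Q₀ := ⟨_, hgQ, rfl⟩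
  have h32 : 32 ≤ Nat.card ↥Q₀ := by
    rw [hQ0, card_map_of_injective (centralizer ({z} : Set G)).subtype_injective, hcard]
    calc 32 = 2 ^ 5 := rfl
      _ ≤ 2 ^ (2 * w + 1) := Nat.pow_le_pow_right two_pos (by omega)
  have hHn : (centralizer ({z} : Set G)) ≤ normalizer (Q₀ : Set G) := by
    refine le_trans ?_ (Q.le_normalizer_map (centralizer ({z} : Set G)).subtype)
    rw [normalizer_eq_top, ← MonoidHom.range_eq_map, range_subtype]
  have hlarge : Cfsg.IsLargeExtraspecial Q₀ := by
    refine ⟨hQ', hCQ.trans hZ.symm, ?_, fun K hK hQK =>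
      odd_eq_bot h hQ'.1.1 h32 hgQ0 hgne hK hQK⟩
    rw [hZ]
    exact (centralizer_le (Set.singleton_subset_iff.mpr (mem_zpowers z))).trans hHn
  set M := normalClosure ({z} : Set G) with hM
  have hMn : M.Normal := normalClosure_normal
  have hzM : z ∈ M := subset_normalClosure rfl
  have hgM : g * z * g⁻¹ ∈ M := hMn.conj_mem z hzM g
  have hQne : ∀ W : Subgroup (centralizer ({z} : Set G)), W.Normal → W ≤ Q → (⟨_, hgH⟩ : (centralizer ({z} : Set G))) ∈ W → W = Q := fun W hW hWQ hgW =>
    (hirr W hW hWQ).resolve_right fun hall => by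
      have h1 : g * z * g⁻¹ ∈ zpowers z := hall _ hgW
      obtain ⟨i, hi⟩ := mem_zpowers_iff.mp h1
      have hsq := h.sq
      rcases Int.even_or_odd i with ⟨m, rfl⟩ | ⟨m, rfl⟩
      · rw [← two_mul, zpow_mul, zpow_two, hsq, one_zpow] at hi
        exact h.ne_one (conj_eq_one_iff.mp hi.symm)
      · rw [zpow_add, zpow_one, zpow_mul, zpow_two, hsq, one_zpow, one_mul] at hi
        exact hgne hi.symm
  have hMH : (M.subgroupOf (centralizer ({z} : Set G))).Normal := inferInstance
  have hQM : Q ≤ M.subgroupOf (centralizer ({z} : Set G)) := by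
    have := hQne (M.subgroupOf (centralizer ({z} : Set G)) ⊓ Q) inferInstance inf_le_right ⟨hgM, hgQ⟩
    exact fun x hx => (show x ∈ M.subgroupOf (centralizer ({z} : Set G)) ⊓ Q from this.symm ▸ hx).1
  have hHM : (centralizer ({z} : Set G)) ≤ M := by
    set Mb := (M.subgroupOf (centralizer ({z} : Set G))).map (QuotientGroup.mk' Q) with hMb
    have hMbn : Mb.Normal := hMH.map _ (QuotientGroup.mk'_surjective Q)
    have hcm : Mb.comap (QuotientGroup.mk' Q) = M.subgroupOf (centralizer ({z} : Set G)) := by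
      rw [hMb, comap_map_eq, QuotientGroup.ker_mk', sup_eq_left.mpr hQM]
    rcases IsSimpleGroup.eq_bot_or_eq_top_of_normal Mb hMbn with e | e
    · exfalso
      rw [e, MonoidHom.comap_bot, QuotientGroup.ker_mk'] at hcm
      refine hwcl ?_
      set S := {x : (centralizer ({z} : Set G)) | IsConj z (x : G)} with hS
      have hSQ : closure S ≤ Q := by
        rw [closure_le]
        intro x hx
        obtain ⟨c, hc⟩ := isConj_iff.mp hx
        show x ∈ Q
        rw [hcm]
        show (x : G) ∈ M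
        rw [← hc]
        exact hMn.conj_mem z hzM c
      have hSn : (closure S).Normal := by
        refine ⟨fun x hx a => ?_⟩
        have hle : closure S ≤ (closure S).comap (MulAut.conj a).toMonoidHom := (closure_le _).mpr
          fun x hx => subset_closure (show IsConj z ((a * x * a⁻¹ : (centralizer ({z} : Set G))) : G) from
            (hx : IsConj z (x : G)).trans (isConj_iff.mpr ⟨(a : G), rfl⟩))
        exact hle hx
      exact hQne _ hSn hSQ (subset_closure (isConj_iff.mpr ⟨g, rfl⟩))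
    · rw [e, comap_top] at hcm
      exact subgroupOf_eq_top.mp hcm.symm
  have htop : M = ⊤ := by
    refine top_le_iff.mp ?_
    rw [← S5433.result Q₀ hlarge M ((hQC).trans hHM)]
    refine sup_le le_rfl (le_trans ?_ hHM)
    intro n hn
    rw [mem_centralizer_singleton_iff]
    have hzc : n * z * n⁻¹ ∈ centralizer (Q₀ : Set G) := by
      refine mem_centralizer_iff.mpr fun q hq => ?_
      have hq' : n⁻¹ * q * n ∈ Q₀ := (mem_normalizer_iff.mp hn _).mpr (by simpa [mul_assoc] using hq)
      have h1 := (h.central _ hq').map (MulAut.conj n).toMonoidHom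
      simpa [mul_assoc] using h1.eq
    rw [hCQ] at hzc
    obtain ⟨i, hi⟩ := mem_zpowers_iff.mp hzc
    rcases Int.even_or_odd i with ⟨m, rfl⟩ | ⟨m, rfl⟩
    · rw [← two_mul, zpow_mul, zpow_two, h.sq, one_zpow] at hi
      exact absurd (conj_eq_one_iff.mp hi.symm) h.ne_one
    · rw [zpow_add, zpow_one, zpow_mul, zpow_two, h.sq, one_zpow, one_mul] at hi
      exact mul_inv_eq_iff_eq_mul.mp hi.symm
  have hzcen : z ∉ center G := fun hc => hgne (by
    rw [mem_center_iff.mp hc g, mul_inv_cancel_right])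
  rcases S5426.result Q₀ hlarge z hZ M rfl with hn | ⟨hab, -⟩ | ⟨-, hsim, -⟩ |
      ⟨-, L, u, hu, hsimL, -, hdis, hcom, hsup, -⟩
  · exfalso
    refine hzcen (mem_center_iff.mpr fun c => ?_)
    have hcq : c * z * c⁻¹ ∈ Q₀ := hn.conj_mem z h.mem c
    have hcc : c * z * c⁻¹ ∈ centralizer (Q₀ : Set G) := by
      refine mem_centralizer_iff.mpr fun q hq => ?_
      have hq' : c⁻¹ * q * c ∈ Q₀ := by simpa using hn.conj_mem q hq c⁻¹
      have h1 := (h.central _ hq').map (MulAut.conj c).toMonoidHom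
      simpa [mul_assoc] using h1.eq
    rw [hCQ] at hcc
    obtain ⟨i, hi⟩ := mem_zpowers_iff.mp hcc
    rcases Int.even_or_odd i with ⟨m, rfl⟩ | ⟨m, rfl⟩
    · rw [← two_mul, zpow_mul, zpow_two, h.sq, one_zpow] at hi
      exact absurd (conj_eq_one_iff.mp hi.symm) h.ne_one
    · rw [zpow_add, zpow_one, zpow_mul, zpow_two, h.sq, one_zpow, one_mul] at hi
      exact mul_inv_eq_iff_eq_mul.mp hi.symm
  · exfalso
    refine hzcen (mem_center_iff.mpr fun c => ?_)
    exact congrArg Subtype.val (hab.is_comm.comm (⟨c, htop ▸ mem_top c⟩ : M) ⟨z, hzM⟩)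
  · have e : ↥M ≃* G := (MulEquiv.subgroupCongr htop).trans Subgroup.topEquiv
    have : Nontrivial G := ⟨⟨z, 1, h.ne_one⟩⟩
    exact IsSimpleGroup.isSimpleGroup_of_surjective e.toMonoidHom e.surjective
  · exfalso
    have hLn : ∀ a : G, a ∈ normalizer (L : Set G) := by
      intro a
      have ha : a ∈ L ⊔ L.map (MulAut.conj u).toMonoidHom := hsup.symm ▸ htop ▸ mem_top a
      refine (sup_le le_normalizer (fun b hb => ?_) : L ⊔ _ ≤ normalizer (L : Set G)) ha
      exact centralizer_le_normalizer _ (mem_centralizer_iff.mpr fun l hl => hcom l hl b hb)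
    have : Nontrivial ↥L := inferInstance
    refine (nontrivial_iff_ne_bot L).mp this ?_
    have : L.map (MulAut.conj u).toMonoidHom = L := by
      refine eq_of_le_of_card_ge ?_ (le_of_eq ?_)
      · rintro _ ⟨l, hl, rfl⟩
        exact (mem_normalizer_iff.mp (hLn u) l).mp hl
      · rw [card_map_of_injective (MulEquiv.injective _)]
    rwa [this, inf_idem] at hdis

end Cfsg.Agent.S5436
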