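import Cfsg.Statements.S5427
import Cfsg.Agent.Lib.Components.GenFitting
import Cfsg.Agent.Lib.Coprime.Generation
import Cfsg.Agent.Lib.LargeExtraspecial.Basic
import Cfsg.Agent.Lib.LargeExtraspecial.Setting
import Cfsg.Agent.S5426
import Cfsg.Agent.S5433
import Cfsg.Agent.S5436
-- import your own Cfsg.Agent.* helpers here

set_option autoImplicit false
open Cfsg

namespace Cfsg.Agent.S5427

open Cfsg.Agent.Components Cfsg.Agent Subgroup
open scoped commutatorElement

variable {G : Type*} [Group G] [Finite G] {Q : Subgroup G} {z : G}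

/-- An odd order subgroup normalised by a four group with fixed-point-free involutions is trivial. -/
theorem eq_bot_of_four {K : Subgroup G} (hK : Odd (Nat.card ↥K)) {a b : G} (ha : a * a = 1)
    (hb : b * b = 1) (hab : Commute a b) (ha1 : a ≠ 1) (hb1 : b ≠ 1) (hne : a ≠ b)
    (haK : a ∈ normalizer (K : Set G)) (hbK : b ∈ normalizer (K : Set G))
    (ca : ∀ k ∈ K, Commute k a → k = 1) (cb : ∀ k ∈ K, Commute k b → k = 1)
    (cab : ∀ k ∈ K, Commute k (a * b) → k = 1) : K = ⊥ := by
  set V := closure ({a, b} : Set G) with hV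
  have : IsMulCommutative ↥V := isMulCommutative_closure (by
    rintro u (rfl | rfl) v (rfl | rfl) <;> first | rfl | exact hab | exact hab.symm)
  have hV4 : ∀ v ∈ V, v = 1 ∨ v = a ∨ v = b ∨ v = a * b := fun v hv =>
    LargeExtraspecial.mem_four ha hb hab hv
  have hsq : ∀ v ∈ V, v * v = 1 := by
    intro v hv
    rcases hV4 v hv with e | e | e | e <;> rw [e]
    · rw [one_mul]
    · exact ha
    · exact hb
    · calc a * b * (a * b) = a * (b * a) * b := by group
        _ = (a * a) * (b * b) := by rw [← hab.eq]; group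
        _ = 1 := by rw [ha, hb, one_mul]
  have hVnc : ¬ IsCyclic ↥V := by
    intro hcyc
    obtain ⟨⟨v, hv⟩, hgen⟩ := hcyc.exists_generator
    have hall : ∀ u ∈ V, u = 1 ∨ u = v := by
      intro u hu
      obtain ⟨i, hi⟩ := mem_zpowers_iff.mp (hgen ⟨u, hu⟩)
      have e : v ^ i = u := congrArg Subtype.val hi
      rw [← e]
      rcases Int.even_or_odd i with ⟨m, rfl⟩ | ⟨m, rfl⟩
      · left; rw [← two_mul, zpow_mul, zpow_two, hsq v hv, one_zpow]
      · right; rw [zpow_add, zpow_one, zpow_mul, zpow_two, hsq v hv, one_zpow, one_mul]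
    exact hne (((hall a (subset_closure (Or.inl rfl))).resolve_left ha1).trans
      ((hall b (subset_closure (Or.inr rfl))).resolve_left hb1).symm)
  have hV2 : IsPGroup 2 ↥V := fun v => ⟨1, Subtype.ext (by
    rw [pow_one, SubmonoidClass.coe_pow, OneMemClass.coe_one, pow_two]; exact hsq v v.2)⟩
  have hcopV : (Nat.card ↥V).Coprime (Nat.card ↥K) := by
    have : Fact (Nat.Prime 2) := ⟨Nat.prime_two⟩
    obtain ⟨m, hm⟩ := hV2.exists_card_eq
    rw [hm]
    exact hK.coprime_two_right.symm.pow_left m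
  have hVN : V ≤ normalizer (K : Set G) := (closure_le _).mpr (by
    rintro u (rfl | rfl)
    exacts [haK, hbK])
  symm
  refine Coprime.eq_of_forall_centralizer_le hVnc hVN hcopV bot_le fun v hv hv1 => ?_
  intro k hk
  have hkv : Commute k v := mem_centralizer_singleton_iff.mp hk.2
  rw [mem_bot]
  rcases hV4 v hv with e | e | e | e <;> subst e
  · exact absurd rfl hv1
  · exact ca k hk.1 hkv
  · exact cb k hk.1 hkv
  · exact cab k hk.1 hkv

/-- An odd order subgroup commutes with the `2`-core of the centraliser of a centralised element. -/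
theorem commute_of_core {u x : G} {K : Subgroup G} (hK : Odd (Nat.card ↥K))
    (hxK : x ∈ normalizer (K : Set G)) (hx : x ∈ centralizer ({u} : Set G))
    (hxc : (⟨x, hx⟩ : centralizer ({u} : Set G)) ∈ Cfsg.pCore 2 ↥(centralizer ({u} : Set G)))
    {k : G} (hk : k ∈ K) (hku : Commute k u) : Commute k x := by
  set k' : centralizer ({u} : Set G) := ⟨k, mem_centralizer_singleton_iff.mpr hku.eq⟩
  set x' : centralizer ({u} : Set G) := ⟨x, hx⟩
  have hn : (Cfsg.pCore 2 ↥(centralizer ({u} : Set G))).Normal := pCore_normal' 2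
  have h1 : k' * x' * k'⁻¹ * x'⁻¹ ∈ Cfsg.pCore 2 ↥(centralizer ({u} : Set G)) :=
    mul_mem (hn.conj_mem _ hxc k') (inv_mem hxc)
  have h2 : k * x * k⁻¹ * x⁻¹ ∈ K := by
    rw [show k * x * k⁻¹ * x⁻¹ = k * (x * k⁻¹ * x⁻¹) by group]
    exact mul_mem hk ((mem_normalizer_iff.mp hxK _).mp (inv_mem hk))
  obtain ⟨n, hn'⟩ := (isPGroup_pCore' (G := centralizer ({u} : Set G)) 2) ⟨_, h1⟩
  have h3 : (k * x * k⁻¹ * x⁻¹) ^ (2 ^ n) = 1 :=
    congrArg (fun v : Cfsg.pCore 2 ↥(centralizer ({u} : Set G)) => ((v : centralizer ({u} : Set G)) : G)) hn'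
  have h4 : k * x * k⁻¹ * x⁻¹ = 1 := orderOf_eq_one_iff.mp (Nat.eq_one_of_dvd_coprimes
    (show (Nat.card ↥K).Coprime (2 ^ n) from hK.coprime_two_right.pow_right n)
    (Subgroup.orderOf_dvd_natCard _ h2) (orderOf_dvd_of_pow_eq_one h3))
  exact mul_inv_eq_iff_eq_mul.mp (mul_inv_eq_one.mp h4)

theorem conj_mem_pCore {u x q : G} (hx : x ∈ centralizer ({u} : Set G))
    (hxc : (⟨x, hx⟩ : centralizer ({u} : Set G)) ∈ Cfsg.pCore 2 ↥(centralizer ({u} : Set G))) :
    ∃ hq : q * x * q⁻¹ ∈ centralizer ({q * u * q⁻¹} : Set G),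
      (⟨q * x * q⁻¹, hq⟩ : centralizer ({q * u * q⁻¹} : Set G)) ∈
        Cfsg.pCore 2 ↥(centralizer ({q * u * q⁻¹} : Set G)) := by
  obtain ⟨v, hv, e⟩ := LargeExtraspecial.conj_mem_coreAt q (x := u) (q := x) ⟨_, hxc, rfl⟩
  have hm : q * x * q⁻¹ ∈ centralizer ({q * u * q⁻¹} : Set G) := e ▸ v.2
  exact ⟨hm, (show (⟨q * x * q⁻¹, hm⟩ : centralizer ({q * u * q⁻¹} : Set G)) = v from Subtype.ext e.symm) ▸ hv⟩

/-- Let z be an involution of the finite group G whose centralizer C has generalized Fitting subgroup Q, an extraspecial 2-group of width at least 2 (order 2^(2w+1), w ≥ 2). Let K be a subgroup of G such that the subgroup U generated by the K-conjugates of z is abelian and C is generated by the C-conjugates of U. Suppose that either some K-conjugate of z other than z lies in Q, or some element u of U ∩ Q outside the subgroup generated by z has z in the largest normal 2-subgroup of its centralizer. Then G is simple and Q is a large extraspecial 2-subgroup of G. -/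
theorem result {G : Type*} [Group G] [Finite G] (z : G) (hz : orderOf z = 2) (Q : Subgroup G) (hQC : Q ≤ Subgroup.centralizer ({z} : Set G)) (hF : (Cfsg.generalizedFittingSubgroup ↥(Subgroup.centralizer ({z} : Set G))).map (Subgroup.centralizer ({z} : Set G)).subtype = Q) (hQ : Cfsg.IsExtraspecial 2 ↥Q) (w : ℕ) (hw : 2 ≤ w) (hcard : Nat.card ↥Q = 2 ^ (2 * w + 1)) (K U : Subgroup G) (hU : U = Subgroup.closure {x : G | ∃ k ∈ K, x = k * z * k⁻¹}) (hUab : IsMulCommutative ↥U) (hgen : Subgroup.closure {x : G | ∃ c ∈ Subgroup.centralizer ({z} : Set G), ∃ u ∈ U, x = c * u * c⁻¹} = Subgroup.centralizer ({z} : Set G)) (h3 : (∃ k ∈ K, k * z * k⁻¹ ∈ Q ∧ k * z * k⁻¹ ≠ z) ∨ ∃ u ∈ U ⊓ Q, u ∉ Subgroup.zpowers z ∧ (∃ hz' : z ∈ Subgroup.centralizer ({u} : Set G), (⟨z, hz'⟩ : ↥(Subgroup.centralizer ({u} : Set G))) ∈ Cfsg.pCore 2 ↥(Subgroup.centralizer ({u} : Set G)))) : IsSimpleGroup G ∧ Cfsg.IsLargeExtraspecial Q := by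
  have : Fact (Nat.Prime 2) := ⟨Nat.prime_two⟩
  obtain ⟨h, hZ, hCQ⟩ := LargeExtraspecial.Hub.of_setting hz hQC hF hQ
  have hQ2 : IsPGroup 2 ↥Q := hQ.1.1
  have h32 : 32 ≤ Nat.card ↥Q := by
    rw [hcard]
    calc 32 = 2 ^ 5 := rfl
      _ ≤ 2 ^ (2 * w + 1) := Nat.pow_le_pow_right two_pos (by omega)
  have hKU : ∀ k ∈ K, k * z * k⁻¹ ∈ U := fun k hk => hU ▸ subset_closure ⟨k, hk, rfl⟩
  have hzU : z ∈ U := by simpa using hKU 1 K.one_mem
  have hUsq : ∀ x ∈ U, x * x = 1 := by
    intro x hx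
    have hx' : x ∈ closure {x : G | ∃ k ∈ K, x = k * z * k⁻¹} := hU ▸ hx
    induction hx' using closure_induction with
    | mem a ha =>
      obtain ⟨k, -, rfl⟩ := ha
      calc k * z * k⁻¹ * (k * z * k⁻¹) = k * (z * z) * k⁻¹ := by group
        _ = 1 := by rw [h.sq]; group
    | one => exact one_mul 1
    | mul a b ha hb iha ihb =>
      have haU : a ∈ U := hU ▸ ha
      have hbU : b ∈ U := hU ▸ hb
      have hc : Commute a b := congrArg Subtype.val (hUab.is_comm.comm (⟨a, haU⟩ : U) ⟨b, hbU⟩)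
      calc a * b * (a * b) = a * (b * a) * b := by group
        _ = (a * a) * (b * b) := by rw [← hc.eq]; group
        _ = 1 := by rw [iha haU, ihb hbU, one_mul]
    | inv a ha iha =>
      have := iha (hU ▸ ha)
      rw [inv_eq_of_mul_eq_one_right this]; exact this
  have hHn : centralizer ({z} : Set G) ≤ normalizer (Q : Set G) := fun c hc =>
    mem_normalizer_iff.mpr fun q => by
      have hcz : Commute c z := mem_centralizer_singleton_iff.mp hc
      refine ⟨h.normalizes c hcz q, fun hq => ?_⟩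
      have := h.normalizes c⁻¹ hcz.inv_left _ hq
      simpa [mul_assoc] using this
  have hlarge : Cfsg.IsLargeExtraspecial Q := by
    refine ⟨hQ, hCQ.trans hZ.symm, ?_, fun L hL hQL => ?_⟩
    · rw [hZ]
      exact (centralizer_le (Set.singleton_subset_iff.mpr (mem_zpowers z))).trans hHn
    rcases h3 with ⟨k, -, hkQ, hkne⟩ | ⟨u, hu, hunz, hzC, hzc⟩
    · exact S5436.odd_eq_bot h hQ2 h32 hkQ hkne hL hQL
    · obtain ⟨huU, huQ⟩ := Subgroup.mem_inf.mp hu
      have hu1 : u ≠ 1 := fun e => hunz (e ▸ one_mem _)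
      have huz : u ≠ z := fun e => hunz (e ▸ mem_zpowers z)
      have hfix : ∀ k ∈ L, Commute k z → k = 1 := by
        intro k hk hkz
        have hQc := h.commute_of_odd_normalized hQ2 le_rfl hL hQL hk hkz
        refine orderOf_eq_one_iff.mp (Nat.eq_one_of_dvd_coprimes
          (show (Nat.card ↥L).Coprime 2 from hL.coprime_two_right) (Subgroup.orderOf_dvd_natCard _ hk)
          (orderOf_dvd_of_pow_eq_one ?_))
        rcases h.self k hQc with e | e <;> rw [e, pow_two]
        · rw [one_mul]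
        · exact h.sq
      obtain ⟨r, hr, hur⟩ := h.exists_not_commute hu1 huz
      have hru : r * u * r⁻¹ = u * z := (h.comm r hr u huQ).resolve_left fun e =>
        hur (mul_inv_eq_iff_eq_mul.mp e).symm
      have hrz : r * z * r⁻¹ = z := by rw [(h.central r hr).eq, mul_inv_cancel_right]
      obtain ⟨hz', hzc'⟩ := conj_mem_pCore (q := r) hzC hzc
      have hzu : Commute z u := (h.central u huQ).symm
      refine eq_bot_of_four hL h.sq (hUsq u huU) hzu h.ne_one hu1 (Ne.symm huz)
        (hQL h.mem) (hQL huQ) hfix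
        (fun k hk hku => hfix k hk (commute_of_core hL (hQL h.mem) hzC hzc hk hku))
        (fun k hk hku => hfix k hk ?_)
      have := commute_of_core hL (x := r * z * r⁻¹) (by rw [hrz]; exact hQL h.mem) hz' hzc' hk
        (show Commute k (r * u * r⁻¹) by rw [hru, ← hzu.eq]; exact hku)
      rwa [hrz] at this
  refine ⟨?_, hlarge⟩
  set M := normalClosure ({z} : Set G) with hM
  have hMn : M.Normal := normalClosure_normal
  have hzM : z ∈ M := subset_normalClosure rfl
  have hUM : U ≤ M := by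
    rw [hU, closure_le]
    rintro _ ⟨k, -, rfl⟩
    exact hMn.conj_mem z hzM k
  have hHM : centralizer ({z} : Set G) ≤ M := by
    rw [← hgen, closure_le]
    rintro _ ⟨c, -, u, hu, rfl⟩
    exact hMn.conj_mem u (hUM hu) c
  have hnorm : ∀ n : G, n ∈ normalizer (Q : Set G) → Commute n z := by
    intro n hn
    have hzc : n * z * n⁻¹ ∈ centralizer (Q : Set G) := by
      refine mem_centralizer_iff.mpr fun q hq => ?_
      have hq' : n⁻¹ * q * n ∈ Q := (mem_normalizer_iff.mp hn _).mpr (by simpa [mul_assoc] using hq)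
      have h1 := (h.central _ hq').map (MulAut.conj n).toMonoidHom
      simpa [mul_assoc] using h1.eq
    rw [hCQ] at hzc
    obtain ⟨i, hi⟩ := mem_zpowers_iff.mp hzc
    rcases Int.even_or_odd i with ⟨m, rfl⟩ | ⟨m, rfl⟩
    · rw [← two_mul, zpow_mul, zpow_two, h.sq, one_zpow] at hi
      exact absurd (conj_eq_one_iff.mp hi.symm) h.ne_one
    · rw [zpow_add, zpow_one, zpow_mul, zpow_two, h.sq, one_zpow, one_mul] at hi
      exact mul_inv_eq_iff_eq_mul.mp hi.symm
  have htop : M = ⊤ := by
    refine top_le_iff.mp ?_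
    rw [← S5433.result Q hlarge M (hQC.trans hHM)]
    exact sup_le le_rfl (fun n hn => hHM (mem_centralizer_singleton_iff.mpr (hnorm n hn).eq))
  rcases S5426.result Q hlarge z hZ M rfl with hn | ⟨hab, -⟩ | ⟨-, hsim, -⟩ |
      ⟨-, L, u, hu, hsimL, -, hdis, hcom, hsup, -⟩
  · exfalso
    have hUz : U ≤ zpowers z := by
      rw [hU, closure_le]
      rintro _ ⟨k, -, rfl⟩
      show k * z * k⁻¹ ∈ zpowers z
      rw [(hnorm k (by rw [normalizer_eq_top_iff.mpr hn]; exact mem_top k)).eq, mul_inv_cancel_right]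
      exact mem_zpowers z
    have hCz : centralizer ({z} : Set G) ≤ zpowers z := by
      rw [← hgen, closure_le]
      rintro _ ⟨c, hc, u, hu, rfl⟩
      obtain ⟨i, rfl⟩ := mem_zpowers_iff.mp (hUz hu)
      show c * z ^ i * c⁻¹ ∈ zpowers z
      rw [((show Commute c z from mem_centralizer_singleton_iff.mp hc).zpow_right i).eq,
        mul_inv_cancel_right]
      exact zpow_mem (mem_zpowers z) i
    have := card_le_of_le (hQC.trans hCz)
    rw [Nat.card_zpowers, hz] at this
    omega
  · exfalso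
    obtain ⟨p₁, -, p₂, -, -, -, hnc⟩ := h.exists_noncommuting_pair h32 h.mem h.sq
    exact hnc (congrArg Subtype.val
      (hab.is_comm.comm (⟨p₁, htop ▸ mem_top _⟩ : M) ⟨p₂, htop ▸ mem_top _⟩))
  · have e : ↥M ≃* G := (MulEquiv.subgroupCongr htop).trans Subgroup.topEquiv
    have : Nontrivial G := ⟨⟨z, 1, h.ne_one⟩⟩
    exact IsSimpleGroup.isSimpleGroup_of_surjective e.toMonoidHom e.surjective
  · exfalso
    have hLn : ∀ a : G, a ∈ normalizer (L : Set G) := by
      intro a
      have ha : a ∈ L ⊔ L.map (MulAut.conj u).toMonoidHom := hsup.symm ▸ htop ▸ mem_top a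
      refine (sup_le le_normalizer (fun b hb => ?_) : L ⊔ _ ≤ normalizer (L : Set G)) ha
      exact centralizer_le_normalizer _ (mem_centralizer_iff.mpr fun l hl => hcom l hl b hb)
    have : Nontrivial ↥L := inferInstance
    refine (nontrivial_iff_ne_bot L).mp this ?_
    have : L.map (MulAut.conj u).toMonoidHom = L := by
      refine eq_of_le_of_card_ge ?_ (le_of_eq ?_)
      · rintro _ ⟨l, hl, rfl⟩
        exact (mem_normalizer_iff.mp (hLn u) l).mp hl
      · rw [card_map_of_injective (MulEquiv.injective _)]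
    rwa [this, inf_idem] at hdis

end Cfsg.Agent.S5427
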