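import Cfsg.Statements.S5428
import Cfsg.Agent.Lib.Components.GenFitting
import Cfsg.Agent.Lib.Coprime.Basic
import Cfsg.Agent.Lib.Coprime.Generation
import Cfsg.Agent.Lib.LargeExtraspecial.Setting
import Cfsg.Agent.Lib.PCore.Basic
import Cfsg.Agent.Lib.PGroup.ExtraspecialSub
import Cfsg.Agent.Lib.Transfer.Burnside
-- import your own Cfsg.Agent.* helpers here

set_option autoImplicit false
open Cfsg

namespace Cfsg.Agent.S5428

open Cfsg.Agent.Components Cfsg.Agent Subgroup
open scoped commutatorElement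

variable {G : Type*} [Group G] {Q : Subgroup G} {z : G}

/-- Elements of order dividing `4` differ only trivially by a commuting element of odd order subgroup. -/
theorem eq_one_of_pow_four {A : Subgroup G} (hA : Odd (Nat.card ↥A)) {r e : G}
    (he : e ∈ A) (hre : Commute r e) (h4 : r ^ 4 = 1) (h : (r * e) ^ 4 = 1) : e = 1 := by
  rw [hre.mul_pow, h4, one_mul] at h
  exact orderOf_eq_one_iff.mp (Nat.eq_one_of_dvd_coprimes
    (show (Nat.card ↥A).Coprime 4 from hA.coprime_two_right.pow_right 2)
    (Subgroup.orderOf_dvd_natCard A he) (orderOf_dvd_of_pow_eq_one h))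

open LargeExtraspecial in
theorem pow_four_eq_one (h : Hub Q z) {q : G} (hq : q ∈ Q) : q ^ 4 = 1 := by
  have e : q ^ 4 = q * q * (q * q) := by
    rw [show (4 : ℕ) = 2 + 2 from rfl, pow_add, pow_two]
  rcases h.sq_cases q hq with e1 | e1 <;> rw [e, e1]
  · rw [one_mul]
  · exact h.sq

/-- `D` with Sylow `2`-subgroup a central `⟨z⟩` is `O(D) × ⟨z⟩`. -/
theorem exists_oddCore_mul {D : Type*} [Group D] [Finite D] (h4 : ¬ 4 ∣ Nat.card D) {z : D}
    (hz : orderOf z = 2) (hzc : z ∈ center D) (x : D) :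
    ∃ o ∈ Cfsg.oddCore D, ∃ i : ℤ, x = o * z ^ i := by
  have : Fact (Nat.Prime 2) := ⟨Nat.prime_two⟩
  have hzp : IsPGroup 2 ↥(zpowers z) := IsPGroup.of_card (n := 1) (by rw [Nat.card_zpowers, hz, pow_one])
  have h2 : 2 ∣ Nat.card D := hz ▸ orderOf_dvd_natCard z
  have hidx : ¬ 2 ∣ (zpowers z).index := by
    intro hd
    refine h4 ?_
    rw [← (zpowers z).card_mul_index, Nat.card_zpowers, hz]
    exact Nat.mul_dvd_mul_left 2 hd
  set P := hzp.toSylow hidx with hP
  have hPc : normalizer ((P : Subgroup D) : Set D) ≤ centralizer ((P : Subgroup D) : Set D) := by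
    intro n _
    refine mem_centralizer_iff.mpr fun y hy => ?_
    obtain ⟨i, rfl⟩ := mem_zpowers_iff.mp hy
    exact ((show Commute n z from mem_center_iff.mp hzc n).zpow_right i).symm
  obtain ⟨P', N, hN, hc⟩ := Transfer.hasNormalPComplement_of_normalizer_le_centralizer P hPc
  have : Normal (zpowers z) := ⟨fun y hy n => by
    obtain ⟨i, rfl⟩ := mem_zpowers_iff.mp hy
    rw [((show Commute n z from mem_center_iff.mp hzc n).zpow_right i).eq, mul_inv_cancel_right]
    exact hy⟩
  have hzP' : zpowers z ≤ (P' : Subgroup D) := by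
    obtain ⟨R, hR⟩ := hzp.exists_le_sylow
    obtain ⟨g, rfl⟩ := MulAction.exists_smul_eq D R P'
    rw [Sylow.coe_subgroup_smul]
    intro y hy
    refine ⟨g⁻¹ * y * g, hR ?_, by simp [mul_assoc]⟩
    simpa using (inferInstance : (zpowers z).Normal).conj_mem y hy g⁻¹
  have hPeq : zpowers z = (P' : Subgroup D) := eq_of_le_of_card_ge hzP' (le_of_eq (by
    have h1 := Nat.card_congr (P.equiv P').toEquiv
    exact h1.symm))
  obtain ⟨⟨⟨o, ho⟩, ⟨w, hw⟩⟩, e⟩ := hc.surjective x
  rw [← hPeq] at hw
  obtain ⟨i, rfl⟩ := mem_zpowers_iff.mp hw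
  refine ⟨o, PCore.le_oddCore ?_ ho, i, e.symm⟩
  rw [Nat.odd_iff, ← Nat.two_dvd_ne_zero]
  intro hd
  refine h4 ?_
  rw [← hc.card_mul, ← hPeq, Nat.card_zpowers, hz]
  exact Nat.mul_dvd_mul hd dvd_rfl

/-- Let z be an involution of the finite group G whose centralizer C has generalized Fitting subgroup Q extraspecial (as a 2-group), let A be a subgroup of C of odd order, and let R be the centralizer of A in Q; suppose R has order at least 32, the largest normal subgroup of odd order of the centralizer of the subgroup generated by A and R lies in A, the order of that centralizer is not divisible by 4, and g is an element of G with g z g⁻¹ in R but outside the centre Z of Q. Let M be the subgroup generated by A and the centralizer of A (A is normal in it). Then: the centralizer in M of the subgroup generated by R and A, joined with A, equals the subgroup generated by A and Z; the image of R in M/A is a large extraspecial 2-subgroup of M/A; and g z g⁻¹ is conjugate to z inside the subgroup generated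 by R and the centralizer of A in g Q g⁻¹. -/
theorem result {G : Type*} [Group G] [Finite G] (z : G) (hz : orderOf z = 2) (Q : Subgroup G) (hQC : Q ≤ Subgroup.centralizer ({z} : Set G)) (hF : (Cfsg.generalizedFittingSubgroup ↥(Subgroup.centralizer ({z} : Set G))).map (Subgroup.centralizer ({z} : Set G)).subtype = Q) (hQ : Cfsg.IsExtraspecial 2 ↥Q) (A : Subgroup G) (hA : A ≤ Subgroup.centralizer ({z} : Set G)) (hAodd : Odd (Nat.card ↥A)) (R : Subgroup G) (hR : R = Q ⊓ Subgroup.centralizer (A : Set G)) (hR32 : 32 ≤ Nat.card ↥R) (hO : (Cfsg.oddCore ↥(Subgroup.centralizer ((A ⊔ R : Subgroup G) : Set G))).map (Subgroup.centralizer ((A ⊔ R : Subgroup G) : Set G)).subtype ≤ A) (h4 : ¬ 4 ∣ Nat.card ↥(Subgroup.centralizer ((A ⊔ R : Subgroup G) : Set G))) (g : G) (hgR : g * z * g⁻¹ ∈ R) (hgZ : g * z * g⁻¹ ∉ ((Subgroup.center ↥Q).map Q.subtype)) (M : Subgroup G) (hM : M = Subgroup.centralizer (A : Set G) ⊔ A) [hn : (A.subgroupOf M).Normal] : (M ⊓ Subgroup.centralizer ((R ⊔ A : Subgroup G) : Set G)) ⊔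 A = A ⊔ ((Subgroup.center ↥Q).map Q.subtype) ∧ Cfsg.IsLargeExtraspecial ((R.subgroupOf M).map (QuotientGroup.mk' (A.subgroupOf M))) ∧ ∃ x ∈ R ⊔ ((Q).map (MulAut.conj g).toMonoidHom ⊓ Subgroup.centralizer (A : Set G)), x * (g * z * g⁻¹) * x⁻¹ = z := by
  have : Fact (Nat.Prime 2) := ⟨Nat.prime_two⟩
  obtain ⟨h, hZ, hCQ⟩ := LargeExtraspecial.Hub.of_setting hz hQC hF hQ
  have hQ2 : IsPGroup 2 ↥Q := hQ.1.1
  have hAz : ∀ a ∈ A, Commute a z := fun a ha => mem_centralizer_singleton_iff.mp (hA ha)
  have hzR : z ∈ R := hR ▸ Subgroup.mem_inf.mpr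
    ⟨h.mem, mem_centralizer_iff.mpr fun a ha => hAz a ha⟩
  have hRQ : R ≤ Q := hR ▸ inf_le_left
  have hRA : ∀ r ∈ R, ∀ a ∈ A, Commute a r := fun r hr a ha => by
    rw [hR] at hr; exact mem_centralizer_iff.mp hr.2 a ha
  have hRmem : ∀ r ∈ Q, (∀ a ∈ A, Commute a r) → r ∈ R := fun r hr hc =>
    hR ▸ Subgroup.mem_inf.mpr ⟨hr, mem_centralizer_iff.mpr fun a ha => hc a ha⟩
  have hCM : centralizer (A : Set G) ≤ M := hM ▸ le_sup_left
  have hAM : A ≤ M := hM ▸ le_sup_right
  have hRM : R ≤ M := (hR ▸ inf_le_right : R ≤ centralizer (A : Set G)).trans hCM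
  -- centralisers
  set D := centralizer ((A ⊔ R : Subgroup G) : Set G) with hD
  have hzD : z ∈ D := by
    refine mem_centralizer_iff.mpr fun w hw => ?_
    have hle : A ⊔ R ≤ centralizer ({z} : Set G) := sup_le hA (hRQ.trans hQC)
    exact mem_centralizer_singleton_iff.mp (hle hw)
  have hDmem : ∀ c : G, (∀ a ∈ A, Commute a c) → (∀ r ∈ R, Commute r c) → c ∈ D := fun c h1 h2 => by
    have hle : A ⊔ R ≤ centralizer ({c} : Set G) := sup_le
      (fun a ha => mem_centralizer_singleton_iff.mpr (h1 a ha))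
      (fun r hr => mem_centralizer_singleton_iff.mpr (h2 r hr))
    exact mem_centralizer_iff.mpr fun w hw => mem_centralizer_singleton_iff.mp (hle hw)
  have hDAZ : D ≤ A ⊔ zpowers z := by
    intro d hd
    have hzc : (⟨z, hzD⟩ : D) ∈ center ↥D := mem_center_iff.mpr fun e => Subtype.ext
      (mem_centralizer_iff.mp e.2 z (mem_sup_right hzR)).symm
    obtain ⟨o, ho, i, e⟩ := exists_oddCore_mul (D := ↥D) h4 (z := ⟨z, hzD⟩)
      (by rw [orderOf_mk, hz]) hzc ⟨d, hd⟩
    have e' := congrArg Subtype.val e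
    simp only [Subgroup.coe_mul, SubgroupClass.coe_zpow] at e'
    rw [e']
    exact mul_mem (mem_sup_left (hO ⟨o, ho, rfl⟩)) (mem_sup_right (zpow_mem (mem_zpowers z) i))
  have hodd_in_A : ∀ c ∈ D, c ^ Nat.card ↥A = 1 → c ∈ A := by
    intro c hc hpow
    have hzn : zpowers z ≤ normalizer (A : Set G) := by
      refine le_trans ?_ (centralizer_le_normalizer _)
      exact zpowers_le.mpr (mem_centralizer_iff.mpr fun a ha => hAz a ha)
    obtain ⟨w, hw, a, ha, e⟩ := (Coprime.mem_sup_iff_of_le_normalizer hzn).mp (sup_comm A _ ▸ hDAZ hc)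
    have hwa : Commute w a := by
      obtain ⟨i, rfl⟩ := mem_zpowers_iff.mp hw
      exact ((hAz a ha).symm).zpow_left i
    have ha' : a ^ Nat.card ↥A = 1 := congrArg Subtype.val (pow_card_eq_one' (x := (⟨a, ha⟩ : A)))
    rw [← e, hwa.mul_pow, ha', mul_one] at hpow
    have hw2 : w ^ 2 = 1 := by
      obtain ⟨i, rfl⟩ := mem_zpowers_iff.mp hw
      rw [← zpow_natCast, ← zpow_mul, mul_comm, zpow_mul, zpow_natCast, ← hz, pow_orderOf_eq_one,
        one_zpow]
    have : w = 1 := orderOf_eq_one_iff.mp (Nat.eq_one_of_dvd_coprimes hAodd.coprime_two_right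
      (orderOf_dvd_of_pow_eq_one hpow) (orderOf_dvd_of_pow_eq_one hw2))
    rw [← e, this, one_mul]
    exact ha
  -- the centre of `R`
  have hZR : ∀ x ∈ R, (∀ r ∈ R, Commute x r) → x = 1 ∨ x = z := by
    intro x hx hc
    by_contra hne
    push Not at hne
    obtain ⟨r, hr, hrA, hxr⟩ :=
      h.exists_mem_centralizer_not_commute hQ2 hA hAodd (hRQ hx) (hRA x hx) hne.1 hne.2
    exact hxr (hc r (hRmem r hr hrA))
  have hQ32 : 32 ≤ Nat.card ↥Q := hR32.trans (card_le_of_le hRQ)
  have hRne : ¬ R ≤ centralizer (R : Set G) := by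
    intro hle
    have hsub : R ≤ zpowers z := fun x hx => by
      rcases hZR x hx (fun r hr => (mem_centralizer_iff.mp (hle hx) r hr).symm) with e | e <;> rw [e]
      exacts [one_mem _, mem_zpowers z]
    have := card_le_of_le hsub
    rw [Nat.card_zpowers, hz] at this
    omega
  have hRex : Cfsg.IsExtraspecial 2 ↥R ∧
      (center ↥R).map R.subtype = (center ↥Q).map Q.subtype := by
    refine PGroup.isExtraspecial_of_le hQ hRQ (fun x hx => ?_) hRne
    rw [hZ]
    rcases hZR x hx.1 (fun r hr => (mem_centralizer_iff.mp hx.2 r hr).symm) with e | e <;> rw [e]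
    exacts [one_mem _, mem_zpowers z]
  -- the four group `⟨z, y⟩`
  set y := g * z * g⁻¹ with hy
  have hyne : y ≠ z := fun e => hgZ (by rw [hZ, e]; exact mem_zpowers z)
  have h' := h.conj g
  rw [← hy] at h'
  set Q' := Q.map (MulAut.conj g).toMonoidHom with hQ'
  have hzy : Commute z y := (h.central y (hRQ hgR)).symm
  have hconj : ∀ g' : G, g' * z * g'⁻¹ ∈ Q → g' * z * g'⁻¹ ≠ z →
      z ∈ Q.map (MulAut.conj g').toMonoidHom := fun g' h1 h2 =>
    h.self_mem_conj g' h1 h2 (h.exists_noncommuting_pair hQ32 h1 (h.conj g').sq)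
  have hzQ' : z ∈ Q' := hconj g (hRQ hgR) hyne
  have hQ'2 : IsPGroup 2 ↥Q' := hQ2.map _
  have hAy : A ≤ centralizer ({y} : Set G) := fun a ha =>
    mem_centralizer_singleton_iff.mpr (hRA y hgR a ha)
  obtain ⟨r, hr, hrA, hyr⟩ :=
    h.exists_mem_centralizer_not_commute hQ2 hA hAodd (hRQ hgR) (hRA y hgR) h'.ne_one hyne
  have hry : r * y * r⁻¹ = y * z := (h.comm r hr y (hRQ hgR)).resolve_left fun e =>
    hyr (mul_inv_eq_iff_eq_mul.mp e).symm
  obtain ⟨r', hr', hr'A, hzr'⟩ :=
    h'.exists_mem_centralizer_not_commute hQ'2 hAy hAodd hzQ' hAz h.ne_one (Ne.symm hyne)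
  have hr'z : r' * z * r'⁻¹ = z * y := (h'.comm r' hr' z hzQ').resolve_left fun e =>
    hzr' (mul_inv_eq_iff_eq_mul.mp e).symm
  refine ⟨?_, ?_, ⟨r'⁻¹ * r, mul_mem (mem_sup_right ?_) (mem_sup_left (hRmem r hr hrA)), ?_⟩⟩
  · -- the centraliser
    rw [hZ]
    refine le_antisymm (sup_le (fun c hc => hDAZ (show c ∈ D by rw [hD, sup_comm A R]; exact hc.2)) le_sup_left)
      (sup_le le_sup_right (le_trans ?_ le_sup_left))
    exact zpowers_le.mpr ⟨hRM hzR, sup_comm A R ▸ hzD⟩
  · -- large extraspecial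
    set f := QuotientGroup.mk' (A.subgroupOf M) with hf
    set Rb := (R.subgroupOf M).map f with hRb
    have hinjR : ∀ u v : M, (u : G) ∈ R → (v : G) ∈ R → f u = f v → u = v := by
      intro u v hu hv e
      rw [hf, QuotientGroup.mk'_apply, QuotientGroup.mk'_apply, QuotientGroup.eq] at e
      have e1 : ((u⁻¹ * v : M) : G) ∈ A := e
      have e2 : ((u⁻¹ * v : M) : G) ∈ Q := hRQ (mul_mem (inv_mem hu) hv)
      refine inv_mul_eq_one.mp (Subtype.ext ?_)
      exact eq_one_of_pow_four hAodd e1 (Commute.one_left _) (one_pow 4)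
        (by rw [one_mul]; exact pow_four_eq_one h e2)
    have hconjA : ∀ c : G, (∀ a ∈ A, Commute a c) → ∀ m ∈ R,
        m⁻¹ * c * m * c⁻¹ ∈ A → Commute m c := by
      intro c hc m hm hmem
      set e := m⁻¹ * c * m * c⁻¹ with he
      have e1 : c * m * c⁻¹ = m * e := by rw [he]; group
      have hme : Commute m e := (hRA m hm e hmem).symm
      have : e = 1 := eq_one_of_pow_four hAodd hmem hme (pow_four_eq_one h (hRQ hm))
        (by rw [← e1, conj_pow, pow_four_eq_one h (hRQ hm)]; group)
      rw [this, mul_one, mul_inv_eq_iff_eq_mul] at e1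
      exact e1.symm
    have hdecomp : ∀ m : M, ∃ c : G, (∀ a ∈ A, Commute a c) ∧ ∃ a ∈ A, (m : G) = c * a := by
      intro m
      have hm : (m : G) ∈ centralizer (A : Set G) ⊔ A := hM ▸ m.2
      obtain ⟨c, hc, a, ha, e⟩ :=
        (Coprime.mem_sup_iff_of_le_normalizer (centralizer_le_normalizer _)).mp hm
      exact ⟨c, fun b hb => mem_centralizer_iff.mp hc b hb, a, ha, e.symm⟩
    have hcomm_mem : ∀ m : M, ∀ s : M, (s : G) ∈ R → Commute (f m) (f s) →
        ∀ c : G, (∀ a ∈ A, Commute a c) → ∀ a ∈ A, (m : G) = c * a → Commute (s : G) c := by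
      intro m s hs hcm c hc a ha e
      refine hconjA c hc _ hs ?_
      have h1 : f (s⁻¹ * m * s * m⁻¹) = 1 := by
        simp only [map_mul, map_inv]
        rw [mul_assoc (f s)⁻¹, hcm.eq, inv_mul_cancel_left, mul_inv_cancel]
      rw [hf, QuotientGroup.mk'_apply, QuotientGroup.eq_one_iff] at h1
      have h1' : (s : G)⁻¹ * (m : G) * s * (m : G)⁻¹ ∈ A := h1
      rw [e] at h1'
      have hsa : a * s * a⁻¹ = s := by rw [(hRA s hs a ha).eq, mul_inv_cancel_right]
      convert h1' using 1
      calc (s : G)⁻¹ * c * s * c⁻¹ = (s : G)⁻¹ * c * (a * s * a⁻¹) * c⁻¹ := by rw [hsa]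
        _ = _ := by group
    refine ⟨?_, ?_, ?_, ?_⟩
    · -- extraspecial
      refine TI.isExtraspecial_congr (MulEquiv.ofBijective (f.comp (inclusion hRM)).rangeRestrict
        ⟨fun u v e => ?_, MonoidHom.rangeRestrict_surjective _⟩ |>.trans
          (MulEquiv.subgroupCongr ?_)) hRex.1
      · have e' : f (inclusion hRM u) = f (inclusion hRM v) := congrArg Subtype.val e
        exact Subtype.ext (congrArg (fun w : M => (w : G)) (hinjR _ _ u.2 v.2 e'))
      · rw [hRb, MonoidHom.range_comp, Subgroup.inclusion_range]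
    · -- centraliser
      refine le_antisymm (fun x hx => ?_) ?_
      · obtain ⟨m, rfl⟩ := QuotientGroup.mk'_surjective _ x
        obtain ⟨c, hc, a, ha, e⟩ := hdecomp m
        have hcD : c ∈ D := hDmem c hc fun s hs =>
          hcomm_mem m ⟨s, hRM hs⟩ hs (mem_centralizer_iff.mp hx _ ⟨⟨s, hRM hs⟩, hs, rfl⟩).symm
            c hc a ha e
        have hzn : zpowers z ≤ normalizer (A : Set G) := by
          refine le_trans ?_ (centralizer_le_normalizer _)
          exact zpowers_le.mpr (mem_centralizer_iff.mpr fun a ha => hAz a ha)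
        obtain ⟨w, hw, a', ha', e'⟩ :=
          (Coprime.mem_sup_iff_of_le_normalizer hzn).mp (sup_comm A _ ▸ hDAZ hcD)
        have hwR : w ∈ R := zpowers_le.mpr hzR hw
        have hfm : f m = f ⟨w, hRM hwR⟩ := by
          rw [hf, QuotientGroup.mk'_apply, QuotientGroup.mk'_apply, QuotientGroup.eq]
          show (m : G)⁻¹ * w ∈ A
          rw [e, ← e', show (w * a' * a)⁻¹ * w = a⁻¹ * a'⁻¹ by group]
          exact mul_mem (inv_mem ha) (inv_mem ha')
        refine ⟨⟨f m, hfm ▸ ⟨⟨w, hRM hwR⟩, hwR, rfl⟩⟩, ?_, rfl⟩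
        exact mem_center_iff.mpr fun v => Subtype.ext (mem_centralizer_iff.mp hx v v.2)
      · rintro _ ⟨v, hv, rfl⟩
        exact mem_centralizer_iff.mpr fun s hs => congrArg Subtype.val (mem_center_iff.mp hv ⟨s, hs⟩)
    · -- normaliser
      intro x hx
      obtain ⟨m, rfl⟩ := QuotientGroup.mk'_surjective _ x
      obtain ⟨c, hc, a, ha, e⟩ := hdecomp m
      have hzb : f ⟨z, hRM hzR⟩ ∈ (center ↥Rb).map Rb.subtype := by
        refine ⟨⟨f ⟨z, hRM hzR⟩, ⟨⟨z, hRM hzR⟩, hzR, rfl⟩⟩, mem_center_iff.mpr ?_, rfl⟩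
        rintro ⟨_, s, hs, rfl⟩
        refine Subtype.ext ?_
        show f s * f ⟨z, hRM hzR⟩ = f ⟨z, hRM hzR⟩ * f s
        rw [← map_mul, ← map_mul]
        exact congrArg f (Subtype.ext (h.central (s : G) (hRQ hs)).eq)
      have hcz : Commute c z := (hcomm_mem m ⟨z, hRM hzR⟩ hzR
        (mem_centralizer_iff.mp hx _ hzb).symm c hc a ha e).symm
      have key : ∀ s ∈ R, c * s * c⁻¹ ∈ R := fun s hs => by
        refine hRmem _ (h.normalizes c hcz s (hRQ hs)) fun b hb => ?_
        exact ((hc b hb).mul_right (hRA s hs b hb)).mul_right (hc b hb).inv_right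
      have key' : ∀ s ∈ R, c⁻¹ * s * c ∈ R := fun s hs => by
        refine hRmem _ ?_ fun b hb => ?_
        · simpa using h.normalizes c⁻¹ hcz.inv_left s (hRQ hs)
        · exact ((hc b hb).inv_right.mul_right (hRA s hs b hb)).mul_right (hc b hb)
      have hmn : m ∈ normalizer (R.subgroupOf M : Set M) := by
        refine mem_normalizer_iff.mpr fun s => ?_
        have hA' : ∀ w ∈ R, a * w * a⁻¹ = w := fun w hw => by
          rw [(hRA w hw a ha).eq, mul_inv_cancel_right]
        show (s : G) ∈ R ↔ (m : G) * s * (m : G)⁻¹ ∈ R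
        rw [e]
        constructor
        · intro hs
          rw [show c * a * s * (c * a)⁻¹ = c * (a * s * a⁻¹) * c⁻¹ by group, hA' _ hs]
          exact key _ hs
        · intro hs
          have h1 := key' _ hs
          have h2 : c⁻¹ * (c * a * s * (c * a)⁻¹) * c = a * s * a⁻¹ := by group
          rw [h2] at h1
          have h3 := hA' _ h1
          rw [mul_left_inj, mul_right_inj] at h3
          rwa [h3] at h1
      exact (R.subgroupOf M).le_normalizer_map f ⟨m, hmn, rfl⟩
    · -- odd subgroups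
      intro K hKodd hRK
      set K1 := (K.comap f).map M.subtype with hK1
      have hK1card : Odd (Nat.card ↥K1) := by
        rw [hK1, card_map_of_injective M.subtype_injective]
        have hker : Nat.card ↥f.ker = Nat.card ↥A := by
          rw [hf, QuotientGroup.ker_mk']
          exact Nat.card_congr (subgroupOfEquivOfLe hAM).toEquiv
        have hle : f.ker ≤ K.comap f := fun u hu => by
          show f u ∈ K
          rw [MonoidHom.mem_ker.mp hu]
          exact one_mem K
        have := relIndex_mul_relIndex ⊥ f.ker (K.comap f) bot_le hle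
        rw [relIndex_bot_left, relIndex_bot_left] at this
        have h2 : f.ker.relIndex (K.comap f) = Nat.card ↥K := by
          rw [← MonoidHom.comap_bot, relIndex_comap,
            map_comap_eq_self_of_surjective (QuotientGroup.mk'_surjective _), relIndex_bot_left]
        rw [← this, hker, h2]
        exact hAodd.mul hKodd
      have hRK1 : R ≤ normalizer (K1 : Set G) := by
        rw [le_normalizer_iff]
        rintro s hs _ ⟨u, hu, rfl⟩
        refine ⟨⟨s, hRM hs⟩ * u * ⟨s, hRM hs⟩⁻¹, ?_, rfl⟩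
        show f (⟨s, hRM hs⟩ * u * ⟨s, hRM hs⟩⁻¹) ∈ K
        rw [map_mul, map_mul, map_inv]
        exact (mem_normalizer_iff.mp (hRK ⟨⟨s, hRM hs⟩, hs, rfl⟩) _).mp hu
      have hfix : ∀ k ∈ K1, Commute k z → k ∈ A := by
        intro k hk hkz
        have hRc := h.commute_of_odd_normalized hQ2 hRQ hK1card hRK1 hk hkz
        obtain ⟨u, hu, rfl⟩ := hk
        obtain ⟨c, hc, a, ha, e⟩ := hdecomp u
        have e' : M.subtype u = c * a := e
        rw [e'] at hRc hkz ⊢
        have hcR : ∀ s ∈ R, Commute s c := fun s hs => by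
          have h1 := ((hRc s hs).mul_left (hRA s hs a ha).inv_left)
          rw [mul_inv_cancel_right] at h1
          exact h1.symm
        have hcD : c ∈ D := hDmem c hc hcR
        have hcA : c ∈ A ⊔ zpowers z := hDAZ hcD
        have hzn : zpowers z ≤ normalizer (A : Set G) := by
          refine le_trans ?_ (centralizer_le_normalizer _)
          exact zpowers_le.mpr (mem_centralizer_iff.mpr fun a ha => hAz a ha)
        obtain ⟨w, hw, a', ha', e''⟩ :=
          (Coprime.mem_sup_iff_of_le_normalizer hzn).mp (sup_comm A _ ▸ hcA)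
        have hwK1 : w ∈ K1 := by
          have hA1 : A ≤ K1 := fun b hb => ⟨⟨b, hAM hb⟩, by
            show f ⟨b, hAM hb⟩ ∈ K
            rw [hf, QuotientGroup.mk'_apply, (QuotientGroup.eq_one_iff (N := A.subgroupOf M) _).mpr hb]
            exact one_mem K, rfl⟩
          have hca : c * a ∈ K1 := e' ▸ ⟨u, hu, rfl⟩
          have h1 := mul_mem hca (inv_mem (hA1 (mul_mem ha' ha)))
          rwa [← e'', show w * a' * a * (a' * a)⁻¹ = w by group] at h1
        have hw1 : w = 1 := by
          obtain ⟨i, rfl⟩ := mem_zpowers_iff.mp hw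
          refine orderOf_eq_one_iff.mp (Nat.eq_one_of_dvd_coprimes hK1card.coprime_two_right
            (Subgroup.orderOf_dvd_natCard _ hwK1) (orderOf_dvd_of_pow_eq_one ?_))
          rw [← zpow_natCast, ← zpow_mul, mul_comm, zpow_mul, zpow_natCast, ← hz, pow_orderOf_eq_one,
            one_zpow]
        rw [← e'', hw1, one_mul]
        exact mul_mem ha' ha
      -- elements centralising a conjugate of `z` in the four group
      have hfixy : ∀ g' : G, g' * z * g'⁻¹ ∈ R → g' * z * g'⁻¹ ≠ z →
          ∀ k ∈ K1, Commute k (g' * z * g'⁻¹) → k ∈ A := by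
        intro g' hg'R hne k hk hky
        refine hfix k hk ?_
        have hw := (h.conj g').commute_of_odd_normalized (hQ2.map _)
          (R := zpowers z) (zpowers_le.mpr (hconj g' (hRQ hg'R) hne)) hK1card
          (zpowers_le.mpr (hRK1 hzR)) hk hky
        exact hw z (mem_zpowers z)
      set V := closure ({z, y} : Set G) with hV
      have hVcomm : IsMulCommutative ↥V := isMulCommutative_closure (by
        rintro u (rfl | rfl) v (rfl | rfl) <;> first | rfl | exact hzy | exact hzy.symm)
      have hVle : V ≤ R := (closure_le R).mpr (by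
        rintro u (rfl | rfl)
        exacts [hzR, hgR])
      have hVnc : ¬ IsCyclic ↥V := by
        intro hcyc
        obtain ⟨⟨v, hv⟩, hgen⟩ := hcyc.exists_generator
        have hv2 : v * v = 1 := by
          rcases LargeExtraspecial.mem_four h.sq h'.sq hzy hv with e | e | e | e <;> rw [e]
          · rw [one_mul]
          · exact h.sq
          · exact h'.sq
          · calc z * y * (z * y) = z * (y * z) * y := by group
              _ = (z * z) * (y * y) := by rw [← hzy.eq]; group
              _ = 1 := by rw [h.sq, h'.sq, one_mul]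
        have hall : ∀ u ∈ V, u = 1 ∨ u = v := by
          intro u hu
          obtain ⟨i, hi⟩ := mem_zpowers_iff.mp (hgen ⟨u, hu⟩)
          have e : v ^ i = u := congrArg Subtype.val hi
          rw [← e]
          rcases Int.even_or_odd i with ⟨m, rfl⟩ | ⟨m, rfl⟩
          · left; rw [← two_mul, zpow_mul, zpow_two, hv2, one_zpow]
          · right; rw [zpow_add, zpow_one, zpow_mul, zpow_two, hv2, one_zpow, one_mul]
        have hz' := (hall z (subset_closure (Or.inl rfl))).resolve_left h.ne_one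
        have hy' := (hall y (subset_closure (Or.inr rfl))).resolve_left h'.ne_one
        exact hyne (hy'.trans hz'.symm)
      have hV2 : IsPGroup 2 ↥V := (hQ2.to_le hRQ).to_le hVle
      have hcopV : (Nat.card ↥V).Coprime (Nat.card ↥K1) := by
        obtain ⟨n, hn⟩ := hV2.exists_card_eq
        rw [hn]
        exact hK1card.coprime_two_right.symm.pow_left n
      have hK1A : K1 ⊓ A = K1 := Coprime.eq_of_forall_centralizer_le hVnc (hVle.trans hRK1) hcopV
        inf_le_left fun v hv hv1 => by
          intro k hk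
          refine Subgroup.mem_inf.mpr ⟨hk.1, ?_⟩
          have hkv : Commute k v := mem_centralizer_singleton_iff.mp hk.2
          rcases LargeExtraspecial.mem_four h.sq h'.sq hzy hv with e | e | e | e <;> subst e
          · exact absurd rfl hv1
          · exact hfix k hk.1 hkv
          · exact hfixy g hgR hyne k hk.1 hkv
          · have e1 : r * g * z * (r * g)⁻¹ = z * y := by
              rw [show r * g * z * (r * g)⁻¹ = r * (g * z * g⁻¹) * r⁻¹ by group, ← hy, hry, hzy.eq]
            refine hfixy (r * g) ?_ ?_ k hk.1 ?_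
            · rw [e1]; exact mul_mem hzR hgR
            · rw [e1]; intro e2; exact h'.ne_one (mul_eq_left.mp e2)
            · rw [e1]; exact hkv
      rw [eq_bot_iff]
      intro x hx
      obtain ⟨u, rfl⟩ := QuotientGroup.mk'_surjective _ x
      have hu : (u : G) ∈ K1 := ⟨u, hx, rfl⟩
      rw [← hK1A] at hu
      rw [mem_bot, QuotientGroup.mk'_apply, QuotientGroup.eq_one_iff]
      exact hu.2
  · exact inv_mem (Subgroup.mem_inf.mpr ⟨hr', mem_centralizer_iff.mpr fun a ha => hr'A a ha⟩)
  · calc r'⁻¹ * r * y * (r'⁻¹ * r)⁻¹ = r'⁻¹ * (r * y * r⁻¹) * r' := by group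
      _ = r'⁻¹ * (r' * z * r'⁻¹) * r' := by rw [hry, hr'z, hzy.eq]
      _ = z := by group

end Cfsg.Agent.S5428
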