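import Cfsg.Statements.S5429
import Cfsg.Agent.Lib.Components.GenFitting
import Cfsg.Agent.Lib.Coprime.Generation
import Cfsg.Agent.Lib.LargeExtraspecial.Setting
import Cfsg.Agent.Lib.PCore.Basic
import Cfsg.Agent.Lib.PGroup.Frattini
import Cfsg.Agent.Lib.Transfer.Burnside
-- import your own Cfsg.Agent.* helpers here

set_option autoImplicit false
open Cfsg

namespace Cfsg.Agent.S5429

open Cfsg.Agent.Components Cfsg.Agent Subgroup
open scoped commutatorElement

variable {G : Type*} [Group G] {Q : Subgroup G} {z t : G}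

/-- An element of `C_Q(t)` outside `⟨z, t⟩` is moved by `C_Q(t)`. -/
theorem exists_mover (h : LargeExtraspecial.Hub Q z) (ht : t ∈ Q) (ht2 : t * t = 1) {x : G}
    (hx : x ∈ Q) (hxt : x ∉ ({1, z, t, z * t} : Set G)) :
    ∃ r ∈ Q, Commute r t ∧ ¬ Commute x r := by
  by_contra hno
  push Not at hno
  have hzt : Commute z t := (h.central t ht).symm
  have := LargeExtraspecial.mem_four h.sq ht2 hzt
    (h.centralizer_of_self ht hx fun p hp hpt => hno p hp hpt)
  simp only [Set.mem_insert_iff, Set.mem_singleton_iff] at hxt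
  exact hxt this

/-- A non-central involution `t` of `Q` is conjugate to `t * z`. -/
theorem isConj_mul (h : LargeExtraspecial.Hub Q z) (ht : t ∈ Q) (h1 : t ≠ 1) (h2 : t ≠ z) :
    IsConj t (t * z) := by
  obtain ⟨q, hq, hqt⟩ := h.exists_not_commute h1 h2
  exact isConj_iff.mpr ⟨q, (h.comm q hq t ht).resolve_left fun e =>
    hqt (mul_inv_eq_iff_eq_mul.mp e).symm⟩

/-- A `2`-group with squares central, centre of order `2`, not abelian, is extraspecial. -/
theorem isExtraspecial_of_sq {E : Type*} [Group E] [Finite E] (hE : IsPGroup 2 E)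
    (hc : Nat.card ↥(center E) = 2) (hsq : ∀ x : E, x ^ 2 ∈ center E)
    (hna : ∃ a b : E, ¬ Commute a b) : Cfsg.IsExtraspecial 2 E := by
  have : Fact (Nat.Prime 2) := ⟨Nat.prime_two⟩
  have hcom : commutator E ≤ center E := by
    rw [commutator_def, commutator_le]
    intro a _ b _
    have : ⁅a, b⁆ = a ^ 2 * (a⁻¹ * b) ^ 2 * b⁻¹ ^ 2 := by
      simp only [commutatorElement_def, pow_two]; group
    rw [this]
    exact mul_mem (mul_mem (hsq a) (hsq _)) (hsq _)
  have hne : commutator E ≠ ⊥ := by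
    intro e
    obtain ⟨a, b, hab⟩ := hna
    refine hab ?_
    have h1 : ⁅a, b⁆ ∈ commutator E := commutator_mem_commutator (mem_top a) (mem_top b)
    rw [e, mem_bot] at h1
    exact commutatorElement_eq_one_iff_mul_comm.mp h1
  have heq : commutator E = center E := by
    refine eq_of_le_of_card_ge hcom ?_
    rw [hc]
    have : Nontrivial ↥(commutator E) := (nontrivial_iff_ne_bot _).mpr hne
    exact Finite.one_lt_card
  exact ⟨⟨hE, le_antisymm (PGroup.frattini_le hcom hsq)
    (heq ▸ PGroup.commutator_le_frattini hE), heq⟩, hc⟩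

/-- `D` with Sylow `2`-subgroup a central `⟨t⟩` is `O(D) × ⟨t⟩`. -/
theorem exists_oddCore_mul {D : Type*} [Group D] [Finite D] (h4 : ¬ 4 ∣ Nat.card D) {z : D}
    (hz : orderOf z = 2) (hzc : z ∈ center D) (x : D) :
    ∃ o ∈ Cfsg.oddCore D, ∃ i : ℤ, x = o * z ^ i := by
  have : Fact (Nat.Prime 2) := ⟨Nat.prime_two⟩
  have hzp : IsPGroup 2 ↥(zpowers z) := IsPGroup.of_card (n := 1) (by rw [Nat.card_zpowers, hz, pow_one])
  have hidx : ¬ 2 ∣ (zpowers z).index := by
    intro hd
    refine h4 ?_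
    rw [← (zpowers z).card_mul_index, Nat.card_zpowers, hz]
    exact Nat.mul_dvd_mul_left 2 hd
  set P := hzp.toSylow hidx with hP
  have hcomm : ∀ n : D, ∀ y ∈ zpowers z, Commute n y := fun n y hy => by
    obtain ⟨i, rfl⟩ := mem_zpowers_iff.mp hy
    exact (show Commute n z from mem_center_iff.mp hzc n).zpow_right i
  have hPc : normalizer ((P : Subgroup D) : Set D) ≤ centralizer ((P : Subgroup D) : Set D) :=
    fun n _ => mem_centralizer_iff.mpr fun y hy => (hcomm n y hy).symm
  obtain ⟨P', N, hN, hc⟩ := Transfer.hasNormalPComplement_of_normalizer_le_centralizer P hPc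
  obtain ⟨g, rfl⟩ := MulAction.exists_smul_eq D P P'
  have hPeq : ((g • P : Sylow 2 D) : Subgroup D) = zpowers z := by
    rw [Sylow.coe_subgroup_smul]
    ext y
    constructor
    · rintro ⟨w, hw, rfl⟩
      show g * w * g⁻¹ ∈ zpowers z
      rw [(hcomm g w hw).eq, mul_inv_cancel_right]
      exact hw
    · intro hy
      exact ⟨y, hy, by show g * y * g⁻¹ = y; rw [(hcomm g y hy).eq, mul_inv_cancel_right]⟩
  obtain ⟨⟨⟨o, ho⟩, ⟨w, hw⟩⟩, e⟩ := hc.surjective x
  rw [hPeq] at hw
  obtain ⟨i, rfl⟩ := mem_zpowers_iff.mp hw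
  refine ⟨o, PCore.le_oddCore ?_ ho, i, e.symm⟩
  rw [Nat.odd_iff, ← Nat.two_dvd_ne_zero]
  intro hd
  refine h4 ?_
  rw [← hc.card_mul_card, hPeq, Nat.card_zpowers, hz]
  exact Nat.mul_dvd_mul hd dvd_rfl

/-- Let z be an involution of the finite group G with centralizer C whose generalized Fitting subgroup Q is extraspecial of width at least 3 (order 2^(2w+1), w ≥ 3); let g be an element of G with g z g⁻¹ in Q but outside the centre Z of Q, and t an involution lying in both Q and g Q g⁻¹ that is not conjugate to z; write P for the centralizer of t in Q and suppose that the elements of C acting trivially by conjugation on P modulo the subgroup generated by t and z are exactly the elements of Q. Then the image of P in the centralizer of t modulo the subgroup generated by t is a large extraspecial 2-subgroup there, and g z g⁻¹ is conjugate to z inside the subgroup generated by P and the centralizer of t in g Q g⁻¹. -/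
theorem result {G : Type*} [Group G] [Finite G] (z : G) (hz : orderOf z = 2) (Q : Subgroup G) (hQC : Q ≤ Subgroup.centralizer ({z} : Set G)) (hF : (Cfsg.generalizedFittingSubgroup ↥(Subgroup.centralizer ({z} : Set G))).map (Subgroup.centralizer ({z} : Set G)).subtype = Q) (hQ : Cfsg.IsExtraspecial 2 ↥Q) (w : ℕ) (hw : 3 ≤ w) (hcard : Nat.card ↥Q = 2 ^ (2 * w + 1)) (g : G) (hgQ : g * z * g⁻¹ ∈ Q) (hgZ : g * z * g⁻¹ ∉ ((Subgroup.center ↥Q).map Q.subtype)) (t : G) (ht : orderOf t = 2) (htQ : t ∈ Q ⊓ (Q).map (MulAut.conj g).toMonoidHom) (htz : ¬ IsConj z t) (P : Subgroup G) (hP : P = Q ⊓ Subgroup.centralizer ({t} : Set G)) (hCP : ∀ c ∈ Subgroup.centralizer ({z} : Set G), (∀ x ∈ P, ∃ y ∈ Subgroup.closure ({t, z} : Set G), c * x * c⁻¹ = x * y) ↔ c ∈ Q) [hn : ((Subgroup.zpowers t).subgroupOf (Subgroup.centralizer ({t} : Set G))).Normal] : Cfsg.IsLargeExtraspecial ((P.subgroupOf (Subgroup.centralizer ({t} : Set G))).map (QuotientGroup.mk' ((Subgroup.zpowers t).subgroupOf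 (Subgroup.centralizer ({t} : Set G))))) ∧ ∃ x ∈ P ⊔ ((Q).map (MulAut.conj g).toMonoidHom ⊓ Subgroup.centralizer ({t} : Set G)), x * (g * z * g⁻¹) * x⁻¹ = z := by
  have : Fact (Nat.Prime 2) := ⟨Nat.prime_two⟩
  obtain ⟨h, hZ, hCQ⟩ := LargeExtraspecial.Hub.of_setting hz hQC hF hQ
  have hQ2 : IsPGroup 2 ↥Q := hQ.1.1
  have htQ' := (Subgroup.mem_inf.mp htQ).2
  have htmem : t ∈ Q := (Subgroup.mem_inf.mp htQ).1
  have ht2 : t * t = 1 := by rw [← pow_two, ← ht]; exact pow_orderOf_eq_one t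
  have ht1 : t ≠ 1 := fun e => by rw [e, orderOf_one] at ht; omega
  have htnez : t ≠ z := fun e => htz (e ▸ IsConj.refl z)
  set y := g * z * g⁻¹ with hy
  have hzy' : IsConj z y := isConj_iff.mpr ⟨g, rfl⟩
  have hyne : y ≠ z := fun e => hgZ (by rw [hZ, e]; exact mem_zpowers z)
  have h' := h.conj g
  rw [← hy] at h'
  set Q' := Q.map (MulAut.conj g).toMonoidHom with hQ'
  have hyt : Commute y t := (h'.central t htQ').symm
  have hzt : Commute z t := (h.central t htmem).symm
  have htney : t ≠ y := fun e => htz (e ▸ hzy')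
  have hztz : ¬ IsConj z (z * t) := fun hc => htz (hc.trans (hzt.eq ▸
    (isConj_mul h htmem ht1 htnez).symm))
  have hyzt : y ≠ z * t := fun e => hztz (e ▸ hzy')
  have hzyt : z ≠ y * t := fun e => htz ((e ▸ IsConj.refl z : IsConj z (y * t)).trans
    (hyt.eq ▸ (isConj_mul h' htQ' ht1 htney).symm))
  have hQ32 : 32 ≤ Nat.card ↥Q := by
    rw [hcard]
    calc 32 = 2 ^ 5 := rfl
      _ ≤ 2 ^ (2 * w + 1) := Nat.pow_le_pow_right two_pos (by omega)
  have hPmem : ∀ p : G, p ∈ P ↔ p ∈ Q ∧ Commute p t := fun p => by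
    rw [hP, Subgroup.mem_inf, mem_centralizer_singleton_iff]; rfl
  have hyP : y ∈ P := (hPmem y).mpr ⟨hgQ, hyt⟩
  have hzP : z ∈ P := (hPmem z).mpr ⟨h.mem, hzt⟩
  have htP : t ∈ P := (hPmem t).mpr ⟨htmem, Commute.refl t⟩
  have hconj : ∀ g' : G, g' * z * g'⁻¹ ∈ Q → g' * z * g'⁻¹ ≠ z →
      z ∈ Q.map (MulAut.conj g').toMonoidHom := fun g' h1 h2 =>
    h.self_mem_conj g' h1 h2 (h.exists_noncommuting_pair hQ32 h1 (h.conj g').sq)
  have hzQ' : z ∈ Q' := hconj g hgQ hyne
  obtain ⟨r, hr, hrt, hyr⟩ := exists_mover h htmem ht2 hgQ (x := y) (by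
    simp only [Set.mem_insert_iff, Set.mem_singleton_iff, not_or]
    exact ⟨h'.ne_one, hyne, Ne.symm htney, hyzt⟩)
  have hry : r * y * r⁻¹ = y * z := (h.comm r hr y hgQ).resolve_left fun e =>
    hyr (mul_inv_eq_iff_eq_mul.mp e).symm
  have hzy : Commute z y := (h.central y hgQ).symm
  obtain ⟨r', hr', hr't, hzr'⟩ := exists_mover h' htQ' ht2 hzQ' (x := z) (by
    simp only [Set.mem_insert_iff, Set.mem_singleton_iff, not_or]
    exact ⟨h.ne_one, Ne.symm hyne, Ne.symm htnez, hzyt⟩)
  have hr'z : r' * z * r'⁻¹ = z * y := (h'.comm r' hr' z hzQ').resolve_left fun e =>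
    hzr' (mul_inv_eq_iff_eq_mul.mp e).symm
  refine ⟨?_, r'⁻¹ * r, mul_mem (mem_sup_right ?_) (mem_sup_left ((hPmem r).mpr ⟨hr, hrt⟩)), ?_⟩
  swap
  · exact inv_mem (Subgroup.mem_inf.mpr ⟨hr', mem_centralizer_singleton_iff.mpr hr't⟩)
  swap
  · calc r'⁻¹ * r * y * (r'⁻¹ * r)⁻¹ = r'⁻¹ * (r * y * r⁻¹) * r' := by group
      _ = r'⁻¹ * (r' * z * r'⁻¹) * r' := by rw [hry, hr'z, hzy.eq]
      _ = z := by group
  -- large extraspecial
  set M := centralizer ({t} : Set G) with hM
  have hPM : P ≤ M := fun p hp => mem_centralizer_singleton_iff.mpr ((hPmem p).mp hp).2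
  set f := QuotientGroup.mk' ((zpowers t).subgroupOf M) with hf
  set Pb := (P.subgroupOf M).map f with hPb
  have hker : ∀ u : M, f u = 1 ↔ (u : G) ∈ zpowers t := fun u => by
    rw [hf, QuotientGroup.mk'_apply, QuotientGroup.eq_one_iff]; rfl
  have htcases : ∀ x ∈ zpowers t, x = 1 ∨ x = t := by
    intro x hx
    obtain ⟨n, rfl⟩ := mem_zpowers_iff.mp hx
    rcases Int.even_or_odd n with ⟨m, rfl⟩ | ⟨m, rfl⟩
    · left; rw [← two_mul, zpow_mul, zpow_two, ht2, one_zpow]
    · right; rw [zpow_add, zpow_one, zpow_mul, zpow_two, ht2, one_zpow, one_mul]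
  have hfcomm : ∀ u v : M, Commute (f u) (f v) →
      (u : G) * v * (u : G)⁻¹ = v ∨ (u : G) * v * (u : G)⁻¹ = t * v := by
    intro u v huv
    have h1 : f (u * v * u⁻¹ * v⁻¹) = 1 := by
      simp only [map_mul, map_inv]
      rw [huv.eq, mul_inv_cancel_right, mul_inv_cancel]
    have h2 : (u : G) * v * (u : G)⁻¹ * (v : G)⁻¹ ∈ zpowers t := (hker _).mp h1
    rcases htcases _ h2 with e | e
    · exact Or.inl (mul_inv_eq_one.mp e)
    · exact Or.inr (mul_inv_eq_iff_eq_mul.mp e)
  have hcz : ∀ u : M, ∀ hzM : z ∈ M, Commute (f u) (f ⟨z, hzM⟩) → Commute (u : G) z := by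
    intro u hzM hc
    rcases hfcomm u ⟨z, hzM⟩ hc with e | e
    · exact mul_inv_eq_iff_eq_mul.mp e
    · exact absurd (isConj_iff.mpr ⟨(u : G), e.trans hzt.symm.eq⟩) hztz
  have hcentP : ∀ u : M, (u : G) ∈ P → (∀ p : M, (p : G) ∈ P → Commute (f u) (f p)) →
      f u = 1 ∨ f u = f ⟨z, hPM hzP⟩ := by
    intro u hu hc
    obtain ⟨huQ, hut⟩ := (hPmem _).mp hu
    have hcomm : ∀ p ∈ Q, Commute p t → Commute (u : G) p := by
      intro p hp hpt
      have hpP : p ∈ P := (hPmem p).mpr ⟨hp, hpt⟩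
      rcases hfcomm u ⟨p, hPM hpP⟩ (hc _ hpP) with e | e
      · exact mul_inv_eq_iff_eq_mul.mp e
      · rcases h.comm (u : G) huQ p hp with e' | e'
        · exact mul_inv_eq_iff_eq_mul.mp e'
        · have e2 : p * z = p * t := by
            rw [hpt.eq]; exact e'.symm.trans e
          exact absurd (mul_left_cancel e2).symm htnez
    rcases LargeExtraspecial.mem_four h.sq ht2 hzt
      (h.centralizer_of_self htmem huQ hcomm) with e | e | e | e
    · exact Or.inl ((hker u).mpr (e ▸ one_mem _))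
    · exact Or.inr (congrArg f (Subtype.ext e))
    · exact Or.inl ((hker u).mpr (e ▸ mem_zpowers t))
    · right
      have e' : u = ⟨z, hPM hzP⟩ * ⟨t, hPM htP⟩ := Subtype.ext e
      rw [e', map_mul, (hker ⟨t, hPM htP⟩).mpr (mem_zpowers t), mul_one]
  have hzb : f ⟨z, hPM hzP⟩ ≠ 1 := fun e => by
    rcases htcases _ ((hker _).mp e) with e' | e'
    exacts [h.ne_one e', htnez e'.symm]
  have hzcen : ∀ v : ↥Pb, Commute (v : ↥M ⧸ (zpowers t).subgroupOf M) (f ⟨z, hPM hzP⟩) := by
    rintro ⟨_, s, hs, rfl⟩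
    show f s * f ⟨z, hPM hzP⟩ = f ⟨z, hPM hzP⟩ * f s
    rw [← map_mul, ← map_mul]
    exact congrArg f (Subtype.ext (h.central (s : G) ((hPmem _).mp hs).1).eq)
  have hcenter : ∀ v : ↥Pb, v ∈ center ↥Pb ↔ (v : ↥M ⧸ (zpowers t).subgroupOf M) = 1 ∨ (v : ↥M ⧸ (zpowers t).subgroupOf M) = f ⟨z, hPM hzP⟩ := by
    intro v
    constructor
    · intro hv
      obtain ⟨_, u, hu, rfl⟩ := v
      exact hcentP u hu fun p hp => (congrArg Subtype.val
        (mem_center_iff.mp hv ⟨f p, ⟨p, hp, rfl⟩⟩)).symm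
    · rintro (e | e) <;> refine mem_center_iff.mpr fun w => Subtype.ext ?_
      · show (w : ↥M ⧸ (zpowers t).subgroupOf M) * v = v * w
        rw [e, one_mul, mul_one]
      · show (w : ↥M ⧸ (zpowers t).subgroupOf M) * v = v * w
        rw [e]; exact (hzcen w).eq
  have hzbP : f ⟨z, hPM hzP⟩ ∈ Pb := ⟨_, hzP, rfl⟩
  refine ⟨?_, ?_, ?_, ?_⟩
  · -- extraspecial
    refine isExtraspecial_of_sq ?_ ?_ ?_ ?_
    · exact ((hQ2.to_le (hP ▸ inf_le_left)).comap_of_injective M.subtype M.subtype_injective).map f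
    · rw [Nat.card_eq_two_iff]
      refine ⟨1, ⟨⟨_, hzbP⟩, (hcenter _).mpr (Or.inr rfl)⟩, fun e => ?_, ?_⟩
      · exact hzb (congrArg (fun v : center ↥Pb => ((v : ↥Pb) : ↥M ⧸ (zpowers t).subgroupOf M)) e).symm
      · ext ⟨v, hv⟩
        simp only [Set.mem_insert_iff, Set.mem_singleton_iff, Set.mem_univ, iff_true]
        rcases (hcenter v).mp hv with e | e
        · exact Or.inl (Subtype.ext (Subtype.ext e))
        · exact Or.inr (Subtype.ext (Subtype.ext e))
    · rintro ⟨_, u, hu, rfl⟩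
      refine (hcenter _).mpr ?_
      show (f u) ^ 2 = 1 ∨ (f u) ^ 2 = _
      rw [← map_pow]
      rcases h.sq_cases (u : G) ((hPmem _).mp hu).1 with e | e
      · exact Or.inl ((hker _).mpr (by rw [SubmonoidClass.coe_pow, pow_two, e]; exact one_mem _))
      · exact Or.inr (congrArg f (Subtype.ext (by rw [SubmonoidClass.coe_pow, pow_two, e])))
    · have hrP : r ∈ P := (hPmem r).mpr ⟨hr, hrt⟩
      refine ⟨⟨f ⟨r, hPM hrP⟩, ⟨_, hrP, rfl⟩⟩, ⟨f ⟨y, hPM hyP⟩, ⟨_, hyP, rfl⟩⟩, fun hc => ?_⟩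
      rcases hfcomm _ _ (congrArg Subtype.val hc : Commute (f ⟨r, hPM hrP⟩) (f ⟨y, hPM hyP⟩)) with
        e | e <;> rw [hry] at e
      · exact h.ne_one (mul_eq_left.mp e)
      · rw [← hyt.eq] at e
        exact htnez (mul_left_cancel e).symm
  · -- centraliser
    refine le_antisymm (fun x hx => ?_) ?_
    · obtain ⟨m, rfl⟩ := QuotientGroup.mk'_surjective _ x
      have hcm : ∀ p : M, (p : G) ∈ P → Commute (f m) (f p) := fun p hp =>
        (mem_centralizer_iff.mp hx _ ⟨p, hp, rfl⟩).symm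
      have hmz : Commute (m : G) z := hcz m _ (hcm ⟨z, hPM hzP⟩ hzP)
      have hmQ : (m : G) ∈ Q := (hCP _ (mem_centralizer_singleton_iff.mpr hmz.eq)).mp fun p hp => by
        rcases hfcomm m ⟨p, hPM hp⟩ (hcm _ hp) with e | e
        · exact ⟨1, one_mem _, by rw [mul_one]; exact e⟩
        · exact ⟨t, subset_closure (Or.inl rfl), by rw [((hPmem p).mp hp).2.eq]; exact e⟩
      have hmP : (m : G) ∈ P := (hPmem _).mpr ⟨hmQ, mem_centralizer_singleton_iff.mp m.2⟩
      exact ⟨⟨f m, ⟨m, hmP, rfl⟩⟩, (hcenter _).mpr (hcentP m hmP hcm), rfl⟩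
    · rintro _ ⟨v, hv, rfl⟩
      exact mem_centralizer_iff.mpr fun s hs => congrArg Subtype.val (mem_center_iff.mp hv ⟨s, hs⟩)
  · -- normaliser
    intro x hx
    obtain ⟨m, rfl⟩ := QuotientGroup.mk'_surjective _ x
    have hmz : Commute (m : G) z := hcz m _
      (mem_centralizer_iff.mp hx _ ⟨⟨_, hzbP⟩, (hcenter _).mpr (Or.inr rfl), rfl⟩).symm
    have hmn : m ∈ normalizer (P.subgroupOf M : Set M) := by
      refine mem_normalizer_iff.mpr fun s => ?_
      show (s : G) ∈ P ↔ ((m * s * m⁻¹ : M) : G) ∈ P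
      rw [hPmem, hPmem]
      refine ⟨fun ⟨h1, _⟩ => ⟨h.normalizes _ hmz _ h1,
        mem_centralizer_singleton_iff.mp (m * s * m⁻¹).2⟩,
        fun ⟨h1, _⟩ => ⟨?_, mem_centralizer_singleton_iff.mp s.2⟩⟩
      have := h.normalizes _ hmz.inv_left _ h1
      simpa [mul_assoc] using this
    exact (P.subgroupOf M).le_normalizer_map f ⟨m, hmn, rfl⟩
  · -- odd subgroups
    intro K hKodd hPK
    set L := K.comap f with hL
    have hLker : f.ker ≤ L := fun u hu => by
      show f u ∈ K
      rw [MonoidHom.mem_ker.mp hu]; exact one_mem K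
    have hkerc : Nat.card ↥f.ker = 2 := by
      rw [hf, QuotientGroup.ker_mk', Nat.card_congr (subgroupOfEquivOfLe
        (zpowers_le.mpr (mem_centralizer_singleton_iff.mpr rfl) : zpowers t ≤ M)).toEquiv,
        Nat.card_zpowers, ht]
    have hL4 : ¬ 4 ∣ Nat.card ↥L := by
      have := relIndex_mul_relIndex ⊥ f.ker L bot_le hLker
      rw [relIndex_bot_left, relIndex_bot_left] at this
      have h2 : f.ker.relIndex L = Nat.card ↥K := by
        rw [← MonoidHom.comap_bot, hL, relIndex_comap,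
          map_comap_eq_self_of_surjective (QuotientGroup.mk'_surjective _), relIndex_bot_left]
      rw [← this, hkerc, h2]
      intro hd
      rw [Nat.odd_iff] at hKodd
      omega
    have htM : t ∈ M := mem_centralizer_singleton_iff.mpr rfl
    have htL : (⟨t, htM⟩ : M) ∈ L :=
      hLker (MonoidHom.mem_ker.mpr ((hker ⟨t, htM⟩).mpr (mem_zpowers t)))
    have htc : (⟨⟨t, htM⟩, htL⟩ : L) ∈ center ↥L :=
      mem_center_iff.mpr fun u => Subtype.ext (Subtype.ext (mem_centralizer_singleton_iff.mp u.1.2))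
    set K0 := ((Cfsg.oddCore ↥L).map L.subtype).map M.subtype with hK0
    have hK0odd : Odd (Nat.card ↥K0) := by
      rw [hK0, card_map_of_injective M.subtype_injective, card_map_of_injective L.subtype_injective]
      exact PCore.odd_card_oddCore
    have hPK0 : P ≤ normalizer (K0 : Set G) := by
      have h1 : P.subgroupOf M ≤ normalizer (L : Set M) := by
        rw [le_normalizer_iff]
        intro s hs u hu
        show f (s * u * s⁻¹) ∈ K
        rw [map_mul, map_mul, map_inv]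
        exact (mem_normalizer_iff.mp (hPK ⟨s, hs, rfl⟩) _).mp hu
      have h2 : P.subgroupOf M ≤ normalizer ((Cfsg.oddCore ↥L).map L.subtype : Set M) :=
        h1.trans (normalizer_le_normalizer_map_of_characteristic L _)
      intro p hp
      exact ((Cfsg.oddCore ↥L).map L.subtype).le_normalizer_map M.subtype
        ⟨⟨p, hPM hp⟩, h2 hp, rfl⟩
    have hK0t : ∀ k ∈ K0, Commute k t := by
      rintro _ ⟨u, -, rfl⟩
      exact mem_centralizer_singleton_iff.mp u.2
    have hPQ : P ≤ Q := hP ▸ inf_le_left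
    have hfix : ∀ k ∈ K0, Commute k z → k = 1 := by
      intro k hk hkz
      have hPc := h.commute_of_odd_normalized hQ2 hPQ hK0odd hPK0 hk hkz
      have hkQ : k ∈ Q := (hCP k (mem_centralizer_singleton_iff.mpr hkz.eq)).mp fun x hx =>
        ⟨1, one_mem _, by rw [(hPc x hx).eq, mul_inv_cancel_right, mul_one]⟩
      refine orderOf_eq_one_iff.mp (Nat.eq_one_of_dvd_coprimes (show (Nat.card ↥K0).Coprime (Nat.card ↥Q) from ?_)
        (Subgroup.orderOf_dvd_natCard _ hk) (Subgroup.orderOf_dvd_natCard _ hkQ))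
      rw [hcard]
      exact hK0odd.coprime_two_right.pow_right _
    have hfixy : ∀ g' : G, g' * z * g'⁻¹ ∈ P → g' * z * g'⁻¹ ≠ z →
        ∀ k ∈ K0, Commute k (g' * z * g'⁻¹) → k = 1 := by
      intro g' hg'P hne k hk hky
      refine hfix k hk ?_
      exact (h.conj g').commute_of_odd_normalized (hQ2.map _)
        (R := zpowers z) (zpowers_le.mpr (hconj g' (hPQ hg'P) hne)) hK0odd
        (zpowers_le.mpr (hPK0 hzP)) hk hky z (mem_zpowers z)
    set V := closure ({z, y} : Set G) with hV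
    have : IsMulCommutative ↥V := isMulCommutative_closure (by
      rintro u (rfl | rfl) v (rfl | rfl) <;> first | rfl | exact hzy | exact hzy.symm)
    have hVle : V ≤ P := (closure_le P).mpr (by
      rintro u (rfl | rfl)
      exacts [hzP, hyP])
    have hV4 : ∀ v ∈ V, v = 1 ∨ v = z ∨ v = y ∨ v = z * y := fun v hv =>
      LargeExtraspecial.mem_four h.sq h'.sq hzy hv
    have hVnc : ¬ IsCyclic ↥V := by
      intro hcyc
      obtain ⟨⟨v, hv⟩, hgen⟩ := hcyc.exists_generator
      have hv2 : v * v = 1 := by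
        rcases hV4 v hv with e | e | e | e <;> rw [e]
        · rw [one_mul]
        · exact h.sq
        · exact h'.sq
        · calc z * y * (z * y) = z * (y * z) * y := by group
            _ = (z * z) * (y * y) := by rw [← hzy.eq]; group
            _ = 1 := by rw [h.sq, h'.sq, one_mul]
      have hall : ∀ u ∈ V, u = 1 ∨ u = v := by
        intro u hu
        obtain ⟨i, hi⟩ := mem_zpowers_iff.mp (hgen ⟨u, hu⟩)
        have e : v ^ i = u := congrArg Subtype.val hi
        rw [← e]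
        rcases Int.even_or_odd i with ⟨m, rfl⟩ | ⟨m, rfl⟩
        · left; rw [← two_mul, zpow_mul, zpow_two, hv2, one_zpow]
        · right; rw [zpow_add, zpow_one, zpow_mul, zpow_two, hv2, one_zpow, one_mul]
      have hz' := (hall z (subset_closure (Or.inl rfl))).resolve_left h.ne_one
      have hy' := (hall y (subset_closure (Or.inr rfl))).resolve_left h'.ne_one
      exact hyne (hy'.trans hz'.symm)
    have hcopV : (Nat.card ↥V).Coprime (Nat.card ↥K0) := by
      obtain ⟨n, hn⟩ := ((hQ2.to_le hPQ).to_le hVle).exists_card_eq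
      rw [hn]
      exact hK0odd.coprime_two_right.symm.pow_left n
    have hbot : (⊥ : Subgroup G) = K0 := Coprime.eq_of_forall_centralizer_le hVnc (hVle.trans hPK0)
      hcopV bot_le fun v hv hv1 => by
        intro k hk
        have hkv : Commute k v := mem_centralizer_singleton_iff.mp hk.2
        rw [mem_bot]
        rcases hV4 v hv with e | e | e | e <;> subst e
        · exact absurd rfl hv1
        · exact hfix k hk.1 hkv
        · exact hfixy g hyP hyne k hk.1 hkv
        · have e1 : r * g * z * (r * g)⁻¹ = z * y := by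
            rw [show r * g * z * (r * g)⁻¹ = r * (g * z * g⁻¹) * r⁻¹ by group, ← hy, hry, hzy.eq]
          refine hfixy (r * g) ?_ ?_ k hk.1 ?_
          · rw [e1]; exact mul_mem hzP hyP
          · rw [e1]; intro e2; exact h'.ne_one (mul_eq_left.mp e2)
          · rw [e1]; exact hkv
    rw [eq_bot_iff]
    intro x hx
    obtain ⟨u, rfl⟩ := QuotientGroup.mk'_surjective _ x
    obtain ⟨o, ho, i, e⟩ := exists_oddCore_mul (D := ↥L) hL4 (z := ⟨⟨t, htM⟩, htL⟩)
      (by rw [orderOf_mk, orderOf_mk, ht]) htc ⟨u, hx⟩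
    have ho' : ((o : M) : G) ∈ K0 := ⟨_, ⟨o, ho, rfl⟩, rfl⟩
    rw [← hbot, mem_bot] at ho'
    have e' := congrArg (fun a : L => ((a : M) : G)) e
    simp only [Subgroup.coe_mul, SubgroupClass.coe_zpow, ho', one_mul] at e'
    rw [mem_bot]
    exact (hker u).mpr (e' ▸ zpow_mem (mem_zpowers t) i)

end Cfsg.Agent.S5429
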