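import Cfsg.Statements.S5430
import Cfsg.Agent.Lib.LargeExtraspecial.PairQuotient

set_option autoImplicit false
open Cfsg

open scoped commutatorElement
open Cfsg.Agent.LargeExtraspecial
namespace Cfsg.Agent.S5430

/-- `C_Q(y)` is non-abelian for width at least two. -/
theorem exists_noncommuting {G : Type*} [Group G] [Finite G] {Q : Subgroup G} {z : G}
    (hex : Cfsg.IsExtraspecial 2 ↥Q) (w : ℕ) (hw : 2 ≤ w) (hcard : Nat.card ↥Q = 2 ^ (2 * w + 1))
    {g : G} (hy : g * z * g⁻¹ ∈ Q) (hub : Hub Q z) :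
    ∃ p₁ ∈ Q, ∃ p₂ ∈ Q, Commute p₁ (g * z * g⁻¹) ∧ Commute p₂ (g * z * g⁻¹) ∧ ¬ Commute p₁ p₂ := by
  have : Fact (Nat.Prime 2) := ⟨Nat.prime_two⟩
  by_contra hcon
  push Not at hcon
  set yy : ↥Q := ⟨_, hy⟩
  set A : Subgroup ↥Q := Subgroup.centralizer {yy}
  have hab : IsMulCommutative ↥A := ⟨⟨fun a b => Subtype.ext (Subtype.ext (hcon (a : ↥Q) (a : ↥Q).2
    (b : ↥Q) (b : ↥Q).2
    (congrArg Subtype.val (Subgroup.mem_centralizer_singleton_iff.mp a.2))
    (congrArg Subtype.val (Subgroup.mem_centralizer_singleton_iff.mp b.2))).eq)⟩⟩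
  have hb := Cfsg.Agent.PGroup.extraspecial_abelian_card_le hex hab
  have hidx : A.index ≤ 2 := by
    by_cases hall : ∀ q : ↥Q, q ∈ A
    · rw [(Subgroup.eq_top_iff' A).mpr hall, Subgroup.index_top]; omega
    · push Not at hall
      obtain ⟨a, ha⟩ := hall
      refine (Subgroup.index_eq_two_iff.mpr ⟨a, fun b => ?_⟩).le
      by_cases hbA : b ∈ A
      · exact Or.inr ⟨hbA, fun h => ha ((A.mul_mem_cancel_left hbA).mp h)⟩
      · refine Or.inl ⟨Subgroup.mem_centralizer_singleton_iff.mpr (Subtype.ext ?_), hbA⟩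
        have f : ∀ c : ↥Q, c ∉ A → (c : G) * (g * z * g⁻¹) * (c : G)⁻¹ = g * z * g⁻¹ * z :=
          fun c hc => (hub.comm c c.2 _ hy).resolve_left fun e => hc
            (Subgroup.mem_centralizer_singleton_iff.mpr (Subtype.ext (mul_inv_eq_iff_eq_mul.mp e)))
        have e1 := f a ha
        have e2 := f b hbA
        have hzz := hub.sq
        have hb' := hub.central b b.2
        show (b : G) * a * (g * z * g⁻¹) = g * z * g⁻¹ * ((b : G) * a)
        calc (b : G) * a * (g * z * g⁻¹) = b * ((a : G) * (g * z * g⁻¹) * (a : G)⁻¹) * a := by group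
          _ = (b * (g * z * g⁻¹) * (b : G)⁻¹) * (b * z * (b : G)⁻¹) * (b * a) := by rw [e1]; group
          _ = g * z * g⁻¹ * (z * z) * (b * a) := by
            rw [e2, hb'.eq, mul_inv_cancel_right]; simp [mul_assoc]
          _ = _ := by rw [hzz, mul_one]
  have hA := A.card_mul_index
  have h1 : Nat.card ↥Q ≤ Nat.card ↥A * 2 := hA ▸ Nat.mul_le_mul_left _ hidx
  have h2 : 32 ≤ Nat.card ↥Q := by
    rw [hcard, show (32 : ℕ) = 2 ^ 5 by norm_num]
    exact Nat.pow_le_pow_right (by norm_num) (by omega)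
  nlinarith [Nat.card_pos (α := ↥A), Nat.mul_le_mul h1 h1]

/-- Let Q be a large extraspecial 2-subgroup of the finite group G (extraspecial; centralizer equal to its centre; normal in the centralizer of its centre; normalizing no non-trivial subgroup of odd order) with centre generated by z, an involution, of width w ≥ 2 (order 2^(2w+1)); let g be an element outside the centralizer H of z with g z g⁻¹ in Q; write V for the subgroup generated by z and g z g⁻¹, X for the subgroup generated by Q and g Q g⁻¹, R for the subgroup generated by the centralizer of z in g Q g⁻¹ and the centralizer of g z g⁻¹ in Q, and E for the intersection of Q and g Q g⁻¹. Then R is the centralizer of V in X and is the largest normal 2-subgroup of X, and X/R is isomorphic to the symmetric group of degree 3; moreover the normalizer of V is the product of X and the centralizer of V in H, X is normal in it, and modulo R it is the direct product of X/R and of the centralizer of V in H modulo R. -/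
theorem result {G : Type*} [Group G] [Finite G] (Q : Subgroup G) (hQ : Cfsg.IsLargeExtraspecial Q) (z : G) (hz : ((Subgroup.center ↥Q).map Q.subtype) = Subgroup.zpowers z) (hz2 : orderOf z = 2) (w : ℕ) (hw : 2 ≤ w) (hcard : Nat.card ↥Q = 2 ^ (2 * w + 1)) (g : G) (hgH : g ∉ Subgroup.centralizer ({z} : Set G)) (hgQ : g * z * g⁻¹ ∈ Q) (V X R E : Subgroup G) (hV : V = Subgroup.closure ({z, g * z * g⁻¹} : Set G)) (hX : X = Q ⊔ (Q).map (MulAut.conj g).toMonoidHom) (hR : R = ((Q).map (MulAut.conj g).toMonoidHom ⊓ Subgroup.centralizer ({z} : Set G)) ⊔ (Q ⊓ Subgroup.centralizer ({g * z * g⁻¹} : Set G))) (hE : E = Q ⊓ (Q).map (MulAut.conj g).toMonoidHom) : R = X ⊓ Subgroup.centralizer (V : Set G) ∧ R = (Cfsg.pCore 2 ↥X).map X.subtype ∧ (∃ h : (R.subgroupOf X).Normal, Nonempty (↥X ⧸ R.subgroupOf X ≃* Equiv.Perm (Fin 3))) ∧ Subgroup.normalizer (V : Set G) = X ⊔ (Subgroup.centralizer ({z} : Set G) ⊓ Subgroup.centralizer (V : Set G)) ∧ (∀ y ∈ Subgroup.normalizer (V : Set G), ∀ x ∈ X, y *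 x * y⁻¹ ∈ X) ∧ R ≤ Subgroup.centralizer ({z} : Set G) ⊓ Subgroup.centralizer (V : Set G) ∧ (∀ x ∈ X, ∀ c ∈ Subgroup.centralizer ({z} : Set G) ⊓ Subgroup.centralizer (V : Set G), x * c * x⁻¹ * c⁻¹ ∈ R) ∧ X ⊓ (Subgroup.centralizer ({z} : Set G) ⊓ Subgroup.centralizer (V : Set G)) = R := by
  have hub := Hub.of_isLargeExtraspecial hQ hz hz2
  have hne : g * z * g⁻¹ ≠ z := fun h =>
    hgH (Subgroup.mem_centralizer_singleton_iff.mpr (mul_inv_eq_iff_eq_mul.mp h))
  have hP := exists_noncommuting hQ.1 w hw hcard hgQ hub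
  have p := Pair.of_conj hub g hgQ hne hP
  subst hV hX hR hE
  refine ⟨p.R_eq_inf_centralizer, p.pCore_X, p.exists_quotient_iso, ?_,
    fun n hn x hx => p.conj_X_mem hn hx, ?_, ?_, ?_⟩
  · rw [Pair.centralizer_V_eq]; exact p.normalizer_eq
  · rw [Pair.centralizer_V_eq]; exact p.R_eq_inf_centralizer.trans_le inf_le_right
  · intro x hx c hc
    rw [Pair.centralizer_V_eq] at hc
    exact p.commutator_X_CV hx (mem_centralizer_pair.mp hc)
  · rw [Pair.centralizer_V_eq]; exact p.R_eq_inf_centralizer.symm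

end Cfsg.Agent.S5430
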