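import Cfsg.Statements.S5432
import Cfsg.Agent.Lib.PGroup.ExtraspecialTwoOut

set_option autoImplicit false
open Cfsg

namespace Cfsg.Agent.S5432

open Cfsg.Agent.PGroup.TwoOut Cfsg.Agent.QFormF2

/-- Type `+` exactly when there is an elementary abelian subgroup of order `2 ^ (n + 1)`. -/
theorem plus_iff {E : Type*} [Group E] [Finite E] (hE : Cfsg.IsExtraspecial 2 E) {n : ℕ}
    {χ : E →* Multiplicative (Fin n ⊕ Fin n → ZMod 2)} {w : Fin n ⊕ Fin n → ZMod 2}
    (h : IsCoord χ (formOf w)) :
    (∃ A : Subgroup E, Cfsg.IsElementaryAbelian 2 A ∧ Nat.card ↥A = 2 ^ (n + 1)) ↔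
      quadFormPlus n (ZMod 2) w = 0 := by
  classical
  constructor
  · rintro ⟨A, ⟨-, hA2⟩, hA⟩
    let U' : AddSubgroup (Fin n ⊕ Fin n → ZMod 2) := Subgroup.toAddSubgroup' (A.map χ)
    have hU : ∀ u ∈ AddSubgroup.toZModSubmodule 2 U', formOf w u = 0 := by
      rintro u hu
      obtain ⟨a, ha, hau⟩ := (hu : Multiplicative.ofAdd u ∈ A.map χ)
      have hau' : (χ a).toAdd = u := congrArg Multiplicative.toAdd hau
      rw [← hau', h.sq, hA2 a ha, bit_one]
    obtain ⟨hle, heq⟩ := singular_bounds w _ hU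
    refine heq (le_antisymm hle ?_)
    have h1 := Module.natCard_eq_pow_finrank (K := ZMod 2) (V := AddSubgroup.toZModSubmodule 2 U')
    rw [Nat.card_zmod] at h1
    have h2 : Nat.card A ≤ 2 * Nat.card ↥(A.map χ) := by
      rw [← Subgroup.card_mul_index ((χ.domRestrict A).ker), Subgroup.index_ker,
        MonoidHom.domRestrict_range]
      refine Nat.mul_le_mul_right _ (le_of_le_of_eq ?_ hE.2)
      refine Nat.card_le_card_of_injective (fun x => (⟨((x : A) : E), ?_⟩ : Subgroup.center E)) ?_
      · rw [← h.ker]; exact x.2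
      · exact fun x y hxy => Subtype.ext (Subtype.ext (congrArg Subtype.val hxy :))
    have h3 : Nat.card ↥(A.map χ) = Nat.card ↥(AddSubgroup.toZModSubmodule 2 U') :=
      Nat.card_congr (Equiv.subtypeEquiv Multiplicative.toAdd fun a => Iff.rfl)
    rw [hA, h3, h1, ← pow_succ'] at h2
    have := (Nat.pow_le_pow_iff_right (le_refl 2)).1 h2
    omega
  · intro hw
    obtain ⟨g, hg⟩ := (exists_equiv_formOf_iff w 0).2 (hw.trans quadFormPlus_zero.symm)
    have hg' : ∀ v, formOf w v = quadFormPlus n (ZMod 2) (g v) := fun v => by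
      rw [hg v, formOf, alt_eq]; simp
    have h' := h.congr g hg'
    set χ' := (AddMonoidHom.toMultiplicative g.toAddEquiv.toAddMonoidHom).comp χ
    let R : (Fin n → ZMod 2) →+ (Fin n ⊕ Fin n → ZMod 2) :=
      AddMonoidHom.mk' (fun a => Sum.elim a 0) fun a b => by
        funext j; rcases j with j | j <;> simp
    let L : Subgroup (Multiplicative (Fin n ⊕ Fin n → ZMod 2)) :=
      (AddMonoidHom.toMultiplicative R).range
    have hq0 : ∀ x ∈ L.comap χ', quadFormPlus n (ZMod 2) (χ' x).toAdd = 0 := by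
      rintro x ⟨a, ha⟩
      rw [← ha]
      show quadFormPlus n (ZMod 2) (Sum.elim a.toAdd 0) = 0
      simp [quadFormPlus]
    have : Fact (Nat.Prime 2) := ⟨Nat.prime_two⟩
    have hsq : ∀ x ∈ L.comap χ', x ^ 2 = 1 := fun x hx =>
      bit_inj hE (Cfsg.Agent.PGroup.special_pow_mem_center hE.1 x) (Subgroup.one_mem _)
        ((h'.sq x).symm.trans ((hq0 x hx).trans bit_one.symm))
    refine ⟨L.comap χ', ⟨⟨⟨fun a b => Subtype.ext ?_⟩⟩, hsq⟩, ?_⟩
    · have h1 := hsq _ (mul_mem a.2 b.2)
      have h2 : (a : E) ^ 2 = 1 := hsq a a.2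
      have h3 : (b : E) ^ 2 = 1 := hsq b b.2
      show (a : E) * b = b * a
      rw [pow_two] at h1 h2 h3
      rw [← inv_eq_of_mul_eq_one_right h1, mul_inv_rev, inv_eq_of_mul_eq_one_right h2,
        inv_eq_of_mul_eq_one_right h3]
    · have h1 := Subgroup.card_mul_index (((χ'.domRestrict (L.comap χ')).ker))
      rw [Subgroup.index_ker, MonoidHom.domRestrict_range, Subgroup.map_comap_eq_self_of_surjective h'.surj] at h1
      rw [← h1]
      have hzc : ∀ z : Subgroup.center E, χ' (z : E) = 1 := fun z => MonoidHom.mem_ker.1 (h'.ker.ge z.2)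
      have hk : Nat.card ↥(χ'.domRestrict (L.comap χ')).ker = 2 := by
        refine Eq.trans ?_ hE.2
        refine Nat.card_congr
          { toFun := fun x => ⟨((x : L.comap χ') : E), by rw [← h'.ker]; exact x.2⟩
            invFun := fun z => ⟨⟨z, Subgroup.mem_comap.2 (by
              rw [hzc z]; exact L.one_mem)⟩, hzc z⟩
            left_inv := fun x => rfl
            right_inv := fun z => rfl }
      have hR : Function.Injective (AddMonoidHom.toMultiplicative R) := fun a b hab =>
        Multiplicative.toAdd.injective (funext fun i => congrFun (congrArg Multiplicative.toAdd hab) (Sum.inl i))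
      rw [hk, ← Nat.card_congr (MonoidHom.ofInjective hR).toEquiv, pow_succ']
      simp [Nat.card_congr Multiplicative.toAdd, Nat.card_fun]


/-- Let E be an extraspecial 2-group of order 2^(2n+1), n ≥ 1. If E contains an elementary abelian subgroup of order 2^(n+1) (plus type), then its outer automorphism group is isomorphic to the full isometry group of the hyperbolic quadratic form in dimension 2n over the field with two elements; otherwise (minus type) it is isomorphic to the full isometry group of the elliptic quadratic form in dimension 2n over that field. -/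
theorem result {E : Type*} [Group E] [Finite E] (hE : Cfsg.IsExtraspecial 2 E) (n : ℕ) (hn : 1 ≤ n) (hcard : Nat.card E = 2 ^ (2 * n + 1)) : ((∃ A : Subgroup E, Cfsg.IsElementaryAbelian 2 A ∧ Nat.card ↥A = 2 ^ (n + 1)) → Nonempty (Cfsg.Out E ≃* Cfsg.isometryGroup (ZMod 2) (Cfsg.quadFormPlus n (ZMod 2)))) ∧ ((¬ ∃ A : Subgroup E, Cfsg.IsElementaryAbelian 2 A ∧ Nat.card ↥A = 2 ^ (n + 1)) → Nonempty (Cfsg.Out E ≃* Cfsg.isometryGroup (ZMod 2) (Cfsg.quadFormMinus (n - 1) (ZMod 2) 1 1))) := by
  obtain ⟨χ, w, h⟩ := exists_coord hE hcard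
  refine ⟨fun hA => ?_, fun hA => ?_⟩
  · obtain ⟨g, hg⟩ := (exists_equiv_formOf_iff w 0).2
      (((plus_iff hE h).1 hA).trans quadFormPlus_zero.symm)
    exact (h.congr g (q' := quadFormPlus n (ZMod 2))
      fun v => by rw [hg v, formOf, alt_eq]; simp).outEquiv hE
  · obtain ⟨k, rfl⟩ : ∃ k, n = k + 1 := ⟨n - 1, by omega⟩
    have hw : quadFormPlus (k + 1) (ZMod 2) w = 1 :=
      (eq_zero_or_one _).resolve_left fun h0 => hA ((plus_iff hE h).2 h0)
    obtain ⟨g, hg⟩ := (exists_equiv_formOf_iff w (lastPair k)).2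
      (hw.trans (quadFormPlus_lastPair k).symm)
    exact (h.congr (g.trans (splitLast k)) (q' := quadFormMinus k (ZMod 2) 1 1)
      fun v => by rw [hg v, ← minus_splitLast]; rfl).outEquiv hE

end Cfsg.Agent.S5432
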