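import Cfsg.Statements.S5434
import Cfsg.Agent.Lib.PGroup.ExtraspecialSub
import Cfsg.Agent.Lib.Coprime.Commutator

set_option autoImplicit false
open Cfsg

open scoped commutatorElement
open Cfsg.Agent.PGroup
namespace Cfsg.Agent.S5434

/-- Let Q be a large extraspecial 2-subgroup of the finite group G (extraspecial; centralizer equal to its centre; normal in the centralizer of its centre; normalizing no non-trivial subgroup of odd order), and A a non-trivial subgroup of odd order of the normalizer of Q. Then Q is the central product of the centralizer of A in Q and the commutator subgroup [Q, A] (they generate Q and commute elementwise), [Q, A] is extraspecial, and the centralizer of A in Q is either the centre of Q or extraspecial. -/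
theorem result {G : Type*} [Group G] [Finite G] (Q : Subgroup G) (hQ : Cfsg.IsLargeExtraspecial Q) (A : Subgroup G) (hA : A ≤ Subgroup.normalizer (Q : Set G)) (hAodd : Odd (Nat.card ↥A)) (hA1 : A ≠ ⊥) : (Q ⊓ Subgroup.centralizer (A : Set G)) ⊔ ⁅Q, A⁆ = Q ∧ (∀ x ∈ Q ⊓ Subgroup.centralizer (A : Set G), ∀ y ∈ ⁅Q, A⁆, x * y = y * x) ∧ Cfsg.IsExtraspecial 2 ↥⁅Q, A⁆ ∧ (Q ⊓ Subgroup.centralizer (A : Set G) = ((Subgroup.center ↥Q).map Q.subtype) ∨ Cfsg.IsExtraspecial 2 ↥(Q ⊓ Subgroup.centralizer (A : Set G))) := by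
  haveI : Fact (Nat.Prime 2) := ⟨Nat.prime_two⟩
  obtain ⟨hex, hC, -, -⟩ := hQ
  set Z := (Subgroup.center ↥Q).map Q.subtype with hZ
  clear_value Z
  have hZ2 : Nat.card ↥Z = 2 := by
    rw [hZ, Subgroup.card_map_of_injective Q.subtype_injective]; exact hex.2
  have hZQ : Z ≤ Q := hZ ▸ Subgroup.map_subtype_le _
  have hZcent : ∀ q ∈ Q, ∀ z ∈ Z, q * z = z * q := by
    rw [hZ]; rintro q hq _ ⟨w, hw, rfl⟩
    exact congrArg Subtype.val (Subgroup.mem_center_iff.mp hw ⟨q, hq⟩)
  have hQ2 : ∃ n, Nat.card ↥Q = 2 ^ n := IsPGroup.iff_card.mp hex.1.1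
  obtain ⟨n, hn⟩ := hQ2
  have hcop : (Nat.card ↥A).Coprime (Nat.card ↥Q) := by
    rw [hn]; exact Nat.Coprime.pow_right _ (Nat.coprime_two_right.mpr hAodd)
  have hsol : Group.IsSolvable ↥Q := by
    haveI : Group.IsNilpotent ↥Q := hex.1.1.isNilpotent
    infer_instance
  -- `A` centralises `Z`
  have hAZ : Z ≤ Subgroup.centralizer (A : Set G) := by
    intro z hz a ha
    have hmem : a * z * a⁻¹ ∈ Z := by
      rw [← hC]
      intro q hq
      have hq' : a⁻¹ * q * a ∈ Q := by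
        have := (Subgroup.mem_normalizer_iff.mp (Subgroup.inv_mem _ (hA ha)) q).mp hq
        simpa using this
      calc q * (a * z * a⁻¹) = a * ((a⁻¹ * q * a) * z) * a⁻¹ := by group
        _ = a * (z * (a⁻¹ * q * a)) * a⁻¹ := by rw [hZcent _ hq' z hz]
        _ = a * z * a⁻¹ * q := by group
    by_cases h1 : z = 1
    · simp [h1]
    · have hne : (⟨z, hz⟩ : ↥Z) ≠ 1 := by simpa [Subtype.ext_iff] using h1
      have hne' : (⟨a * z * a⁻¹, hmem⟩ : ↥Z) ≠ 1 := by simp [Subtype.ext_iff, h1]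
      obtain ⟨u, v, -, huniv⟩ := Nat.card_eq_two_iff.mp hZ2
      have key : ∀ w : ↥Z, w = u ∨ w = v := fun w => by
        have : w ∈ ({u, v} : Set ↥Z) := huniv ▸ Set.mem_univ w
        simpa using this
      have : (⟨a * z * a⁻¹, hmem⟩ : ↥Z) = ⟨z, hz⟩ := by
        rcases key 1 with o | o <;> rcases key ⟨z, hz⟩ with o' | o' <;>
          rcases key ⟨a * z * a⁻¹, hmem⟩ with o'' | o'' <;> simp_all
      exact mul_inv_eq_iff_eq_mul.mp (congrArg Subtype.val this)
  set C := Q ⊓ Subgroup.centralizer (A : Set G) with hCdef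
  set R := ⁅Q, A⁆ with hRdef
  have hRQ : R ≤ Q := Cfsg.Agent.Coprime.commutator_le_left_of_le_normalizer hA
  have hsup : C ⊔ R = Q := by
    rw [sup_comm]; exact Cfsg.Agent.Coprime.commutator_sup_centralizer hA hcop (Or.inr hsol)
  have hCR : C ≤ Subgroup.centralizer (R : Set G) := by
    rw [Subgroup.le_centralizer_iff, hRdef, Subgroup.commutator_le]
    intro q hq a ha c hc
    have hk : q⁻¹ * (c * q * c⁻¹) ∈ Z := by
      have := special_commutator_mem_center hex.1 (⟨q, hq⟩⁻¹ : ↥Q) ⟨c, hc.1⟩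
      rw [hZ]
      refine ⟨_, this, ?_⟩
      simp [commutatorElement_def, mul_assoc]
    have hka : a * (q⁻¹ * (c * q * c⁻¹)) = q⁻¹ * (c * q * c⁻¹) * a := hAZ hk a ha
    have hca : a * c = c * a := hc.2 a ha
    show c * ⁅q, a⁆ = ⁅q, a⁆ * c
    simp only [commutatorElement_def]
    calc c * (q * a * q⁻¹ * a⁻¹)
        = (c * q * c⁻¹) * (c * a) * q⁻¹ * a⁻¹ := by group
      _ = (c * q * c⁻¹) * (a * c) * q⁻¹ * a⁻¹ := by rw [hca]
      _ = q * ((q⁻¹ * (c * q * c⁻¹)) * a) * (c * q⁻¹ * a⁻¹) := by group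
      _ = q * (a * (q⁻¹ * (c * q * c⁻¹))) * (c * q⁻¹ * a⁻¹) := by rw [hka]
      _ = q * a * q⁻¹ * (c * a⁻¹) := by group
      _ = q * a * q⁻¹ * (a⁻¹ * (a * c) * a⁻¹) := by group
      _ = q * a * q⁻¹ * (a⁻¹ * (c * a) * a⁻¹) := by rw [hca]
      _ = q * a * q⁻¹ * a⁻¹ * c := by group
  have hcentmem : ∀ x ∈ Q, x ∈ Subgroup.centralizer (C : Set G) →
      x ∈ Subgroup.centralizer (R : Set G) → x ∈ Z := by
    intro x _ hxC hxR
    rw [← hC, ← hsup]
    have h : C ⊔ R ≤ Subgroup.centralizer {x} :=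
      sup_le (fun c hc => Subgroup.mem_centralizer_singleton_iff.mpr (hxC c hc))
        (fun r hr => Subgroup.mem_centralizer_singleton_iff.mpr (hxR r hr))
    exact fun y hy => Subgroup.mem_centralizer_singleton_iff.mp (h hy)
  have hRC : R ≤ Subgroup.centralizer (C : Set G) := Subgroup.le_centralizer_iff.mp hCR
  refine ⟨hsup, fun x hx y hy => (hCR hx y hy).symm, ?_, ?_⟩
  · refine (isExtraspecial_of_le hex hRQ (fun x hx => ?_) fun hab => ?_).1
    · exact hZ ▸ hcentmem x (hRQ hx.1) (hRC hx.1) hx.2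
    · have hRZ : R ≤ Z := fun x hx => hcentmem x (hRQ hx) (hRC hx) (hab hx)
      have hQA : A ≤ Subgroup.centralizer (Q : Set G) := by
        rw [Subgroup.le_centralizer_iff, ← hsup]
        exact sup_le inf_le_right (hRZ.trans hAZ)
      have hAle : A ≤ Z := hC ▸ hQA
      have hd : Nat.card ↥A ∣ 2 := hZ2 ▸ Subgroup.card_dvd_of_le hAle
      rcases (Nat.dvd_prime Nat.prime_two).mp hd with h | h
      · exact hA1 (Subgroup.card_eq_one.mp h)
      · rw [h] at hAodd; exact absurd hAodd (by decide)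
  · by_cases hab : C ≤ Subgroup.centralizer (C : Set G)
    · left
      exact le_antisymm (fun x hx => hcentmem x hx.1 (hab hx) (hCR hx))
        (le_inf hZQ hAZ)
    · right
      refine (isExtraspecial_of_le hex inf_le_left (fun x hx => ?_) hab).1
      exact hZ ▸ hcentmem x hx.1.1 hx.2 (hCR hx.1)

end Cfsg.Agent.S5434
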