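import Cfsg.Statements.S5435
import Cfsg.Agent.Lib.Transfer.Thompson
import Cfsg.Agent.Lib.Transfer.Residual
import Cfsg.Agent.Lib.PGroup.Frattini

set_option autoImplicit false
open Cfsg

open scoped commutatorElement
namespace Cfsg.Agent.S5435

/-- The central elements of `R`, as a predicate. -/
def Central {L : Type*} [Group L] (R : Subgroup L) (c : L) : Prop :=
  c ∈ R ∧ ∀ r ∈ R, r * c = c * r

/-- A non-central element conjugate to a central one has elementary abelian centraliser in `R`,
and differs from that central element by a conjugate of `z`. -/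
theorem key {L : Type*} [Group L] [Finite L] (z : L) (hz : z ^ 2 = 1) (R : Sylow 2 L)
    (hR : (R : Subgroup L) = Subgroup.centralizer ({z} : Set L))
    (hsq : ∀ r ∈ (R : Subgroup L), r ^ 2 ∈ Subgroup.zpowers z)
    (hcom : ∀ r ∈ (R : Subgroup L), ∀ s ∈ (R : Subgroup L), ⁅r, s⁆ ∈ Subgroup.zpowers z)
    (hburn : ∀ a b g : L, Central (R : Subgroup L) a → Central (R : Subgroup L) b →
      g * a * g⁻¹ = b → a = b)
    (y c : L) (hy : y ∈ (R : Subgroup L)) (hyZ : ¬ Central (R : Subgroup L) y)
    (hc : Central (R : Subgroup L) c) (hyc : IsConj c y) :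
    (∀ d ∈ (R : Subgroup L), Commute d y → d ^ 2 = 1 ∧
      ∀ d' ∈ (R : Subgroup L), Commute d' y → Commute d d') ∧ IsConj z (y * c) := by
  haveI : Fact (Nat.Prime 2) := ⟨Nat.prime_two⟩
  have hz2 : ∀ w ∈ Subgroup.zpowers z, w = 1 ∨ w = z := by
    intro w hw
    obtain ⟨n, rfl⟩ := Subgroup.mem_zpowers_iff.mp hw
    rcases Int.even_or_odd n with ⟨m, rfl⟩ | ⟨m, rfl⟩
    · left; rw [← two_mul, zpow_mul, zpow_two, ← pow_two, hz, one_zpow]
    · right; rw [zpow_add, zpow_one, zpow_mul, zpow_two, ← pow_two, hz, one_zpow, one_mul]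
  have hzR : ∀ r ∈ (R : Subgroup L), r * z = z * r := fun r hr => by
    rw [hR] at hr; exact Subgroup.mem_centralizer_singleton_iff.mp hr
  have hzmem : z ∈ (R : Subgroup L) := by
    rw [hR]; exact Subgroup.mem_centralizer_singleton_iff.mpr rfl
  set D := (R : Subgroup L) ⊓ Subgroup.centralizer ({y} : Set L) with hD
  have hyD : y ∈ D := ⟨hy, Subgroup.mem_centralizer_singleton_iff.mpr rfl⟩
  have hDc : ∀ d, d ∈ (R : Subgroup L) → Commute d y → d ∈ D := fun d h1 h2 =>
    ⟨h1, Subgroup.mem_centralizer_singleton_iff.mpr h2.eq⟩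
  -- a Sylow subgroup fixing `y` and containing `D`
  obtain ⟨g, hgy, hDg⟩ : ∃ g : L, g * c * g⁻¹ = y ∧ ∀ d ∈ D, g⁻¹ * d * g ∈ (R : Subgroup L) := by
    obtain ⟨g₀, hg₀⟩ := isConj_iff.mp hyc
    set C := Subgroup.centralizer ({y} : Set L)
    have hmem : ∀ x, x ∈ ((g₀ • R : Sylow 2 L) : Subgroup L) ↔ g₀⁻¹ * x * g₀ ∈ (R : Subgroup L) := by
      intro x
      rw [Sylow.coe_subgroup_smul, Subgroup.mem_pointwise_smul_iff_inv_smul_mem]
      simp [MulAut.smul_def]
    have hle : ((g₀ • R : Sylow 2 L) : Subgroup L) ≤ C := by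
      intro x hx
      refine Subgroup.mem_centralizer_singleton_iff.mpr ?_
      have := hc.2 _ ((hmem x).mp hx)
      calc x * y = g₀ * (g₀⁻¹ * x * g₀ * c) * g₀⁻¹ := by rw [← hg₀]; group
        _ = g₀ * (c * (g₀⁻¹ * x * g₀)) * g₀⁻¹ := by rw [this]
        _ = y * x := by rw [← hg₀]; group
    have hDp : IsPGroup 2 ↥(D.subgroupOf C) :=
      (R.isPGroup'.to_le inf_le_left : IsPGroup 2 ↥D).of_equiv
        (Subgroup.subgroupOfEquivOfLe inf_le_right).symm
    obtain ⟨S, hS⟩ := hDp.exists_le_sylow
    obtain ⟨h, hh⟩ := MulAction.exists_smul_eq ↥C ((g₀ • R : Sylow 2 L).subtype hle) S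
    refine ⟨h * g₀, ?_, fun d hd => ?_⟩
    · have := Subgroup.mem_centralizer_singleton_iff.mp h.2
      calc (h : L) * g₀ * c * ((h : L) * g₀)⁻¹ = h * (g₀ * c * g₀⁻¹) * (h : L)⁻¹ := by group
        _ = (h * y) * (h : L)⁻¹ := by rw [hg₀]
        _ = y := by rw [this]; group
    · have hdS : (⟨d, hd.2⟩ : ↥C) ∈ (S : Subgroup ↥C) := hS (Subgroup.mem_subgroupOf.mpr hd)
      rw [← hh, Sylow.coe_subgroup_smul, Subgroup.mem_pointwise_smul_iff_inv_smul_mem] at hdS
      simp only [Sylow.coe_subtype, Subgroup.mem_subgroupOf, hmem] at hdS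
      simpa [MulAut.smul_def, mul_assoc] using hdS
  obtain ⟨u, huR, hu⟩ : ∃ u ∈ (R : Subgroup L), ¬ Commute u y := by
    by_contra h; push Not at h; exact hyZ ⟨hy, fun r hr => h r hr⟩
  have hmove : ∀ r ∈ (R : Subgroup L), ¬ Commute r y → r * y * r⁻¹ = z * y := by
    intro r hr hne
    rcases hz2 _ (hcom r hr y hy) with h | h
    · exact absurd (commutatorElement_eq_one_iff_mul_comm.mp h) hne
    · rw [commutatorElement_def] at h
      exact eq_mul_of_mul_inv_eq h
  have hcase : ∀ r ∈ (R : Subgroup L), r ∈ D ∨ u⁻¹ * r ∈ D := by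
    intro r hr
    by_cases h : Commute r y
    · exact Or.inl (hDc r hr h)
    · refine Or.inr (hDc _ (Subgroup.mul_mem _ (Subgroup.inv_mem _ huR) hr) ?_)
      show u⁻¹ * r * y = y * (u⁻¹ * r)
      calc u⁻¹ * r * y = u⁻¹ * (r * y * r⁻¹) * r := by group
        _ = u⁻¹ * (u * y * u⁻¹) * r := by rw [hmove r hr h, hmove u huR hu]
        _ = y * (u⁻¹ * r) := by group
  set T := (R : Subgroup L).map (MulAut.conj g).toMonoidHom with hT
  have hTmem : ∀ t, t ∈ T ↔ g⁻¹ * t * g ∈ (R : Subgroup L) := by
    intro t; constructor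
    · rintro ⟨r, hr, rfl⟩
      have e : g⁻¹ * (g * r * g⁻¹) * g = r := by group
      show g⁻¹ * (g * r * g⁻¹) * g ∈ _
      rw [e]; exact hr
    · intro h; exact ⟨_, h, by simp [mul_assoc]⟩
  have hDT : D ≤ T := fun d hd => (hTmem d).mpr (hDg d hd)
  have hTcard : Nat.card ↥T = Nat.card ↥(R : Subgroup L) := by
    rw [hT, Subgroup.card_map_of_injective (MulAut.conj g).injective]
  have huD : u ∉ D := fun h => hu (Subgroup.mem_centralizer_singleton_iff.mp h.2)
  have hDi : D.relIndex (R : Subgroup L) = 2 := by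
    rw [Subgroup.relIndex, Subgroup.index_eq_two_iff]
    refine ⟨⟨u⁻¹, Subgroup.inv_mem _ huR⟩, fun r => ?_⟩
    simp only [Subgroup.mem_subgroupOf, Subgroup.coe_mul]
    by_cases h : (r : L) ∈ D
    · refine Or.inr ⟨h, fun h2 => ?_⟩
      have := D.inv_mem ((D.mul_mem_cancel_left h).mp h2)
      exact huD (by simpa using this)
    · refine Or.inl ⟨?_, h⟩
      rcases hcase (r : L)⁻¹ (Subgroup.inv_mem _ r.2) with h2 | h2
      · exact absurd (by simpa using D.inv_mem h2) h
      · have h3 := D.inv_mem h2
        rw [mul_inv_rev, inv_inv, inv_inv] at h3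
        have hu2 : u * u ∈ D := by
          rcases hz2 _ (pow_two u ▸ hsq u huR) with e | e <;> rw [e]
          · exact D.one_mem
          · exact ⟨hzmem, Subgroup.mem_centralizer_singleton_iff.mpr (hzR y hy).symm⟩
        have e : (r : L) * u⁻¹ = (r : L) * u * (u * u)⁻¹ := by group
        rw [e]; exact D.mul_mem h3 (D.inv_mem hu2)
  have hDTn : (D.subgroupOf T).Normal := by
    refine Subgroup.normal_of_index_eq_two ?_
    show D.relIndex T = 2
    have e1 := Subgroup.relIndex_mul_relIndex ⊥ D T bot_le hDT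
    have e2 := Subgroup.relIndex_mul_relIndex ⊥ D (R : Subgroup L) bot_le inf_le_left
    rw [Subgroup.relIndex_bot_left, Subgroup.relIndex_bot_left, hTcard] at e1
    rw [Subgroup.relIndex_bot_left, Subgroup.relIndex_bot_left, hDi, ← e1] at e2
    exact (Nat.eq_of_mul_eq_mul_left Nat.card_pos e2).symm
  have hTD : ∀ t ∈ T, ∀ d ∈ D, t * d * t⁻¹ ∈ D := fun t ht d hd =>
    hDTn.conj_mem ⟨d, hDT hd⟩ hd ⟨t, ht⟩
  have hTy : ∀ t ∈ T, t * y = y * t := by
    intro t ht
    have := hc.2 _ ((hTmem t).mp ht)
    calc t * y = g * (g⁻¹ * t * g * c) * g⁻¹ := by rw [← hgy]; group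
      _ = g * (c * (g⁻¹ * t * g)) * g⁻¹ := by rw [this]
      _ = y * t := by rw [← hgy]; group
  obtain ⟨t, htT, htR⟩ : ∃ t ∈ T, t ∉ (R : Subgroup L) := by
    by_contra h; push Not at h
    have heq : T = (R : Subgroup L) := Subgroup.eq_of_le_of_card_ge h hTcard.ge
    exact hu (hTy u (heq ▸ huR))
  have htz : t * z * t⁻¹ ≠ z := fun h => htR (by
    rw [hR]; exact Subgroup.mem_centralizer_singleton_iff.mpr (mul_inv_eq_iff_eq_mul.mp h))
  have hel : ∀ d ∈ D, d ^ 2 = 1 := by
    intro d hd
    rcases hz2 _ (hsq d hd.1) with h | h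
    · exact h
    · exfalso
      rcases hz2 _ (hsq _ (hTD t htT d hd).1) with h' | h'
      · rw [← MulAut.conj_apply, ← map_pow, MulEquiv.map_eq_one_iff] at h'
        apply htz; rw [← h, h']; simp
      · rw [← MulAut.conj_apply, ← map_pow, h] at h'
        exact htz h'
  have hDab : ∀ d ∈ D, ∀ d' ∈ D, Commute d d' := by
    intro d hd d' hd'
    rcases hz2 _ (hcom d hd.1 d' hd'.1) with h | h
    · exact commutatorElement_eq_one_iff_mul_comm.mp h
    · exfalso
      rcases hz2 _ (hcom _ (hTD t htT d hd).1 _ (hTD t htT d' hd').1) with h' | h'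
      · rw [← MulAut.conj_apply, ← MulAut.conj_apply, ← map_commutatorElement,
          MulEquiv.map_eq_one_iff] at h'
        apply htz; rw [← h, h']; simp
      · rw [← MulAut.conj_apply, ← MulAut.conj_apply, ← map_commutatorElement, h] at h'
        exact htz h'
  refine ⟨fun d hd hdy => ⟨hel d (hDc d hd hdy), fun d' hd' hd'y =>
    hDab d (hDc d hd hdy) d' (hDc d' hd' hd'y)⟩, ?_⟩
  -- the centre of `T` inside `D`
  set z' := g * z * g⁻¹ with hz'
  clear_value z'
  have hzD : z ∈ D := ⟨hzmem, Subgroup.mem_centralizer_singleton_iff.mpr (hzR y hy).symm⟩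
  have hz'2 : t * z * t⁻¹ = z' * z := by
    have htg := (hTmem t).mp htT
    have hzg := hDg z hzD
    rcases hz2 _ (hcom _ htg _ hzg) with h | h
    · exfalso; apply htz
      have e := commutatorElement_eq_one_iff_mul_comm.mp h
      calc t * z * t⁻¹ = g * ((g⁻¹ * t * g) * (g⁻¹ * z * g)) * g⁻¹ * t⁻¹ := by group
        _ = g * ((g⁻¹ * z * g) * (g⁻¹ * t * g)) * g⁻¹ * t⁻¹ := by rw [e]
        _ = z := by group
    · rw [commutatorElement_def] at h
      calc t * z * t⁻¹ = g * ((g⁻¹ * t * g) * (g⁻¹ * z * g) * (g⁻¹ * t * g)⁻¹ * (g⁻¹ * z * g)⁻¹)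
            * g⁻¹ * z := by group
        _ = z' * z := by rw [h, hz']
  have hzz : z * z = 1 := by rw [← pow_two, hz]
  have hz'D : z' ∈ D := by
    have : z' = t * z * t⁻¹ * z := by rw [hz'2, mul_assoc, hzz, mul_one]
    rw [this]; exact D.mul_mem (hTD t htT z hzD) hzD
  have hz'Z : ¬ Central (R : Subgroup L) z' := by
    intro hcen
    have e : z' = z := (hburn z z' g ⟨hzmem, hzR⟩ hcen hz'.symm).symm
    rw [e, hzz] at hz'2
    have := congrArg (fun w => t⁻¹ * w * t) hz'2
    simp [mul_assoc] at this
    exact htz (by rw [this]; simp)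
  -- `e = y z'` is central in both `R` and `T`
  set e := y * z' with he
  clear_value e
  have heD : e ∈ D := he ▸ D.mul_mem hyD hz'D
  have hnc : ∀ d ∈ D, ¬ Central (R : Subgroup L) d → u * d * u⁻¹ = z * d := by
    intro d hd hdZ
    rcases hz2 _ (hcom u huR d hd.1) with h | h
    · exfalso; apply hdZ
      refine ⟨hd.1, fun r hr => ?_⟩
      have hud : u * d = d * u := commutatorElement_eq_one_iff_mul_comm.mp h
      rcases hcase r hr with h2 | h2
      · exact hDab r h2 d hd
      · calc r * d = u * ((u⁻¹ * r) * d) := by group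
          _ = (u * d) * (u⁻¹ * r) := by rw [(hDab _ h2 d hd).eq]; group
          _ = d * r := by rw [hud]; group
    · rw [commutatorElement_def] at h
      exact eq_mul_of_mul_inv_eq h
  have heu : u * e * u⁻¹ = e := by
    have a1 := hmove u huR hu
    have a2 := hnc z' hz'D hz'Z
    calc u * e * u⁻¹ = (u * y * u⁻¹) * (u * z' * u⁻¹) := by rw [he]; group
      _ = z * y * (z * z') := by rw [a1, a2]
      _ = z * (y * z) * z' := by group
      _ = e := by rw [hzR y hy, ← mul_assoc, hzz, one_mul, ← he]
  have heR : Central (R : Subgroup L) e := by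
    refine ⟨heD.1, fun r hr => ?_⟩
    rcases hcase r hr with h2 | h2
    · exact hDab r h2 e heD
    · calc r * e = u * ((u⁻¹ * r) * e) := by group
        _ = (u * e * u⁻¹) * r := by rw [(hDab _ h2 e heD).eq]; group
        _ = e * r := by rw [heu]
  have hte : t * e * t⁻¹ = e := by
    have htz' : t * z' = z' * t := by
      have h := hzR _ ((hTmem t).mp htT)
      calc t * z' = g * ((g⁻¹ * t * g) * z) * g⁻¹ := by rw [hz']; group
        _ = g * (z * (g⁻¹ * t * g)) * g⁻¹ := by rw [h]
        _ = z' * t := by rw [hz']; group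
    rw [mul_inv_eq_iff_eq_mul, he, ← mul_assoc, hTy t htT, mul_assoc, htz', mul_assoc]
  have hyyD := hel y hyD
  have hz'z' : z' * z' = 1 := by rw [← pow_two]; exact hel z' hz'D
  have hy' : y = z' * e := by
    rw [he, ← mul_assoc, (hDab z' hz'D y hyD).eq, mul_assoc, hz'z', mul_one]
  have hconj : (u⁻¹ * t) * (z * e) * (u⁻¹ * t)⁻¹ = y := by
    calc (u⁻¹ * t) * (z * e) * (u⁻¹ * t)⁻¹ = u⁻¹ * ((t * z * t⁻¹) * (t * e * t⁻¹)) * u := by group
      _ = u⁻¹ * (z' * z * e) * u := by rw [hz'2, hte]
      _ = u⁻¹ * (z * y) * u := by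
          rw [hy', ← mul_assoc z, (hDab z hzD z' hz'D).eq]
      _ = y := by rw [← hmove u huR hu]; group
  have hce : c = z * e := by
    refine hburn c (z * e) ((u⁻¹ * t)⁻¹ * g) hc ⟨Subgroup.mul_mem _ hzmem heR.1, fun r hr => ?_⟩ ?_
    · rw [← mul_assoc, hzR r hr, mul_assoc, heR.2 r hr, mul_assoc]
    · calc (u⁻¹ * t)⁻¹ * g * c * ((u⁻¹ * t)⁻¹ * g)⁻¹
          = (u⁻¹ * t)⁻¹ * (g * c * g⁻¹) * (u⁻¹ * t) := by group
        _ = (u⁻¹ * t)⁻¹ * ((u⁻¹ * t) * (z * e) * (u⁻¹ * t)⁻¹) * (u⁻¹ * t) := by rw [hgy, hconj]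
        _ = z * e := by group
  refine isConj_iff.mpr ⟨t, ?_⟩
  rw [hz'2, hce, hy', mul_assoc z' e, ← mul_assoc e z e, (hDab e heD z hzD).eq, mul_assoc z e e,
    ← pow_two, hel e heD, mul_one]

/-- The dihedral group of order 8 from an element of order 4 inverted by an outside involution. -/
theorem iso_dihedral {H : Type*} [Group H] [Finite H] (hcard : Nat.card H = 8) (a y : H)
    (ha : orderOf a = 4) (hy : y * y = 1) (hya : y ∉ Subgroup.zpowers a)
    (hinv : y * a * y⁻¹ = a⁻¹) : Nonempty (H ≃* DihedralGroup 4) := by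
  have ha4 : a ^ 4 = 1 := ha ▸ pow_orderOf_eq_one a
  let e : ZMod 4 → H := fun i => a ^ i.val
  have eadd : ∀ i j, e (i + j) = e i * e j := fun i j => by
    show a ^ (i + j).val = a ^ i.val * a ^ j.val
    rw [← pow_add, ZMod.val_add, ← pow_eq_pow_mod _ ha4]
  have eneg : ∀ i, e (-i) = (e i)⁻¹ := fun i => by
    refine eq_inv_of_mul_eq_one_left ?_
    rw [← eadd, neg_add_cancel]; simp [e]
  have ey : ∀ i, y * e i = e (-i) * y := fun i => by
    rw [eneg]
    show y * a ^ i.val = (a ^ i.val)⁻¹ * y
    rw [← inv_pow, ← hinv, conj_pow]; group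
  have ey' : ∀ i, e i * y = y * e (-i) := fun i => by rw [ey, neg_neg]
  let φ : DihedralGroup 4 →* H := MonoidHom.mk'
    (fun d => match d with
      | .r i => e i
      | .sr i => y * e i)
    (by
      rintro (i | i) (j | j)
      · exact eadd i j
      · show y * e (j - i) = e i * (y * e j)
        rw [← mul_assoc, ey', mul_assoc, ← eadd, neg_add_eq_sub]
      · show y * e (i + j) = y * e i * e j
        rw [eadd, mul_assoc]
      · show e (j - i) = y * e i * (y * e j)
        rw [ey i, mul_assoc, ← mul_assoc y y, hy, one_mul, ← eadd, neg_add_eq_sub])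
  have hinj : Function.Injective φ := by
    rw [injective_iff_map_eq_one]
    rintro (i | i) h
    · have h1 : a ^ i.val = 1 := h
      have h2 := orderOf_dvd_of_pow_eq_one h1
      rw [ha] at h2
      have h3 := ZMod.val_lt i
      have h4 : i = 0 := (ZMod.val_eq_zero i).mp (by omega)
      rw [h4]; exact DihedralGroup.r_zero
    · exfalso
      have h1 : y * e i = 1 := h
      exact hya (by rw [eq_inv_of_mul_eq_one_left h1]; exact Subgroup.inv_mem _ (Subgroup.pow_mem _ (Subgroup.mem_zpowers a) _))
  have hb : Function.Bijective φ :=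
    (Nat.bijective_iff_injective_and_card φ).mpr ⟨hinj, by rw [DihedralGroup.nat_card, hcard]⟩
  exact ⟨(MulEquiv.ofBijective φ hb).symm⟩

/-- Let L be a finite non-abelian simple group with an involution z whose centralizer R is a Sylow 2-subgroup of L whose Frattini subgroup is the subgroup generated by z. Then R is dihedral of order 8. -/
theorem result {L : Type*} [Group L] [Finite L] [IsSimpleGroup L] (hL : ¬ IsMulCommutative L) (z : L) (hz : orderOf z = 2) (R : Sylow 2 L) (hR : (R : Subgroup L) = Subgroup.centralizer ({z} : Set L)) (hΦ : (frattini ↥(R : Subgroup L)).map (R : Subgroup L).subtype = Subgroup.zpowers z) : Nonempty (↥(R : Subgroup L) ≃* DihedralGroup 4) := by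
  haveI : Fact (Nat.Prime 2) := ⟨Nat.prime_two⟩
  have hz2 : z ^ 2 = 1 := hz ▸ pow_orderOf_eq_one z
  have hzz : z * z = 1 := by rw [← pow_two, hz2]
  have hz1 : z ≠ 1 := fun h => by rw [h, orderOf_one] at hz; omega
  set S := (R : Subgroup L) with hS
  have hzR : ∀ r ∈ S, r * z = z * r := fun r hr => by
    rw [hR] at hr; exact Subgroup.mem_centralizer_singleton_iff.mp hr
  have hzS : z ∈ S := by rw [hR]; exact Subgroup.mem_centralizer_singleton_iff.mpr rfl
  have hzC : Central S z := ⟨hzS, hzR⟩
  have hsq : ∀ r ∈ S, r ^ 2 ∈ Subgroup.zpowers z := fun r hr =>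
    hΦ ▸ ⟨⟨r, hr⟩ ^ 2, Cfsg.Agent.PGroup.pow_mem_frattini R.isPGroup' _, rfl⟩
  have hcom : ∀ r ∈ S, ∀ s ∈ S, ⁅r, s⁆ ∈ Subgroup.zpowers z := fun r hr s hs =>
    hΦ ▸ ⟨⁅⟨r, hr⟩, ⟨s, hs⟩⁆, Cfsg.Agent.PGroup.commutator_le_frattini R.isPGroup'
      (Subgroup.commutator_mem_commutator (Subgroup.mem_top _) (Subgroup.mem_top _)), rfl⟩
  have hzpow : ∀ w ∈ Subgroup.zpowers z, w = 1 ∨ w = z := by
    intro w hw
    obtain ⟨n, rfl⟩ := Subgroup.mem_zpowers_iff.mp hw
    rcases Int.even_or_odd n with ⟨m, rfl⟩ | ⟨m, rfl⟩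
    · left; rw [← two_mul, zpow_mul, zpow_two, hzz, one_zpow]
    · right; rw [zpow_add, zpow_one, zpow_mul, zpow_two, hzz, one_zpow, one_mul]
  -- `R` is self-normalising
  have hN : ∀ n ∈ Subgroup.normalizer (S : Set L), n ∈ S := by
    intro n hn
    haveI : (frattini ↥S).Characteristic := inferInstance
    have h1 : n * z * n⁻¹ ∈ (frattini ↥S).map S.subtype := by
      let α : ↥S ≃* ↥S := (MulAut.conjNormal (H := S.subgroupOf (Subgroup.normalizer (S : Set L)))
        (⟨n, hn⟩ : ↥(Subgroup.normalizer (S : Set L))) |>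
        fun β => ((Subgroup.subgroupOfEquivOfLe Subgroup.le_normalizer).symm.trans β).trans
          (Subgroup.subgroupOfEquivOfLe Subgroup.le_normalizer))
      obtain ⟨w, hw, hwz⟩ : z ∈ (frattini ↥S).map S.subtype := hΦ ▸ Subgroup.mem_zpowers z
      refine ⟨α w, ?_, ?_⟩
      · have := Subgroup.Characteristic.fixed (H := frattini ↥S) inferInstance α
        rw [← this] at hw
        exact hw
      · rw [← hwz]; rfl
    rw [hΦ] at h1
    rcases hzpow _ h1 with h | h
    · exact absurd (by simpa using h) hz1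
    · rw [hR]; exact Subgroup.mem_centralizer_singleton_iff.mpr (mul_inv_eq_iff_eq_mul.mp h)
  have hburn : ∀ a b g : L, Central S a → Central S b → g * a * g⁻¹ = b → a = b := by
    intro a b g ha hb hab
    have hmem : ∀ w, Central S w → w ∈ Subgroup.centralizer (R : Set L) :=
      fun w hw r hr => hw.2 r hr
    have hg : g⁻¹⁻¹ * a * g⁻¹ ∈ Subgroup.centralizer (R : Set L) := by
      rw [inv_inv, hab]; exact hmem b hb
    obtain ⟨n, hn, hnb⟩ := R.conj_eq_normalizer_conj_of_mem_centralizer a g⁻¹ (hmem a ha) hg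
    rw [inv_inv, hab] at hnb
    have h := ha.2 n⁻¹ (S.inv_mem (hN n hn))
    rw [hnb, h, mul_assoc, inv_mul_cancel, mul_one]
  -- `L` is not a 2-group and has no normal 2-complement
  have hnp : ¬ IsPGroup 2 L := by
    intro hp
    haveI := hp.isNilpotent
    refine hL ?_
    rcases Subgroup.Normal.eq_bot_or_eq_top (inferInstance : (Subgroup.center L).Normal) with h | h
    · haveI : Nontrivial L := IsSimpleGroup.toNontrivial
      haveI := hp.center_nontrivial
      exact absurd h ((Subgroup.nontrivial_iff_ne_bot _).mp inferInstance)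
    · exact ⟨⟨fun a b => (Subgroup.mem_center_iff.mp (h ▸ Subgroup.mem_top b) a)⟩⟩
  have hnc : ¬ Cfsg.HasNormalPComplement 2 L := by
    rintro ⟨P, N, hNn, hcompl⟩
    rcases hNn.eq_bot_or_eq_top with rfl | rfl
    · have hP : (P : Subgroup L) = ⊤ := by
        simpa using Subgroup.isComplement'_bot_left.mp hcompl
      exact hnp ((hP ▸ P.isPGroup' : IsPGroup 2 ↥(⊤ : Subgroup L)).of_equiv Subgroup.topEquiv)
    · have hP : (P : Subgroup L) = ⊥ := Subgroup.isComplement'_top_left.mp hcompl
      have h1 := P.card_eq_multiplicity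
      have h2 := R.card_eq_multiplicity
      rw [hP, Subgroup.card_bot] at h1
      have : z ∈ (⊥ : Subgroup L) := by
        rw [← Subgroup.eq_bot_of_card_eq S (by rw [h2, ← h1])]; exact hzS
      exact hz1 (Subgroup.mem_bot.mp this)
  have hres : Cfsg.pResidual 2 L = ⊤ := by
    have hn : (Cfsg.pResidual 2 L).Normal := Cfsg.Agent.Transfer.pResidual_normal 2
    refine hn.eq_bot_or_eq_top.resolve_left fun h => hnc ?_
    exact (Cfsg.Agent.Transfer.hasNormalPComplement_iff_inf_eq_bot R).mpr (by rw [h, inf_bot_eq])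
  -- `z` is not weakly closed in `R`
  obtain ⟨g₁, hg₁, hg₁'⟩ : ∃ g : L, g * z * g⁻¹ ∈ S ∧ g * z * g⁻¹ ≠ z := by
    by_contra h
    push Not at h
    refine hnc (Cfsg.Agent.Transfer.hasNormalPComplement_of_own_fusion R ?_)
    intro x hx g hgx
    set C := Subgroup.centralizer ({g * x * g⁻¹} : Set L)
    have hzC1 : z ∈ C := Subgroup.mem_centralizer_singleton_iff.mpr (hzR _ hgx).symm
    have hzC2 : g * z * g⁻¹ ∈ C := Subgroup.mem_centralizer_singleton_iff.mpr (by
      calc g * z * g⁻¹ * (g * x * g⁻¹) = g * (z * x) * g⁻¹ := by group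
        _ = g * (x * z) * g⁻¹ := by rw [hzR x hx]
        _ = _ := by group)
    have hp : ∀ w : ↥C, w ^ 2 = 1 → IsPGroup 2 ↥(Subgroup.zpowers w) := fun w hw => by
      obtain ⟨k, -, hk⟩ := (Nat.dvd_prime_pow Nat.prime_two).mp
        ((pow_one 2).symm ▸ orderOf_dvd_of_pow_eq_one hw : orderOf w ∣ 2 ^ 1)
      exact IsPGroup.of_card (n := k) (by rw [Nat.card_zpowers, hk])
    obtain ⟨T₁, hT₁⟩ := (hp ⟨z, hzC1⟩ (Subtype.ext hz2)).exists_le_sylow
    obtain ⟨T₂, hT₂⟩ := (hp ⟨_, hzC2⟩ (Subtype.ext (by
      show (g * z * g⁻¹) ^ 2 = 1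
      rw [← MulAut.conj_apply, ← map_pow, hz2, map_one]))).exists_le_sylow
    obtain ⟨c, hc⟩ := MulAction.exists_smul_eq ↥C T₂ T₁
    have hp1 : IsPGroup 2 ↥((T₁ : Subgroup ↥C).map C.subtype) := T₁.isPGroup'.map _
    obtain ⟨P, hP⟩ := hp1.exists_le_sylow
    obtain ⟨k, hk⟩ := MulAction.exists_smul_eq L P R
    have hmv : ∀ w, w ∈ (P : Subgroup L) → k * w * k⁻¹ ∈ S := fun w hw => by
      rw [hS, ← hk, Sylow.coe_subgroup_smul]
      exact Subgroup.smul_mem_pointwise_smul w (MulAut.conj k) _ hw
    have m1 : k * z * k⁻¹ ∈ S :=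
      hmv z (hP ⟨⟨z, hzC1⟩, hT₁ (Subgroup.mem_zpowers _), rfl⟩)
    have m2 : c * ⟨_, hzC2⟩ * c⁻¹ ∈ (T₁ : Subgroup ↥C) := by
      rw [← hc, Sylow.coe_subgroup_smul]
      exact Subgroup.smul_mem_pointwise_smul _ (MulAut.conj c) _ (hT₂ (Subgroup.mem_zpowers _))
    have m3 := hmv _ (hP ⟨_, m2, rfl⟩)
    have e1 := h k m1
    have e2 := h (k * c * g) (by simpa [mul_assoc] using m3)
    have e3 : (c : L) * g ∈ S := by
      rw [hR, Subgroup.mem_centralizer_singleton_iff]
      rw [← mul_inv_eq_iff_eq_mul]
      apply (MulAut.conj k).injective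
      simp only [MulAut.conj_apply]
      rw [e1]
      calc k * ((c : L) * g * z * ((c : L) * g)⁻¹) * k⁻¹ = k * c * g * z * (k * c * g)⁻¹ := by group
        _ = z := e2
    refine ⟨c * g, e3, ?_⟩
    have := Subgroup.mem_centralizer_singleton_iff.mp c.2
    calc (c : L) * g * x * ((c : L) * g)⁻¹ = (c : L) * (g * x * g⁻¹) * (c : L)⁻¹ := by group
      _ = g * x * g⁻¹ := by rw [this]; group
  set y := g₁ * z * g₁⁻¹ with hy
  have hyz : IsConj z y := isConj_iff.mpr ⟨g₁, rfl⟩
  have hyZ : ¬ Central S y := fun h => hg₁' (hburn z y g₁ hzC h rfl).symm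
  clear_value y
  have K := key z hz2 R hR hsq hcom hburn
  obtain ⟨hel, -⟩ := K y z hg₁ hyZ hzC hyz
  -- central elements are involutions
  have hcent2 : ∀ c, Central S c → c ^ 2 = 1 := fun c hc => (hel c hc.1 (hc.2 y hg₁).symm).1
  -- every element of `R` outside `C(y)` is congruent to a fixed one
  have hcong : ∀ w ∈ S, ∀ r ∈ S, ∀ s ∈ S, ¬ Commute r w → ¬ Commute s w →
      Commute (r⁻¹ * s) w := by
    intro w hw r hr s hs h1 h2
    have f : ∀ r ∈ S, ¬ Commute r w → r * w * r⁻¹ = z * w := by
      intro r hr hne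
      rcases hzpow _ (hcom r hr w hw) with h | h
      · exact absurd (commutatorElement_eq_one_iff_mul_comm.mp h) hne
      · rw [commutatorElement_def] at h; exact eq_mul_of_mul_inv_eq h
    calc r⁻¹ * s * w = r⁻¹ * (s * w * s⁻¹) * s := by group
      _ = r⁻¹ * (r * w * r⁻¹) * s := by rw [f r hr h1, f s hs h2]
      _ = w * (r⁻¹ * s) := by group
  obtain ⟨u, huS, hu⟩ : ∃ u ∈ S, ¬ Commute u y := by
    by_contra h; push Not at h; exact hyZ ⟨hg₁, fun r hr => h r hr⟩
  have hyy : y * y = 1 := by rw [← pow_two]; exact (hel y hg₁ (Commute.refl y)).1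
  -- `R = Z ∪ Zy ∪ Zu ∪ Zuy`
  have hdec : ∀ r ∈ S, ∃ c, Central S c ∧ (r = c ∨ r = c * y ∨ r = u * c ∨ r = u * (c * y)) := by
    intro r hr
    have hA : ∀ d ∈ S, Commute d y → ∃ c, Central S c ∧ (d = c ∨ d = c * y) := by
      intro d hd hdy
      have hcen : ∀ d ∈ S, Commute d y → Commute u d → Central S d := by
        intro d hd hdy hud
        refine ⟨hd, fun r hr => ?_⟩
        by_cases h : Commute r y
        · exact ((hel r hr h).2 d hd hdy).eq
        · have h3 := hcong y hg₁ u huS r hr hu h
          have h4 : Commute (u⁻¹ * r) d :=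
            (hel _ (S.mul_mem (S.inv_mem huS) hr) h3).2 d hd hdy
          have := hud.mul_left h4
          rwa [mul_inv_cancel_left] at this
      by_cases hud : Commute u d
      · exact ⟨d, hcen d hd hdy hud, Or.inl rfl⟩
      · refine ⟨d * y, hcen _ (S.mul_mem hd hg₁) (hdy.mul_left (Commute.refl y)) ?_,
          Or.inr (by rw [mul_assoc, hyy, mul_one])⟩
        rcases hzpow _ (hcom u huS d hd) with h | h
        · exact absurd (commutatorElement_eq_one_iff_mul_comm.mp h) hud
        · rcases hzpow _ (hcom u huS y hg₁) with h' | h'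
          · exact absurd (commutatorElement_eq_one_iff_mul_comm.mp h') hu
          · rw [commutatorElement_def] at h h'
            have e1 := eq_mul_of_mul_inv_eq h
            have e2 := eq_mul_of_mul_inv_eq h'
            show u * (d * y) = d * y * u
            calc u * (d * y) = (u * d * u⁻¹) * (u * y * u⁻¹) * u := by group
              _ = z * (d * z) * y * u := by rw [e1, e2]; group
              _ = d * y * u := by rw [hzR d hd, ← mul_assoc, hzz, one_mul]
    by_cases h : Commute r y
    · obtain ⟨c, hc, h'⟩ := hA r hr h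
      rcases h' with h' | h'
      · exact ⟨c, hc, Or.inl h'⟩
      · exact ⟨c, hc, Or.inr (Or.inl h')⟩
    · obtain ⟨c, hc, h'⟩ := hA _ (S.mul_mem (S.inv_mem huS) hr) (hcong y hg₁ u huS r hr hu h)
      rcases h' with h' | h'
      · exact ⟨c, hc, Or.inr (Or.inr (Or.inl (inv_mul_eq_iff_eq_mul.mp h')))⟩
      · exact ⟨c, hc, Or.inr (Or.inr (Or.inr (inv_mul_eq_iff_eq_mul.mp h')))⟩
  -- the centre of `R` has order two
  have hZ : ∀ f, Central S f → f = 1 ∨ f = z := by
    by_contra hcon
    push Not at hcon
    obtain ⟨f, hf, hf1, hfz⟩ := hcon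
    -- conjugates of `z` meet each coset of the centre at most in a pair
    set P0 := Subgroup.closure ({z} ∪ {w | w ∈ S ∧ IsConj z w}) with hP0
    have hP0S : P0 ≤ S := by
      rw [hP0, Subgroup.closure_le]
      rintro w (rfl | hw)
      · exact hzS
      · exact hw.1
    have hpair : ∀ w w', w ∈ S → ¬ Central S w → IsConj z w → ∀ c, Central S c →
        w' = c * w → IsConj z w' → c = 1 ∨ c = z := by
      intro w w' hw hwZ hcw c hc e hcw'
      obtain ⟨helw, -⟩ := K w z hw hwZ hzC hcw
      -- `c * w` is conjugate to a central element only for `c = 1, z`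
      have hwwz : IsConj z (w * z) := (K w z hw hwZ hzC hcw).2
      have hw'S : w' ∈ S := e ▸ S.mul_mem hc.1 hw
      have hw'Z : ¬ Central S w' := fun h => hwZ ⟨hw, fun r hr => by
        have := h.2 r hr
        rw [e, ← mul_assoc, hc.2 r hr, mul_assoc, mul_assoc] at this
        exact mul_left_cancel this⟩
      have h1 := (K w' z hw'S hw'Z hzC hcw').2
      obtain ⟨g, hg⟩ := isConj_iff.mp hcw
      -- move `w` to `z` and compare inside `R`
      have hcmem : g⁻¹ * c * g ∈ S := by
        rw [hR, Subgroup.mem_centralizer_singleton_iff]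
        have : c * (g * z * g⁻¹) = g * z * g⁻¹ * c := by rw [hg]; exact (hc.2 w hw).symm
        calc g⁻¹ * c * g * z = g⁻¹ * (c * (g * z * g⁻¹)) * g := by group
          _ = g⁻¹ * (g * z * g⁻¹ * c) * g := by rw [this]
          _ = z * (g⁻¹ * c * g) := by group
      set d := g⁻¹ * c * g with hd
      clear_value d
      by_cases hdZ : Central S d
      · have hdc := hburn d c g hdZ hc (by rw [hd]; group)
        -- then `d * z` is central and conjugate to `z`
        have hc' : IsConj z (d * z) := hcw'.trans (isConj_iff.mpr ⟨g⁻¹, by rw [e, ← hg, hd]; group⟩)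
        have hdz : Central S (d * z) := ⟨S.mul_mem hdZ.1 hzS, fun r hr => by
          rw [← mul_assoc, hdZ.2 r hr, mul_assoc, hzR r hr, mul_assoc]⟩
        obtain ⟨k, hk⟩ := isConj_iff.mp hc'
        have h3 := hburn z (d * z) k hzC hdz hk
        left; rw [← hdc]; simpa using h3.symm
      · obtain ⟨-, h3⟩ := K d c hcmem hdZ hc (isConj_iff.mpr ⟨g⁻¹, by rw [hd]; group⟩)
        have hdcS : d * c ∈ S := S.mul_mem hcmem hc.1
        have hdcZ : ¬ Central S (d * c) := fun h => hdZ ⟨hcmem, fun r hr => by
          have := h.2 r hr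
          rw [← mul_assoc, mul_assoc d c r, ← hc.2 r hr, ← mul_assoc] at this
          exact mul_right_cancel this⟩
        obtain ⟨-, h4⟩ := K (d * z) z (S.mul_mem hcmem hzS) (fun h => hdZ ⟨hcmem, fun r hr => by
          have := h.2 r hr
          rw [← mul_assoc, mul_assoc d z r, ← hzR r hr, ← mul_assoc] at this
          exact mul_right_cancel this⟩) hzC
          (hcw'.trans (isConj_iff.mpr ⟨g⁻¹, by rw [e, ← hg, hd]; group⟩))
        rw [mul_assoc, hzz, mul_one] at h4
        obtain ⟨k, hk⟩ := isConj_iff.mp h4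
        right
        exact (hburn z c (g * k) hzC hc (by
          calc g * k * z * (g * k)⁻¹ = g * (k * z * k⁻¹) * g⁻¹ := by group
            _ = c := by rw [hk, hd]; group)).symm
    -- non-central conjugates of `z` lie in two cosets of the centre
    have hP0f : f ∉ P0 := by
      set W : Set L := {w | w ∈ S ∧ IsConj z w}
      have hW : ∀ w ∈ W, w * w = 1 := by
        rintro w ⟨-, hw⟩
        obtain ⟨g, rfl⟩ := isConj_iff.mp hw
        rw [← MulAut.conj_apply, ← map_mul, hzz, map_one]
      by_cases h2 : ∃ w ∈ W, ¬ Commute w y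
      · obtain ⟨w, hw, hwy⟩ := h2
        have hwZ : ¬ Central S w := fun h => hwy (h.2 y hg₁).symm
        -- `P0` lies in the set `{z^i y^j w^k}`
        let M : Subgroup L :=
          { carrier := {x | ∃ a ∈ Subgroup.zpowers z, x = a ∨ x = a * y ∨ x = a * w ∨ x = a * (y * w)}
            one_mem' := ⟨1, one_mem _, Or.inl rfl⟩
            mul_mem' := by
              have hyw : w * y = z * (y * w) := by
                rcases hzpow _ (hcom w hw.1 y hg₁) with h | h
                · exact absurd (commutatorElement_eq_one_iff_mul_comm.mp h) hwy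
                · rw [commutatorElement_def] at h
                  have := eq_mul_of_mul_inv_eq h
                  rw [← mul_assoc, ← this]; group
              have hz' : ∀ a ∈ Subgroup.zpowers z, ∀ x ∈ S, x * a = a * x := by
                intro a ha x hx; rcases hzpow a ha with rfl | rfl
                · simp
                · exact hzR x hx
              have hzm := Subgroup.mem_zpowers z
              have hww := hW w hw
              rintro x1 x2 ⟨a, ha, h1⟩ ⟨b, hb, h2⟩
              have hab := mul_mem ha hb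
              have cy : y * b = b * y := hz' b hb y hg₁
              have cw : w * b = b * w := hz' b hb w hw.1
              have cyw : y * w * b = b * (y * w) := hz' b hb _ (S.mul_mem hg₁ hw.1)
              have zy : y * z = z * y := hzR y hg₁
              rcases h1 with rfl | rfl | rfl | rfl <;> rcases h2 with rfl | rfl | rfl | rfl
              · exact ⟨x1 * x2, hab, Or.inl rfl⟩
              · exact ⟨x1 * b, hab, Or.inr (Or.inl (by group))⟩
              · exact ⟨x1 * b, hab, Or.inr (Or.inr (Or.inl (by group)))⟩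
              · exact ⟨x1 * b, hab, Or.inr (Or.inr (Or.inr (by group)))⟩
              · exact ⟨a * x2, hab, Or.inr (Or.inl (by rw [mul_assoc, cy, ← mul_assoc]))⟩
              · exact ⟨a * b, hab, Or.inl (by rw [mul_assoc, ← mul_assoc y b y, cy, mul_assoc b y y, hyy, mul_one])⟩
              · exact ⟨a * b, hab, Or.inr (Or.inr (Or.inr (by rw [mul_assoc, ← mul_assoc y b w, cy]; group)))⟩
              · exact ⟨a * b, hab, Or.inr (Or.inr (Or.inl (by
                  rw [mul_assoc a y, ← mul_assoc y b, cy, mul_assoc b y, ← mul_assoc y y w, hyy, one_mul, mul_assoc])))⟩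
              · exact ⟨a * x2, hab, Or.inr (Or.inr (Or.inl (by rw [mul_assoc, cw, ← mul_assoc])))⟩
              · exact ⟨a * b * z, mul_mem hab hzm, Or.inr (Or.inr (Or.inr (by
                  rw [mul_assoc a w, ← mul_assoc w b y, cw, mul_assoc b w y, hyw]; group)))⟩
              · exact ⟨a * b, hab, Or.inl (by rw [mul_assoc a w, ← mul_assoc w b w, cw, mul_assoc b w w, hww, mul_one])⟩
              · exact ⟨a * b * z, mul_mem hab hzm, Or.inr (Or.inl (by
                  rw [mul_assoc a w, ← mul_assoc w b, cw, mul_assoc b w, ← mul_assoc w y w, hyw,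
                    mul_assoc z, mul_assoc y w w, hww, mul_one]; group))⟩
              · exact ⟨a * x2, hab, Or.inr (Or.inr (Or.inr (by rw [mul_assoc, cyw, ← mul_assoc])))⟩
              · exact ⟨a * b * z, mul_mem hab hzm, Or.inr (Or.inr (Or.inl (by
                  rw [mul_assoc a (y * w), ← mul_assoc (y * w) b y, cyw, mul_assoc b (y * w) y,
                    mul_assoc y w y, hyw, ← mul_assoc y z, zy, mul_assoc z y, ← mul_assoc y y w,
                    hyy, one_mul]; group)))⟩
              · exact ⟨a * b, hab, Or.inr (Or.inl (by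
                  rw [mul_assoc a (y * w), ← mul_assoc (y * w) b w, cyw, mul_assoc b (y * w) w,
                    mul_assoc y w w, hww, mul_one]; group))⟩
              · exact ⟨a * b * z, mul_mem hab hzm, Or.inl (by
                  rw [mul_assoc a (y * w), ← mul_assoc (y * w) b, cyw, mul_assoc b (y * w),
                    mul_assoc y w, ← mul_assoc w y w, hyw, mul_assoc z, mul_assoc y w w, hww,
                    mul_one, ← mul_assoc y z, zy, mul_assoc, hyy, mul_one]; group)⟩
            inv_mem' := by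
              rintro x ⟨a, ha, h⟩
              have hx : x ∈ S := by
                have haS : a ∈ S := (Subgroup.zpowers_le.mpr hzS) ha
                rcases h with rfl | rfl | rfl | rfl
                exacts [haS, S.mul_mem haS hg₁, S.mul_mem haS hw.1, S.mul_mem haS (S.mul_mem hg₁ hw.1)]
              -- `x⁻¹ = x * (x^2)⁻¹`
              have hx2 := hsq x hx
              have e : x⁻¹ = (x ^ 2)⁻¹ * x := by group
              rw [e]
              have hi := inv_mem hx2
              rcases h with rfl | rfl | rfl | rfl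
              · exact ⟨_, mul_mem hi ha, Or.inl rfl⟩
              · exact ⟨_, mul_mem hi ha, Or.inr (Or.inl (by rw [mul_assoc]))⟩
              · exact ⟨_, mul_mem hi ha, Or.inr (Or.inr (Or.inl (by rw [mul_assoc])))⟩
              · exact ⟨_, mul_mem hi ha, Or.inr (Or.inr (Or.inr (by rw [mul_assoc])))⟩ }
        have hle : P0 ≤ M := by
          rw [hP0, Subgroup.closure_le]
          rintro x (rfl | ⟨hxS, hx⟩)
          · exact ⟨x, Subgroup.mem_zpowers x, Or.inl rfl⟩
          by_cases hxZ : Central S x
          · obtain ⟨k, hk⟩ := isConj_iff.mp hx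
            exact ⟨z, Subgroup.mem_zpowers z, Or.inl (hburn z x k hzC hxZ hk).symm⟩
          have hmem : ∀ w₀ c, w₀ ∈ S → ¬ Central S w₀ → IsConj z w₀ → Central S c → x = c * w₀ →
              ∃ a ∈ Subgroup.zpowers z, x = a * w₀ := by
            intro w₀ c h1 h2 h3 hc h4
            rcases hpair w₀ x h1 h2 h3 c hc h4 hx with rfl | rfl
            · exact ⟨1, one_mem _, h4⟩
            · exact ⟨c, Subgroup.mem_zpowers c, h4⟩
          -- `x` lies in the coset of `y` or of `w`, as the third coset has no involution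
          by_cases hxy : Commute x y
          · obtain ⟨c, hc, h | h | h | h⟩ := hdec x hxS
            · exact absurd (h ▸ hc) hxZ
            · obtain ⟨a, ha, h'⟩ := hmem y c hg₁ hyZ hyz hc h
              exact ⟨a, ha, Or.inr (Or.inl h')⟩
            all_goals
              exfalso; apply hu
              have hcy : Commute c y := (hc.2 y hg₁).symm
              have : u = x * (c⁻¹) ∨ u = x * (y⁻¹ * c⁻¹) := by
                first
                  | (left; rw [h]; group; done)
                  | (right; rw [h]; group; done)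
              rcases this with e | e
              · rw [e]; exact hxy.mul_left hcy.inv_left
              · rw [e]; exact hxy.mul_left ((Commute.refl y).inv_left.mul_left hcy.inv_left)
          · have hxw : Commute (w⁻¹ * x) y := hcong y hg₁ w hw.1 x hxS hwy hxy
            obtain ⟨c, hc, h | h | h | h⟩ := hdec _ (S.mul_mem (S.inv_mem hw.1) hxS)
            · obtain ⟨a, ha, h'⟩ := hmem w c hw.1 hwZ hw.2 hc (by
                rw [← hc.2 w hw.1, ← h, mul_inv_cancel_left])
              exact ⟨a, ha, Or.inr (Or.inr (Or.inl h'))⟩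
            · exfalso; apply hwy
              -- `x = c w y` is an involution, so `w` and `y` commute
              have hx' : x = c * (w * y) := by
                rw [← mul_assoc, ← hc.2 w hw.1, mul_assoc, ← h, mul_inv_cancel_left]
              have hxx := hW x ⟨hxS, hx⟩
              have hcc : c * c = 1 := by rw [← pow_two]; exact hcent2 c hc
              have hwyS : w * y ∈ S := S.mul_mem hw.1 hg₁
              rw [hx', mul_assoc c, ← mul_assoc (w * y) c, hc.2 _ hwyS, mul_assoc c (w * y),
                ← mul_assoc c c, hcc, one_mul] at hxx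
              calc w * y = (w * y)⁻¹ := (inv_eq_of_mul_eq_one_right hxx).symm
                _ = y * w := by
                  rw [mul_inv_rev, inv_eq_of_mul_eq_one_right hyy,
                    inv_eq_of_mul_eq_one_right (hW w hw)]
            all_goals
              exfalso; apply hu
              have hcy : Commute c y := (hc.2 y hg₁).symm
              have : u = (w⁻¹ * x) * (c⁻¹) ∨ u = (w⁻¹ * x) * (y⁻¹ * c⁻¹) := by
                first
                  | (left; rw [h]; group; done)
                  | (right; rw [h]; group; done)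
              rcases this with e | e
              · rw [e]; exact hxw.mul_left hcy.inv_left
              · rw [e]; exact hxw.mul_left ((Commute.refl y).inv_left.mul_left hcy.inv_left)
        intro hfP
        obtain ⟨a, ha, h⟩ := hle hfP
        have haC : Central S a := by
          rcases hzpow a ha with rfl | rfl
          · exact ⟨S.one_mem, fun r _ => by simp⟩
          · exact hzC
        have hay : Commute a y := (haC.2 y hg₁).symm
        have hfy : Commute f y := (hf.2 y hg₁).symm
        rcases h with h | h | h | h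
        · rcases hzpow a ha with rfl | rfl
          · exact hf1 h
          · exact hfz h
        · exact hyZ (by
            have : y = a⁻¹ * f := by rw [h]; group
            rw [this]
            exact ⟨S.mul_mem (S.inv_mem haC.1) hf.1, fun r hr =>
              ((Commute.inv_right (haC.2 r hr : Commute r a)).mul_right (hf.2 r hr : Commute r f)).eq⟩)
        · have : w = a⁻¹ * f := by rw [h]; group
          exact hwy (this ▸ hay.inv_left.mul_left hfy)
        · have : w = y⁻¹ * (a⁻¹ * f) := by rw [h]; group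
          exact hwy (this ▸ (Commute.refl y).inv_left.mul_left (hay.inv_left.mul_left hfy))
      · push Not at h2
        have hle : P0 ≤ Subgroup.closure {z, y} := by
          rw [hP0, Subgroup.closure_le]
          rintro x (rfl | ⟨hxS, hx⟩)
          · exact Subgroup.subset_closure (by simp)
          by_cases hxZ : Central S x
          · obtain ⟨k, hk⟩ := isConj_iff.mp hx
            rw [(hburn z x k hzC hxZ hk).symm]; exact Subgroup.subset_closure (by simp)
          obtain ⟨c, hc, h | h | h | h⟩ := hdec x hxS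
          · exact absurd (h ▸ hc) hxZ
          · rcases hpair y x hg₁ hyZ hyz c hc h hx with rfl | rfl
            · rw [h, one_mul]; exact Subgroup.subset_closure (by simp)
            · rw [h]; exact mul_mem (Subgroup.subset_closure (by simp)) (Subgroup.subset_closure (by simp))
          all_goals
            exfalso; apply hu
            have hxy := h2 x ⟨hxS, hx⟩
            have hcy : Commute c y := (hc.2 y hg₁).symm
            have : u = x * (c⁻¹) ∨ u = x * (y⁻¹ * c⁻¹) := by
              first
                | (left; rw [h]; group; done)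
                | (right; rw [h]; group; done)
            rcases this with e | e
            · rw [e]; exact hxy.mul_left hcy.inv_left
            · rw [e]; exact hxy.mul_left ((Commute.refl y).inv_left.mul_left hcy.inv_left)
        intro hfP
        have hzy : y * z = z * y := hzR y hg₁
        have hmul : ∀ i j : Bool × Bool, ∃ k : Bool × Bool,
            (if i.1 then z else 1) * (if i.2 then y else 1) * ((if j.1 then z else 1) * (if j.2 then y else 1))
              = (if k.1 then z else 1) * (if k.2 then y else 1) := by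
          rintro ⟨a, b⟩ ⟨c, d⟩
          refine ⟨(xor a c, xor b d), ?_⟩
          have e1 : ∀ w, y * (z * w) = z * (y * w) := fun w => by rw [← mul_assoc, hzy, mul_assoc]
          have e2 : ∀ w, z * (z * w) = w := fun w => by rw [← mul_assoc, hzz, one_mul]
          have e3 : ∀ w, y * (y * w) = w := fun w => by rw [← mul_assoc, hyy, one_mul]
          cases a <;> cases b <;> cases c <;> cases d <;>
            simp [mul_assoc, hzz, hyy, hzy, e1, e2, e3]
        obtain ⟨⟨i, j⟩, hij⟩ : ∃ k : Bool × Bool, f = (if k.1 then z else 1) * (if k.2 then y else 1) := by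
          refine Subgroup.closure_induction (p := fun w _ => ∃ k : Bool × Bool,
            w = (if k.1 then z else 1) * (if k.2 then y else 1)) ?_ ⟨(false, false), by simp⟩ ?_ ?_ (hle hfP)
          · rintro w (rfl | rfl)
            · exact ⟨(true, false), by simp⟩
            · exact ⟨(false, true), by simp⟩
          · rintro a b - - ⟨i, rfl⟩ ⟨j, rfl⟩; exact hmul i j
          · rintro a - ⟨⟨i, j⟩, rfl⟩
            refine ⟨(i, j), ?_⟩
            have zi : z⁻¹ = z := inv_eq_of_mul_eq_one_right hzz
            have yi : y⁻¹ = y := inv_eq_of_mul_eq_one_right hyy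
            cases i <;> cases j <;> simp [zi, yi, hzy]
        have hye : j = true → Central S y := by
          rintro rfl
          have hy1 : y = (if i then z else 1)⁻¹ * f := by cases i <;> simp [hij]
          rw [hy1]
          have hiC : Central S (if i then z else 1)⁻¹ := by
            cases i
            · exact ⟨by simpa using S.one_mem, fun r _ => by simp⟩
            · exact ⟨S.inv_mem hzS, fun r hr => (Commute.inv_right (hzR r hr : Commute r z)).eq⟩
          exact ⟨S.mul_mem hiC.1 hf.1, fun r hr =>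
            (Commute.mul_right (hiC.2 r hr) (hf.2 r hr) : Commute r _).eq⟩
        cases j
        · cases i
          · exact hf1 (by simpa using hij)
          · exact hfz (by simpa using hij)
        · exact hyZ (hye rfl)
    -- a subgroup of index 2 of `R` containing `P0` but not `f`
    obtain ⟨M, hM⟩ := (Set.toFinite {M : Subgroup L | P0 ≤ M ∧ M ≤ S ∧ f ∉ M}).exists_maximal
      ⟨P0, le_rfl, hP0S, hP0f⟩
    obtain ⟨⟨hPM, hMS, hfM⟩, hmax⟩ := hM
    have hzM : z ∈ M := hPM (Subgroup.subset_closure (Or.inl rfl))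
    have hsplit : ∀ x ∈ S, x ∉ M → x * f ∈ M := by
      intro x hx hxM
      have hxN : ∀ m ∈ M, x * m * x⁻¹ ∈ M := by
        intro m hm
        rcases hzpow _ (hcom x hx m (hMS hm)) with h | h <;> rw [commutatorElement_def] at h
        · rw [mul_inv_eq_one.mp h]; exact hm
        · rw [eq_mul_of_mul_inv_eq h]; exact M.mul_mem hzM hm
      have hx2 : x * x ∈ M := by
        rcases hzpow _ (pow_two x ▸ hsq x hx) with h | h <;> rw [h]
        exacts [M.one_mem, hzM]
      let M' : Subgroup L :=
        { carrier := {w | w ∈ M ∨ w * x⁻¹ ∈ M}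
          one_mem' := Or.inl M.one_mem
          mul_mem' := by
            rintro a b (ha | ha) (hb | hb)
            · exact Or.inl (M.mul_mem ha hb)
            · exact Or.inr (by rw [mul_assoc]; exact M.mul_mem ha hb)
            · refine Or.inr ?_
              have e : a * b * x⁻¹ = a * x⁻¹ * (x * b * x⁻¹) := by group
              rw [e]; exact M.mul_mem ha (hxN b hb)
            · refine Or.inl ?_
              have e : a * b = a * x⁻¹ * (x * (b * x⁻¹) * x⁻¹) * (x * x) := by group
              rw [e]; exact M.mul_mem (M.mul_mem ha (hxN _ hb)) hx2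
          inv_mem' := by
            rintro a (ha | ha)
            · exact Or.inl (M.inv_mem ha)
            · refine Or.inr ?_
              have e : a⁻¹ * x⁻¹ = (x * x)⁻¹ * (x * (a * x⁻¹)⁻¹ * x⁻¹) := by group
              rw [e]; exact M.mul_mem (M.inv_mem hx2) (hxN _ (M.inv_mem ha)) }
      have hMM' : M ≤ M' := fun a ha => Or.inl ha
      by_contra hxf
      have hM'S : M' ≤ S := by
        rintro a (ha | ha)
        · exact hMS ha
        · simpa using S.mul_mem (hMS ha) hx
      have hfM' : f ∉ M' := by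
        rintro (h | h)
        · exact hfM h
        · refine hxf ?_
          have e : x * f = (x * x) * (f * x⁻¹)⁻¹⁻¹ := by
            rw [inv_inv, hf.2 x hx]
            have e2 := hf.2 x hx
            calc f * x = x * x * (x⁻¹ * f) := by rw [mul_assoc, mul_inv_cancel_left]; exact e2.symm
              _ = x * x * (f * x⁻¹) := by rw [(Commute.inv_left (e2 : Commute x f)).eq]
          rw [e, inv_inv]; exact M.mul_mem hx2 h
      exact hxM (hmax ⟨hPM.trans hMM', hM'S, hfM'⟩ hMM' (Or.inr (by simp [M.one_mem])))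
    have hMi : M.relIndex S = 2 := by
      rw [Subgroup.relIndex, Subgroup.index_eq_two_iff]
      refine ⟨⟨f, hf.1⟩, fun r => ?_⟩
      simp only [Subgroup.mem_subgroupOf, Subgroup.coe_mul]
      by_cases h : (r : L) ∈ M
      · exact Or.inr ⟨h, fun h2 => hfM ((M.mul_mem_cancel_left h).mp h2)⟩
      · exact Or.inl ⟨hsplit r r.2 h, h⟩
    obtain ⟨g, hg⟩ := Cfsg.Agent.Transfer.exists_conj_mem_of_pResidual_eq_top R M hMS hMi hres f
      (hcent2 f hf) hf.1
    by_cases hgZ : Central S (g * f * g⁻¹)
    · rw [← hburn f _ g hf hgZ rfl] at hg; exact hfM hg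
    · have h1 := (K _ f (hMS hg) hgZ hf (isConj_iff.mpr ⟨g, rfl⟩)).2
      have h2 : g * f * g⁻¹ * f ∈ M :=
        hPM (Subgroup.subset_closure (Or.inr ⟨S.mul_mem (hMS hg) hf.1, h1⟩))
      exact hfM ((M.mul_mem_cancel_left hg).mp h2)
  -- conclusion
  have hu2 : u * y * u⁻¹ = z * y := by
    rcases hzpow _ (hcom u huS y hg₁) with h | h
    · exact absurd (commutatorElement_eq_one_iff_mul_comm.mp h) hu
    · rw [commutatorElement_def] at h; exact eq_mul_of_mul_inv_eq h
  have huy : u * y = z * y * u := mul_inv_eq_iff_eq_mul.mp hu2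
  obtain ⟨a, haS, haa, hay⟩ : ∃ a ∈ S, a * a = z ∧ y * a * y⁻¹ = a⁻¹ := by
    have hyi : y⁻¹ = y := inv_eq_of_mul_eq_one_right hyy
    have fin : ∀ a ∈ S, a * a = z → ¬ Commute a y → y * a * y⁻¹ = a⁻¹ := by
      intro a ha haa hne
      rcases hzpow _ (hcom y hg₁ a ha) with h | h
      · exact absurd (commutatorElement_eq_one_iff_mul_comm.mp h).symm hne
      · rw [commutatorElement_def] at h
        rw [eq_mul_of_mul_inv_eq h, eq_inv_iff_mul_eq_one, mul_assoc, haa, hzz]
    rcases hzpow _ (pow_two u ▸ hsq u huS) with h | h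
    · refine ⟨u * y, S.mul_mem huS hg₁, ?_, ?_⟩
      · calc u * y * (u * y) = z * y * u * (u * y) := by rw [← huy]
          _ = z * (y * ((u * u) * y)) := by group
          _ = z := by rw [h, one_mul, hyy, mul_one]
      · refine fin _ (S.mul_mem huS hg₁) ?_ fun hc => hu ?_
        · calc u * y * (u * y) = z * y * u * (u * y) := by rw [← huy]
            _ = z * (y * ((u * u) * y)) := by group
            _ = z := by rw [h, one_mul, hyy, mul_one]
        · have := hc.mul_left (Commute.refl y)
          rwa [mul_assoc, hyy, mul_one] at this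
    · exact ⟨u, huS, h, fin u huS h hu⟩
  have hord : orderOf a = 4 := by
    have h2 : ¬ a ^ 2 ^ 1 = 1 := by rw [pow_one, pow_two, haa]; exact hz1
    have h3 : a ^ 2 ^ (1 + 1) = 1 := by
      rw [show (2 : ℕ) ^ (1 + 1) = 2 * 2 by norm_num, pow_mul, pow_two a, haa, hz2]
    rw [orderOf_eq_prime_pow h2 h3]; norm_num
  have hya' : y ∉ Subgroup.zpowers a := by
    intro h
    obtain ⟨n, hn⟩ := Subgroup.mem_zpowers_iff.mp h
    have hc : Commute y a := hn ▸ (Commute.refl a).zpow_left n
    rw [hc.eq, mul_inv_cancel_right] at hay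
    exact hz1 (by rw [← haa]; exact eq_inv_iff_mul_eq_one.mp hay)
  have hcard : Nat.card ↥S = 8 := by
    have hA4 : Nat.card ↥(Subgroup.zpowers a) = 4 := by rw [Nat.card_zpowers, hord]
    have hAS : Subgroup.zpowers a ≤ S := Subgroup.zpowers_le.mpr haS
    have hi : (Subgroup.zpowers a).relIndex S = 2 := by
      rw [Subgroup.relIndex, Subgroup.index_eq_two_iff]
      refine ⟨⟨y, hg₁⟩, fun r => ?_⟩
      simp only [Subgroup.mem_subgroupOf, Subgroup.coe_mul]
      by_cases h : (r : L) ∈ Subgroup.zpowers a
      · exact Or.inr ⟨h, fun h2 => hya' ((Subgroup.mul_mem_cancel_left _ h).mp h2)⟩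
      · refine Or.inl ⟨?_, h⟩
        -- every element is `z^i y^j a^k`
        have hay' : ¬ Commute a y := fun hc => by
          rw [hc.symm.eq, mul_inv_cancel_right] at hay
          exact hz1 (by rw [← haa]; exact eq_inv_iff_mul_eq_one.mp hay)
        have hzA : z ∈ Subgroup.zpowers a :=
          haa ▸ mul_mem (Subgroup.mem_zpowers a) (Subgroup.mem_zpowers a)
        have hD : ∀ d ∈ S, Commute d y → d ∈ Subgroup.zpowers a ∨ d * y ∈ Subgroup.zpowers a := by
          intro d hd hdy
          obtain ⟨c, hc, hh | hh | hh | hh⟩ := hdec d hd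
          · left; rcases hZ c hc with e | e <;> rw [hh, e]
            exacts [one_mem _, hzA]
          · right; rcases hZ c hc with e | e <;> rw [hh, e, mul_assoc, hyy, mul_one]
            exacts [one_mem _, hzA]
          all_goals
            exfalso; apply hu
            have hcy : Commute c y := (hc.2 y hg₁).symm
            have : u = d * (c⁻¹) ∨ u = d * (y⁻¹ * c⁻¹) := by
              first
                | (left; rw [hh]; group; done)
                | (right; rw [hh]; group; done)
            rcases this with e | e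
            · rw [e]; exact hdy.mul_left hcy.inv_left
            · rw [e]; exact hdy.mul_left ((Commute.refl y).inv_left.mul_left hcy.inv_left)
        by_cases hry : Commute (r : L) y
        · exact (hD r r.2 hry).resolve_left h
        · rcases hD _ (S.mul_mem (S.inv_mem haS) r.2) (hcong y hg₁ a haS r r.2 hay' hry) with h1 | h1
          · exact absurd (by simpa using mul_mem (Subgroup.mem_zpowers a) h1) h
          · simpa [mul_assoc] using mul_mem (Subgroup.mem_zpowers a) h1
    have := Subgroup.relIndex_mul_relIndex ⊥ _ S bot_le hAS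
    rw [Subgroup.relIndex_bot_left, Subgroup.relIndex_bot_left, hA4, hi] at this
    omega
  refine iso_dihedral hcard ⟨a, haS⟩ ⟨y, hg₁⟩ ?_ (Subtype.ext hyy) ?_ (Subtype.ext hay)
  · rw [← Subgroup.orderOf_coe]; exact hord
  · intro h
    obtain ⟨n, hn⟩ := Subgroup.mem_zpowers_iff.mp h
    exact hya' (Subgroup.mem_zpowers_iff.mpr ⟨n, congrArg Subtype.val hn⟩)

end Cfsg.Agent.S5435
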