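import Cfsg.Statements.S5437
-- import your own Cfsg.Agent.* helpers here

set_option autoImplicit false
open Cfsg

namespace Cfsg.Agent.S5437

/-- Let I be a set of involutions of the finite group G closed under conjugation, and H a subgroup of G. The following are equivalent: (1) for every member x of I lying in H, the conjugates of x lying in H form a single H-class and the centralizer of x lies in H; (2) for every g outside H, no member of I lies in both H and g H g⁻¹; (3) every member of I lying in H fixes exactly one coset in the action of G on the cosets of H. -/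
theorem result {G : Type*} [Group G] [Finite G] (I : Set G) (hI : ∀ x ∈ I, orderOf x = 2) (hIc : ∀ g : G, ∀ x ∈ I, g * x * g⁻¹ ∈ I) (H : Subgroup G) : ((∀ x ∈ I, x ∈ H → (∀ g : G, g * x * g⁻¹ ∈ H → ∃ h ∈ H, h * x * h⁻¹ = g * x * g⁻¹) ∧ Subgroup.centralizer ({x} : Set G) ≤ H) ↔ (∀ g : G, g ∉ H → ∀ x ∈ I, ¬ (x ∈ H ∧ x ∈ (H : Subgroup G).map (MulAut.conj g).toMonoidHom))) ∧ ((∀ g : G, g ∉ H → ∀ x ∈ I, ¬ (x ∈ H ∧ x ∈ (H : Subgroup G).map (MulAut.conj g).toMonoidHom)) ↔ ∀ x ∈ I, x ∈ H → ∃! c : G ⧸ H, x • c = c) := by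
  have hmem : ∀ g x : G, (x ∈ (H : Subgroup G).map (MulAut.conj g).toMonoidHom) ↔ g⁻¹ * x * g ∈ H := by
    intro g x
    constructor
    · rintro ⟨y, hy, rfl⟩; simpa [mul_assoc] using hy
    · intro h; exact ⟨_, h, by simp [mul_assoc]⟩
  have hcos : ∀ g x : G, x • (g : G ⧸ H) = g ↔ g⁻¹ * x * g ∈ H := by
    intro g x
    rw [← inv_mem_iff (H := H), MulAction.Quotient.smul_coe, QuotientGroup.eq]
    simp [mul_assoc]
  refine ⟨⟨fun h g hg x hxI ⟨hx, hxg⟩ => ?_, fun h x hxI hx => ⟨fun g hgx => ?_, fun g hgx => ?_⟩⟩,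
    ⟨fun h x hxI hx => ?_, fun h g hg x hxI ⟨hx, hxg⟩ => ?_⟩⟩
  · rw [hmem] at hxg
    obtain ⟨hfus, hcent⟩ := h x hxI hx
    obtain ⟨k, hk, hkx⟩ := hfus g⁻¹ (by simpa using hxg)
    refine hg ?_
    have : g * k ∈ H := hcent (Subgroup.mem_centralizer_singleton_iff.mpr (by
      calc g * k * x = g * (k * x * k⁻¹) * k := by group
        _ = g * (g⁻¹ * x * g⁻¹⁻¹) * k := by rw [hkx]
        _ = x * (g * k) := by group))
    exact (H.mul_mem_cancel_right hk).mp this
  · by_cases hg : g ∈ H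
    · exact ⟨g, hg, rfl⟩
    · exact absurd ⟨hx, (hmem _ _).mpr (by simpa using hgx)⟩
        (h g⁻¹ (by simpa using hg) x hxI)
  · rw [Subgroup.mem_centralizer_singleton_iff] at hgx
    by_contra hg
    exact h g⁻¹ (by simpa using hg) x hxI ⟨hx, (hmem _ _).mpr (by simpa [hgx] using hx)⟩
  · refine ⟨((1 : G) : G ⧸ H), (hcos 1 x).mpr (by simpa using hx), fun c hc => ?_⟩
    induction c using QuotientGroup.induction_on with
    | _ g =>
      have hg : g ∈ H := by
        by_contra hg
        exact h g hg x hxI ⟨hx, (hmem g x).mpr ((hcos g x).mp hc)⟩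
      exact QuotientGroup.eq.mpr (by simpa using hg)
  · rw [hmem] at hxg
    obtain ⟨c, -, huniq⟩ := h x hxI hx
    have e := (huniq _ ((hcos g x).mpr hxg)).trans
      (huniq _ ((hcos 1 x).mpr (by simpa using hx))).symm
    exact hg (by simpa using QuotientGroup.eq.mp e)

end Cfsg.Agent.S5437
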