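import Cfsg.Statements.S5438
-- import your own Cfsg.Agent.* helpers here

set_option autoImplicit false
open Cfsg

namespace Cfsg.Agent.S5438

/-- Let z be a 2-central involution of the finite group G (an involution central in some Sylow 2-subgroup) and H a subgroup containing z such that the coset H is the only coset of H fixed by z (in the action of G on the cosets of H). Then H has odd index in G, and for every 2-element x of H the conjugates of x lying in H form a single H-class. -/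
theorem result {G : Type*} [Group G] [Finite G] (z : G) (hz : Cfsg.IsTwoCentralInvolution z) (H : Subgroup G) (hzH : z ∈ H) (hfix : ∀ g : G, g⁻¹ * z * g ∈ H → g ∈ H) : Odd H.index ∧ ∀ x ∈ H, (∃ k : ℕ, orderOf x = 2 ^ k) → ∀ g : G, g * x * g⁻¹ ∈ H → ∃ h ∈ H, h * x * h⁻¹ = g * x * g⁻¹ := by
  haveI : Fact (Nat.Prime 2) := ⟨Nat.prime_two⟩
  obtain ⟨hz2, P, -, hPc⟩ := hz
  -- every conjugate of `z` in `H` is conjugate to `z` by an element of `H`
  have hfix' : ∀ u : G, u * z * u⁻¹ ∈ H → u ∈ H := fun u hu => by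
    have := hfix u⁻¹ (by simpa using hu); simpa using this
  have hPH : (P : Subgroup G) ≤ H := fun t ht => hfix' t (by
    have h : t * z * t⁻¹ = z := by rw [hPc t ht]; simp
    rw [h]; exact hzH)
  have hodd : Odd H.index := Odd.of_dvd_nat (Nat.odd_iff.mpr
    (by have := P.not_dvd_index; omega)) (Subgroup.index_dvd_of_le hPH)
  refine ⟨hodd, ?_⟩
  -- a 2-element of `H` commutes with an `H`-conjugate of `z`
  have hcomm : ∀ y ∈ H, (∃ k : ℕ, orderOf y = 2 ^ k) → ∃ h ∈ H, Commute (h * z * h⁻¹) y := by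
    intro y hy ⟨k, hk⟩
    have hyp : IsPGroup 2 ↥(Subgroup.zpowers (⟨y, hy⟩ : ↥H)) :=
      IsPGroup.of_card (n := k) (by rw [Nat.card_zpowers, ← Subgroup.orderOf_coe]; exact hk)
    obtain ⟨R, hR⟩ := hyp.exists_le_sylow
    obtain ⟨h, hh⟩ := MulAction.exists_smul_eq ↥H (P.subtype hPH) R
    refine ⟨h, h.2, ?_⟩
    have hyR : (⟨y, hy⟩ : ↥H) ∈ (R : Subgroup ↥H) := hR (Subgroup.mem_zpowers _)
    rw [← hh, Sylow.coe_subgroup_smul, Subgroup.mem_pointwise_smul_iff_inv_smul_mem] at hyR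
    simp only [Sylow.coe_subtype, Subgroup.mem_subgroupOf] at hyR
    have := hPc _ hyR
    simp [MulAut.smul_def, mul_assoc] at this
    unfold Commute SemiconjBy
    calc (h : G) * z * (h : G)⁻¹ * y
        = (h : G) * (z * ((h : G)⁻¹ * (y * h))) * (h : G)⁻¹ := by group
      _ = (h : G) * ((h : G)⁻¹ * (y * ((h : G) * z))) * (h : G)⁻¹ := by rw [this]
      _ = y * ((h : G) * z * (h : G)⁻¹) := by group
  intro x hx hk g hgx
  obtain ⟨h, hh, hc⟩ := hcomm x hx hk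
  obtain ⟨h', hh', hc'⟩ := hcomm _ hgx (by
    obtain ⟨k, hk⟩ := hk
    exact ⟨k, by rw [← hk]; exact MulEquiv.orderOf_eq (MulAut.conj g) x⟩)
  set C := Subgroup.centralizer ({x} : Set G)
  have hzC : h * z * h⁻¹ ∈ C := Subgroup.mem_centralizer_singleton_iff.mpr hc
  have ho : orderOf z ∣ 2 := by
    rw [hz2]
  have hpg : ∀ u : G, ∀ hu : u * z * u⁻¹ ∈ C, IsPGroup 2 ↥(Subgroup.zpowers (⟨_, hu⟩ : ↥C)) := by
    intro u hu
    obtain ⟨k, -, hk⟩ := (Nat.dvd_prime_pow Nat.prime_two).mp (by simpa using ho : orderOf z ∣ 2 ^ 1)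
    refine IsPGroup.of_card (n := k) ?_
    rw [Nat.card_zpowers, ← Subgroup.orderOf_coe, ← hk]
    exact MulEquiv.orderOf_eq (MulAut.conj u) z
  obtain ⟨T, hT⟩ := (hpg h hzC).exists_le_sylow
  have hzT : (⟨_, hzC⟩ : ↥C) ∈ (T : Subgroup ↥C) := hT (Subgroup.mem_zpowers _)
  -- the Sylow subgroup `T` lies in `H`
  have hTH : ∀ t ∈ (T : Subgroup ↥C), (t : G) ∈ H := by
    set U : Subgroup ↥(T : Subgroup ↥C) := (H.comap C.subtype).subgroupOf (T : Subgroup ↥C)
    have hU : U = ⊤ := by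
      by_contra hne
      haveI : Group.IsNilpotent ↥(T : Subgroup ↥C) := T.isPGroup'.isNilpotent
      have hlt := Group.normalizerCondition_of_isNilpotent (G := ↥(T : Subgroup ↥C)) U
        (lt_top_iff_ne_top.mpr hne)
      obtain ⟨t, ht, htn⟩ := SetLike.exists_of_lt hlt
      apply htn
      have hmem : (⟨⟨_, hzC⟩, hzT⟩ : ↥(T : Subgroup ↥C)) ∈ U := by
        show h * z * h⁻¹ ∈ H
        exact H.mul_mem (H.mul_mem hh hzH) (H.inv_mem hh)
      have hm : ((t : ↥C) : G) * (h * z * h⁻¹) * ((t : ↥C) : G)⁻¹ ∈ H :=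
        (Subgroup.mem_normalizer_iff.mp ht _).mp hmem
      have h3 : ((t : ↥C) : G) * h ∈ H := hfix' _ (by simpa [mul_assoc] using hm)
      show ((t : ↥C) : G) ∈ H
      exact (H.mul_mem_cancel_right hh).mp h3
    intro t ht
    have : (⟨t, ht⟩ : ↥(T : Subgroup ↥C)) ∈ U := hU ▸ Subgroup.mem_top _
    exact this
  have hz'' : g⁻¹ * h' * z * (g⁻¹ * h')⁻¹ ∈ C := by
    rw [Subgroup.mem_centralizer_singleton_iff]
    have e : g⁻¹ * h' * z * (g⁻¹ * h')⁻¹ = g⁻¹ * (h' * z * h'⁻¹) * g := by group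
    rw [e]
    calc g⁻¹ * (h' * z * h'⁻¹) * g * x = g⁻¹ * ((h' * z * h'⁻¹) * (g * x * g⁻¹)) * g := by group
      _ = g⁻¹ * ((g * x * g⁻¹) * (h' * z * h'⁻¹)) * g := by rw [hc'.eq]
      _ = x * (g⁻¹ * (h' * z * h'⁻¹) * g) := by group
  obtain ⟨T', hT'⟩ := (hpg _ hz'').exists_le_sylow
  obtain ⟨c, hcT⟩ := MulAction.exists_smul_eq ↥C T' T
  have hwT : c * ⟨_, hz''⟩ * c⁻¹ ∈ (T : Subgroup ↥C) := by
    rw [← hcT, Sylow.coe_subgroup_smul]
    exact Subgroup.smul_mem_pointwise_smul _ (MulAut.conj c) _ (hT' (Subgroup.mem_zpowers _))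
  have hw : (c : G) * (g⁻¹ * h') ∈ H := hfix' _ (by simpa [mul_assoc] using hTH _ hwT)
  have hcg : (c : G) * g⁻¹ ∈ H := (H.mul_mem_cancel_right hh').mp (by simpa [mul_assoc] using hw)
  refine ⟨g * (c : G)⁻¹, by simpa using H.inv_mem hcg, ?_⟩
  have hcx := Subgroup.mem_centralizer_singleton_iff.mp c.2
  calc g * (c : G)⁻¹ * x * (g * (c : G)⁻¹)⁻¹ = g * ((c : G)⁻¹ * (x * c)) * g⁻¹ := by group
    _ = g * ((c : G)⁻¹ * ((c : G) * x)) * g⁻¹ := by rw [hcx]
    _ = g * x * g⁻¹ := by group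

end Cfsg.Agent.S5438
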