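import Cfsg.Statements.S5439
-- import your own Cfsg.Agent.* helpers here

set_option autoImplicit false
open Cfsg

namespace Cfsg.Agent.S5439

/-- Let I and J be two different conjugacy classes of involutions of the finite group G and H a subgroup such that every member of I ∪ J fixes exactly one coset in the action on the cosets of H, and such that for every a in I ∩ H and every b in (I ∪ J) ∩ H different from a and commuting with it, the centralizer of a b lies in H. Then H = G. -/
theorem result {G : Type*} [Group G] [Finite G] (I J : Set G) (a₀ b₀ : G) (ha₀ : orderOf a₀ = 2) (hb₀ : orderOf b₀ = 2) (hI : I = {x | IsConj a₀ x}) (hJ : J = {x | IsConj b₀ x}) (hIJ : I ≠ J) (H : Subgroup G) (hfix : ∀ x ∈ I ∪ J, ∃! c : G ⧸ H, x • c = c) (hcent : ∀ a ∈ I, a ∈ H → ∀ b ∈ I ∪ J, b ∈ H → a ≠ b → a * b = b * a → Subgroup.centralizer ({a * b} : Set G) ≤ H) : H = ⊤ := by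
  have hcos : ∀ g x : G, x • (g : G ⧸ H) = g ↔ g⁻¹ * x * g ∈ H := by
    intro g x
    rw [← inv_mem_iff (H := H), MulAction.Quotient.smul_coe, QuotientGroup.eq]
    simp [mul_assoc]
  have huniq : ∀ x ∈ I ∪ J, x ∈ H → ∀ g : G, g⁻¹ * x * g ∈ H → g ∈ H := by
    intro x hx hxH g hg
    obtain ⟨c, -, hu⟩ := hfix x hx
    have e := (hu _ ((hcos g x).mpr hg)).trans (hu _ ((hcos 1 x).mpr (by simpa using hxH))).symm
    simpa using QuotientGroup.eq.mp e
  have hcentH : ∀ x ∈ I ∪ J, x ∈ H → ∀ g : G, Commute g x → g ∈ H := by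
    intro x hx hxH g hg
    refine huniq x hx hxH g ?_
    rw [mul_assoc, ← hg.eq, ← mul_assoc, inv_mul_cancel, one_mul]
    exact hxH
  have hcI : ∀ x ∈ I, ∀ g : G, g * x * g⁻¹ ∈ I := by
    intro x hx g; rw [hI] at hx ⊢
    exact IsConj.trans hx (isConj_iff.mpr ⟨g, rfl⟩)
  have hcJ : ∀ x ∈ J, ∀ g : G, g * x * g⁻¹ ∈ J := by
    intro x hx g; rw [hJ] at hx ⊢
    exact IsConj.trans hx (isConj_iff.mpr ⟨g, rfl⟩)
  obtain ⟨c, hc, -⟩ := hfix a₀ (Or.inl (by rw [hI]; exact IsConj.refl a₀))
  induction c using QuotientGroup.induction_on with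
  | _ g₀ =>
  set a := g₀⁻¹ * a₀ * g₀ with hadef
  have haH : a ∈ H := (hcos g₀ a₀).mp hc
  have haI : a ∈ I := by
    have := hcI a₀ (by rw [hI]; exact IsConj.refl a₀) g₀⁻¹
    simpa [hadef] using this
  clear_value a
  have key : ∀ b ∈ J, b ∈ H := by
    intro b hb
    have hnc : ¬ IsConj a b := by
      intro hab
      refine hIJ ?_
      rw [hI] at haI; rw [hJ] at hb
      have h0 : IsConj a₀ b₀ := (IsConj.trans haI hab).trans hb.symm
      rw [hI, hJ]; ext x
      exact ⟨fun h => h0.symm.trans h, fun h => h0.trans h⟩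
    have inv2 : ∀ u : G, IsConj a₀ u → u * u = 1 := by
      intro u hu; obtain ⟨w, rfl⟩ := isConj_iff.mp hu
      have := pow_orderOf_eq_one a₀; rw [ha₀, pow_two] at this
      calc w * a₀ * w⁻¹ * (w * a₀ * w⁻¹) = w * (a₀ * a₀) * w⁻¹ := by group
        _ = 1 := by rw [this]; group
    have haa : a * a = 1 := inv2 a (by rw [hI] at haI; exact haI)
    have hbb : b * b = 1 := by
      rw [hJ] at hb; obtain ⟨w, rfl⟩ := isConj_iff.mp hb
      have := pow_orderOf_eq_one b₀; rw [hb₀, pow_two] at this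
      calc w * b₀ * w⁻¹ * (w * b₀ * w⁻¹) = w * (b₀ * b₀) * w⁻¹ := by group
        _ = 1 := by rw [this]; group
    have hai : a⁻¹ = a := inv_eq_of_mul_eq_one_right haa
    have hbi : b⁻¹ = b := inv_eq_of_mul_eq_one_right hbb
    set r := a * b with hr
    clear_value r
    have hflip : ∀ m : ℕ, a * r ^ m = (r ^ m)⁻¹ * a := by
      intro m; induction m with
      | zero => simp
      | succ m ih =>
        have e : a * r = r⁻¹ * a := by
          rw [hr, mul_inv_rev, hai, hbi, ← mul_assoc, haa, one_mul, mul_assoc, haa, mul_one]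
        calc a * r ^ (m + 1) = (a * r ^ m) * r := by rw [pow_succ, mul_assoc]
          _ = (r ^ m)⁻¹ * (r⁻¹ * a) := by rw [ih, mul_assoc, e]
          _ = (r ^ (m + 1))⁻¹ * a := by rw [pow_succ', mul_inv_rev, mul_assoc]
    obtain ⟨k, hk⟩ : ∃ k, orderOf r = 2 * k := by
      rcases Nat.even_or_odd (orderOf r) with ⟨k, hk⟩ | ⟨k, hk⟩
      · exact ⟨k, by omega⟩
      · refine absurd ?_ hnc
        refine IsConj.trans (isConj_iff.mpr ⟨r ^ (k + 1), ?_⟩) (isConj_iff.mpr ⟨a, ?_⟩ : IsConj (a * b * a) b)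
        rotate_left
        · rw [hai]; simp [mul_assoc, haa]; rw [← mul_assoc a a b, haa, one_mul]
        have h1 : r ^ (2 * k + 1) = 1 := hk ▸ pow_orderOf_eq_one r
        have e : (r ^ (k + 1))⁻¹ = r ^ k := by
          refine inv_eq_of_mul_eq_one_right ?_
          rw [← pow_add, ← h1]; congr 1; omega
        calc r ^ (k + 1) * a * (r ^ (k + 1))⁻¹ = r ^ (k + 1) * (a * r ^ k) := by rw [e, mul_assoc]
          _ = r ^ (k + 1) * (r ^ k)⁻¹ * a := by rw [hflip, mul_assoc]
          _ = r * a := by rw [pow_succ']; group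
          _ = a * b * a := by rw [hr]
    have hkpos : 0 < k := by have := orderOf_pos r; omega
    set i := r ^ k with hi
    have hiinv : i⁻¹ = i := inv_eq_of_mul_eq_one_right (by
      rw [hi, ← pow_add, ← two_mul, ← hk, pow_orderOf_eq_one])
    have hia : Commute i a := by
      show i * a = a * i
      rw [hflip k, ← hi, hiinv]
    have hib : Commute i b := by
      have hir : Commute i r := Commute.pow_self r k
      have : b = a⁻¹ * r := by rw [hr]; group
      rw [this]; exact hia.inv_right.mul_right hir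
    have hi1 : i ≠ 1 := pow_ne_one_of_lt_orderOf (by omega) (by omega)
    have hiH : i ∈ H := hcentH a (Or.inl haI) haH i hia
    have hmem : i * a ∈ I ∪ J := by
      rcases Nat.even_or_odd k with ⟨m, hm⟩ | ⟨m, hm⟩
      · refine Or.inl ?_
        have e : i * a = r ^ m * a * (r ^ m)⁻¹ := by
          have h1 : r ^ m * a = a * (r ^ m)⁻¹ := by
            have e2 := congrArg (fun w => r ^ m * w * (r ^ m)⁻¹) (hflip m)
            simp [mul_assoc] at e2
            exact e2
          rw [mul_assoc, ← h1, ← mul_assoc, ← pow_add, hi, hm]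
        rw [e]; exact hcI a haI _
      · refine Or.inr ?_
        have e : i * a = r ^ m * (a * b * a⁻¹) * (r ^ m)⁻¹ := by
          have h1 : r ^ m * a = a * (r ^ m)⁻¹ := by
            have e2 := congrArg (fun w => r ^ m * w * (r ^ m)⁻¹) (hflip m)
            simp [mul_assoc] at e2
            exact e2
          calc i * a = r ^ m * r * (r ^ m * a) := by
                rw [hi, hm, show 2 * m + 1 = m + 1 + m by omega, pow_add, pow_succ]; group
            _ = r ^ m * r * (a * (r ^ m)⁻¹) := by rw [h1]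
            _ = r ^ m * (a * b * a⁻¹) * (r ^ m)⁻¹ := by rw [hai, hr]; group
        rw [e]; exact hcJ _ (hcJ b hb a) _
    have hne : a ≠ i * a := fun h => hi1 (by simpa using h.symm)
    have hcomm : a * (i * a) = i * a * a := by rw [← mul_assoc, ← hia.eq]
    have := hcent a haI haH (i * a) hmem (H.mul_mem hiH haH) hne hcomm
    refine this (Subgroup.mem_centralizer_singleton_iff.mpr ?_)
    have e : a * (i * a) = i := by rw [← mul_assoc, ← hia.eq, mul_assoc, haa, mul_one]
    rw [e]; exact hib.symm.eq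
  have hb : b₀ ∈ J := by rw [hJ]; exact IsConj.refl b₀
  rw [eq_top_iff]
  intro g _
  exact huniq b₀ (Or.inr hb) (key b₀ hb) g (by simpa using key _ (hcJ b₀ hb g⁻¹))

end Cfsg.Agent.S5439
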