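import Cfsg.Statements.S5440
import Cfsg.Agent.Lib.LargeFischer.Pair

set_option autoImplicit false
set_option maxHeartbeats 400000
open Cfsg

namespace Cfsg.Agent.S5440

/-- Let G be a finite group of large Fischer type at the involution z: the generalized Fitting subgroup Q of H = C_G(z) is extraspecial of order 2^13, H has normal subgroups Q ≤ H₁ ≤ H₂ with H₁/Q of order 3, H₂/H₁ the projective special unitary group of dimension 4 over the field with nine elements and H₂ of index 2 in H, and some conjugate of z other than z lies in Q. Then H has exactly two orbits, under conjugation, on the involutions of Q other than z. -/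
theorem result {G : Type*} [Group G] [Finite G] (z : G) (Q : Subgroup (Subgroup.centralizer ({z} : Set G))) [Q.Normal] (hF : Cfsg.IsOfLargeFischerTypeAt z Q) : ∃ s t : Subgroup.centralizer ({z} : Set G), s ∈ Q ∧ t ∈ Q ∧ orderOf s = 2 ∧ orderOf t = 2 ∧ (s : G) ≠ z ∧ (t : G) ≠ z ∧ (¬ ∃ h : Subgroup.centralizer ({z} : Set G), h * s * h⁻¹ = t) ∧ ∀ x : Subgroup.centralizer ({z} : Set G), x ∈ Q → orderOf x = 2 → (x : G) ≠ z → (∃ h : Subgroup.centralizer ({z} : Set G), h * s * h⁻¹ = x) ∨ ∃ h : Subgroup.centralizer ({z} : Set G), h * t * h⁻¹ = x := by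
  
  open Cfsg.Agent.LFRep in
  obtain ⟨D⟩ := exists_model hF
  open Cfsg.Agent.LFRep in
  exact (by
    have hex : ∀ v : Vec, qf v = 0 → v ≠ 0 → ∃ s : Subgroup.centralizer ({z} : Set G),
        s ∈ Q ∧ orderOf s = 2 ∧ (s : G) ≠ z ∧ D.img (s : G) = v := by
      intro v hq hv
      obtain ⟨x, hx, hxv⟩ := D.img_surj v
      have h2 : x * x = 1 := (D.sq_iff x hx).2 (hxv.symm ▸ hq)
      obtain ⟨s, hs, rfl⟩ := hx
      refine ⟨s, hs, orderOf_eq_prime (Subtype.ext (by simpa [pow_two] using h2)) (fun e => hv ?_),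
        fun e => hv ?_, hxv⟩
      · rw [← hxv, e, map_one]; exact D.img_one
      · rw [← hxv]
        change D.img (s : G) = 0
        rw [e]; exact D.img_z
    obtain ⟨s, hs, hs2, hsz, hsv⟩ := hex (rep 0) rep_small_big.1.1 rep_small_big.1.2.1
    obtain ⟨t, ht, ht2, htz, htv⟩ := hex (rep 1) rep_small_big.2.1.1 rep_small_big.2.1.2.1
    refine ⟨s, t, hs, ht, hs2, ht2, hsz, htz, ?_, ?_⟩
    · rintro ⟨h, e⟩
      have e' : D.img ((h : G) * (s : G) * (h : G)⁻¹) = D.img (t : G) := by
        rw [← e]; rfl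
      rw [D.img_conj h (s : G) ⟨s, hs, rfl⟩, hsv, htv] at e'
      exact rep_small_big.2.1.2.2 ((e' ▸ (D.small_mv h _).2 rep_small_big.1).2.2)
    · intro x hx hx2 hxz
      have hx1 : (x : G) ≠ 1 := fun e => by
        rw [show x = 1 from Subtype.ext e, orderOf_one] at hx2
        omega
      have hsq : (x : G) * (x : G) = 1 := by
        have h := pow_orderOf_eq_one x
        rw [hx2, pow_two] at h
        exact congrArg Subtype.val h
      rcases D.small_or_big ⟨x, hx, rfl⟩ hsq hx1 hxz with h | h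
      · left
        obtain ⟨c, hc⟩ := D.small_trans _ _ rep_small_big.1 h
        obtain ⟨c', -, he⟩ := D.exists_conj (x := (s : G)) ⟨s, hs, rfl⟩ ⟨x, hx, rfl⟩ hx1 hxz (c := c)
          (by rw [hsv]; exact hc)
        exact ⟨c', Subtype.ext he⟩
      · right
        obtain ⟨c, hc⟩ := D.big_trans _ _ rep_small_big.2.1 h
        obtain ⟨c', -, he⟩ := D.exists_conj (x := (t : G)) ⟨t, ht, rfl⟩ ⟨x, hx, rfl⟩ hx1 hxz (c := c)
          (by rw [htv]; exact hc)
        exact ⟨c', Subtype.ext he⟩)

end Cfsg.Agent.S5440
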