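import Cfsg.Statements.S5442
import Cfsg.Agent.Lib.LargeFischer.Stab
import Mathlib.GroupTheory.SpecificGroups.Alternating.Simple

set_option autoImplicit false
set_option maxHeartbeats 400000
open Cfsg

namespace Cfsg.Agent.S5442

/-- Let G be a finite group of large Fischer type at the involution z: the generalized Fitting subgroup Q of H = C_G(z) is extraspecial of order 2^13, H has normal subgroups Q ≤ H₁ ≤ H₂ with H₁/Q of order 3, H₂/H₁ the projective special unitary group of dimension 4 over the field with nine elements and H₂ of index 2 in H, and some conjugate of z other than z lies in Q. Let s = g z g⁻¹ be a conjugate of z lying in Q and different from z. Then the intersection of Q and g Q g⁻¹ (as subgroups of G) is elementary abelian of order 2^7; and in H/Q, writing X for the image of the centralizer of s in H and E for the image of the intersection of g Q g⁻¹ with H, E is a normal subgroup of X, elementary abelian of order 32, with X/E isomorphic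 to the alternating group of degree 6. -/
theorem result {G : Type*} [Group G] [Finite G] (z : G) (Q : Subgroup (Subgroup.centralizer ({z} : Set G))) [Q.Normal] (hF : Cfsg.IsOfLargeFischerTypeAt z Q) (s : G) (hsQ : ∃ hsc : s ∈ Subgroup.centralizer ({z} : Set G), (⟨s, hsc⟩ : Subgroup.centralizer ({z} : Set G)) ∈ Q) (hs : IsConj z s) (hs1 : s ≠ z) (g : G) (hg : g * z * g⁻¹ = s) (X E : Subgroup ((Subgroup.centralizer ({z} : Set G)) ⧸ Q)) (hX : X = ((Subgroup.centralizer ({z} : Set G) ⊓ Subgroup.centralizer ({s} : Set G)).subgroupOf (Subgroup.centralizer ({z} : Set G))).map (QuotientGroup.mk' Q)) (hE : E = ((((Q.map (Subgroup.centralizer ({z} : Set G)).subtype)).map (MulAut.conj g).toMonoidHom ⊓ Subgroup.centralizer ({z} : Set G)).subgroupOf (Subgroup.centralizer ({z} : Set G))).map (QuotientGroup.mk' Q)) : Cfsg.IsElementaryAbelian 2 ((Q.map (Subgroup.centralizer ({z} : Set G)).subtype) ⊓ ((Q.map (Subgroup.centralizer ({z} : Set G)).subtype)).map (MulAut.conj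 g).toMonoidHom) ∧ Nat.card ↥((Q.map (Subgroup.centralizer ({z} : Set G)).subtype) ⊓ ((Q.map (Subgroup.centralizer ({z} : Set G)).subtype)).map (MulAut.conj g).toMonoidHom) = 2 ^ 7 ∧ E ≤ X ∧ (∀ x ∈ X, ∀ y ∈ E, x * y * x⁻¹ ∈ E) ∧ Cfsg.IsElementaryAbelian 2 E ∧ Nat.card E = 32 ∧ ∃ _ : (E.subgroupOf X).Normal, Nonempty (↥X ⧸ E.subgroupOf X ≃* alternatingGroup (Fin 6)) := by
  
  obtain ⟨hsc, hsmem⟩ := hsQ
  subst hg
  obtain ⟨D⟩ := Cfsg.Agent.LFRep.exists_model hF
  have hsq : g * z * g⁻¹ ∈ Cfsg.Agent.LFRep.QG Q := ⟨_, hsmem, rfl⟩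
  have hbig := D.big_of_conj hsq hs hs1
  obtain ⟨c, hc⟩ := D.big_trans _ _ hbig Cfsg.Agent.LFRep.rep_small_big.2.2
  set v := D.img (g * z * g⁻¹) with hv
  have hEeq : E = D.imgQ g := hE
  have hXeq : X = D.fixer v := by
    rw [hX]
    refine le_antisymm ?_ ?_
    · rintro _ ⟨h, hh, rfl⟩
      show D.mvq (QuotientGroup.mk' Q h) v = v
      rw [D.mvq_mk, hv, ← D.img_conj h _ hsq,
        show (h : G) * (g * z * g⁻¹) * (h : G)⁻¹ = g * z * g⁻¹ from
          mul_inv_eq_iff_eq_mul.2 (Subgroup.mem_centralizer_singleton_iff.1 hh.2)]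
    · intro x hx
      obtain ⟨h, rfl⟩ := QuotientGroup.mk_surjective x
      obtain ⟨h', h1, h2⟩ := D.exists_conj hsq hsq D.conj_ne_one hs1 (c := h) hx
      refine ⟨h', ⟨h'.2, Subgroup.mem_centralizer_singleton_iff.2 (mul_inv_eq_iff_eq_mul.1 h2)⟩, ?_⟩
      exact D.mvq_injective h1
  have hEX : E ≤ X := by
    rw [hEeq, hX]
    exact Subgroup.map_mono fun r hr =>
      ⟨r.2, Subgroup.mem_centralizer_singleton_iff.2 (D.centQ_commute hr).eq⟩
  have hnorm : ∀ x ∈ X, ∀ y ∈ E, x * y * x⁻¹ ∈ E := by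
    rw [hEeq, hX]
    rintro _ ⟨h, hh, rfl⟩ _ ⟨r, hr, rfl⟩
    refine ⟨h * r * h⁻¹, ⟨(D.hubConj g).normalizes h ?_ r hr.1, (h * r * h⁻¹).2⟩, by simp⟩
    exact Subgroup.mem_centralizer_singleton_iff.1 hh.2
  have hn : (E.subgroupOf X).Normal := ⟨fun y hy x => hnorm x x.2 y hy⟩
  have hexp : ∀ y ∈ E, y * y = 1 := by
    rw [hEeq]
    rintro _ ⟨r, hr, rfl⟩
    rw [← map_mul]
    refine (QuotientGroup.eq_one_iff _).2 ?_
    rcases (D.hubConj g).sq_cases (r : G) hr.1 with e | e
    · rw [show r * r = 1 from Subtype.ext e]; exact one_mem Q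
    · rw [show r * r = ⟨g * z * g⁻¹, hsc⟩ from Subtype.ext e]; exact hsmem
  have hel : Cfsg.IsElementaryAbelian 2 E := by
    refine ⟨⟨⟨fun a b => Subtype.ext ?_⟩⟩, fun y hy => by rw [pow_two]; exact hexp y hy⟩
    have ha := inv_eq_of_mul_eq_one_right (hexp a a.2)
    have hb := inv_eq_of_mul_eq_one_right (hexp b b.2)
    have hab := inv_eq_of_mul_eq_one_right (hexp _ (E.mul_mem a.2 b.2))
    rw [mul_inv_rev, ha, hb] at hab
    exact hab.symm
  obtain ⟨f, hf, hfix⟩ := D.exists_alt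
  set k : (Subgroup.centralizer ({z} : Set G)) ⧸ Q := QuotientGroup.mk' Q c with hk
  have hkv : D.mvq k v = Cfsg.Agent.LFRep.rep 3 := hc
  let f' : alternatingGroup (Fin 6) →* (Subgroup.centralizer ({z} : Set G)) ⧸ Q := (MulAut.conj k⁻¹).toMonoidHom.comp f
  have hf' : Function.Injective f' := (MulAut.conj k⁻¹).injective.comp hf
  have hf'X : ∀ σ, f' σ ∈ X := fun σ => by
    rw [hXeq]
    show D.mvq (k⁻¹ * f σ * (k⁻¹)⁻¹) v = v
    rw [inv_inv, map_mul, map_mul]
    show D.mvq k⁻¹ (D.mvq (f σ) (D.mvq k v)) = v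
    rw [hkv, show D.mvq (f σ) _ = _ from hfix σ, ← hkv]
    show (D.mvq k⁻¹ * D.mvq k) v = v
    rw [← map_mul, inv_mul_cancel, map_one]; rfl
  have : Fact (Nat.Prime 2) := ⟨Nat.prime_two⟩
  have hE2 : IsPGroup 2 E := hEeq ▸ D.imgQ_two
  haveI : IsSimpleGroup (alternatingGroup (Fin 6)) := alternatingGroup.isSimpleGroup (by simp)
  have hA : Nat.card (alternatingGroup (Fin 6)) = 360 := by
    rw [nat_card_alternatingGroup, Nat.card_fin]; rfl
  have hmeet : ∀ σ, f' σ ∈ E → σ = 1 := by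
    have hK : (E.comap f').Normal := ⟨fun σ hσ τ => by
      show f' (τ * σ * τ⁻¹) ∈ E
      rw [map_mul, map_mul, map_inv]
      exact hnorm _ (hf'X τ) _ hσ⟩
    rcases hK.eq_bot_or_eq_top with h | h
    · intro σ hσ
      have : σ ∈ E.comap f' := hσ
      rwa [h, Subgroup.mem_bot] at this
    · exfalso
      have hp : IsPGroup 2 (E.comap f') := hE2.comap_of_injective f' hf'
      rw [h] at hp
      obtain ⟨m, hm⟩ := IsPGroup.iff_card.1 hp
      rw [Subgroup.card_top, hA] at hm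
      have : (3 : ℕ) ∣ 2 ^ m := ⟨120, by omega⟩
      exact absurd (Nat.prime_three.dvd_of_dvd_pow this) (by norm_num)
  have hX11520 : Nat.card X = 11520 := by rw [hXeq, D.card_fixer_big hbig]
  let φ : E × alternatingGroup (Fin 6) → X := fun p => ⟨p.1 * f' p.2, X.mul_mem (hEX p.1.2) (hf'X p.2)⟩
  have hφ : Function.Injective φ := by
    rintro ⟨a, σ⟩ ⟨b, τ⟩ h
    have e : (a : (Subgroup.centralizer ({z} : Set G)) ⧸ Q) * f' σ = b * f' τ := congrArg Subtype.val h
    have e' : f' (σ * τ⁻¹) ∈ E := by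
      rw [map_mul, map_inv, show f' σ * (f' τ)⁻¹ = (a : (Subgroup.centralizer ({z} : Set G)) ⧸ Q)⁻¹ * (b : (Subgroup.centralizer ({z} : Set G)) ⧸ Q) by
        rw [mul_inv_eq_iff_eq_mul, mul_assoc, ← e, inv_mul_cancel_left]]
      exact E.mul_mem (E.inv_mem a.2) b.2
    obtain rfl := mul_inv_eq_one.1 (hmeet _ e')
    exact Prod.ext (Subtype.ext (mul_right_cancel e)) rfl
  have hle := Nat.card_le_card_of_injective φ hφ
  rw [Nat.card_prod, hA, hX11520] at hle
  have h7 := D.card_interQ_le (g := g) hs1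
  have h12 := D.card_imgQ_ge hsq hs1 h7
  rw [← hEeq] at h12
  have hE32 : Nat.card E = 32 := by omega
  have hinter : Nat.card (D.interQ g) = 2 ^ 7 := by
    have h := D.card_imgQ_ge hsq hs1 le_rfl
    rw [← hEeq, hE32] at h
    omega
  refine ⟨⟨D.interQ_comm hs1, fun x hx => by rw [pow_two]; exact D.interQ_sq hs1 hx⟩, hinter, hEX, hnorm,
    hel, hE32, hn, ?_⟩
  let ψ : alternatingGroup (Fin 6) →* X ⧸ E.subgroupOf X :=
    (QuotientGroup.mk' _).comp (f'.codRestrict X hf'X)
  have hψ : Function.Injective ψ :=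
    (injective_iff_map_eq_one ψ).2 fun σ hσ => hmeet σ ((QuotientGroup.eq_one_iff (f'.codRestrict X hf'X σ)).1 hσ)
  have hcardq : Nat.card (X ⧸ E.subgroupOf X) ≤ Nat.card (alternatingGroup (Fin 6)) := by
    have h := Subgroup.card_mul_index (E.subgroupOf X)
    rw [Nat.card_congr (Subgroup.subgroupOfEquivOfLe hEX).toEquiv, hE32, hX11520] at h
    rw [hA, show Nat.card (X ⧸ E.subgroupOf X) = (E.subgroupOf X).index from rfl]
    omega
  exact ⟨(MulEquiv.ofBijective ψ (hψ.bijective_of_nat_card_le hcardq)).symm⟩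

end Cfsg.Agent.S5442
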