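import Cfsg.Statements.S5447
import Cfsg.Agent.Lib.LargeFischer.AClasses
import Cfsg.Agent.Lib.LargeFischer.GoodExists
-- import your own Cfsg.Agent.* helpers here

set_option autoImplicit false
open Cfsg

namespace Cfsg.Agent.S5447

/-- Let G be a finite group of large Fischer type at the involution z: the generalized Fitting subgroup Q of H = C_G(z) is extraspecial of order 2^13, H has normal subgroups Q ≤ H₁ ≤ H₂ with H₁/Q of order 3, H₂/H₁ the projective special unitary group of dimension 4 over the field with nine elements and H₂ of index 2 in H, and some conjugate of z other than z lies in Q. Let T be a Sylow 2-subgroup of G, A its Thompson subgroup and M = N_G(A) its normalizer. Then M controls fusion in A (elements of A conjugate in G are conjugate in M), and M has exactly two orbits on the non-identity elements of A: those conjugate to z in G and those not. -/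
theorem result {G : Type*} [Group G] [Finite G] (z : G) (Q : Subgroup (Subgroup.centralizer ({z} : Set G))) [Q.Normal] (hF : Cfsg.IsOfLargeFischerTypeAt z Q) (T : Sylow 2 G) (A M : Subgroup G) (hA : A = Cfsg.thompsonSubgroupOf 2 (T : Subgroup G)) (hM : M = Subgroup.normalizer (A : Set G)) : (∀ a ∈ A, ∀ g : G, g * a * g⁻¹ ∈ A → ∃ m ∈ M, m * a * m⁻¹ = g * a * g⁻¹) ∧ (∃ a ∈ A, a ≠ 1 ∧ IsConj z a) ∧ (∃ a ∈ A, a ≠ 1 ∧ ¬ IsConj z a) ∧ ∀ a ∈ A, ∀ b ∈ A, a ≠ 1 → b ≠ 1 → (IsConj z a ↔ IsConj z b) → ∃ m ∈ M, m * a * m⁻¹ = b := by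
  obtain ⟨K⟩ := Agent.LargeFischer.exists_goodCoord hF
  obtain ⟨⟨g, hg⟩, hel, hcard, -⟩ := K.thompson_facts hF T
  rw [← hA] at hg hel hcard
  have hmem : ∀ x, x ∈ A ↔ g⁻¹ * x * g ∈ K.aG := by
    intro x
    rw [hg, Subgroup.mem_map]
    constructor
    · rintro ⟨y, hy, rfl⟩
      have e : g⁻¹ * (MulAut.conj g).toMonoidHom y * g = y := by
        show g⁻¹ * (g * y * g⁻¹) * g = y
        group
      rwa [e]
    · intro h
      exact ⟨_, h, by show g * (g⁻¹ * x * g) * g⁻¹ = x; group⟩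
  have hconj : ∀ x : G, IsConj z x ↔ IsConj z (g⁻¹ * x * g) := fun x =>
    ⟨fun h => h.trans (isConj_iff.2 ⟨g⁻¹, by group⟩), fun h => h.trans (isConj_iff.2 ⟨g, by group⟩)⟩
  have hne : ∀ {x : G}, x ≠ 1 → g⁻¹ * x * g ≠ 1 := fun {x} hx e => hx (by
    calc x = g * (g⁻¹ * x * g) * g⁻¹ := by group
      _ = 1 := by rw [e]; group)
  have hzA := (K.core_facts hF).2.2.2.1
  refine ⟨fun a ha k hk => hM ▸ K.control_fusion hF hel hcard ha hk, ⟨g * z * g⁻¹, (hmem _).2 ?_, ?_, ?_⟩, ?_, ?_⟩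
  · rw [show g⁻¹ * (g * z * g⁻¹) * g = z by group]; exact hzA
  · exact fun e => Agent.LargeFischer.GoodCoord.ne_one hF (conj_eq_one_iff.1 e)
  · exact isConj_iff.2 ⟨g, rfl⟩
  · obtain ⟨a, ha, ea⟩ := Agent.LargeFischer.Loc.exists_code K (5 : Agent.LargeFischer.Cd)
    have F := Agent.LargeFischer.lfacts_of_type hF K
    refine ⟨g * a * g⁻¹, (hmem _).2 ?_, ?_, ?_⟩
    · rw [show g⁻¹ * (g * a * g⁻¹) * g = a by group]
      exact Agent.LargeFischer.CentE.mem_aG_of_code ha (by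
        rw [ea]; exact Agent.LargeFischer.CentE.code_ok.2.2.2.2.2.2.1)
    · intro e
      rw [conj_eq_one_iff.1 e, Agent.LargeFischer.Loc.cq_one K] at ea
      exact absurd ea (by decide)
    · rw [hconj, show g⁻¹ * (g * a * g⁻¹) * g = a by group]
      exact Agent.LargeFischer.CentE.not_conj_small F ha (by rw [ea]; exact Agent.LargeFischer.CentE.code_ok.1)
  · intro a ha b hb ha1 hb1 hab
    obtain ⟨m, hm, hme⟩ := Agent.LargeFischer.CentE.aclasses hF ((hmem a).1 ha) ((hmem b).1 hb) (hne ha1) (hne hb1)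
      (by rw [← hconj, ← hconj]; exact hab)
    refine ⟨g * m * g⁻¹, hM ▸ ?_, ?_⟩
    · refine Subgroup.mem_normalizer_iff.2 fun x => ?_
      show x ∈ A ↔ g * m * g⁻¹ * x * (g * m * g⁻¹)⁻¹ ∈ A
      rw [hmem, hmem, show g⁻¹ * (g * m * g⁻¹ * x * (g * m * g⁻¹)⁻¹) * g = m * (g⁻¹ * x * g) * m⁻¹ by group]
      exact Subgroup.mem_normalizer_iff.1 hm _
    · calc g * m * g⁻¹ * a * (g * m * g⁻¹)⁻¹ = g * (m * (g⁻¹ * a * g) * m⁻¹) * g⁻¹ := by group
        _ = b := by rw [hme]; group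

end Cfsg.Agent.S5447
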