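import Cfsg.Statements.S5453
import Cfsg.Agent.Lib.Transpos.M22Quasi
import Cfsg.Agent.Lib.Transpos.M22Conn
-- import your own Cfsg.Agent.* helpers here

set_option autoImplicit false
open Cfsg

namespace Cfsg.Agent.S5453

open Cfsg.Agent.Transpos
open scoped commutatorElement

/-- Let G be a finite group with an involution d whose centralizer C is quasisimple, such that C modulo the subgroup generated by d is of type M(22) with respect to some conjugacy class of 3-transpositions generating it and also has an involution whose own centralizer is quasisimple with quotient by it isomorphic to the projective special unitary group of dimension 6 over the field with four elements and which is not weakly closed in that centralizer; and suppose some conjugate of d other than d commutes with d. Then every involution of C modulo the subgroup generated by d is the image of an involution of C, and d is not a square in G. -/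
theorem result {G : Type*} [Group G] [Finite G] (d : G) (hd : orderOf d = 2) (hq : Cfsg.IsQuasisimple ↥(Subgroup.centralizer ({d} : Set G))) [hzn : ((Subgroup.zpowers d).subgroupOf (Subgroup.centralizer ({d} : Set G))).Normal] (htype : ∃ E : Set (↥(Subgroup.centralizer ({d} : Set G)) ⧸ (Subgroup.zpowers d).subgroupOf (Subgroup.centralizer ({d} : Set G))), Cfsg.IsThreeTranspositionClass E ∧ Cfsg.IsOfTypeM22 _ E) (hinvol : ∃ d' : ↥(Subgroup.centralizer ({d} : Set G)) ⧸ (Subgroup.zpowers d).subgroupOf (Subgroup.centralizer ({d} : Set G)), orderOf d' = 2 ∧ Cfsg.IsQuasisimple ↥(Subgroup.centralizer ({d'} : Set _)) ∧ (∃ (K : Type) (_ : Field K) (_ : Fintype K), Fintype.card K = 4 ∧ ∃ _ : ((Subgroup.zpowers d').subgroupOf (Subgroup.centralizer ({d'} : Set _))).Normal, Nonempty (↥(Subgroup.centralizer ({d'} : Set _)) ⧸ (Subgroup.zpowers d').subgroupOf (Subgroup.centralizer ({d'} : Set _)) ≃* Cfsg.PSU 6 K 2)) ∧ ∃ g, g * d' * g⁻¹ ∈ Subgroup.centralizer ({d'}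 : Set _) ∧ g * d' * g⁻¹ ≠ d') (hnwc : ∃ g : G, g * d * g⁻¹ ∈ Subgroup.centralizer ({d} : Set G) ∧ g * d * g⁻¹ ≠ d) : (∀ x : ↥(Subgroup.centralizer ({d} : Set G)) ⧸ (Subgroup.zpowers d).subgroupOf (Subgroup.centralizer ({d} : Set G)), orderOf x = 2 → ∃ y : ↥(Subgroup.centralizer ({d} : Set G)), orderOf y = 2 ∧ (QuotientGroup.mk y : ↥(Subgroup.centralizer ({d} : Set G)) ⧸ (Subgroup.zpowers d).subgroupOf (Subgroup.centralizer ({d} : Set G))) = x) ∧ ¬ ∃ g : G, g ^ 2 = d := by
  classical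
  set C := Subgroup.centralizer ({d} : Set G) with hC
  set Z := (Subgroup.zpowers d).subgroupOf C with hZdef
  obtain ⟨E, hE, hE22⟩ := htype
  obtain ⟨d', hd', hq', ⟨K, iK, iKf, hK, hn', hiso⟩, -⟩ := hinvol
  have hd2 : d * d = 1 := by
    have := pow_orderOf_eq_one d; rwa [hd, pow_two] at this
  have hdC : d ∈ C := Subgroup.mem_centralizer_singleton_iff.2 rfl
  let z : ↥C := ⟨d, hdC⟩
  have hzc : ∀ x : ↥C, Commute z x := fun x => Subtype.ext
    (Subgroup.mem_centralizer_singleton_iff.1 x.2).symm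
  have hz : z * z = 1 := Subtype.ext hd2
  let π := QuotientGroup.mk' Z
  have hπ : Function.Surjective π := QuotientGroup.mk'_surjective Z
  have hker : ∀ x : ↥C, π x = 1 → x = 1 ∨ x = z := fun x hx => by
    obtain ⟨n, hn⟩ := Subgroup.mem_subgroupOf.1 ((QuotientGroup.eq_one_iff x).1 hx)
    obtain ⟨k, hk⟩ := Int.even_or_odd' n
    have hd2' : d ^ (2 : ℤ) = 1 := by rw [zpow_two]; exact hd2
    rcases hk with rfl | rfl
    · exact Or.inl (Subtype.ext (by rw [← hn]; simp [zpow_mul, hd2']))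
    · exact Or.inr (Subtype.ext (by rw [← hn]; simp [zpow_add, zpow_mul, hd2', z]))
  have hcentral : ∀ x : ↥C, π x = 1 → (∀ y, Commute x y) ∧ x * x = 1 := fun x hx => by
    rcases hker x hx with rfl | rfl
    exacts [⟨fun y => Commute.one_left y, one_mul 1⟩, ⟨hzc, hz⟩]
  have hcen : Subgroup.center ↥C = Z := by
    refine le_antisymm (fun x hx => (QuotientGroup.eq_one_iff x).1 ?_) fun x hx =>
      Subgroup.mem_center_iff.2 fun y => ((hcentral x ((QuotientGroup.eq_one_iff x).2 hx)).1 y).eq.symm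
    have : π x ∈ Subgroup.center (↥C ⧸ Z) := Subgroup.mem_center_iff.2 fun q => by
      obtain ⟨y, rfl⟩ := hπ q
      rw [← map_mul, ← map_mul, Subgroup.mem_center_iff.1 hx y]
    rwa [hE22.1, Subgroup.mem_bot] at this
  haveI : IsSimpleGroup (↥C ⧸ Z) := by
    haveI := hq.2
    exact MulEquiv.isSimpleGroup (QuotientGroup.quotientMulEquivOfEq hcen).symm
  haveI : Nonempty E := ⟨⟨hE.2.1.choose, hE.2.1.choose_spec.1⟩⟩
  have H := M22.of_type (three_group_of_class hE) hE22 (conn_of_simple hE hE22)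
  have hfull := H.full (d := d') ⟨hd', hq', hn', K, iK, iKf, hK, hiso⟩
  -- squares depend on the image only
  have hsq : ∀ {x y : ↥C}, π x = π y → x * x = y * y := fun {x y} e => by
    obtain ⟨hc, h2⟩ := hcentral (y⁻¹ * x) (by rw [map_mul, map_inv, e, inv_mul_cancel])
    calc x * x = y * ((y⁻¹ * x) * y) * (y⁻¹ * x) := by group
      _ = y * (y * (y⁻¹ * x)) * (y⁻¹ * x) := by rw [(hc y).eq]
      _ = y * y * ((y⁻¹ * x) * (y⁻¹ * x)) := by group
      _ = y * y := by rw [h2, mul_one]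
  -- lifts of commuting elements commute if one lies over a member
  have hcomm : ∀ {x y : ↥C}, π x ∈ E → Commute (π y) (π x) → Commute y x := by
    intro x y hx hy
    let Cx := Subgroup.centralizer ({π x} : Set (↥C ⧸ Z))
    have hle : commutator ↥Cx ≤ ((Subgroup.centralizer ({x} : Set ↥C)).map π).subgroupOf Cx := by
      rw [commutator_def, Subgroup.commutator_le]
      rintro p - q -
      obtain ⟨p', hp⟩ := hπ (p : ↥C ⧸ Z)
      obtain ⟨q', hq⟩ := hπ (q : ↥C ⧸ Z)
      refine Subgroup.mem_subgroupOf.2 ⟨⁅p', q'⁆, Subgroup.mem_centralizer_singleton_iff.2 ?_, by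
        rw [map_commutatorElement, hp, hq]; rfl⟩
      have hc : ∀ {r : ↥C} {r₀ : ↥Cx}, π r = r₀ → ∃ s, (∀ w, Commute s w) ∧ r * x = x * r * s := by
        intro r r₀ hr
        have h := Subgroup.mem_centralizer_singleton_iff.1 r₀.2
        refine ⟨(x * r)⁻¹ * (r * x), (hcentral _ ?_).1, by group⟩
        rw [map_mul, map_inv, map_mul, map_mul, hr, h, inv_mul_cancel]
      obtain ⟨s, hs, e1⟩ := hc hp
      obtain ⟨t, ht, e2⟩ := hc hq
      have f1 : p'⁻¹ * x = x * p'⁻¹ * s⁻¹ := by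
        calc p'⁻¹ * x = p'⁻¹ * (x * p' * s) * s⁻¹ * p'⁻¹ := by group
          _ = p'⁻¹ * (p' * x) * s⁻¹ * p'⁻¹ := by rw [e1]
          _ = x * (s⁻¹ * p'⁻¹) := by group
          _ = x * p'⁻¹ * s⁻¹ := by rw [((hs p'⁻¹).inv_left).eq, mul_assoc]
      have f2 : q'⁻¹ * x = x * q'⁻¹ * t⁻¹ := by
        calc q'⁻¹ * x = q'⁻¹ * (x * q' * t) * t⁻¹ * q'⁻¹ := by group
          _ = q'⁻¹ * (q' * x) * t⁻¹ * q'⁻¹ := by rw [e2]
          _ = x * (t⁻¹ * q'⁻¹) := by group
          _ = x * q'⁻¹ * t⁻¹ := by rw [((ht q'⁻¹).inv_left).eq, mul_assoc]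
      rw [commutatorElement_def]
      calc p' * q' * p'⁻¹ * q'⁻¹ * x = p' * q' * p'⁻¹ * (q'⁻¹ * x) := by group
        _ = p' * q' * (p'⁻¹ * x) * q'⁻¹ * t⁻¹ := by rw [f2]; group
        _ = p' * (q' * x) * p'⁻¹ * (s⁻¹ * q'⁻¹) * t⁻¹ := by rw [f1]; group
        _ = p' * x * q' * (t * p'⁻¹) * (q'⁻¹ * s⁻¹) * t⁻¹ := by
          rw [e2, ((hs q'⁻¹).inv_left).eq]; group
        _ = x * p' * (s * q') * (p'⁻¹ * t) * (q'⁻¹ * s⁻¹) * t⁻¹ := by
          rw [e1, (ht p'⁻¹).eq]; group
        _ = x * p' * (q' * s) * p'⁻¹ * ((t * q'⁻¹) * s⁻¹) * t⁻¹ := by rw [(hs q').eq]; group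
        _ = x * p' * q' * (s * p'⁻¹) * q'⁻¹ * (t * (s⁻¹ * t⁻¹)) := by rw [(ht q'⁻¹).eq]; group
        _ = x * p' * q' * p'⁻¹ * (s * q'⁻¹) * (t * (s⁻¹ * t⁻¹)) := by rw [(hs p'⁻¹).eq]; group
        _ = x * p' * q' * p'⁻¹ * (q'⁻¹ * s) * ((t * s⁻¹) * t⁻¹) := by rw [(hs q'⁻¹).eq]; group
        _ = x * (p' * q' * p'⁻¹ * q'⁻¹) := by rw [((ht s⁻¹)).eq]; group
    rw [hfull.perfect _ hx] at hle
    obtain ⟨k, hk, e⟩ := Subgroup.mem_subgroupOf.1
      (hle (Subgroup.mem_top (⟨π y, Subgroup.mem_centralizer_singleton_iff.2 hy.eq⟩ : ↥Cx)))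
    have hk' : Commute k x := Subgroup.mem_centralizer_singleton_iff.1 hk
    obtain ⟨hc, -⟩ := hcentral (k⁻¹ * y) (by rw [map_mul, map_inv, e, inv_mul_cancel])
    rw [show y = k * (k⁻¹ * y) by group]
    exact hk'.mul_left (hc x)
  -- lifts of members are involutions
  have hlift : ∀ x : ↥C, π x ∈ E → x * x = 1 := by
    obtain ⟨a, b, c, f, g, k, l, ⟨ha, hb, hc, hf⟩, ⟨kab, kac, kaf, kbc, kbf, kcf⟩,
      ⟨hg, hk, hl⟩, ⟨kgk, kgl, kkl⟩, he⟩ := H.exists_odd
    obtain ⟨a, rfl⟩ := hπ a; obtain ⟨b, rfl⟩ := hπ b; obtain ⟨c, rfl⟩ := hπ c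
    obtain ⟨f, rfl⟩ := hπ f; obtain ⟨g, rfl⟩ := hπ g; obtain ⟨k, rfl⟩ := hπ k
    obtain ⟨l, rfl⟩ := hπ l
    have same : ∀ x : ↥C, π x ∈ E → x * x = a * a := fun x hx => by
      obtain ⟨q, hq⟩ := H.trans _ ha _ hx
      obtain ⟨q, rfl⟩ := hπ q
      rw [← map_inv, ← map_mul, ← map_mul] at hq
      rw [← hsq hq, show q * a * q⁻¹ * (q * a * q⁻¹) = q * (a * a) * q⁻¹ by group]
      have := (hcentral (a * a) (by rw [map_mul, sq_one H.grp.1 ha])).1 q
      rw [← this.eq, mul_inv_cancel_right]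
    have h2 := hsq (x := a * b * c * f) (y := g * k * l) (by simpa only [map_mul] using he)
    have cab := hcomm hb kab
    have cac := hcomm hc kac
    have cbc := hcomm hc kbc
    have caf := hcomm hf kaf
    have cbf := hcomm hf kbf
    have ccf := hcomm hf kcf
    have cgk := hcomm hk kgk
    have cgl := hcomm hl kgl
    have ckl := hcomm hl kkl
    rw [((caf.mul_left cbf).mul_left ccf).symm.mul_mul_mul_comm,
      (cac.mul_left cbc).symm.mul_mul_mul_comm, cab.symm.mul_mul_mul_comm,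
      (cgl.mul_left ckl).symm.mul_mul_mul_comm, cgk.symm.mul_mul_mul_comm,
      same b hb, same c hc, same f hf, same g hg, same k hk, same l hl] at h2
    exact fun x hx => (same x hx).trans (mul_eq_left.1 h2)
  have lift : ∀ x : ↥C ⧸ Z, x * x = 1 → ∃ y : ↥C, π y = x ∧ y * y = 1 := by
    intro x hx
    obtain ⟨l, -, -, hlE, hlc, rfl⟩ := hfull.short x hx
    suffices key : ∀ m : List (↥C ⧸ Z), (∀ a ∈ m, a ∈ E) → (∀ a ∈ m, ∀ b ∈ m, Commute a b) →
        ∃ y : ↥C, π y = m.prod ∧ y * y = 1 from key l hlE hlc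
    intro m
    induction m with
    | nil => exact fun _ _ => ⟨1, map_one π, one_mul 1⟩
    | cons a m ih =>
      intro hm hmc
      obtain ⟨y, hy, hy2⟩ := ih (fun b hb => hm b (List.mem_cons_of_mem _ hb))
        fun b hb c hc => hmc b (List.mem_cons_of_mem _ hb) c (List.mem_cons_of_mem _ hc)
      obtain ⟨a, rfl⟩ := hπ a
      refine ⟨a * y, by rw [map_mul, hy, List.prod_cons], ?_⟩
      have ha : π a ∈ E := hm _ (by simp)
      have hc : Commute y a := hcomm ha (by
        rw [hy]; exact (Commute.list_prod_left m _ fun b hb =>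
          hmc b (List.mem_cons_of_mem _ hb) _ (by simp)))
      rw [hc.mul_mul_mul_comm, hy2, mul_one, hlift a ha]
  refine ⟨fun x hx => ?_, ?_⟩
  · obtain ⟨y, hy, hy2⟩ := lift x (by rw [← pow_two, ← hx]; exact pow_orderOf_eq_one x)
    refine ⟨y, orderOf_eq_prime (by rw [pow_two]; exact hy2) (fun h => ?_), hy⟩
    rw [h, map_one] at hy
    rw [← hy, orderOf_one] at hx
    norm_num at hx
  · rintro ⟨g, hg⟩
    have hgC : g ∈ C := Subgroup.mem_centralizer_singleton_iff.2 (by rw [← hg, ← pow_succ', ← pow_succ])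
    let g' : ↥C := ⟨g, hgC⟩
    have hgg : g' * g' = z := Subtype.ext (by rw [← pow_two]; exact hg)
    have hπz : π z = 1 :=
      (QuotientGroup.eq_one_iff z).2 (Subgroup.mem_subgroupOf.2 (Subgroup.mem_zpowers d))
    obtain ⟨y, hy, hy2⟩ := lift (π g') (by rw [← map_mul, hgg, hπz])
    have := hsq (x := g') (y := y) hy.symm
    rw [hgg, hy2] at this
    have h1 : d = 1 := congrArg Subtype.val this
    rw [h1, orderOf_one] at hd
    norm_num at hd

end Cfsg.Agent.S5453
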