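import Cfsg.Statements.S5455
import Cfsg.Agent.S5453
import Cfsg.Agent.Lib.Transpos.M22DoubleTwentyThree
import Cfsg.Agent.Lib.Transpos.M23Count

set_option autoImplicit false
open Cfsg

namespace Cfsg.Agent.S5455

open Cfsg.Agent.Transpos

/-- Let G be a finite group with an involution d whose centralizer C is quasisimple, such that C modulo the subgroup generated by d is of type M(22) with respect to some conjugacy class of 3-transpositions generating it and also has an involution whose own centralizer is quasisimple with quotient by it isomorphic to the projective special unitary group of dimension 6 over the field with four elements and which is not weakly closed in that centralizer; and suppose some conjugate of d other than d commutes with d. Let S be a Sylow 2-subgroup of C and A the Thompson subgroup of S, regarded as a subgroup of G. Then A is elementary abelian of order 2^11, exactly 23 conjugates of d lie in A, and the normalizer of A permutes them transitively. -/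
theorem result {G : Type*} [Group G] [Finite G] (d : G) (hd : orderOf d = 2) (hq : Cfsg.IsQuasisimple ↥(Subgroup.centralizer ({d} : Set G))) [hzn : ((Subgroup.zpowers d).subgroupOf (Subgroup.centralizer ({d} : Set G))).Normal] (htype : ∃ E : Set (↥(Subgroup.centralizer ({d} : Set G)) ⧸ (Subgroup.zpowers d).subgroupOf (Subgroup.centralizer ({d} : Set G))), Cfsg.IsThreeTranspositionClass E ∧ Cfsg.IsOfTypeM22 _ E) (hinvol : ∃ d' : ↥(Subgroup.centralizer ({d} : Set G)) ⧸ (Subgroup.zpowers d).subgroupOf (Subgroup.centralizer ({d} : Set G)), orderOf d' = 2 ∧ Cfsg.IsQuasisimple ↥(Subgroup.centralizer ({d'} : Set _)) ∧ (∃ (K : Type) (_ : Field K) (_ : Fintype K), Fintype.card K = 4 ∧ ∃ _ : ((Subgroup.zpowers d').subgroupOf (Subgroup.centralizer ({d'} : Set _))).Normal, Nonempty (↥(Subgroup.centralizer ({d'} : Set _)) ⧸ (Subgroup.zpowers d').subgroupOf (Subgroup.centralizer ({d'} : Set _)) ≃* Cfsg.PSU 6 K 2)) ∧ ∃ g, g * d' * g⁻¹ ∈ Subgroup.centralizer ({d'} : Set _) ∧ g * d' * g⁻¹ ≠ d') (hnwc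 : ∃ g : G, g * d * g⁻¹ ∈ Subgroup.centralizer ({d} : Set G) ∧ g * d * g⁻¹ ≠ d) (S : Sylow 2 ↥(Subgroup.centralizer ({d} : Set G))) (A : Subgroup G) (hA : A = (Cfsg.thompsonSubgroupOf 2 (S : Subgroup ↥(Subgroup.centralizer ({d} : Set G)))).map (Subgroup.centralizer ({d} : Set G)).subtype) : Cfsg.IsElementaryAbelian 2 A ∧ Nat.card A = 2 ^ 11 ∧ Set.ncard {x : G | x ∈ A ∧ IsConj d x} = 23 ∧ ∀ x ∈ A, ∀ y ∈ A, IsConj d x → IsConj d y → ∃ n ∈ Subgroup.normalizer (A : Set G), n * x * n⁻¹ = y := by
  classical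
  have h53 := Cfsg.Agent.S5453.result d hd hq htype hinvol hnwc
  let Z := (Subgroup.zpowers d).subgroupOf (DoubleThompson.Cd d)
  obtain ⟨E, hE, hE22⟩ := htype
  obtain ⟨d', hd', hq', ⟨K, iK, iKf, hK, hn', hiso⟩, -⟩ := hinvol
  have hd2 : d * d = 1 := by
    have := pow_orderOf_eq_one d; rwa [hd, pow_two] at this
  have hdC : d ∈ DoubleThompson.Cd d := Subgroup.mem_centralizer_singleton_iff.2 rfl
  let z : ↥(DoubleThompson.Cd d) := ⟨d, hdC⟩
  have hzc : ∀ x : ↥(DoubleThompson.Cd d), Commute z x := fun x => Subtype.ext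
    (Subgroup.mem_centralizer_singleton_iff.1 x.2).symm
  have hz : z * z = 1 := Subtype.ext hd2
  let π : ↥(DoubleThompson.Cd d) →* ↥(DoubleThompson.Cd d) ⧸ Z := QuotientGroup.mk' Z
  have hπ : Function.Surjective π := QuotientGroup.mk'_surjective Z
  have hπz : π z = 1 :=
    (QuotientGroup.eq_one_iff z).2 (Subgroup.mem_subgroupOf.2 (Subgroup.mem_zpowers d))
  have hker : ∀ x : ↥(DoubleThompson.Cd d), π x = 1 → x = 1 ∨ x = z := fun x hx => by
    obtain ⟨n, hn⟩ := Subgroup.mem_subgroupOf.1 ((QuotientGroup.eq_one_iff x).1 hx)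
    obtain ⟨k, hk⟩ := Int.even_or_odd' n
    have hd2' : d ^ (2 : ℤ) = 1 := by rw [zpow_two]; exact hd2
    rcases hk with rfl | rfl
    · exact Or.inl (Subtype.ext (by rw [← hn]; simp [zpow_mul, hd2']))
    · exact Or.inr (Subtype.ext (by rw [← hn]; simp [zpow_add, zpow_mul, hd2', z]))
  have hcentral : ∀ x : ↥(DoubleThompson.Cd d), π x = 1 → (∀ y, Commute x y) ∧ x * x = 1 := fun x hx => by
    rcases hker x hx with rfl | rfl
    exacts [⟨fun y => Commute.one_left y, one_mul 1⟩, ⟨hzc, hz⟩]
  have hcen : Subgroup.center ↥(DoubleThompson.Cd d) = Z := by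
    refine le_antisymm (fun x hx => (QuotientGroup.eq_one_iff x).1 ?_) fun x hx =>
      Subgroup.mem_center_iff.2 fun y => ((hcentral x ((QuotientGroup.eq_one_iff x).2 hx)).1 y).eq.symm
    have : π x ∈ Subgroup.center (↥(DoubleThompson.Cd d) ⧸ Z) := Subgroup.mem_center_iff.2 fun q => by
      obtain ⟨y, rfl⟩ := hπ q
      rw [← map_mul, ← map_mul, Subgroup.mem_center_iff.1 hx y]
    rwa [hE22.1, Subgroup.mem_bot] at this
  haveI : IsSimpleGroup (↥(DoubleThompson.Cd d) ⧸ Z) := by
    haveI := hq.2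
    exact MulEquiv.isSimpleGroup (QuotientGroup.quotientMulEquivOfEq hcen).symm
  haveI : Nonempty E := ⟨⟨hE.2.1.choose, hE.2.1.choose_spec.1⟩⟩
  have H := M22.of_type (three_group_of_class hE) hE22 (conn_of_simple hE hE22)
  have hfull := H.full (d := d') ⟨hd', hq', hn', K, iK, iKf, hK, hiso⟩
  -- one class of lifts
  have hsq : ∀ x : ↥(DoubleThompson.Cd d), π x ∈ E → x * x = 1 := fun x hx =>
    CoverLift.lift_sq hcentral H hfull hπ hx
  have hcomm : ∀ x y : ↥(DoubleThompson.Cd d), π x ∈ E → Commute (π y) (π x) → Commute y x := fun x y hx hy =>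
    CoverLift.lift_commute hcentral hπ (hfull.perfect _ hx) hy
  obtain ⟨a₀, ha₀⟩ := ‹Nonempty E›
  obtain ⟨x₀, rfl⟩ := hπ a₀
  let X : Set ↥(DoubleThompson.Cd d) := {x | IsConj x₀ x}
  have hXm : ∀ x ∈ X, π x ∈ E := fun x hx => by
    obtain ⟨c, rfl⟩ := isConj_iff.1 (hx : IsConj x₀ x)
    rw [map_mul, map_mul, map_inv]
    exact H.conj_mem (π c) ha₀
  have hinj : ∀ x ∈ X, ∀ y ∈ X, π x = π y → x = y := fun x hx y hy e => by
    obtain ⟨c, rfl⟩ := isConj_iff.1 ((hx : IsConj x₀ x).symm.trans (hy : IsConj x₀ y))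
    have h : Commute c x := hcomm x c (hXm x hx) (mul_inv_eq_iff_eq_mul.1 (by
      rw [← map_inv, ← map_mul, ← map_mul, ← e]))
    rw [h.eq, mul_inv_cancel_right]
  have cov : CoverSplit.Cover π z E X :=
    { surj := hπ
      ne := fun h => by
        have h1 : d = 1 := congrArg Subtype.val h
        rw [h1, orderOf_one] at hd
        norm_num at hd
      sq := hz
      central := hzc
      ker := hker
      map_z := hπz
      X_conj := fun c x hx => (hx : IsConj x₀ x).trans (isConj_iff.2 ⟨c, rfl⟩)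
      X_mem := hXm
      X_lift := fun a ha => by
        obtain ⟨q, rfl⟩ := H.trans _ ha₀ a ha
        obtain ⟨c, rfl⟩ := hπ q
        exact ⟨c * x₀ * c⁻¹, isConj_iff.2 ⟨c, rfl⟩, by rw [map_mul, map_mul, map_inv]⟩
      X_inj := hinj }
  have St : DoubleThompson.Setting π z E X :=
    { grp := three_group_of_class hE
      prim := H.primitive
      type22 := hE22
      cover := cov
      z_val := rfl
      commute := hcomm
      sq := hsq
      not_square := h53.2
      perfect := hq.1.commutator_eq_top }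
  obtain ⟨B, hB, hBS, huniq⟩ := St.sylow S
  have hAB : A = DoubleThompson.amb π B := by
    rw [hA, St.thompson S hB hBS huniq]
    rfl
  subst hAB
  have htr : ∀ y ∈ DoubleThompson.orb π B,
      ∃ n ∈ Subgroup.normalizer (DoubleThompson.amb π B : Set G), n * d * n⁻¹ = y := fun y hy =>
    St.trans S hB huniq hy.1 hy.2
  refine ⟨St.elem_amb hB, ?_, St.twenty_three hB htr (St.exists_other hB hnwc), ?_⟩
  · rw [DoubleThompson.amb, Subgroup.card_map_of_injective Subtype.val_injective]
    exact St.card hB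
  · intro x hx y hy hdx hdy
    obtain ⟨m, hm, rfl⟩ := htr x ⟨hx, hdx⟩
    obtain ⟨n, hn, rfl⟩ := htr y ⟨hy, hdy⟩
    exact ⟨n * m⁻¹, mul_mem hn (inv_mem hm), by group⟩

end Cfsg.Agent.S5455
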