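import Cfsg.Statements.S5459
-- import your own Cfsg.Agent.* helpers here

set_option autoImplicit false
open Cfsg

open scoped commutatorElement
namespace Cfsg.Agent.S5459

/-- Let G be a finite group with a quasisimple normal subgroup L and an involution d such that G is generated by L and d, the centre of L has odd order, and d inverts every element of the centre of L. If the commuting graph on the conjugacy class of the image of d in G modulo the centre of L is connected, then the commuting graph on the conjugacy class of d is connected. -/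
theorem result {G : Type*} [Group G] [Finite G] (L : Subgroup G) [L.Normal] (hL : Cfsg.IsQuasisimple ↥L) (d : G) (hd : orderOf d = 2) (hgen : L ⊔ Subgroup.zpowers d = ⊤) (hodd : Odd (Nat.card ↥(Subgroup.center ↥L))) (hinv : ∀ c ∈ (Subgroup.center ↥L).map L.subtype, d * c * d⁻¹ = c⁻¹) [hn : ((Subgroup.center ↥L).map L.subtype).Normal] (hconn : (Cfsg.commutingGraph (conjugatesOf (QuotientGroup.mk d : G ⧸ (Subgroup.center ↥L).map L.subtype))).Connected) : (Cfsg.commutingGraph (conjugatesOf d)).Connected := by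
  set Z : Subgroup G := (Subgroup.center ↥L).map L.subtype with hZ
  clear_value Z
  have hcard : Odd (Nat.card ↥Z) := by
    rw [hZ, Subgroup.card_map_of_injective L.subtype_injective]; exact hodd
  have hcomm : ∀ c ∈ Z, ∀ x ∈ L, x * c = c * x := by
    rw [hZ]; rintro _ ⟨c, hc, rfl⟩ x hx
    exact congrArg Subtype.val (Subgroup.mem_center_iff.mp hc ⟨x, hx⟩)
  have hZL : Z ≤ L := hZ ▸ Subgroup.map_subtype_le _
  have hdd : d * d = 1 := by rw [← pow_two, ← hd]; exact pow_orderOf_eq_one d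
  -- every conjugate of `d` inverts `Z`
  have hinvg : ∀ g : G, ∀ c ∈ Z, g * d * g⁻¹ * c * (g * d * g⁻¹)⁻¹ = c⁻¹ := by
    intro g c hc
    obtain ⟨c', hc', rfl⟩ : ∃ c' ∈ Z, g * c' * g⁻¹ = c :=
      ⟨g⁻¹ * c * g, by simpa using hn.conj_mem c hc g⁻¹, by group⟩
    calc g * d * g⁻¹ * (g * c' * g⁻¹) * (g * d * g⁻¹)⁻¹ = g * (d * c' * d⁻¹) * g⁻¹ := by group
      _ = (g * c' * g⁻¹)⁻¹ := by rw [hinv c' hc']; group
  have hsqrt : ∀ c ∈ Z, ∃ t ∈ Z, t * t = c := by
    intro c hc
    obtain ⟨m, hm⟩ := hcard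
    refine ⟨c ^ (m + 1), Z.pow_mem hc _, ?_⟩
    have h : (⟨c, hc⟩ : ↥Z) ^ (2 * m + 1) = 1 := hm ▸ pow_card_eq_one'
    have h' : c ^ (2 * m + 1) = 1 := congrArg Subtype.val h
    rw [← pow_add, show m + 1 + (m + 1) = 2 * m + 1 + 1 by omega, pow_succ, h', one_mul]
  have htrans : ∀ f ∈ conjugatesOf d, ∀ t ∈ Z, t⁻¹ * f * t = f * (t * t) := by
    intro f hf t ht
    obtain ⟨g, rfl⟩ := isConj_iff.mp hf
    have h := hinvg g t ht
    calc t⁻¹ * (g * d * g⁻¹) * t
        = (g * d * g⁻¹ * t * (g * d * g⁻¹)⁻¹) * (g * d * g⁻¹) * t := by rw [h]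
      _ = g * d * g⁻¹ * (t * t) := by group
  have hff : ∀ f ∈ conjugatesOf d, f * f = 1 := by
    intro f hf
    obtain ⟨g, rfl⟩ := isConj_iff.mp hf
    calc g * d * g⁻¹ * (g * d * g⁻¹) = g * (d * d) * g⁻¹ := by group
      _ = 1 := by rw [hdd]; group
  -- commuting classes modulo `Z` have commuting lifts
  have hlift : ∀ e ∈ conjugatesOf d, ∀ f ∈ conjugatesOf d,
      Commute (QuotientGroup.mk e : G ⧸ Z) (QuotientGroup.mk f) →
      ∃ c ∈ Z, f * c ∈ conjugatesOf d ∧ Commute e (f * c) := by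
    intro e he f hf h
    have hk : f⁻¹ * (e * f * e) ∈ Z := by
      rw [← QuotientGroup.eq]
      have he1 : (QuotientGroup.mk e : G ⧸ Z) * QuotientGroup.mk e = 1 := by
        rw [← QuotientGroup.mk_mul, hff e he]; rfl
      rw [QuotientGroup.mk_mul, QuotientGroup.mk_mul, h.eq, mul_assoc, he1, mul_one]
    obtain ⟨c, hc, hcc⟩ := hsqrt _ hk
    obtain ⟨t, ht, htt⟩ := hsqrt c hc
    refine ⟨c, hc, ?_, ?_⟩
    · have := htrans f hf t ht
      rw [htt] at this
      rw [← this]
      exact IsConj.trans hf (isConj_iff.mpr ⟨t⁻¹, by rw [inv_inv]⟩)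
    · obtain ⟨g, hg⟩ := isConj_iff.mp he
      have hec : e * c * e = c⁻¹ := by
        have := hinvg g c hc
        rw [hg, inv_eq_of_mul_eq_one_right (hff e he)] at this
        exact this
      have hfe : e * f * e = f * (c * c) := by rw [hcc, mul_inv_cancel_left]
      show e * (f * c) = f * c * e
      calc e * (f * c) = (e * f * e) * (e * c * e) * e⁻¹ := by
            simp only [mul_assoc, ← mul_assoc e e, hff e he, one_mul, mul_inv_cancel, mul_one]
        _ = f * c * e⁻¹ := by rw [hfe, hec]; group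
        _ = f * c * e := by rw [inv_eq_of_mul_eq_one_right (hff e he)]
  set Γ := Cfsg.commutingGraph (conjugatesOf d)
  set d₀ : conjugatesOf d := ⟨d, IsConj.refl d⟩
  set d₁ : conjugatesOf (QuotientGroup.mk d : G ⧸ Z) := ⟨_, IsConj.refl _⟩
  have hreach : ∀ p : conjugatesOf (QuotientGroup.mk d : G ⧸ Z), ∃ e : conjugatesOf d,
      Γ.Reachable d₀ e ∧ (QuotientGroup.mk (e : G) : G ⧸ Z) = p := by
    intro p
    have hpre : (Cfsg.commutingGraph (conjugatesOf (QuotientGroup.mk d : G ⧸ Z))).Preconnected := by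
      subst hZ; exact hconn.preconnected
    obtain ⟨w⟩ := hpre d₁ p
    suffices key : ∀ (u v : conjugatesOf (QuotientGroup.mk d : G ⧸ Z)),
        (Cfsg.commutingGraph (conjugatesOf (QuotientGroup.mk d : G ⧸ Z))).Walk u v →
        ∀ e : conjugatesOf d, (QuotientGroup.mk (e : G) : G ⧸ Z) = u →
        ∃ e' : conjugatesOf d, Γ.Reachable e e' ∧ (QuotientGroup.mk (e' : G) : G ⧸ Z) = v from
      key d₁ p w d₀ rfl
    intro u v w
    induction w with
    | nil => intro e he; exact ⟨e, SimpleGraph.Reachable.refl _, he⟩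
    | @cons u v x hadj w ih =>
      intro e he
      obtain ⟨f, hfv⟩ := QuotientGroup.mk_surjective (v : G ⧸ Z)
      obtain ⟨y, hy⟩ := isConj_iff.mp v.2
      obtain ⟨g, rfl⟩ := QuotientGroup.mk_surjective y
      have hcom : Commute (QuotientGroup.mk (e : G) : G ⧸ Z)
          (QuotientGroup.mk (g * d * g⁻¹)) := by
        rw [QuotientGroup.mk_mul, QuotientGroup.mk_mul, QuotientGroup.mk_inv, hy, he]
        rcases hadj.2 with h | h
        · exact h
        · exact h.symm
      obtain ⟨c, hc, hmem, hco⟩ := hlift e e.2 _ (isConj_iff.mpr ⟨g, rfl⟩) hcom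
      obtain ⟨e', h1, h2⟩ := ih ⟨_, hmem⟩ (by
        show (QuotientGroup.mk (g * d * g⁻¹ * c) : G ⧸ Z) = v
        rw [QuotientGroup.mk_mul_of_mem _ hc, QuotientGroup.mk_mul, QuotientGroup.mk_mul,
          QuotientGroup.mk_inv, hy])
      refine ⟨e', SimpleGraph.Reachable.trans ?_ h1, h2⟩
      by_cases hee : e = ⟨_, hmem⟩
      · exact hee ▸ SimpleGraph.Reachable.refl _
      · exact SimpleGraph.Adj.reachable ⟨hee, Or.inl hco⟩
  -- the stabiliser of the component of `d`
  let φ : G → conjugatesOf d → conjugatesOf d := fun g e =>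
    ⟨g * e * g⁻¹, IsConj.trans e.2 (isConj_iff.mpr ⟨g, rfl⟩)⟩
  have hφ : ∀ g, ∀ e e', Γ.Reachable e e' → Γ.Reachable (φ g e) (φ g e') := by
    intro g e e' h
    refine h.map ⟨φ g, ?_⟩
    rintro a b ⟨hne, hab⟩
    refine ⟨fun h => hne (Subtype.ext ?_), ?_⟩
    · have := congrArg Subtype.val h
      simpa [φ] using this
    · rcases hab with h | h
      · exact Or.inl (h.map (MulAut.conj g).toMonoidHom)
      · exact Or.inr (h.map (MulAut.conj g).toMonoidHom)
  have hφmul : ∀ a b e, φ (a * b) e = φ a (φ b e) := by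
    intro a b e; apply Subtype.ext; simp [φ, mul_assoc]
  have hφone : ∀ e, φ 1 e = e := by intro e; apply Subtype.ext; simp [φ]
  let S : Subgroup G :=
    { carrier := {g | Γ.Reachable d₀ (φ g d₀)}
      one_mem' := by show Γ.Reachable d₀ (φ 1 d₀); rw [hφone]
      mul_mem' := fun {a b} ha hb => by
        show Γ.Reachable d₀ (φ (a * b) d₀)
        rw [hφmul]; exact SimpleGraph.Reachable.trans ha (hφ a _ _ hb)
      inv_mem' := fun {a} ha => by
        show Γ.Reachable d₀ (φ a⁻¹ d₀)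
        have := (hφ a⁻¹ _ _ ha).symm
        rwa [← hφmul, inv_mul_cancel, hφone] at this }
  have hsplit : ∀ g : G, ∃ t ∈ Z, t * g ∈ S := by
    intro g
    obtain ⟨e, h1, h2⟩ := hreach ⟨QuotientGroup.mk (g * d * g⁻¹),
      isConj_iff.mpr ⟨QuotientGroup.mk g, rfl⟩⟩
    have hc : (g * d * g⁻¹)⁻¹ * (e : G) ∈ Z := QuotientGroup.eq.mp h2.symm
    obtain ⟨t, ht, htt⟩ := hsqrt _ hc
    refine ⟨t⁻¹, Z.inv_mem ht, ?_⟩
    show Γ.Reachable d₀ (φ (t⁻¹ * g) d₀)
    have : φ (t⁻¹ * g) d₀ = e := by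
      apply Subtype.ext
      show t⁻¹ * g * d * (t⁻¹ * g)⁻¹ = (e : G)
      calc t⁻¹ * g * d * (t⁻¹ * g)⁻¹ = t⁻¹ * (g * d * g⁻¹) * t := by group
        _ = g * d * g⁻¹ * (t * t) := htrans _ (isConj_iff.mpr ⟨g, rfl⟩) t ht
        _ = (e : G) := by rw [htt, mul_inv_cancel_left]
    rw [this]; exact h1
  have hLS : L ≤ S := by
    intro x hx
    have hperf : ⁅(⊤ : Subgroup ↥L), (⊤ : Subgroup ↥L)⁆ = ⊤ :=
      Group.isPerfect_def.mp hL.1
    have hle : ⁅(⊤ : Subgroup ↥L), (⊤ : Subgroup ↥L)⁆ ≤ S.subgroupOf L := by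
      rw [Subgroup.commutator_le]
      intro a _ b _
      obtain ⟨s, hs, hsa⟩ := hsplit a
      obtain ⟨t, ht, htb⟩ := hsplit b
      show ⁅(a : G), (b : G)⁆ ∈ S
      have : ⁅(a : G), (b : G)⁆ = ⁅s * a, t * b⁆ := by
        simp only [commutatorElement_def]
        have e1 := hcomm t ht a a.2
        have e2 := hcomm s hs (b : G) b.2
        have e3 := hcomm s hs t (hZL ht)
        have e4 := hcomm s hs ((a : G))⁻¹ (L.inv_mem a.2)
        have e5 := hcomm t ht ((b : G))⁻¹ (L.inv_mem b.2)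
        have e6 := hcomm t ht ((a : G))⁻¹ (L.inv_mem a.2)
        symm
        calc s * a * (t * b) * (s * a)⁻¹ * (t * b)⁻¹
            = s * (a * t) * b * (a : G)⁻¹ * s⁻¹ * (b : G)⁻¹ * t⁻¹ := by group
          _ = (t * (a * (b * (a : G)⁻¹ * (b : G)⁻¹))) * t⁻¹ := by
              rw [e1]
              have h7 : ∀ w ∈ L, s * w * s⁻¹ = w := fun w hw => by rw [← hcomm s hs w hw]; group
              calc s * (t * a) * b * (a : G)⁻¹ * s⁻¹ * (b : G)⁻¹ * t⁻¹
                  = (s * (t * a * b * (a : G)⁻¹) * s⁻¹) * (b : G)⁻¹ * t⁻¹ := by group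
                _ = _ := by
                  rw [h7 _ (L.mul_mem (L.mul_mem (L.mul_mem (hZL ht) a.2) b.2) (L.inv_mem a.2))]
                  group
          _ = _ := by
              rw [← hcomm t ht _ (L.mul_mem a.2 (L.mul_mem (L.mul_mem b.2 (L.inv_mem a.2)) (L.inv_mem b.2)))]
              group
      rw [this, commutatorElement_def]
      exact S.mul_mem (S.mul_mem (S.mul_mem hsa htb) (S.inv_mem hsa)) (S.inv_mem htb)
    rw [hperf] at hle
    exact hle (Subgroup.mem_top ⟨x, hx⟩)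
  have hdS : d ∈ S := by
    show Γ.Reachable d₀ (φ d d₀)
    have : φ d d₀ = d₀ := by apply Subtype.ext; simp [φ, d₀, mul_assoc]
    rw [this]
  have hStop : S = ⊤ := by
    rw [eq_top_iff, ← hgen]
    exact sup_le hLS (Subgroup.zpowers_le.mpr hdS)
  haveI : Nonempty (conjugatesOf d) := ⟨d₀⟩
  refine SimpleGraph.Connected.mk fun u v => ?_
  have h : ∀ u, Γ.Reachable d₀ u := by
    intro u
    obtain ⟨g, hg⟩ := isConj_iff.mp u.2
    have hu : φ g d₀ = u := Subtype.ext hg
    rw [← hu]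
    exact (hStop ▸ Subgroup.mem_top g : g ∈ S)
  exact (h u).symm.trans (h v)

end Cfsg.Agent.S5459
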