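import Cfsg.Statements.S5462
import Cfsg.Agent.Lib.Transpos.M22Auto
import Cfsg.Agent.Lib.Transpos.M22Conn
-- import your own Cfsg.Agent.* helpers here

set_option autoImplicit false
open Cfsg

namespace Cfsg.Agent.S5462

/-- Let G be a finite group with trivial centre generated by a conjugation-invariant set D of 3-transpositions on which it acts primitively, such that for some d in D the subgroup generated by the members of D other than d commuting with d has central largest normal 2- and 3-subgroups, and suppose G with D is of type M(22). Then every automorphism of G of order 2 fixes some member of D. -/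
theorem result {G : Type*} [Group G] [Finite G] {D : Set G} (hD : Cfsg.IsThreeTranspositionGroup D) (hprim : Cfsg.IsPrimitiveUnderConj D) (d₀ : G) (hd₀ : d₀ ∈ D) (h3 : Cfsg.pCore 3 ↥(Subgroup.closure {y : G | y ∈ D ∧ y ≠ d₀ ∧ Commute d₀ y}) ≤ Subgroup.center ↥(Subgroup.closure {y : G | y ∈ D ∧ y ≠ d₀ ∧ Commute d₀ y})) (h2 : Cfsg.pCore 2 ↥(Subgroup.closure {y : G | y ∈ D ∧ y ≠ d₀ ∧ Commute d₀ y}) ≤ Subgroup.center ↥(Subgroup.closure {y : G | y ∈ D ∧ y ≠ d₀ ∧ Commute d₀ y})) (h22 : Cfsg.IsOfTypeM22 G D) (φ : MulAut G) (hφ : orderOf φ = 2) : ∃ d ∈ D, φ d = d := by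
  haveI : Nonempty D := ⟨⟨d₀, hd₀⟩⟩
  have H := Cfsg.Agent.Transpos.M22.of_type hD h22
    (Cfsg.Agent.Transpos.conn_of_primitive hD hprim h22)
  have hinv : ∀ x, φ (φ x) = x := fun x => by
    have := pow_orderOf_eq_one φ
    rw [hφ, pow_two] at this
    exact congrArg (fun ψ : MulAut G => ψ x) this
  have hcl : IsThreeTranspositionClass (⇑φ '' D) := by
    refine ⟨⟨?_, ?_⟩, ⟨φ d₀, Set.mem_image_of_mem _ hd₀, ?_⟩, ?_⟩
    · rintro _ ⟨x, hx, rfl⟩
      rw [← hD.1.1 x hx]
      exact φ.orderOf_eq x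
    · rintro _ ⟨x, hx, rfl⟩ _ ⟨y, hy, rfl⟩
      rw [← map_mul, ← map_pow, ← map_pow]
      exact (hD.1.2 x hx y hy).imp (fun h => by rw [h, map_one]) (fun h => by rw [h, map_one])
    · refine Set.ext fun z => ⟨?_, fun hz => ?_⟩
      · rintro ⟨x, hx, rfl⟩
        obtain ⟨g, rfl⟩ := H.trans d₀ hd₀ x hx
        exact isConj_iff.2 ⟨φ g, by rw [map_mul, map_mul, map_inv]⟩
      · obtain ⟨g, rfl⟩ := isConj_iff.1 (hz : IsConj (φ d₀) z)
        refine ⟨φ g * d₀ * (φ g)⁻¹, hD.2.1 _ _ hd₀, ?_⟩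
        rw [map_mul, map_mul, map_inv, hinv]
    · rw [show ⇑φ = ⇑φ.toMonoidHom from rfl, ← MonoidHom.map_closure, hD.2.2,
        ← MonoidHom.range_eq_map, MonoidHom.range_eq_top.2 φ.surjective]
  have he := H.unique_class H.full' hcl
  have hp : Cfsg.Agent.Transpos.Preserves D φ := fun x =>
    ⟨fun h => hinv x ▸ he ▸ Set.mem_image_of_mem φ h, fun h => he ▸ Set.mem_image_of_mem φ h⟩
  exact H.exists_fixed_of_involutory hp hinv

end Cfsg.Agent.S5462
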