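import Cfsg.Statements.S5471
import Cfsg.Agent.Lib.Transpos.FischerLevels
import Cfsg.Agent.Lib.Transpos.Factor

set_option autoImplicit false
open Cfsg

namespace Cfsg.Agent.S5471

open Cfsg.Agent.Transpos

section
variable {G : Type*} [Group G]

theorem triple_prod (v : Fin 3 → G) (hc : ∀ i j, Commute (v i) (v j)) :
    ∀ i j k : Fin 3, i ≠ j → k ≠ i → k ≠ j → v i * v j * v k = v 0 * v 1 * v 2 := by
  have c01 := (hc 0 1).eq
  have c02 := (hc 0 2).eq
  have c12 := (hc 1 2).eq
  have l01 : ∀ x, v 1 * (v 0 * x) = v 0 * (v 1 * x) := fun x => by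
    rw [← mul_assoc, ← c01, mul_assoc]
  intro i j k hij hki hkj
  fin_cases i <;> fin_cases j <;> fin_cases k <;> simp at hij hki hkj ⊢ <;>
    simp [mul_assoc, c01.symm, c02.symm, c12.symm, l01]

theorem perm_quotient {E : Set G} (hE : Tr E) (hs : Sec E) (hconj : ∀ g : G, ∀ x ∈ E, g * x * g⁻¹ ∈ E)
    (v : Fin 3 → G) (hv : Function.Injective v) (hmem : ∀ i, v i ∈ E)
    (hc : ∀ i j, Commute (v i) (v j)) (K C : Subgroup G)
    (hK : K = Subgroup.centralizer (Set.range v)) (hC : C = Subgroup.centralizer {v 0 * v 1 * v 2}) :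
    K ≤ C ∧ ∃ _ : (K.subgroupOf C).Normal, Nonempty (↥C ⧸ K.subgroupOf C ≃* Equiv.Perm (Fin 3)) := by
  have hmemC : ∀ g, g ∈ C ↔ Commute g (v 0 * v 1 * v 2) := fun g => by
    rw [hC, Subgroup.mem_centralizer_singleton_iff]; rfl
  have hmemK : ∀ g, g ∈ K ↔ ∀ i, Commute g (v i) := fun g => by
    rw [hK, Subgroup.mem_centralizer_iff]
    constructor
    · exact fun h i => (h (v i) ⟨i, rfl⟩).symm
    · rintro h _ ⟨i, rfl⟩; exact (h i).eq.symm
  have h2 : ∀ a ∈ E, NoTwin (Dc E a) := fun a ha => (hs a ha).2.2.1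
  have h3 : ∀ a ∈ E, ∀ b ∈ Dc E a, NoTwin (Dc (Dc E a) b) := fun a ha => (hs a ha).2.2.2
  have third : ∀ i j : Fin 3, ∃ k, k ≠ i ∧ k ≠ j := by decide
  have all3 : ∀ i j k l : Fin 3, i ≠ j → k ≠ i → k ≠ j → l = i ∨ l = j ∨ l = k := by decide
  have third2 : ∀ i : Fin 3, ∃ j k, i ≠ j ∧ k ≠ i ∧ k ≠ j := by decide
  have hperm : ∀ g ∈ C, ∀ i, ∃ j, v j = g * v i * g⁻¹ := by
    intro g hg i
    obtain ⟨j, k, hij, hki, hkj⟩ := third2 i
    have hcc : ∀ p q, Commute (g * v p * g⁻¹) (g * v q * g⁻¹) := fun p q =>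
      (commute_conj_iff g).mpr (hc p q)
    have hne : ∀ p q, p ≠ q → g * v p * g⁻¹ ≠ g * v q * g⁻¹ := fun p q h e =>
      h (hv (mul_left_cancel (mul_right_cancel e)))
    have he : (g * v i * g⁻¹) * (g * v j * g⁻¹) * (g * v k * g⁻¹) = v 0 * v 1 * v 2 := by
      rw [show (g * v i * g⁻¹) * (g * v j * g⁻¹) * (g * v k * g⁻¹) = g * (v i * v j * v k) * g⁻¹ by group,
        triple_prod v hc i j k hij hki hkj, ((hmemC g).mp hg).eq, mul_inv_cancel_right]
    rcases mem_of_prod_three hE h2 h3 (hconj g _ (hmem i)) (hconj g _ (hmem j)) (hconj g _ (hmem k))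
      (hmem 0) (hmem 1) (hmem 2) (hne _ _ hij) (hne _ _ hki.symm) (hne _ _ hkj.symm) (hcc _ _) (hcc _ _)
      (hcc _ _) (hv.ne (by decide)) (hv.ne (by decide)) (hv.ne (by decide)) (hc _ _) (hc _ _) (hc _ _)
      he with h | h | h <;> exact ⟨_, h.symm⟩
  have hKC : K ≤ C := fun g hg => (hmemC g).mpr
    ((((hmemK g).mp hg 0).mul_right ((hmemK g).mp hg 1)).mul_right ((hmemK g).mp hg 2))
  refine ⟨hKC, ?_⟩
  choose f hf using hperm
  have hfi : ∀ g : ↥C, Function.Injective (f g.1 g.2) := fun g i j h => hv (by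
    have := congrArg v h
    rw [hf, hf] at this
    exact mul_left_cancel (mul_right_cancel this))
  let σ : ↥C → Equiv.Perm (Fin 3) := fun g =>
    Equiv.ofBijective _ (Finite.injective_iff_bijective.mp (hfi g))
  have hσ : ∀ (g : ↥C) i, v (σ g i) = (g : G) * v i * (g : G)⁻¹ := fun g i => hf g.1 g.2 i
  let φ : ↥C →* Equiv.Perm (Fin 3) := MonoidHom.mk' σ fun g h => Equiv.ext fun i => hv (by
    rw [Equiv.Perm.mul_apply, hσ, hσ, hσ]
    simp [mul_assoc])
  have hker : φ.ker = K.subgroupOf C := by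
    ext g
    rw [MonoidHom.mem_ker, Subgroup.mem_subgroupOf, hmemK]
    constructor
    · intro h i
      have := hσ g i
      rw [show σ g = 1 from h, Equiv.Perm.one_apply] at this
      exact (mul_inv_eq_iff_eq_mul.mp this.symm)
    · intro h
      refine Equiv.ext fun i => hv ?_
      show v (σ g i) = v i
      rw [hσ, (h i).eq, mul_inv_cancel_right]
  have hsurj : Function.Surjective φ := by
    intro p
    induction p using Equiv.Perm.swap_induction_on with
    | one => exact ⟨1, map_one φ⟩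
    | swap_mul p i j hij ih =>
      obtain ⟨h, hh⟩ := ih
      obtain ⟨k, hki, hkj⟩ := third i j
      obtain ⟨hconn, hact, -, -⟩ := hs (v k) (hmem k)
      have hi : v i ∈ Dc E (v k) := ⟨hmem i, hv.ne hki.symm, hc k i⟩
      have hj : v j ∈ Dc E (v k) := ⟨hmem j, hv.ne hkj.symm, hc k j⟩
      have hTr := hE.dc (hmem k)
      obtain ⟨x, hx, hix, hxj⟩ := exists_common_neighbour hTr
        (hconn _ _ (hact _ hi) (hact _ hj)) (hc i j) (hv.ne hij)
      obtain ⟨s1, s2⟩ := exists_swap hTr hi hj hx (hc i j) hix hxj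
      have s3 : (x * v i * v j * x) * v k * (x * v i * v j * x)⁻¹ = v k := by
        rw [((((hx.2.2.symm).mul_left (hc i k)).mul_left (hc j k)).mul_left hx.2.2.symm).eq,
          mul_inv_cancel_right]
      set t := x * v i * v j * x
      have ht : t ∈ C := by
        rw [hmemC]
        refine mul_inv_eq_iff_eq_mul.mp ?_
        calc t * (v 0 * v 1 * v 2) * t⁻¹ = t * (v i * v j * v k) * t⁻¹ := by
              rw [triple_prod v hc i j k hij hki hkj]
          _ = (t * v i * t⁻¹) * (t * v j * t⁻¹) * (t * v k * t⁻¹) := by group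
          _ = v 0 * v 1 * v 2 := by
              rw [s1, s2, s3, triple_prod v hc j i k hij.symm hkj hki]
      refine ⟨⟨t, ht⟩ * h, ?_⟩
      rw [map_mul, hh]
      congr 1
      refine Equiv.ext fun l => hv ?_
      show v (σ ⟨t, ht⟩ l) = _
      rw [hσ]
      rcases all3 i j k l hij hki hkj with rfl | rfl | rfl
      · rw [Equiv.swap_apply_left]; exact s1
      · rw [Equiv.swap_apply_right]; exact s2
      · rw [Equiv.swap_apply_of_ne_of_ne hki hkj]; exact s3
  have hn : (K.subgroupOf C).Normal := hker ▸ φ.normal_ker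
  exact ⟨hn, ⟨(QuotientGroup.quotientMulEquivOfEq hker.symm).trans
    (QuotientGroup.quotientKerEquivOfSurjective φ hsurj)⟩⟩

end

/-- Let G be a finite group with trivial centre generated by a conjugation-invariant set D of 3-transpositions on which it acts primitively, such that for some d in D the subgroup generated by the members of D other than d commuting with d has central largest normal 2- and 3-subgroups, and suppose G with D is of type M(23). Let d₁, d₂, d₃ be distinct pairwise commuting members of D and j their product. Then the joint centralizer of d₁, d₂, d₃ is normal in the centralizer of j with quotient isomorphic to the symmetric group of degree 3. -/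
theorem result {G : Type*} [Group G] [Finite G] {D : Set G} (hD : Cfsg.IsThreeTranspositionGroup D) (hprim : Cfsg.IsPrimitiveUnderConj D) (d₀ : G) (hd₀ : d₀ ∈ D) (h3 : Cfsg.pCore 3 ↥(Subgroup.closure {y : G | y ∈ D ∧ y ≠ d₀ ∧ Commute d₀ y}) ≤ Subgroup.center ↥(Subgroup.closure {y : G | y ∈ D ∧ y ≠ d₀ ∧ Commute d₀ y})) (h2 : Cfsg.pCore 2 ↥(Subgroup.closure {y : G | y ∈ D ∧ y ≠ d₀ ∧ Commute d₀ y}) ≤ Subgroup.center ↥(Subgroup.closure {y : G | y ∈ D ∧ y ≠ d₀ ∧ Commute d₀ y})) (h23 : Cfsg.IsOfTypeM23 G D) (d₁ d₂ d₃ : G) (h₁ : d₁ ∈ D) (h₂ : d₂ ∈ D) (h₃ : d₃ ∈ D) (h12 : d₁ ≠ d₂) (h13 : d₁ ≠ d₃) (h23 : d₂ ≠ d₃) (c12 : Commute d₁ d₂) (c13 : Commute d₁ d₃) (c23 : Commute d₂ d₃) (K C : Subgroup G) (hK : K = Subgroup.centralizer ({d₁, d₂, d₃} : Set G)) (hC : C = Subgroup.centralizer ({d₁ * d₂ * d₃} : Set G)) : K ≤ C ∧ ∃ _ : (K.subgroupOf C).Normal, Nonempty (↥C ⧸ K.subgroupOf C ≃* Equiv.Perm (Fin 3)) := by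
  rename_i hT
  have hs := sec_of_type hD hprim.1 (Or.inl hT)
  have hr : Set.range ![d₁, d₂, d₃] = ({d₁, d₂, d₃} : Set G) := by
    ext x; simp [eq_comm]; tauto
  refine perm_quotient (tr_of_group hD) hs hD.2.1 ![d₁, d₂, d₃] ?_ ?_ ?_ K C (hr ▸ hK) hC
  · intro i j h
    fin_cases i <;> fin_cases j <;> simp_all [eq_comm]
  · intro i; fin_cases i <;> assumption
  · intro i j
    fin_cases i <;> fin_cases j <;>
      first
        | exact Commute.refl _
        | assumption
        | exact c12.symm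
        | exact c13.symm
        | exact c23.symm

end Cfsg.Agent.S5471
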