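import Cfsg.Statements.S5472
import Cfsg.Agent.Lib.Transpos.M22Present
import Cfsg.Agent.Lib.Fi22Local.DiaSymp
import Cfsg.Agent.Lib.Fi22Local.DiaPairKernel

set_option autoImplicit false
open Cfsg

namespace Cfsg.Agent.S5472

open Cfsg.Agent.Fi22Local Cfsg.Agent.Transpos

section

variable {G : Type*} [Group G]

theorem conj_twist (φ : MulAut G) {y z : G} (hy : φ y = y) :
    MulAut.conj y * (φ * MulAut.conj z) * (MulAut.conj y)⁻¹ = φ * MulAut.conj (y * z * y⁻¹) := by
  have hc : MulAut.conj y * φ = φ * MulAut.conj y := MulEquiv.ext fun g => by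
    simp [MulAut.mul_apply, MulAut.conj_apply, hy]
  rw [map_mul, map_mul, map_inv, ← mul_assoc, hc, mul_assoc, mul_assoc, ← mul_assoc (MulAut.conj y)]

theorem twist_sq {φ : MulAut G} {z : G} (hφ : ∀ g, φ (φ g) = g) (hz : φ z = z) (hz2 : z * z = 1)
    (g : G) : (φ * MulAut.conj z) ((φ * MulAut.conj z) g) = g := by
  show φ (z * φ (z * g * z⁻¹) * z⁻¹) = g
  rw [map_mul φ, map_mul φ, map_inv φ, hz, hφ,
    show z * (z * g * z⁻¹) * z⁻¹ = z * z * g * (z * z)⁻¹ by group, hz2]
  group

variable [Finite G] (e : Spor.Fi22 ≃* G) (H : M22 (Set.range (member e)))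
include H

/-- The fixed elements of the first twist. -/
theorem fixed_twistA (g : G) : (dia e * MulAut.conj (mA e)) g = g ↔
    g ∈ diaFix e ⊓ Subgroup.centralizer ({mA e} : Set G) := by
  rw [Subgroup.mem_inf, Subgroup.mem_centralizer_singleton_iff, mem_diaFix]
  set A := mA e
  set θ := dia e * MulAut.conj A
  have hA : θ A = A := by
    show dia e (A * A * A⁻¹) = A
    rw [mul_inv_cancel_right, dia_mA]
  set S := {z | z ∈ Set.range (member e) ∧ θ z = z}
  set T := {z | z ∈ {z | z ∈ Set.range (member e) ∧ z ≠ A ∧ Commute A z} ∧ dia e z = z}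
  have hsub : insert A T ⊆ S := by
    rintro z (rfl | ⟨⟨hz, -, hc⟩, hd⟩)
    · exact ⟨⟨pA, rfl⟩, hA⟩
    · refine ⟨hz, ?_⟩
      show dia e (A * z * A⁻¹) = z
      rw [hc.eq, mul_inv_cancel_right, hd]
  have hS : insert A T = S := Set.eq_of_subset_of_ncard_le hsub (by
    rw [Set.ncard_insert_of_notMem (fun h => h.1.2.1 rfl) (Set.toFinite _), show T.ncard = 63 from
      card_dia_dc e, show S.ncard = 64 from card_diaA e]) (Set.toFinite _)
  constructor
  · intro hg
    have hmap : ∀ {h z : G}, θ h = h → z ∈ S → h * z * h⁻¹ ∈ S := fun {h z} hh hz =>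
      ⟨H.conj_mem h hz.1, by rw [map_mul, map_mul, map_inv, hh, hz.2]⟩
    obtain ⟨⟨x, hx⟩, hxθ⟩ := hmap hg (show A ∈ S from ⟨⟨pA, rfl⟩, hA⟩)
    have hgA : g * A * g⁻¹ = A := by
      rw [← hx]
      refine eq_mA_of_central e x (by rw [hx]; exact hxθ) fun w hw => ?_
      have hw' := hmap (show θ g⁻¹ = g⁻¹ by rw [map_inv, hg]) (⟨⟨w, rfl⟩, hw⟩ : member e w ∈ S)
      have hc : Commute A (g⁻¹ * member e w * g) := by
        rw [inv_inv, ← hS] at hw'
        rcases hw' with h | h
        · rw [h]
        · exact h.1.2.2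
      have k := hc.map (MulAut.conj g).toMonoidHom
      rw [hx]
      simpa [MulAut.conj_apply, mul_assoc] using k
    have hc : g * A = A * g := mul_inv_eq_iff_eq_mul.1 hgA
    refine ⟨?_, hc⟩
    have h2 : dia e (A * g * A⁻¹) = g := hg
    rwa [← hc, mul_inv_cancel_right] at h2
  · rintro ⟨hd, hc⟩
    show dia e (A * g * A⁻¹) = g
    rw [← hc, mul_inv_cancel_right, hd]

end

/-- Let G be a finite group with trivial centre generated by a conjugation-invariant set D of 3-transpositions on which it acts primitively, such that for some d in D the subgroup generated by the members of D other than d commuting with d has central largest normal 2- and 3-subgroups, and suppose G with D is of type M(22). Then G has a non-inner automorphism s of order 2 whose fixed-point subgroup is isomorphic to the full automorphism group of Ω⁺(8, 2) (the commutator subgroup of the isometry group of the hyperbolic quadratic form in dimension 8 over the field with two elements), together with distinct commuting members a,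 b of D fixed by s such that: s, s composed with conjugation by a, and s composed with conjugation by a b represent the three classes (under the automorphism group) of non-inner automorphisms of order 2; the elements fixed by the automorphism s composed with conjugation by a are exactly those fixed by s and commuting with a, and they form a group isomorphic to the direct product of a group of order 2 and the symplectic group of dimension 6 over the field with two elements; and the elements fixed by the automorphism s composed with conjugation by a b form a group whose largest normal 2-subgroup is elementary abelian of order 64 with quotient isomorphic to the full isometry group of the elliptic quadratic form in dimension 6 over the field with two elements. -/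
theorem result {G : Type*} [Group G] [Finite G] {D : Set G} (hD : Cfsg.IsThreeTranspositionGroup D) (hprim : Cfsg.IsPrimitiveUnderConj D) (d₀ : G) (hd₀ : d₀ ∈ D) (h3 : Cfsg.pCore 3 ↥(Subgroup.closure {y : G | y ∈ D ∧ y ≠ d₀ ∧ Commute d₀ y}) ≤ Subgroup.center ↥(Subgroup.closure {y : G | y ∈ D ∧ y ≠ d₀ ∧ Commute d₀ y})) (h2 : Cfsg.pCore 2 ↥(Subgroup.closure {y : G | y ∈ D ∧ y ≠ d₀ ∧ Commute d₀ y}) ≤ Subgroup.center ↥(Subgroup.closure {y : G | y ∈ D ∧ y ≠ d₀ ∧ Commute d₀ y})) (h22 : Cfsg.IsOfTypeM22 G D) : ∃ (s : MulAut G) (a b : G) (Cs : Subgroup G), orderOf s = 2 ∧ s ∉ (MulAut.conj : G →* MulAut G).range ∧ (∀ g : G, g ∈ Cs ↔ s g = g) ∧ Nonempty (↥Cs ≃* MulAut (Cfsg.Omega (ZMod 2) (Cfsg.quadFormPlus 4 (ZMod 2)))) ∧ a ∈ D ∧ b ∈ D ∧ a ≠ b ∧ Commute a b ∧ s a = a ∧ s b = b ∧ (∀ t : MulAut G, orderOf t = 2 → t ∉ (MulAut.conj : G →* MulAut G).range → (IsConj t s ∨ IsConj t (s * MulAut.conj a) ∨ IsConj t (s * MulAut.conj (a * b)))) ∧ ¬ IsConj s (s * MulAut.conj a) ∧ ¬ IsConj s (s * MulAut.conj (a * b)) ∧ ¬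 IsConj (s * MulAut.conj a) (s * MulAut.conj (a * b)) ∧ (∀ g : G, (s * MulAut.conj a) g = g ↔ g ∈ Cs ⊓ Subgroup.centralizer ({a} : Set G)) ∧ Nonempty (↥(Cs ⊓ Subgroup.centralizer ({a} : Set G)) ≃* Multiplicative (ZMod 2) × Cfsg.PSp 3 (ZMod 2)) ∧ ∃ Csab O : Subgroup G, (∀ g : G, g ∈ Csab ↔ (s * MulAut.conj (a * b)) g = g) ∧ O = (Cfsg.pCore 2 ↥Csab).map Csab.subtype ∧ Cfsg.IsElementaryAbelian 2 O ∧ Nat.card O = 64 ∧ ∃ _ : (O.subgroupOf Csab).Normal, Nonempty (↥Csab ⧸ O.subgroupOf Csab ≃* Cfsg.isometryGroup (ZMod 2) (Cfsg.quadFormMinus 2 (ZMod 2) 1 1)) := by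
  classical
  obtain ⟨e, he⟩ := exists_fi22_iso hD hprim h22
  obtain rfl : Set.range (member e) = D := (range_member e).trans he
  obtain ⟨_, H, -⟩ := m22_of_primitive hD hprim h22
  haveI : Nonempty (Set.range (member e)) := ⟨⟨mA e, pA, rfl⟩⟩
  have hs := outerAt_dia e H
  have habfix : dia e (mA e * mB e) = mA e * mB e := by rw [map_mul, dia_mA, dia_mB]
  have hab2 : mA e * mB e * (mA e * mB e) = 1 := by
    rw [(commute_mA_mB e).symm.mul_mul_mul_comm, show mA e * mA e = 1 from member_mul_self e _,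
      show mB e * mB e = 1 from member_mul_self e _, one_mul]
  have hθ : OuterAt (Set.range (member e)) (mA e) (dia e * MulAut.conj (mA e * mB e)) := by
    refine ⟨H.preserves_aut _, ?_, twist_sq (dia_dia e) habfix hab2,
      H.not_inner_of_four (twist_sq (dia_dia e) habfix hab2) ?_⟩
    · show dia e (mA e * mB e * mA e * (mA e * mB e)⁻¹) = mA e
      rw [mul_assoc (mA e), (commute_mA_mB e).symm.eq, mul_inv_cancel_right, dia_mA]
    · rw [show fixedMem (Set.range (member e)) ⇑(dia e * MulAut.conj (mA e * mB e) : MulAut G) = _ from rfl]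
      exact (card_diaAB e).symm ▸ (by norm_num)
  obtain ⟨y, hy, hyb⟩ := exists_fixed_conj e
  have hbA : IsConj (dia e * MulAut.conj (mA e * mB e) * MulAut.conj (mA e)) (dia e * MulAut.conj (mA e)) :=
    isConj_iff.2 ⟨MulAut.conj y, by
      rw [mul_assoc (dia e), ← map_mul, conj_twist _ hy, (commute_mA_mB e).eq, mul_assoc (mB e),
        show mA e * mA e = 1 from member_mul_self e _, mul_one, hyb]⟩
  have hne : ∀ φ ψ : MulAut G, (fixedMem (Set.range (member e)) φ).ncard ≠
      (fixedMem (Set.range (member e)) ψ).ncard → ¬ IsConj φ ψ := fun φ ψ h hc => h (H.card_fixed_eq hc)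
  obtain ⟨O, hO, hOe, hOc, hOn, hOq⟩ := diaABFix_shape e H
  refine ⟨dia e, mA e, mB e, diaFix e, orderOf_eq_prime ?_ fun h => hs.outer ⟨1, by rw [map_one, h]⟩,
    hs.outer, fun g => mem_diaFix e, diaFix_equiv e H, ⟨pA, rfl⟩, ⟨pB, rfl⟩, mA_ne_mB e, commute_mA_mB e,
    dia_mA e, dia_mB e, ?_, ?_, ?_, ?_, fixed_twistA e H, diaFixA_equiv e H,
    diaABFix e, O, fun g => mem_diaABFix e, hO, hOe, hOc, hOn, hOq⟩
  · exact MulEquiv.ext fun g => by rw [pow_two, MulAut.mul_apply, dia_dia, MulAut.one_apply]
  · intro t ht hout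
    rcases H.outer_cases (a := mA e) ⟨pA, rfl⟩ hs hθ (card_dia_dc e) (by
        rw [show (fixedDc (Set.range (member e)) (mA e) ⇑(dia e * MulAut.conj (mA e * mB e) : MulAut G)).ncard = 31
          from card_diaAB_dc e]
        norm_num) t ht hout with h | h | h | h
    · exact Or.inl h
    · exact Or.inr (Or.inl h)
    · exact Or.inr (Or.inr h)
    · exact Or.inr (Or.inl (h.trans hbA))
  all_goals refine hne _ _ ?_
  · rw [show (fixedMem _ (dia e)).ncard = 360 from card_dia e,
      show (fixedMem _ ⇑(dia e * MulAut.conj (mA e) : MulAut G)).ncard = 64 from card_diaA e]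
    norm_num
  · rw [show (fixedMem _ (dia e)).ncard = 360 from card_dia e,
      show (fixedMem _ ⇑(dia e * MulAut.conj (mA e * mB e) : MulAut G)).ncard = 72 from card_diaAB e]
    norm_num
  · rw [show (fixedMem _ ⇑(dia e * MulAut.conj (mA e) : MulAut G)).ncard = 64 from card_diaA e,
      show (fixedMem _ ⇑(dia e * MulAut.conj (mA e * mB e) : MulAut G)).ncard = 72 from card_diaAB e]
    norm_num

end Cfsg.Agent.S5472
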