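import Cfsg.Statements.S5515
import Cfsg.Agent.Lib.AutPOmega.OutEight
import Cfsg.Agent.Lib.AutPOmega.ExtensionUnique

set_option autoImplicit false
open Cfsg

namespace Cfsg.Agent.S5515

/-- Let G and G′ be finite groups whose generalized Fitting subgroups are isomorphic to PΩ⁺(8, 3) (the commutator subgroup of the isometry group of the hyperbolic quadratic form in dimension 8 over the field with three elements, modulo its centre) with quotients isomorphic to the symmetric group of degree 3. Then G and G′ are isomorphic. -/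
theorem result {G G' : Type*} [Group G] [Finite G] [Group G'] [Finite G'] (hF : Nonempty (↥(Cfsg.generalizedFittingSubgroup G) ≃* Cfsg.POmega (ZMod 3) (Cfsg.quadFormPlus 4 (ZMod 3)))) (hF' : Nonempty (↥(Cfsg.generalizedFittingSubgroup G') ≃* Cfsg.POmega (ZMod 3) (Cfsg.quadFormPlus 4 (ZMod 3)))) [hn : (Cfsg.generalizedFittingSubgroup G).Normal] [hn' : (Cfsg.generalizedFittingSubgroup G').Normal] (hq : Nonempty (G ⧸ Cfsg.generalizedFittingSubgroup G ≃* Equiv.Perm (Fin 3))) (hq' : Nonempty (G' ⧸ Cfsg.generalizedFittingSubgroup G' ≃* Equiv.Perm (Fin 3))) : Nonempty (G ≃* G') := by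
  obtain ⟨e⟩ := hF
  obtain ⟨e'⟩ := hF'
  have hcard : Fintype.card (ZMod 3) = 3 ^ 1 := by simp
  have hodd : Odd (Fintype.card (ZMod 3)) := by rw [hcard]; exact ⟨1, rfl⟩
  rw [← Cfsg.Agent.QForm.coe_plusForm] at e e'
  obtain ⟨eO⟩ := Cfsg.Agent.AutPOmega.out_eight_odd (F := ZMod 3) 3 hodd le_rfl hcard
  have hZ := Cfsg.Agent.AutPOmega.center_POmega (F := ZMod 3) Cfsg.Agent.AutPOmega.nondeg_bil8
    Cfsg.Agent.Triality.five8
  have h1 : Subsingleton (Multiplicative (ZMod 1)) := Multiplicative.toAdd.subsingleton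
  let eO' : Cfsg.Out (Cfsg.POmega (ZMod 3) ⇑(Cfsg.Agent.QForm.plusForm (ZMod 3) 4)) ≃* Equiv.Perm (Fin 4) :=
    eO.trans MulEquiv.prodUnique
  obtain ⟨q⟩ := hq
  obtain ⟨q'⟩ := hq'
  exact Cfsg.Agent.AutPOmega.iso_of_out_symm_four hZ eO' e e'
    (by rw [Nat.card_congr q.toEquiv, Nat.card_perm, Nat.card_fin]; rfl)
    (by rw [Nat.card_congr q'.toEquiv, Nat.card_perm, Nat.card_fin]; rfl)

end Cfsg.Agent.S5515
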