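import Cfsg.Statements.S5517
import Cfsg.Agent.Lib.Transpos.M22Present
import Cfsg.Agent.S1685
import Cfsg.Agent.S1686
-- import your own Cfsg.Agent.* helpers here

set_option autoImplicit false
open Cfsg

namespace Cfsg.Agent.S5517

/-- Let G be a finite group with trivial centre generated by a conjugation-invariant set D of 3-transpositions on which it acts primitively, such that for some d in D the subgroup generated by the members of D other than d commuting with d has central largest normal 2- and 3-subgroups, and suppose G with D is of type M(22). Then G has a subgroup L generated by the members of D it contains and isomorphic to Ω(7, 3) (the commutator subgroup of the isometry group of a non-degenerate 7-dimensional quadratic form over the field with three elements, modulo its centre), and every Sylow 3-subgroup of L is a Sylow 3-subgroup of G. -/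
theorem result {G : Type*} [Group G] [Finite G] {D : Set G} (hD : Cfsg.IsThreeTranspositionGroup D) (hprim : Cfsg.IsPrimitiveUnderConj D) (d₀ : G) (hd₀ : d₀ ∈ D) (h3 : Cfsg.pCore 3 ↥(Subgroup.closure {y : G | y ∈ D ∧ y ≠ d₀ ∧ Commute d₀ y}) ≤ Subgroup.center ↥(Subgroup.closure {y : G | y ∈ D ∧ y ≠ d₀ ∧ Commute d₀ y})) (h2 : Cfsg.pCore 2 ↥(Subgroup.closure {y : G | y ∈ D ∧ y ≠ d₀ ∧ Commute d₀ y}) ≤ Subgroup.center ↥(Subgroup.closure {y : G | y ∈ D ∧ y ≠ d₀ ∧ Commute d₀ y})) (h22 : Cfsg.IsOfTypeM22 G D) : ∃ L : Subgroup G, Cfsg.IsDSubgroup D L ∧ Nonempty (↥L ≃* Cfsg.POmega (ZMod 3) (Cfsg.quadFormOdd 3 (ZMod 3))) ∧ ∀ P : Sylow 3 ↥L, ∃ P' : Sylow 3 G, (P : Subgroup ↥L).map L.subtype = (P' : Subgroup G) := by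
  classical
  obtain ⟨e, -, hgen⟩ := Transpos.exists_fi22_iso' hD hprim h22
  obtain ⟨ι⟩ := S1686.result
  have hidx := S1685.result
  generalize hK : (Subgroup.closure ({Spor.Fi22.b, Spor.Fi22.c, Spor.Fi22.d, Spor.Fi22.e, Spor.Fi22.f,
    Spor.Fi22.g, Spor.Fi22.h, Spor.Fi22.i} : Set (FreeGroup Spor.Fi22.Gen))).map
    (PresentedGroup.mk (Spor.coxRelators Spor.Fi22.edges ∪ {r | r ∈ Spor.Fi22.extra})) = K at ι hidx
  set L := K.map e.toMonoidHom with hL
  refine ⟨L, le_antisymm ((Subgroup.closure_le _).2 fun x hx => hx.2) ?_,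
    ⟨((K.equivMapOfInjective e.toMonoidHom e.injective).symm.trans ι)⟩, fun P => ?_⟩
  · rw [hL, ← hK, MonoidHom.map_closure, MonoidHom.map_closure, Subgroup.closure_le]
    rintro _ ⟨_, ⟨x, hx, rfl⟩, rfl⟩
    refine Subgroup.subset_closure ⟨?_, Subgroup.subset_closure ⟨_, ⟨x, hx, rfl⟩, rfl⟩⟩
    simp only [Set.mem_insert_iff, Set.mem_singleton_iff] at hx
    rcases hx with rfl | rfl | rfl | rfl | rfl | rfl | rfl | rfl <;> exact hgen _
  · haveI : Fact (Nat.Prime 3) := ⟨by norm_num⟩
    have hiG : L.index = 14080 := by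
      rw [hL, show K.map e.toMonoidHom = K.map (e : Spor.Fi22 →* G) from rfl, Subgroup.index_map_equiv, hidx]
    have hcard : Nat.card ↥((P : Subgroup ↥L).map L.subtype) = 3 ^ (Nat.card G).factorization 3 := by
      rw [Subgroup.card_map_of_injective L.subtype_injective, Sylow.card_eq_multiplicity,
        ← L.card_mul_index, hiG,
        Nat.factorization_mul Nat.card_pos.ne' (by norm_num), Finsupp.add_apply,
        Nat.factorization_eq_zero_of_not_dvd (n := 14080) (p := 3) (by norm_num), add_zero]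
    exact ⟨Sylow.ofCard _ hcard, (Sylow.coe_ofCard _ hcard).symm⟩

end Cfsg.Agent.S5517
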