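import Cfsg.Statements.S5518
import Cfsg.Agent.Lib.Transpos.M24G2

set_option autoImplicit false
open Cfsg

namespace Cfsg.Agent.S5518

/-- Let G be a finite group with trivial centre generated by a conjugation-invariant set D of 3-transpositions on which it acts primitively, such that for some d in D the subgroup generated by the members of D other than d commuting with d has central largest normal 2- and 3-subgroups, and suppose G with D is of type M(24). Then any two subgroups of order 13 are conjugate; and there are members a, b, c, d of D generating the direct product T of two symmetric groups of degree 3 (a, d non-commuting; b, c non-commuting; b and c commuting with a and d) whose centralizer K is isomorphic to the Chevalley group G₂(3), such that for every subgroup B of K of order 13: the normalizer of B lies in the normalizer of K, the normalizer F of B in K is a Frobenius group of order 78 with kernel B (order 78, centralizer of B in it equal to B), and the subgroup generated by F and T has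 index 2 in the normalizer of B. -/
theorem result {G : Type*} [Group G] [Finite G] {D : Set G} (hD : Cfsg.IsThreeTranspositionGroup D) (hprim : Cfsg.IsPrimitiveUnderConj D) (d₀ : G) (hd₀ : d₀ ∈ D) (h3 : Cfsg.pCore 3 ↥(Subgroup.closure {y : G | y ∈ D ∧ y ≠ d₀ ∧ Commute d₀ y}) ≤ Subgroup.center ↥(Subgroup.closure {y : G | y ∈ D ∧ y ≠ d₀ ∧ Commute d₀ y})) (h2 : Cfsg.pCore 2 ↥(Subgroup.closure {y : G | y ∈ D ∧ y ≠ d₀ ∧ Commute d₀ y}) ≤ Subgroup.center ↥(Subgroup.closure {y : G | y ∈ D ∧ y ≠ d₀ ∧ Commute d₀ y})) (h24 : Cfsg.IsOfTypeM24 G D) : (∀ X Y : Subgroup G, Nat.card X = 13 → Nat.card Y = 13 → ∃ g : G, X.map (MulAut.conj g).toMonoidHom = Y) ∧ ∃ (a b c d : G) (T K : Subgroup G), (∀ x ∈ [a, b, c, d], x ∈ D) ∧ ¬ Commute a d ∧ ¬ Commute b c ∧ Commute a b ∧ Commute a c ∧ Commute d b ∧ Commute d c ∧ T = Subgroup.closure ({a, b, c, d} : Set G) ∧ K = Subgroup.centralizer (T : Set G) ∧ Nonempty (↥K ≃* ↥(Cfsg.Lie.chevG2.group (ZMod 3))) ∧ ∀ B : Subgroup G, B ≤ K → Nat.card B = 13 → Subgroup.normalizer ((B : Subgroup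 G) : Set G) ≤ Subgroup.normalizer ((K : Subgroup G) : Set G) ∧ Nat.card ↥(K ⊓ Subgroup.normalizer ((B : Subgroup G) : Set G)) = 78 ∧ K ⊓ Subgroup.centralizer ((B : Subgroup G) : Set G) = B ∧ (((K ⊓ Subgroup.normalizer ((B : Subgroup G) : Set G)) ⊔ T).subgroupOf (Subgroup.normalizer ((B : Subgroup G) : Set G))).index = 2 := by
  classical
  haveI : Fact (Nat.Prime 13) := ⟨by norm_num⟩
  have H := Agent.Transpos.M24.of_type hD hprim h24
  refine ⟨fun X Y hX hY => Agent.Transpos.conj_of_prime_card (H.thirteen_sq hprim h24) hX hY, ?_⟩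
  obtain ⟨x, hx⟩ := exists_prime_orderOf_dvd_card' (G := G) 13
    (by rw [H.card_group hprim h24]; norm_num)
  have hX : Nat.card (Subgroup.zpowers x) = 13 := by rw [Nat.card_zpowers, hx]
  obtain ⟨a, d, b, c, S, hfa, hfd, hfb, hfc⟩ := H.thirteen_six hprim h24 hX
  refine ⟨a, b, c, d, _, _, ?_, S.had, S.hbc, S.hab, S.hac, S.hdb, S.hdc, rfl, rfl,
    H.thirteen_g2 hprim h24 hX S hfa hfd hfb hfc, fun B hB hB13 => ?_⟩
  · simp only [List.mem_cons, List.not_mem_nil, or_false]
    rintro y (rfl | rfl | rfl | rfl)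
    exacts [S.ha, S.hb, S.hc, S.hd]
  have hfx : ∀ y ∈ ({a, b, c, d} : Set G), y ∈ D → y ∈ Agent.Transpos.Fx D B := fun y hy hyD =>
    ⟨hyD, Subgroup.mem_centralizer_iff.2 fun k hk =>
      (Subgroup.mem_centralizer_iff.1 (hB hk) y (Subgroup.subset_closure hy)).symm⟩
  have fa := hfx a (by simp) S.ha
  have fb := hfx b (by simp) S.hb
  have fc := hfx c (by simp) S.hc
  have fd := hfx d (by simp) S.hd
  obtain ⟨h78, hC⟩ := H.thirteen_local hprim h24 hB13 S fa fd fb fc
  exact ⟨H.thirteen_le_normalizer hprim h24 hB13 S fa fd fb fc, h78, hC,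
    H.thirteen_index hprim h24 hB13 S fa fd fb fc⟩

end Cfsg.Agent.S5518
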