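import Cfsg.Statements.S5520
import Cfsg.Agent.Lib.U62Sub.Final

set_option autoImplicit false
open Cfsg

namespace Cfsg.Agent.S5520

/-- In the special unitary group of dimension 6 over the field with four elements (determinant-one matrices preserving the standard Hermitian form), the subgroups K whose centre has order 3 with K modulo its centre isomorphic to the projective special unitary group of dimension 4 over the field with nine elements fall into exactly three conjugacy classes. -/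
theorem result (F : Type) [Field F] [Fintype F] (hF : Fintype.card F = 4) (F9 : Type) [Field F9] [Fintype F9] (hF9 : Fintype.card F9 = 9) : ∃ K₁ K₂ K₃ : Subgroup ↥(Cfsg.SU 6 F 2), (∀ K ∈ [K₁, K₂, K₃], Nat.card ↥(Subgroup.center ↥K) = 3 ∧ Nonempty (↥K ⧸ Subgroup.center ↥K ≃* Cfsg.PSU 4 F9 3)) ∧ (¬ ∃ g : ↥(Cfsg.SU 6 F 2), K₁.map (MulAut.conj g).toMonoidHom = K₂) ∧ (¬ ∃ g : ↥(Cfsg.SU 6 F 2), K₁.map (MulAut.conj g).toMonoidHom = K₃) ∧ (¬ ∃ g : ↥(Cfsg.SU 6 F 2), K₂.map (MulAut.conj g).toMonoidHom = K₃) ∧ ∀ K : Subgroup ↥(Cfsg.SU 6 F 2), Nat.card ↥(Subgroup.center ↥K) = 3 → Nonempty (↥K ⧸ Subgroup.center ↥K ≃* Cfsg.PSU 4 F9 3) → ∃ g : ↥(Cfsg.SU 6 F 2), K.map (MulAut.conj g).toMonoidHom = K₁ ∨ K.map (MulAut.conj g).toMonoidHom = K₂ ∨ K.map (MulAut.conj g).toMonoidHom = K₃ := by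
  obtain ⟨Φ⟩ := U62Sub.exists_GF4 hF
  obtain ⟨e⟩ := U62Sub.exists_equiv_P43 hF9
  have hcov : ∀ c, c ∈ [1, 2, 3] → Nat.card ↥(Subgroup.center ↥(Φ.Kc c)) = 3 ∧
      Nonempty (↥(Φ.Kc c) ⧸ Subgroup.center ↥(Φ.Kc c) ≃* Cfsg.PSU 4 F9 3) := fun c hc => by
    obtain ⟨h1, h2, ⟨f⟩⟩ := Φ.isCover_Kc hc
    exact ⟨h2, ⟨f.trans e.symm⟩⟩
  refine ⟨Φ.Kc 1, Φ.Kc 2, Φ.Kc 3, ?_, ?_, ?_, ?_, ?_⟩
  · intro K hK
    simp only [List.mem_cons, List.not_mem_nil, or_false] at hK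
    rcases hK with rfl | rfl | rfl <;> exact hcov _ (by simp)
  · rintro ⟨g, hg⟩
    exact absurd (Φ.not_conj (a := 1) (b := 2) (by simp) (by simp) hg) (by norm_num)
  · rintro ⟨g, hg⟩
    exact absurd (Φ.not_conj (a := 1) (b := 3) (by simp) (by simp) hg) (by norm_num)
  · rintro ⟨g, hg⟩
    exact absurd (Φ.not_conj (a := 2) (b := 3) (by simp) (by simp) hg) (by norm_num)
  · intro K hc hiso
    obtain ⟨f⟩ := hiso
    obtain ⟨g, c, hc', h⟩ := Φ.exists_conj_Kc K hc ⟨f.trans e⟩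
    refine ⟨g, ?_⟩
    simp only [List.mem_cons, List.not_mem_nil, or_false] at hc'
    rcases hc' with rfl | rfl | rfl
    exacts [Or.inl h, Or.inr (Or.inl h), Or.inr (Or.inr h)]

end Cfsg.Agent.S5520
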