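import Cfsg.Statements.S5521
import Cfsg.Agent.Lib.Mathieu.Groups

set_option autoImplicit false
open Cfsg Cfsg.Agent.Mathieu

namespace Cfsg.Agent.S5521

/-- The Mathieu group M₂₄ in its natural action on the 24 coordinate positions of the binary Golay code has minimal base size exactly 7: every set of at most 6 positions is fixed pointwise by some non-identity element of M₂₄, while some set of 7 positions is fixed pointwise only by the identity. -/
theorem result :
    (∀ B : Finset Cfsg.GolayPt, B.card ≤ 6 → ∃ g ∈ Cfsg.M24, g ≠ 1 ∧ ∀ b ∈ B, g b = b) ∧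
    (∃ B : Finset Cfsg.GolayPt, B.card = 7 ∧ ∀ g ∈ Cfsg.M24, (∀ b ∈ B, g b = b) → g = 1) := by
  classical
  constructor
  · intro B hB
    have hcard : Fintype.card (B → GolayPt) < Fintype.card M24 := by
      rw [Fintype.card_fun, Fintype.card_coe, ← Nat.card_eq_fintype_card (α := M24), card_M24]
      calc Fintype.card GolayPt ^ B.card ≤ Fintype.card GolayPt ^ 6 :=
            Nat.pow_le_pow_right Fintype.card_pos hB
        _ < 244823040 := by rw [show Fintype.card GolayPt = 24 from rfl]; norm_num
    obtain ⟨g, h, hne, heq⟩ := Fintype.exists_ne_map_eq_of_card_lt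
      (fun (g : M24) (b : B) => (g : Equiv.Perm GolayPt) b) hcard
    refine ⟨((g : Equiv.Perm GolayPt))⁻¹ * h, mul_mem (inv_mem g.2) h.2, fun h1 => hne ?_, fun b hb => ?_⟩
    · exact Subtype.ext (inv_mul_eq_one.1 h1)
    · have := congrFun heq ⟨b, hb⟩
      rw [Equiv.Perm.mul_apply, Equiv.Perm.inv_def, Equiv.symm_apply_eq]
      exact this.symm
  · refine ⟨(levels24.map fun p => idx ptEnc p.1).toFinset, by decide +kernel, fun g hg hfix => ?_⟩
    have h := m24_upper (H := M24) (pre := []) (l := levels24) (O := octadA) (steps := closeA)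
      (by decide +kernel) le_rfl (by simp)
    have hm : g ∈ fixList M24 (levels24.map fun p => idx ptEnc p.1) :=
      mem_fixList.2 ⟨hg, fun b hb => hfix b (List.mem_toFinset.2 hb)⟩
    rw [h.2, Subgroup.mem_bot] at hm
    exact hm

end Cfsg.Agent.S5521
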