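import Cfsg.Statements.S5522
import Cfsg.Agent.Lib.Mathieu.Groups

set_option autoImplicit false
open Cfsg Cfsg.Agent.Mathieu
open scoped Pointwise

namespace Cfsg.Agent.S5522

/-- A representative of an element of exponent 2 or 3 fixes a point outside the dodecad. -/
def good (r : ℕ) : Bool :=
  !((List.range 24).all (fun i => app r (app r i) == i) ||
      (List.range 24).all (fun i => app r (app r (app r i)) == i)) ||
    (List.range 24).any (fun i => !dodMask.testBit i && app r i == i)

theorem all_good : (prodList 24 levels11).all good = true := by decide +kernel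

theorem exists_good {g : Equiv.Perm GolayPt} (hg : g ∈ Spor.M11) :
    ∃ r, Rep ptEnc g r ∧ good r = true := by
  obtain ⟨hgen, -, -⟩ := M11_cert
  have hup : Upper ptEnc Spor.M11 levels11 := by
    refine upper_full _ [0] dodMask _ (by decide +kernel)
      (by simpa [idx_zero] using fun σ hσ => (mem_M11_iff.1 hσ).2) fun σ hσ => ?_
    rw [← squareDodecad_eq]; exact (mem_M12_iff.1 (mem_M11_iff.1 hσ).1).2
  have hbot : fixList Spor.M11 (levels11.map fun p => idx ptEnc p.1) = ⊥ := by
    rw [eq_bot_iff]
    intro σ hσ
    rw [mem_fixList, mem_M11_iff, mem_M12_iff] at hσ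
    rw [Subgroup.mem_bot]
    refine eq_one_of_fix_five hσ.1.1.1 (fun i hi => ?_) hσ.1.1.2
    have : i = 0 ∨ i ∈ levels11.map fun p => p.1 := by revert i; decide +kernel
    rcases this with rfl | h
    · rw [idx_zero]; exact hσ.1.2
    · obtain ⟨p, hp, rfl⟩ := List.mem_map.1 h
      exact hσ.2 _ (List.mem_map.2 ⟨p, hp, rfl⟩)
  have hreps : ∀ t ∈ allReps levels11, ∃ σ ∈ Spor.M11, Rep ptEnc σ t := by
    intro t ht
    obtain ⟨σ, hσ, h⟩ := reps_genGroup (e := ptEnc) (gens := gens11) (steps := slp11)
      (levels := levels11) (by decide +kernel) (by decide +kernel) (by decide +kernel) t ht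
    exact ⟨σ, hgen ▸ hσ, h⟩
  obtain ⟨r, hr, hrr⟩ := exists_mem_prodList_aux (H := Spor.M11) (e := ptEnc) (by norm_num)
    levels11 [] Spor.M11 (by simp) (fun _ h _ => h) (by decide +kernel) hreps hup hbot g hg
  exact ⟨r, hrr, List.all_eq_true.1 all_good r hr⟩

/-- The Mathieu group M₁₁, realised as the stabiliser of one point of the dodecad of squares inside the stabiliser M₁₂ of that dodecad in M₂₄, acts on the twelve coordinate positions outside the dodecad of squares (its 3-transitive action of degree 12); in this action every element of prime order fixes a point, i.e. the action is elusive. -/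
theorem result (g : Equiv.Perm Cfsg.GolayPt) (hg : g ∈ Cfsg.Spor.M11) (hord : (orderOf g).Prime) :
    ∃ x : Cfsg.GolayPt, x ∉ Cfsg.Spor.squareDodecad ∧ g x = x := by
  classical
  by_contra hcon
  push Not at hcon
  have hfix0 : ∀ x, x ∉ Spor.squareDodecad → g x ≠ x := hcon
  set p := orderOf g with hp
  have hgp : g ^ p = 1 := pow_orderOf_eq_one g
  have hgd : g • Spor.squareDodecad = Spor.squareDodecad :=
    (mem_M12_iff.1 (mem_M11_iff.1 hg).1).2
  have h23 : p = 2 ∨ p = 3 := by
    haveI : Fact p.Prime := ⟨hord⟩
    have hmem : ∀ x, x ∈ Spor.squareDodecad → g x ∈ Spor.squareDodecad := fun x hx => by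
      have h : g • x ∈ g • Spor.squareDodecad := Finset.smul_mem_smul_finset hx
      rwa [hgd] at h
    let f : Equiv.Perm {x // x ∉ Spor.squareDodecad} := g.subtypePerm fun x => by
      constructor
      · exact fun hx h => hx (hmem x h)
      · intro hx h
        rw [← hgd, Finset.mem_smul_finset] at h
        obtain ⟨y, hy, hxy⟩ := h
        exact hx (g.injective hxy ▸ hy)
    have hf : f ^ p ^ 1 = 1 := by
      rw [pow_one]
      ext x
      simp [f, Equiv.Perm.subtypePerm_pow, hgp]
    have hcard : Fintype.card {x // x ∉ Spor.squareDodecad} = 12 := by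
      rw [Fintype.card_subtype_compl, Fintype.card_coe,
        show Spor.squareDodecad.card = 12 from dodecad_card squareDodecad_mem]
      rfl
    have hdiv : p ∣ 12 := by
      by_contra hd
      rw [← hcard] at hd
      obtain ⟨x, hx⟩ := f.exists_fixed_point_of_prime hd hf
      exact hfix0 x x.2 (congrArg Subtype.val hx)
    have : p ≤ 12 := Nat.le_of_dvd (by norm_num) hdiv
    have hp2 := hord
    interval_cases p <;> first | omega | (revert hp2; decide) | (revert hdiv; decide)
  obtain ⟨r, hr, hgood⟩ := exists_good hg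
  simp only [good, Bool.or_eq_true, Bool.not_eq_true', Bool.or_eq_false_iff, List.any_eq_true,
    Bool.and_eq_true, beq_iff_eq, List.mem_range] at hgood
  have happ : ∀ (i : ℕ) (hi : i < 24), g (idx ptEnc i) = idx ptEnc (app r i) :=
    fun i hi => hr.apply_idx hi
  rcases hgood with ⟨h2, h3⟩ | ⟨i, hi, hout, hfix⟩
  · have hlt : ∀ i < 24, app r i < 24 := fun i hi => hr.app_lt hi
    have hinj : ∀ a < 24, ∀ b < 24, idx ptEnc a = idx ptEnc b → a = b := by decide +kernel
    rcases h23 with h | h <;> rw [h] at hgp
    · apply absurd h2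
      rw [Bool.not_eq_false, List.all_eq_true]
      intro i hi
      rw [List.mem_range] at hi
      rw [beq_iff_eq]
      refine hinj _ (hlt _ (hlt i hi)) i hi ?_
      rw [← happ _ (hlt i hi), ← happ i hi]
      have := Equiv.Perm.ext_iff.1 hgp (idx ptEnc i)
      simpa [pow_two] using this
    · apply absurd h3
      rw [Bool.not_eq_false, List.all_eq_true]
      intro i hi
      rw [List.mem_range] at hi
      rw [beq_iff_eq]
      refine hinj _ (hlt _ (hlt _ (hlt i hi))) i hi ?_
      rw [← happ _ (hlt _ (hlt i hi)), ← happ _ (hlt i hi), ← happ i hi]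
      have := Equiv.Perm.ext_iff.1 hgp (idx ptEnc i)
      simpa [pow_succ] using this
  · refine hfix0 (idx ptEnc i) ?_ (by rw [happ i hi, hfix])
    rw [squareDodecad_eq, mem_ptsOf, hasPt, idx_val hi]
    simp [hout]

end Cfsg.Agent.S5522
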