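import Cfsg.Statements.S5529
import Cfsg.Agent.Lib.Mathieu.TriplesData
import Cfsg.Agent.Lib.Mathieu.SylowTwo
import Cfsg.Agent.Lib.Mathieu.Simple
import Cfsg.Agent.Lib.Perm.GenusBound

set_option autoImplicit false
set_option maxRecDepth 20000
open Cfsg Cfsg.Agent.Mathieu

namespace Cfsg.Agent.S5529

/-- The number of fixed indices. -/
def fixCount (l : ℕ) : ℕ := ((List.range 24).filter fun i => app l i == i).length

theorem card_fixed {σ : Equiv.Perm GolayPt} {l : ℕ} (h : Rep ptEnc σ l) :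
    (Finset.univ.filter fun a => σ a = a).card = fixCount l := by
  rw [fixCount, ← List.toFinset_card_of_nodup (List.nodup_range.filter _)]
  refine Finset.card_nbij (fun a => (ptEnc a).val) ?_ ?_ ?_
  · intro a ha
    simp only [Finset.coe_filter, Finset.mem_univ, true_and, Set.mem_ofPred_eq] at ha
    simp only [List.coe_toFinset, Set.mem_ofPred_eq, List.mem_filter, List.mem_range, beq_iff_eq]
    exact ⟨(ptEnc a).isLt, by rw [← h a, ha]⟩
  · intro a _ b _ e; exact ptEnc.injective (Fin.ext e)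
  · intro i hi
    simp only [List.coe_toFinset, Set.mem_ofPred_eq, List.mem_filter, List.mem_range, beq_iff_eq] at hi
    refine ⟨idx ptEnc i, ?_, idx_val hi.1⟩
    simp only [Finset.coe_filter, Finset.mem_univ, true_and, Set.mem_ofPred_eq]
    rw [h.apply_idx hi.1, hi.2]

/-- All elements of order `p` of a subgroup given by a certificate fix at least `f` points. -/
def fixOK (C : SubgroupCert) (p f : ℕ) : Bool :=
  (C.elts 24).all fun l => isId 24 l || !isId 24 (packPow 24 l p) || decide (f ≤ fixCount l)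

theorem fixed_ge_of_cert (C : SubgroupCert) (p f k m : ℕ) [Fact p.Prime]
    (hg : C.groupOK 24 mem23 = true) (hk : (C.levels.map fun q => q.2.1.length).prod = p ^ k)
    (hcard : Nat.card Spor.M23 = p ^ k * m) (hm : ¬ p ∣ m) (hf : fixOK C p f = true)
    {g : Spor.M23} (hgp : orderOf g = p) :
    f ≤ (Finset.univ.filter fun a => (g : Equiv.Perm GolayPt) a = a).card := by
  obtain ⟨hSH, hS, -, hlist⟩ := cert_group (e := ptEnc) (by norm_num) mem23_sound hg
  rw [hk] at hS
  set S₁ : Subgroup Spor.M23 := (genGroup ptEnc C.gens).subgroupOf Spor.M23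
  have hp := (Fact.out : p.Prime)
  have hfac : (Nat.card Spor.M23).factorization p = k := by
    rw [hcard, Nat.factorization_mul (pow_ne_zero _ hp.ne_zero) (fun h => hm (by rw [h]; exact dvd_zero p)),
      Finsupp.add_apply, hp.factorization_pow, Finsupp.single_eq_same,
      Nat.factorization_eq_zero_of_not_dvd hm, add_zero]
  let S₀ : Sylow p Spor.M23 := Sylow.ofCard S₁ (by
    rw [hfac, ← hS]
    exact Nat.card_congr (Subgroup.subgroupOfEquivOfLe hSH).toEquiv)
  obtain ⟨Q, hQ⟩ := (IsPGroup.of_card (n := 1) (p := p)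
    (show Nat.card (Subgroup.zpowers g) = p ^ 1 by rw [Nat.card_zpowers, hgp, pow_one])).exists_le_sylow
  obtain ⟨c, hc⟩ := MulAction.exists_smul_eq Spor.M23 Q S₀
  have hmem : c * g * c⁻¹ ∈ S₁ := by
    have h1 : c * g * c⁻¹ ∈ ((c • Q : Sylow p Spor.M23) : Subgroup Spor.M23) :=
      ⟨g, hQ (Subgroup.mem_zpowers g), rfl⟩
    rw [hc] at h1
    exact h1
  obtain ⟨l, hl, hrep⟩ := hlist _ (Subgroup.mem_subgroupOf.1 hmem)
  have h := List.all_eq_true.1 hf l hl
  simp only [Bool.or_eq_true, decide_eq_true_eq, Bool.not_eq_eq_eq_not, Bool.not_true] at h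
  have hord : orderOf (c * g * c⁻¹) = p := by
    rw [← hgp]
    exact orderOf_injective (MulAut.conj c).toMonoidHom (MulAut.conj c).injective g
  rcases h with (h | h) | h
  · exfalso
    have e : c * g * c⁻¹ = 1 := Subtype.ext (hrep.eq_one h)
    rw [e, orderOf_one] at hord
    exact hp.ne_one hord.symm
  · exfalso
    have e := rep_packPow (e := ptEnc) (by norm_num) hrep p
    rw [← Subgroup.coe_pow, show (c * g * c⁻¹) ^ p = 1 from hord ▸ pow_orderOf_eq_one _] at e
    rw [isId_of_rep_one e] at h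
    exact Bool.noConfusion h
  · rw [← card_fixed hrep] at h
    refine h.trans (le_of_eq (Finset.card_nbij (fun a => (c : Equiv.Perm GolayPt)⁻¹ a) ?_ ?_ ?_))
    · intro a ha
      have ha' := (Finset.mem_filter.1 (Finset.mem_coe.1 ha)).2
      refine Finset.mem_coe.2 (Finset.mem_filter.2 ⟨Finset.mem_univ _, ?_⟩)
      rw [Equiv.Perm.inv_def, Equiv.eq_symm_apply]
      simpa using ha'
    · exact fun a _ b _ e => (c : Equiv.Perm GolayPt)⁻¹.injective e
    · intro a ha
      have ha' := (Finset.mem_filter.1 (Finset.mem_coe.1 ha)).2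
      refine ⟨(c : Equiv.Perm GolayPt) a,
        Finset.mem_coe.2 (Finset.mem_filter.2 ⟨Finset.mem_univ _, ?_⟩), by simp⟩
      simp [ha']

/-- Lower bound for the fixed points of an element of `M₂₃` of prime order on the 24 points. -/
def fixBound (p : ℕ) : ℕ := if p = 2 then 8 else if p = 3 then 6 else 24 % p

theorem fixed_ge {p : ℕ} (hp : p.Prime) {g : Spor.M23} (hg : orderOf g = p) :
    fixBound p ≤ (Finset.univ.filter fun a => (g : Equiv.Perm GolayPt) a = a).card := by
  haveI := Fact.mk hp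
  unfold fixBound
  split_ifs with h2 h3
  · subst h2
    exact fixed_ge_of_cert syl23 2 8 7 79695 (by decide +kernel) (by decide +kernel)
      (by rw [card_M23]; norm_num) (by decide) (by decide +kernel) hg
  · subst h3
    exact fixed_ge_of_cert syl3M23 3 6 2 1133440 (by decide +kernel) (by decide +kernel)
      (by rw [card_M23]; norm_num) (by decide) (by decide +kernel) hg
  · have hpow : (g : Equiv.Perm GolayPt) ^ p ^ 1 = 1 := by
      rw [pow_one, ← Subgroup.coe_pow, ← hg, pow_orderOf_eq_one]; rfl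
    have h := Equiv.Perm.card_compl_support_modEq hpow
    rw [show (g : Equiv.Perm GolayPt).supportᶜ =
      Finset.univ.filter fun a => (g : Equiv.Perm GolayPt) a = a by ext; simp] at h
    have h24 : Fintype.card GolayPt = 24 := by simp
    rw [h24] at h
    exact h ▸ Nat.mod_le _ _

theorem index_bound {p : ℕ} (hp : p.Prime) {g : Spor.M23} (hg : orderOf g = p) :
    p * Perm.GenusBound.index (g : Equiv.Perm GolayPt) + (p - 1) * fixBound p ≤ (p - 1) * 24 := by
  haveI := Fact.mk hp
  have h := Perm.GenusBound.index_le (g := (g : Equiv.Perm GolayPt)) (p := p)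
    ((Subgroup.orderOf_coe g).trans hg) (fixed_ge hp hg)
  have h24 : Fintype.card GolayPt = 24 := by simp
  rwa [h24] at h

/-- The genus inequality on the orbits `{none}` and the 23 other points. -/
theorem index_sum {x y z : Spor.M23} (hxyz : x * y * z = 1)
    (hgen : Subgroup.closure ({x, y} : Set Spor.M23) = ⊤) :
    44 ≤ Perm.GenusBound.index (x : Equiv.Perm GolayPt) + Perm.GenusBound.index (y : Equiv.Perm GolayPt)
      + Perm.GenusBound.index (z : Equiv.Perm GolayPt) := by
  have hmap : Subgroup.closure ({(x : Equiv.Perm GolayPt), (y : Equiv.Perm GolayPt)} :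
      Set (Equiv.Perm GolayPt)) = Spor.M23 := by
    have := congrArg (Subgroup.map Spor.M23.subtype) hgen
    rwa [MonoidHom.map_closure, ← MonoidHom.range_eq_map, Subgroup.range_subtype, Set.image_pair]
      at this
  have h := Perm.GenusBound.two_mul_le (x : Equiv.Perm GolayPt) y z
    (by rw [← Subgroup.coe_mul, ← Subgroup.coe_mul, hxyz]; rfl) {none, some 0} (fun a => by
      rw [hmap]
      cases a with
      | none => exact ⟨none, by simp, 1, Spor.M23.one_mem, rfl⟩
      | some i =>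
        obtain ⟨g, hg, hgi⟩ := M23_exists_map (k := 1) (by norm_num)
          ⟨fun _ => (some 0 : GolayPt), Function.injective_of_subsingleton _⟩
          ⟨fun _ => (some i : GolayPt), Function.injective_of_subsingleton _⟩ (by simp) (by simp)
        exact ⟨some 0, by simp, g, hg, hgi 0⟩)
  have h24 : Fintype.card GolayPt = 24 := by simp
  rw [h24, Finset.card_pair (by simp)] at h
  omega

/-- The check of a triple. -/
def tripleOK (T : TripleCert) : Bool :=
  mem23 T.x && mem23 T.y &&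
    (isId 24 (packPow 24 T.x T.p) && !isId 24 T.x) &&
    (isId 24 (packPow 24 T.y T.q) && !isId 24 T.y) &&
    (isId 24 (packPow 24 (packMul 24 T.x T.y) T.r) && !isId 24 (packMul 24 T.x T.y)) &&
    slpOK 24 [T.x, T.y] T.slp &&
    gens23.all (fun l => ([T.x, T.y] ++ T.slp.map fun s => s.1).contains l)

theorem triples_ok : triples23.all tripleOK = true := by decide +kernel

theorem of_triple {p q r : ℕ} (hp : p.Prime) (hq : q.Prime) (hr : r.Prime) {T : TripleCert}
    (hT : T ∈ triples23) (e : T.p = p ∧ T.q = q ∧ T.r = r) :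
    ∃ x y z : Spor.M23, orderOf x = p ∧ orderOf y = q ∧ orderOf z = r ∧ x * y * z = 1 ∧
      Subgroup.closure {x, y} = ⊤ := by
  obtain ⟨rfl, rfl, rfl⟩ := e
  have h := List.all_eq_true.1 triples_ok T hT
  simp only [tripleOK, Bool.and_eq_true, Bool.not_eq_eq_eq_not, Bool.not_true] at h
  obtain ⟨⟨⟨⟨⟨⟨hx, hy⟩, hxp⟩, hyq⟩, hzr⟩, hslp⟩, hgens⟩ := h
  have perm : ∀ g, mem23 g = true → permOK 24 g = true := fun g hg =>
    perm_of_mem24 g (by rw [mem23, Bool.and_eq_true] at hg; exact hg.1)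
  obtain ⟨σ, hσ⟩ := exists_rep (e := ptEnc) (perm _ hx)
  obtain ⟨τ, hτ⟩ := exists_rep (e := ptEnc) (perm _ hy)
  have hσm := mem23_sound σ _ hσ hx
  have hτm := mem23_sound τ _ hτ hy
  refine ⟨⟨σ, hσm⟩, ⟨τ, hτm⟩, (⟨σ, hσm⟩ * ⟨τ, hτm⟩)⁻¹, ?_, ?_, ?_, mul_inv_cancel _, ?_⟩
  · rw [← Subgroup.orderOf_coe]; exact orderOf_of_packPow hp hσ hxp.1 hxp.2
  · rw [← Subgroup.orderOf_coe]; exact orderOf_of_packPow hq hτ hyq.1 hyq.2
  · rw [orderOf_inv, ← Subgroup.orderOf_coe, Subgroup.coe_mul]
    exact orderOf_of_packPow hr (rep_packMul hσ hτ) hzr.1 hzr.2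
  · apply Subgroup.map_injective Spor.M23.subtype_injective
    rw [MonoidHom.map_closure, ← MonoidHom.range_eq_map, Subgroup.range_subtype, Set.image_pair]
    refine le_antisymm ((Subgroup.closure_le _).2 ?_) ?_
    · rintro g (rfl | rfl)
      exacts [hσm, hτm]
    · conv_lhs => rw [← M23_cert.1]
      refine genGroup_le fun g l hl hg => ?_
      obtain ⟨g', hg', hrep⟩ := rep_of_slp (e := ptEnc) (H := Subgroup.closure {σ, τ}) [T.x, T.y]
        T.slp
        (fun l hl => by
          rcases List.mem_cons.1 hl with rfl | hl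
          · exact ⟨σ, Subgroup.subset_closure (by simp), hσ⟩
          · rw [List.mem_singleton.1 hl]
            exact ⟨τ, Subgroup.subset_closure (by simp), hτ⟩) hslp l
        (List.mem_append.1 (List.contains_iff_mem.1 (List.all_eq_true.1 hgens l hl)))
      exact hg.unique hrep ▸ hg'

/-- Generation of the Mathieu group M₂₃ (the stabiliser of a point in the Mathieu group M₂₄ acting on 24 points) by triples of prime orders. Let p ≤ q ≤ r be primes dividing |M₂₃| = 10200960 = 2⁷·3²·5·7·11·23, not both p and q equal to 2. Then M₂₃ contains elements x, y, z of orders p, q, r with xyz = 1 and ⟨x, y⟩ = M₂₃ if and only if (p, q, r) is none of: (2, 3, r) for any r, (2, 5, 5), (2, 5, 7), (3, 3, 3), (3, 3, 5), (3, 3, 7). -/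
theorem result (p q r : ℕ) (hp : p.Prime) (hq : q.Prime)
    (hr : r.Prime) (hpq : p ≤ q) (hqr : q ≤ r) (hp2 : ¬ (p = 2 ∧ q = 2))
    (hdvd : p ∣ 10200960 ∧ q ∣ 10200960 ∧ r ∣ 10200960) :
    (∃ x y z : Cfsg.Spor.M23, orderOf x = p ∧ orderOf y = q ∧ orderOf z = r ∧ x * y * z = 1 ∧
        Subgroup.closure {x, y} = ⊤) ↔
      ¬ ((p = 2 ∧ q = 3) ∨ (p = 2 ∧ q = 5 ∧ r = 5) ∨ (p = 2 ∧ q = 5 ∧ r = 7) ∨ (p = 3 ∧ q = 3 ∧ r ≤ 7)) := by
  have hmem : ∀ n : ℕ, n.Prime → n ∣ 10200960 → n ∈ [2, 3, 5, 7, 11, 23] := by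
    intro n hn hd
    rw [show (10200960 : ℕ) = 2 ^ 7 * (3 ^ 2 * (5 * (7 * (11 * 23)))) by norm_num] at hd
    have e := fun (s : ℕ) (hs : Nat.Prime s) (h : n ∣ s) => (Nat.prime_dvd_prime_iff_eq hn hs).1 h
    rcases (Nat.Prime.dvd_mul hn).1 hd with h | h
    · simp [e 2 Nat.prime_two (hn.dvd_of_dvd_pow h)]
    rcases (Nat.Prime.dvd_mul hn).1 h with h | h
    · simp [e 3 Nat.prime_three (hn.dvd_of_dvd_pow h)]
    rcases (Nat.Prime.dvd_mul hn).1 h with h | h
    · simp [e 5 (by norm_num) h]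
    rcases (Nat.Prime.dvd_mul hn).1 h with h | h
    · simp [e 7 (by norm_num) h]
    rcases (Nat.Prime.dvd_mul hn).1 h with h | h
    · simp [e 11 (by norm_num) h]
    · simp [e 23 (by norm_num) h]
  have hpm := hmem p hp hdvd.1
  have hqm := hmem q hq hdvd.2.1
  have hrm := hmem r hr hdvd.2.2
  constructor
  · rintro ⟨x, y, z, hx, hy, hz, hxyz, hgen⟩ hbad
    have hs := index_sum hxyz hgen
    have h1 := index_bound hp hx
    have h2 := index_bound hq hy
    have h3 := index_bound hr hz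
    simp only [List.mem_cons, List.mem_nil_iff, or_false] at hrm
    rcases hrm with rfl | rfl | rfl | rfl | rfl | rfl <;>
      rcases hbad with ⟨rfl, rfl⟩ | ⟨rfl, rfl, hr'⟩ | ⟨rfl, rfl, hr'⟩ | ⟨rfl, rfl, hr'⟩ <;>
      norm_num [fixBound] at h1 h2 h3 <;> omega
  · intro hgood
    have key : ∀ p ∈ [2, 3, 5, 7, 11, 23], ∀ q ∈ [2, 3, 5, 7, 11, 23], ∀ r ∈ [2, 3, 5, 7, 11, 23],
        p ≤ q → q ≤ r → ¬ (p = 2 ∧ q = 2) →
        ¬ ((p = 2 ∧ q = 3) ∨ (p = 2 ∧ q = 5 ∧ r = 5) ∨ (p = 2 ∧ q = 5 ∧ r = 7) ∨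
          (p = 3 ∧ q = 3 ∧ r ≤ 7)) →
        (triples23.any fun T => T.p == p && T.q == q && T.r == r) = true := by decide +kernel
    obtain ⟨T, hT, he⟩ := List.any_eq_true.1 (key p hpm q hqm r hrm hpq hqr hp2 hgood)
    simp only [Bool.and_eq_true, beq_iff_eq] at he
    exact of_triple hp hq hr hT ⟨he.1.1, he.1.2, he.2⟩

end Cfsg.Agent.S5529
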