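import Cfsg.Statements.S5541
-- import your own Cfsg.Agent.* helpers here

set_option autoImplicit false
open Cfsg

namespace Cfsg.Agent.S5541

/-- Let ρ be a representation of a group H on a finite-dimensional real vector space U whose only ρ-invariant subspaces are the zero subspace and U, and suppose U carries a non-zero ρ-invariant symmetric bilinear form. Then the following are equivalent: (1) there is a non-zero ρ-equivariant commutative bilinear product on U of which every ρ-equivariant bilinear product is a scalar multiple; (2) there is a non-zero ρ-invariant trilinear form on U that is symmetric under all permutations of its arguments and of which every ρ-invariant trilinear form is a scalar multiple. -/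
theorem result {H : Type*} [Group H] {U : Type*} [AddCommGroup U] [Module ℝ U] [FiniteDimensional ℝ U] (ρ : Representation ℝ H U) (hirr : ∀ W : Submodule ℝ U, (∀ g : H, W.map (ρ g) ≤ W) → W = ⊥ ∨ W = ⊤) (B : LinearMap.BilinForm ℝ U) (hB0 : B ≠ 0) (hBs : ∀ u v, B u v = B v u) (hBi : ∀ (g : H) (u v : U), B (ρ g u) (ρ g v) = B u v) : (∃ m : U →ₗ[ℝ] U →ₗ[ℝ] U, m ≠ 0 ∧ (∀ u v, m u v = m v u) ∧ (∀ (g : H) (u v : U), m (ρ g u) (ρ g v) = ρ g (m u v)) ∧ ∀ m' : U →ₗ[ℝ] U →ₗ[ℝ] U, (∀ (g : H) (u v : U), m' (ρ g u) (ρ g v) = ρ g (m' u v)) → ∃ c : ℝ, m' = c • m) ↔ (∃ t : U →ₗ[ℝ] U →ₗ[ℝ] U →ₗ[ℝ] ℝ, t ≠ 0 ∧ (∀ u v w, t u v w = t v u w ∧ t u v w = t u w v) ∧ (∀ (g : H) (u v w : U), t (ρ g u) (ρ g v) (ρ g w) = t u v w) ∧ ∀ t' : U →ₗ[ℝ] U →ₗ[ℝ] U →ₗ[ℝ] ℝ, (∀ (g : H) (u v w : U), t' (ρ g u) (ρ g v) (ρ g w) = t' u v w) → ∃ c : ℝ, t' = c • t) := by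
  classical
  have hinv : ∀ (g : H) (v : U), ρ g (ρ g⁻¹ v) = v := by
    intro g v
    rw [← Module.End.mul_apply, ← map_mul, mul_inv_cancel, map_one]; rfl
  have hsurj : ∀ (g : H) (v : U), ∃ w, ρ g w = v := fun g v => ⟨ρ g⁻¹ v, hinv g v⟩
  have hker : ∀ u, B u = 0 → u = 0 := by
    intro u hu
    have hW : LinearMap.ker B = ⊥ ∨ LinearMap.ker B = ⊤ := by
      refine hirr _ fun g => ?_
      rintro _ ⟨w, hw, rfl⟩
      rw [LinearMap.mem_ker]
      ext v
      obtain ⟨v', rfl⟩ := hsurj g v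
      rw [hBi, LinearMap.mem_ker.1 hw]; rfl
    rcases hW with hW | hW
    · have : u ∈ LinearMap.ker B := LinearMap.mem_ker.2 hu
      rw [hW] at this; simpa using this
    · exact absurd (LinearMap.ker_eq_top.1 hW) hB0
  have hinj : Function.Injective B := by
    intro a b h
    exact sub_eq_zero.1 (hker _ (by rw [map_sub, h, sub_self]))
  have hbij : Function.Bijective B :=
    ⟨hinj, (LinearMap.injective_iff_surjective_of_finrank_eq_finrank
      (Subspace.dual_finrank_eq (K := ℝ) (V := U)).symm).1 hinj⟩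
  let e : U ≃ₗ[ℝ] Module.Dual ℝ U := LinearEquiv.ofBijective B hbij
  have he : ∀ u v, e u v = B u v := fun _ _ => rfl
  let Φ : (U →ₗ[ℝ] U →ₗ[ℝ] U) → (U →ₗ[ℝ] U →ₗ[ℝ] U →ₗ[ℝ] ℝ) := fun m => m.compr₂ e.toLinearMap
  let Ψ : (U →ₗ[ℝ] U →ₗ[ℝ] U →ₗ[ℝ] ℝ) → (U →ₗ[ℝ] U →ₗ[ℝ] U) := fun t => t.compr₂ e.symm.toLinearMap
  have hΦ : ∀ m u v w, Φ m u v w = B (m u v) w := fun _ _ _ _ => rfl
  have hΨ : ∀ t u v w, B (Ψ t u v) w = t u v w := by
    intro t u v w
    rw [← he]
    exact congrArg (fun f => f w) (e.apply_symm_apply (t u v))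
  have hΦi : ∀ m, (∀ g u v, m (ρ g u) (ρ g v) = ρ g (m u v)) →
      ∀ g u v w, Φ m (ρ g u) (ρ g v) (ρ g w) = Φ m u v w := by
    intro m hm g u v w
    rw [hΦ, hΦ, hm, hBi]
  have hΨi : ∀ t, (∀ g u v w, t (ρ g u) (ρ g v) (ρ g w) = t u v w) →
      ∀ g u v, Ψ t (ρ g u) (ρ g v) = ρ g (Ψ t u v) := by
    intro t ht g u v
    apply hinj
    ext w
    obtain ⟨w', rfl⟩ := hsurj g w
    rw [hΨ, ht, hBi, hΨ]
  constructor
  · rintro ⟨m, hm0, hms, hmi, hmu⟩
    have huniq : ∀ t', (∀ g u v w, t' (ρ g u) (ρ g v) (ρ g w) = t' u v w) →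
        ∃ c : ℝ, t' = c • Φ m := by
      intro t' ht'
      obtain ⟨c, hc⟩ := hmu (Ψ t') (hΨi t' ht')
      refine ⟨c, ?_⟩
      ext u v w
      rw [← hΨ t' u v w, hc]
      simp [hΦ]
    have ht0 : Φ m ≠ 0 := by
      intro h
      apply hm0
      ext u v
      refine hker _ ?_
      ext w
      rw [← hΦ, h]; rfl
    have h12 : ∀ u v w, Φ m u v w = Φ m v u w := by
      intro u v w; rw [hΦ, hΦ, hms]
    let t' : U →ₗ[ℝ] U →ₗ[ℝ] U →ₗ[ℝ] ℝ :=
      (LinearMap.lflip : (U →ₗ[ℝ] U →ₗ[ℝ] ℝ) ≃ₗ[ℝ] (U →ₗ[ℝ] U →ₗ[ℝ] ℝ)).toLinearMap ∘ₗ Φ m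
    have ht' : ∀ u v w, t' u v w = Φ m u w v := fun _ _ _ => rfl
    obtain ⟨c, hc⟩ := huniq t' (fun g u v w => by rw [ht', ht', hΦi m hmi])
    have hsw : ∀ u v w, Φ m u w v = c * Φ m u v w := by
      intro u v w
      rw [← ht', hc]; rfl
    have hcc : c = 1 ∨ c = -1 := by
      by_contra hcon
      push Not at hcon
      apply ht0
      ext u v w
      have h1 := hsw u v w
      have h2 := hsw u w v
      rw [h1] at h2
      have : (c * c - 1) * Φ m u v w = 0 := by linarith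
      rcases mul_eq_zero.1 this with h | h
      · rcases mul_eq_zero.1 (show (c - 1) * (c + 1) = 0 by linarith) with h | h
        · exact absurd (by linarith : c = 1) hcon.1
        · exact absurd (by linarith : c = -1) hcon.2
      · simpa using h
    have hc1 : c = 1 := by
      rcases hcc with rfl | rfl
      · rfl
      · exfalso
        apply ht0
        ext u v w
        have a1 := hsw u v w
        have a2 := hsw w v u
        have a3 := hsw v u w
        have b1 := h12 u v w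
        have b2 := h12 u w v
        have b3 := h12 v w u
        show Φ m u v w = 0
        linarith
    refine ⟨Φ m, ht0, fun u v w => ⟨h12 u v w, ?_⟩, hΦi m hmi, huniq⟩
    rw [hsw, hc1, one_mul]
  · rintro ⟨t, ht0, hts, hti, htu⟩
    refine ⟨Ψ t, ?_, ?_, hΨi t hti, ?_⟩
    · intro h
      apply ht0
      ext u v w
      rw [← hΨ t u v w, h]; simp
    · intro u v
      apply hinj
      ext w
      rw [hΨ, hΨ, (hts u v w).1]
    · intro m' hm'
      obtain ⟨c, hc⟩ := htu (Φ m') (hΦi m' hm')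
      refine ⟨c, ?_⟩
      ext u v
      apply hinj
      ext w
      rw [← hΦ m' u v w, hc]
      simp [hΨ]

end Cfsg.Agent.S5541
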