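import Cfsg.Statements.S5543
-- import your own Cfsg.Agent.* helpers here

set_option autoImplicit false
open Cfsg Cfsg.Axial

namespace Cfsg.Agent.S5543

/-- Let V be a finite-dimensional real vector space with a commutative bilinear product and a positive-definite symmetric bilinear form that associates with the product and satisfies the Norton inequality (the Majorana setting of the definitions). Let X be a group of linear automorphisms of V in which every element squares to the identity, and suppose every non-identity element x of X is a Majorana involution with an axial vector a(x) of squared length 1, such that for any two distinct non-identity x, y the product a(x) ∘ a(y) equals (1/8)(a(x) + a(y) − a(xy)) (the dihedral subalgebra of type 2A whose third axis belongs to the involution xy). Then X has order at most 4. -/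
theorem result {V : Type*} [AddCommGroup V] [Module ℝ V] [FiniteDimensional ℝ V] (mul : V →ₗ[ℝ] V →ₗ[ℝ] V) (B : LinearMap.BilinForm ℝ V) (hV : Cfsg.Axial.IsMajoranaAmbient mul B) (X : Subgroup (V ≃ₗ[ℝ] V)) (hX : ∀ x ∈ X, x * x = 1) (ax : (V ≃ₗ[ℝ] V) → V) (hax : ∀ x ∈ X, x ≠ 1 → Cfsg.Axial.IsMajoranaPair mul B x (ax x)) (h1 : ∀ x ∈ X, x ≠ 1 → B (ax x) (ax x) = 1) (h2A : ∀ x ∈ X, ∀ y ∈ X, x ≠ 1 → y ≠ 1 → x ≠ y → mul (ax x) (ax y) = (1 / 8 : ℝ) • (ax x + ax y - ax (x * y))) : Nat.card ↥X ≤ 4 := by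
  classical
  by_contra hcon
  push Not at hcon
  haveI : Finite X := Nat.finite_of_card_ne_zero (by omega)
  have hex : ∀ S : Finset (V ≃ₗ[ℝ] V), S.card ≤ 4 → ∃ z ∈ X, z ∉ S := by
    intro S hS
    by_contra h
    push Not at h
    have : Nat.card X ≤ S.card := by
      have := Nat.card_le_card_of_injective (α := X) (β := {e // e ∈ S})
        (fun z => ⟨z.1, h z.1 z.2⟩) (fun a b hab => Subtype.ext (congrArg (fun t : {e // e ∈ S} => t.1) hab))
      simpa using this
    omega
  obtain ⟨x, hxX, hxS⟩ := hex {1} (by simp)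
  obtain ⟨y, hyX, hyS⟩ := hex {1, x} (Finset.card_le_two.trans (by norm_num))
  obtain ⟨z, hzX, hzS⟩ := hex {1, x, y, x * y} Finset.card_le_four
  simp only [Finset.mem_singleton, Finset.mem_insert, not_or] at hxS hyS hzS
  have hinvX : ∀ p ∈ X, p⁻¹ = p := fun p hp => inv_eq_of_mul_eq_one_right (hX p hp)
  have hcomm : ∀ p ∈ X, ∀ q ∈ X, p * q = q * p := by
    intro p hp q hq
    rw [← hinvX _ (X.mul_mem hp hq), mul_inv_rev, hinvX p hp, hinvX q hq]
  have hcancel : ∀ p ∈ X, ∀ q : V ≃ₗ[ℝ] V, p * (p * q) = q := by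
    intro p hp q; rw [← mul_assoc, hX p hp, one_mul]
  have hxy1 : x * y ≠ 1 := fun h => hyS.2 (by rw [← hcancel x hxX y, h, mul_one])
  have hxz1 : x * z ≠ 1 := fun h => hzS.2.1 (by rw [← hcancel x hxX z, h, mul_one])
  have hyz1 : y * z ≠ 1 := fun h => hzS.2.2.1 (by rw [← hcancel y hyX z, h, mul_one])
  have hxne : ∀ p, x ≠ x * p ↔ p ≠ 1 := by
    intro p; rw [ne_eq, ne_eq, left_eq_mul]
  have hyxy : y ≠ x * y := fun h => hxS (right_eq_mul.1 h)
  have hzxz : z ≠ x * z := fun h => hxS (right_eq_mul.1 h)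
  have hxyz1 : x * (y * z) ≠ 1 := by
    intro h
    apply hzS.2.2.2
    have h2 : y * z = x := by rw [← hcancel x hxX (y * z), h, mul_one]
    rw [← hcancel y hyX z, h2, hcomm y hyX x hxX]
  -- products
  have hyzX := X.mul_mem hyX hzX
  have hxyX := X.mul_mem hxX hyX
  have hxzX := X.mul_mem hxX hzX
  have hxyzX := X.mul_mem hxX hyzX
  have hA : IsPrimitiveAxis mul (monsterLaw (1 / 4) (1 / 32)) majoranaSpectrum (ax x) := (hax x hxX hxS).2.2.1
  have hv : ∀ q ∈ X, q ≠ 1 → x * q ≠ 1 → x ≠ q →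
      mul (ax x) (ax q - ax (x * q)) = (1 / 4 : ℝ) • (ax q - ax (x * q)) := by
    intro q hq hq1 hxq1 hxq
    rw [map_sub, h2A x hxX q hq hxS hq1 hxq,
      h2A x hxX _ (X.mul_mem hxX hq) hxS hxq1 ((hxne q).2 hq1), hcancel x hxX q]
    module
  have m1 : mul (ax y) (ax z) = (1 / 8 : ℝ) • (ax y + ax z - ax (y * z)) :=
    h2A y hyX z hzX hyS.1 hzS.1 (Ne.symm hzS.2.2.1)
  have m2 : mul (ax y) (ax (x * z)) = (1 / 8 : ℝ) • (ax y + ax (x * z) - ax (x * (y * z))) := by
    rw [h2A y hyX _ hxzX hyS.1 hxz1]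
    · rw [← mul_assoc, hcomm y hyX x hxX, mul_assoc]
    · intro h; exact hzS.2.2.2 (by rw [h, hcancel x hxX])
  have m3 : mul (ax (x * y)) (ax z) = (1 / 8 : ℝ) • (ax (x * y) + ax z - ax (x * (y * z))) := by
    rw [h2A _ hxyX z hzX hxy1 hzS.1 (Ne.symm hzS.2.2.2), mul_assoc]
  have m4 : mul (ax (x * y)) (ax (x * z)) = (1 / 8 : ℝ) • (ax (x * y) + ax (x * z) - ax (y * z)) := by
    rw [h2A _ hxyX _ hxzX hxy1 hxz1 (fun h => hzS.2.2.1 (mul_left_cancel h).symm), hcomm x hxX y hyX,
      mul_assoc, hcancel x hxX]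
  have hu : mul (ax y - ax (x * y)) (ax z - ax (x * z)) = (-(1 / 4) : ℝ) • (ax (y * z) - ax (x * (y * z))) := by
    rw [map_sub, map_sub, LinearMap.sub_apply, LinearMap.sub_apply, m1, m2, m3, m4]
    module
  have hxyz : x ≠ y * z := fun h => hxyz1 (by rw [← h]; exact hX x hxX)
  have hmem : mul (ax y - ax (x * y)) (ax z - ax (x * z)) ∈ eigenSum mul (ax x) ({1, 0} : Set ℝ) := by
    have h := hA.1.2.2.2 (1 / 4) (by simp [majoranaSpectrum]) (1 / 4) (by simp [majoranaSpectrum])
      (ax y - ax (x * y)) (Module.End.mem_eigenspace_iff.2 (hv y hyX hyS.1 hxy1 (Ne.symm hyS.2)))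
      (ax z - ax (x * z)) (Module.End.mem_eigenspace_iff.2 (hv z hzX hzS.1 hxz1 (Ne.symm hzS.2.1)))
    rwa [show monsterLaw (1 / 4 : ℝ) (1 / 32) (1 / 4) (1 / 4) = {1, 0} by norm_num [monsterLaw]] at h
  have hD : ax (y * z) = ax (x * (y * z)) := by
    rw [hu] at hmem
    set D := ax (y * z) - ax (x * (y * z)) with hD
    have hq : mul (ax x) D = (1 / 4 : ℝ) • D := hv (y * z) hyzX hyz1 hxyz1 hxyz
    rw [show eigenSum mul (ax x) ({1, 0} : Set ℝ) = eigen mul (ax x) 1 ⊔ eigen mul (ax x) 0 by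
      rw [eigenSum, iSup_insert, iSup_singleton]] at hmem
    obtain ⟨p, hp, q, hq0, hpq⟩ := Submodule.mem_sup.1 hmem
    have hp' := Module.End.mem_eigenspace_iff.1 hp
    have hq' := Module.End.mem_eigenspace_iff.1 hq0
    have e1 := congrArg (mul (ax x)) hpq
    rw [map_add, hp', hq', map_smul, hq, one_smul, zero_smul, add_zero] at e1
    have e2 := congrArg (mul (ax x)) e1
    rw [hp', map_smul, map_smul, hq, one_smul, e1] at e2
    have e3 : (3 / 64 : ℝ) • D = 0 := by
      have e4 := sub_eq_zero.2 e2.symm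
      rw [← e4]; module
    rw [smul_eq_zero] at e3
    exact sub_eq_zero.1 (e3.resolve_left (by norm_num))
  have hne : y * z ≠ x * (y * z) := fun h => hxS (right_eq_mul.1 h)
  have hp := h2A _ hyzX _ hxyzX hyz1 hxyz1 hne
  rw [show (y * z) * (x * (y * z)) = x by
    rw [← mul_assoc, hcomm _ hyzX x hxX, mul_assoc, hX _ hyzX, mul_one], ← hD,
    (hax _ hyzX hyz1).2.2.1.1.2.1] at hp
  have h6 : ax x = (-6 : ℝ) • ax (y * z) := by
    linear_combination (norm := module) (8 : ℝ) • hp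
  have := h1 x hxX hxS
  rw [h6] at this
  simp only [map_smul, LinearMap.smul_apply, smul_eq_mul, h1 _ hyzX hyz1] at this
  norm_num at this

end Cfsg.Agent.S5543
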