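import Cfsg.Statements.S5544
-- Sakuma's theorem: two polynomial equations in the inner products of a dihedral algebra.

set_option autoImplicit false
set_option maxHeartbeats 1000000
open Cfsg Cfsg.Axial

namespace Cfsg.Agent.S5544

variable {V : Type*} [AddCommGroup V] [Module ℝ V] {mul : V →ₗ[ℝ] V →ₗ[ℝ] V}
  {B : LinearMap.BilinForm ℝ V}

/-- An automorphism of the product and of the form. -/
def Auto (mul : V →ₗ[ℝ] V →ₗ[ℝ] V) (B : LinearMap.BilinForm ℝ V) (g : V ≃ₗ[ℝ] V) : Prop :=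
  (∀ u v, g (mul u v) = mul (g u) (g v)) ∧ ∀ u v, B (g u) (g v) = B u v

/-- An axis of length one with its involution. -/
structure Ax (mul : V →ₗ[ℝ] V →ₗ[ℝ] V) (B : LinearMap.BilinForm ℝ V) (μ : V ≃ₗ[ℝ] V) (a : V) : Prop where
  pair : IsMajoranaPair mul B μ a
  norm : B a a = 1

/-- The shifted product of two axes. -/
noncomputable def sig (mul : V →ₗ[ℝ] V →ₗ[ℝ] V) (a b : V) : V := mul a b - (1 / 32 : ℝ) • (a + b)

theorem sig_comm (hV : IsMajoranaAmbient mul B) (a b : V) : sig mul a b = sig mul b a := by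
  rw [sig, sig, hV.1 a b, add_comm]

theorem mul_eq_sig (a b : V) : mul a b = sig mul a b + (1 / 32 : ℝ) • (a + b) := by
  rw [sig, sub_add_cancel]

namespace Ax

variable {μ ν : V ≃ₗ[ℝ] V} {a b : V}

theorem auto (h : Ax mul B μ a) : Auto mul B μ := ⟨h.pair.1, h.pair.2.1⟩

theorem idem (h : Ax mul B μ a) : mul a a = a := h.pair.2.2.1.1.2.1

theorem mem_plus (h : Ax mul B μ a) {c : ℝ} (hc : c ∈ ({1, 0, 1 / 4} : Set ℝ)) {v : V}
    (hv : v ∈ eigen mul a c) : μ v = v :=
  h.pair.2.2.2.1 v ((le_iSup₂_of_le c hc le_rfl : eigen mul a c ≤ eigenSum mul a {1, 0, 1 / 4}) hv)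

theorem fix (h : Ax mul B μ a) : μ a = a :=
  h.mem_plus (c := 1) (by simp) (Module.End.mem_eigenspace_iff.2 (by rw [h.idem, one_smul]))

/-- Two linear maps agreeing on all four eigenspaces agree. -/
theorem ext_maps (h : Ax mul B μ a) {f g : V →ₗ[ℝ] V}
    (hfg : ∀ c ∈ majoranaSpectrum, ∀ v ∈ eigen mul a c, f v = g v) : f = g := by
  ext v
  have hle : eigenSum mul a majoranaSpectrum ≤ LinearMap.eqLocus f g :=
    iSup₂_le fun c hc w hw => hfg c hc w hw
  exact hle (h.pair.2.2.1.1.2.2.1 ▸ Submodule.mem_top)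

theorem eq_inv (h : Ax mul B μ a) (h' : Ax mul B ν a) : μ = ν := by
  apply LinearEquiv.toLinearMap_injective
  refine h.ext_maps fun c hc v hv => ?_
  show μ v = ν v
  by_cases hc' : c = 1 / 32
  · subst hc'
    exact (h.pair.2.2.2.2 v hv).trans (h'.pair.2.2.2.2 v hv).symm
  · have hc3 : c ∈ ({1, 0, 1 / 4} : Set ℝ) := by
      simp only [majoranaSpectrum, Set.mem_insert_iff, Set.mem_singleton_iff] at hc ⊢
      rcases hc with h | h | h | h
      exacts [Or.inl h, Or.inr (Or.inl h), Or.inr (Or.inr h), absurd h hc']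
    rw [h.mem_plus hc3 hv, h'.mem_plus hc3 hv]

theorem invol (h : Ax mul B μ a) (v : V) : μ (μ v) = v := by
  have e : (μ : V →ₗ[ℝ] V).comp (μ : V →ₗ[ℝ] V) = LinearMap.id := by
    refine h.ext_maps fun c hc w hw => ?_
    show μ (μ w) = w
    by_cases hc' : c = 1 / 32
    · subst hc'
      have hw' : μ w = -w := h.pair.2.2.2.2 w hw
      rw [hw', map_neg, hw', neg_neg]
    · have hc3 : c ∈ ({1, 0, 1 / 4} : Set ℝ) := by
        simp only [majoranaSpectrum, Set.mem_insert_iff, Set.mem_singleton_iff] at hc ⊢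
        rcases hc with h | h | h | h
        exacts [Or.inl h, Or.inr (Or.inl h), Or.inr (Or.inr h), absurd h hc']
      rw [h.mem_plus hc3 hw, h.mem_plus hc3 hw]
  exact LinearMap.congr_fun e v

theorem sq (h : Ax mul B μ a) : μ * μ = 1 := LinearEquiv.ext h.invol

theorem inv_eq (h : Ax mul B μ a) : μ⁻¹ = μ := inv_eq_of_mul_eq_one_right h.sq

theorem map {g : V ≃ₗ[ℝ] V} (hg : Auto mul B g) (h : Ax mul B μ a) : Ax mul B (g * μ * g⁻¹) (g a) := by
  obtain ⟨⟨hm', hB', ⟨⟨hb0, hbb, htop, hlaw⟩, hone⟩, hf, hneg⟩, hn⟩ := h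
  obtain ⟨hm, hB⟩ := hg
  have heig : ∀ c, eigen mul (g a) c = (eigen mul a c).map g.toLinearMap := by
    intro c
    ext v
    obtain ⟨v, rfl⟩ := g.surjective v
    rw [eigen, eigen, Module.End.mem_eigenspace_iff, ← hm, ← map_smul, g.injective.eq_iff]
    constructor
    · exact fun h => ⟨v, Module.End.mem_eigenspace_iff.2 h, rfl⟩
    · rintro ⟨v', hv', hvv⟩
      rw [← g.injective hvv]
      exact Module.End.mem_eigenspace_iff.1 hv'
  have hsum : ∀ S, eigenSum mul (g a) S = (eigenSum mul a S).map g.toLinearMap := by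
    intro S
    simp only [eigenSum, Submodule.map_iSup, heig]
  have hgi : ∀ v, g⁻¹ (g v) = v := fun v => g.symm_apply_apply v
  have hgi' : ∀ v, g (g⁻¹ v) = v := fun v => g.apply_symm_apply v
  refine ⟨⟨?_, ?_, ⟨⟨?_, ?_, ?_, ?_⟩, ?_⟩, ?_, ?_⟩, ?_⟩
  · intro u v
    obtain ⟨u, rfl⟩ := g.surjective u
    obtain ⟨v, rfl⟩ := g.surjective v
    show g (μ (g⁻¹ (mul (g u) (g v)))) = mul (g (μ (g⁻¹ (g u)))) (g (μ (g⁻¹ (g v))))
    rw [← hm u v, hgi, hgi, hgi, hm', hm]
  · intro u v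
    show B (g (μ (g⁻¹ u))) (g (μ (g⁻¹ v))) = B u v
    rw [hB, hB', ← hB (g⁻¹ u), hgi', hgi']
  · exact fun h => hb0 (g.map_eq_zero_iff.1 h)
  · rw [← hm, hbb]
  · rw [hsum, htop, Submodule.map_top]
    exact LinearMap.range_eq_top.2 g.surjective
  · intro c hc d hd x hx y hy
    rw [heig] at hx hy
    obtain ⟨x, hx, rfl⟩ := hx
    obtain ⟨y, hy, rfl⟩ := hy
    rw [hsum]
    exact ⟨_, hlaw c hc d hd x hx y hy, hm x y⟩
  · rw [heig, hone, Submodule.map_span, Set.image_singleton]; rfl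
  · intro v hv
    rw [hsum] at hv
    obtain ⟨v, hv, rfl⟩ := hv
    show g (μ (g⁻¹ (g v))) = g v
    rw [hgi]; exact congrArg g (hf v hv)
  · intro v hv
    rw [heig] at hv
    obtain ⟨v, hv, rfl⟩ := hv
    show g (μ (g⁻¹ (g v))) = -g v
    rw [hgi, ← map_neg]; exact congrArg g (hneg v hv)
  · rw [hB, hn]

variable (hV : IsMajoranaAmbient mul B)
include hV

theorem eigen_one_coeff (h : Ax mul B μ a) {c : ℝ} (hc : c ≠ 1) {z : V} (hz : mul a z = c • z) :
    B a z = 0 := by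
  have e := hV.2.2.2.1 a a z
  rw [h.idem, hz, map_smul, smul_eq_mul] at e
  have : (c - 1) * B a z = 0 := by linarith
  exact (mul_eq_zero.1 this).resolve_left (sub_ne_zero.2 hc)

/-- The decomposition of a vector, and the norms of its `1/4`-part. -/
theorem parts (h : Ax mul B μ a) (b : V) :
    ∃ u w v : V, b = B a b • a + u + w + v ∧ μ b = B a b • a + u + w - v ∧ mul a u = 0 ∧
      mul a w = (1 / 4 : ℝ) • w ∧ mul a v = (1 / 32 : ℝ) • v ∧ mul a (mul u u) = 0 ∧
      mul a (mul u w) = (1 / 4 : ℝ) • mul u w ∧ mul a (mul w w) = ((1 / 4 : ℝ) * B w w) • a := by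
  obtain ⟨-, -, ⟨⟨ha0, haa, htop, hlaw⟩, h1⟩, -, hneg⟩ := h.pair
  have hb : b ∈ eigenSum mul a majoranaSpectrum := htop ▸ Submodule.mem_top
  rw [eigenSum, majoranaSpectrum, iSup_insert, iSup_insert, iSup_insert, iSup_singleton, h1] at hb
  obtain ⟨p, hp, r, hr, rfl⟩ := Submodule.mem_sup.1 hb
  obtain ⟨u, hu, r, hr', rfl⟩ := Submodule.mem_sup.1 hr
  obtain ⟨w, hw, v, hv, rfl⟩ := Submodule.mem_sup.1 hr'
  obtain ⟨c, rfl⟩ := Submodule.mem_span_singleton.1 hp
  have hu' : mul a u = 0 := by simpa using Module.End.mem_eigenspace_iff.1 hu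
  have hw' : mul a w = (1 / 4 : ℝ) • w := Module.End.mem_eigenspace_iff.1 hw
  have hv' : mul a v = (1 / 32 : ℝ) • v := Module.End.mem_eigenspace_iff.1 hv
  have hau : B a u = 0 := h.eigen_one_coeff hV (c := 0) zero_ne_one (by rw [hu', zero_smul])
  have haw : B a w = 0 := h.eigen_one_coeff hV (by norm_num) hw'
  have hav : B a v = 0 := h.eigen_one_coeff hV (by norm_num) hv'
  have hc : B a (c • a + (u + (w + v))) = c := by simp [h.norm, hau, haw, hav]
  have m0 : (0 : ℝ) ∈ majoranaSpectrum := by simp [majoranaSpectrum]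
  have m4 : (1 / 4 : ℝ) ∈ majoranaSpectrum := by simp [majoranaSpectrum]
  have l00 : monsterLaw (1 / 4 : ℝ) (1 / 32) 0 0 = {0} := by simp [monsterLaw]
  have l04 : monsterLaw (1 / 4 : ℝ) (1 / 32) 0 (1 / 4) = {1 / 4} := by norm_num [monsterLaw]
  have l44 : monsterLaw (1 / 4 : ℝ) (1 / 32) (1 / 4) (1 / 4) = {1, 0} := by norm_num [monsterLaw]
  refine ⟨u, w, v, ?_, ?_, hu', hw', hv', ?_, ?_, ?_⟩
  · rw [hc]; module
  · rw [hc, map_add, map_add, map_add, map_smul, h.fix, h.mem_plus (by simp) hu,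
      h.mem_plus (by simp) hw, show μ v = -v from hneg v hv]
    module
  · have e := hlaw 0 m0 0 m0 u hu u hu
    rw [l00, eigenSum, iSup_singleton] at e
    simpa using Module.End.mem_eigenspace_iff.1 e
  · have e := hlaw 0 m0 _ m4 u hu w hw
    rw [l04, eigenSum, iSup_singleton] at e
    exact Module.End.mem_eigenspace_iff.1 e
  · have e := hlaw _ m4 _ m4 w hw w hw
    rw [l44, eigenSum, iSup_insert, iSup_singleton, h1] at e
    obtain ⟨p, hp, z, hz, hpz⟩ := Submodule.mem_sup.1 e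
    obtain ⟨t, rfl⟩ := Submodule.mem_span_singleton.1 hp
    have hz' : mul a z = 0 := by simpa using Module.End.mem_eigenspace_iff.1 hz
    have haz : B a z = 0 := h.eigen_one_coeff hV (c := 0) zero_ne_one (by rw [hz', zero_smul])
    have e1 : B a (mul w w) = (1 / 4 : ℝ) * B w w := by
      rw [hV.2.2.2.1, hw', map_smul, LinearMap.smul_apply, smul_eq_mul]
    rw [← hpz, map_add, map_smul, h.norm, haz, smul_eq_mul, mul_one, add_zero] at e1
    rw [← hpz, map_add, map_smul, haa, hz', add_zero, e1]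

/-- `sig` does not see the involution. -/
theorem sig_map (h : Ax mul B μ a) (b : V) : sig mul a (μ b) = sig mul a b := by
  obtain ⟨u, w, v, hb, hb', hu, hw, hv, -, -, -⟩ := h.parts hV b
  generalize μ b = b' at hb'
  generalize B a b = φ at hb hb'
  subst hb hb'
  simp only [sig, map_add, map_sub, map_smul, h.idem, hu, hw, hv]
  module

theorem map_sig_self (h : Ax mul B μ a) (b : V) : μ (sig mul a b) = sig mul a b := by
  have e : μ (sig mul a b) = sig mul a (μ b) := by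
    rw [sig, sig, map_sub, map_smul, map_add, h.auto.1, h.fix]
  rw [e, h.sig_map hV b]

theorem map_sig_swap (h : Ax mul B μ a) (b : V) : μ (sig mul b (μ b)) = sig mul b (μ b) := by
  rw [sig, map_sub, map_smul, map_add, h.auto.1, h.invol, hV.1 (μ b) b, add_comm]

/-- The parts in terms of `a`, `b`, its image and `sig`. -/
theorem parts_eq (h : Ax mul B μ a) {b : V} {φ : ℝ} {u w v : V} (hb : b = φ • a + u + w + v)
    (hb' : μ b = φ • a + u + w - v) (hu : mul a u = 0) (hw : mul a w = (1 / 4 : ℝ) • w)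
    (hv : mul a v = (1 / 32 : ℝ) • v) :
    u = ((24 * φ - 1) / 8) • a + (7 / 16 : ℝ) • (b + μ b) - (4 : ℝ) • sig mul a b ∧
    w = (-(32 * φ - 1) / 8) • a + (1 / 16 : ℝ) • (b + μ b) + (4 : ℝ) • sig mul a b := by
  rw [hb']
  subst hb
  constructor <;>
  · simp only [sig, map_add, map_smul, h.idem, hu, hw, hv]
    module

theorem mul_sig (h : Ax mul B μ a) (b : V) :
    mul a (sig mul a b) =
      ((768 * B a b - 25) / 1024) • a + (7 / 2048 : ℝ) • (b + μ b) + (7 / 32 : ℝ) • sig mul a b := by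
  obtain ⟨u, w, v, hb, hb', hu, hw, hv, -, -, -⟩ := h.parts hV b
  generalize μ b = b' at hb'
  generalize B a b = φ at hb hb'
  subst hb hb'
  simp only [sig, map_add, map_sub, map_smul, h.idem, hu, hw, hv, map_zero]
  module

/-- The product of `a` with `sig b (μ b)` and the square of `sig a b`. -/
theorem key (h : Ax mul B μ a) (k : Ax mul B ν b) :
    mul a (sig mul b (μ b)) =
        (-32 / 3 * B a b ^ 2 + 5 / 3 * B a b - 1 / 24 * B b (μ b) - 127 / 3072) • a
          + (32 / 3 * B a b - 19 / 48) • sig mul a b + (1 / 6 * B a b - 19 / 3072) • (b + μ b)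
          + (7 / 96 : ℝ) • sig mul a (ν a) + (7 / 6144 : ℝ) • (ν a + μ (ν a)) ∧
    mul (sig mul a b) (sig mul a b) =
        (7 / 6 * B a b ^ 2 - 7 / 384 * B a b + 7 / 1536 * B b (μ b) - 7 / 98304) • a
          + (-5 / 12 * B a b - 13 / 1536) • sig mul a b
          + (49 / 768 * B a b - 245 / 196608) • (b + μ b)
          + (-7 / 1536 : ℝ) • sig mul a (ν a) + (49 / 196608 : ℝ) • (ν a + μ (ν a))
          + (7 / 2048 : ℝ) • sig mul b (μ b) := by
  obtain ⟨u, w, v, hb, hb', hu, hw, hv, huu, huw, hww⟩ := h.parts hV b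
  obtain ⟨eu, ew⟩ := h.parts_eq hV hb hb' hu hw hv
  -- the norm of the 1/4-part
  have hz0 : ∀ c : ℝ, c ≠ 1 → ∀ z, mul a z = c • z → B a z = 0 := fun c hc z hz =>
    h.eigen_one_coeff hV hc hz
  have hsym := hV.2.1
  have hau : B a u = 0 := hz0 0 zero_ne_one u (by rw [hu, zero_smul])
  have haw : B a w = 0 := hz0 _ (by norm_num) w hw
  have hav : B a v = 0 := hz0 _ (by norm_num) v hv
  have huw0 : B u w = 0 := by
    have e := hV.2.2.2.1 u a w
    rw [hV.1 u a, hu, hw, map_smul, map_zero, LinearMap.zero_apply, smul_eq_mul] at e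
    linarith
  have huv0 : B u v = 0 := by
    have e := hV.2.2.2.1 u a v
    rw [hV.1 u a, hu, hv, map_smul, map_zero, LinearMap.zero_apply, smul_eq_mul] at e
    linarith
  have hwv0 : B w v = 0 := by
    have e := hV.2.2.2.1 w a v
    rw [hV.1 w a, hw, hv, map_smul, map_smul, LinearMap.smul_apply, smul_eq_mul, smul_eq_mul] at e
    linarith
  have hc : (1 / 4 : ℝ) * B w w = B a b - B a b ^ 2 - (1 - B b (μ b)) / 64 := by
    have e1 : B (mul a b) b = B a b := by rw [← hV.2.2.2.1, k.idem]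
    have e2 := k.norm
    rw [hb']
    generalize B a b = φ at hb hb' e1 ⊢
    subst hb
    simp only [map_add, map_sub, map_smul, LinearMap.add_apply, LinearMap.smul_apply, h.idem, hu, hw,
      hv, map_zero, LinearMap.zero_apply, smul_eq_mul, h.norm, hau, haw, hav, huw0, huv0, hwv0,
      hsym u a, hsym w a, hsym v a, hsym w u, hsym v u, hsym v w] at e1 e2 ⊢
    linear_combination e1 - (1 / 64 : ℝ) * e2
  rw [hc] at hww
  -- products of the atoms
  have pab : mul a b = sig mul a b + (1 / 32 : ℝ) • (a + b) := mul_eq_sig a b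
  have pab' : mul a (μ b) = sig mul a b + (1 / 32 : ℝ) • (a + μ b) := by
    rw [mul_eq_sig a (μ b), h.sig_map hV b]
  have pba : mul b a = mul a b := hV.1 b a
  have pb'a : mul (μ b) a = mul a (μ b) := hV.1 _ a
  have pbb : mul b b = b := k.idem
  have pb'b' : mul (μ b) (μ b) = μ b := by rw [← h.auto.1, k.idem]
  have pbb' : mul b (μ b) = sig mul b (μ b) + (1 / 32 : ℝ) • (b + μ b) := mul_eq_sig _ _
  have pb'b : mul (μ b) b = mul b (μ b) := hV.1 _ b
  have pas := h.mul_sig hV b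
  have pbs : mul b (sig mul a b) = ((768 * B a b - 25) / 1024) • b + (7 / 2048 : ℝ) • (a + ν a)
      + (7 / 32 : ℝ) • sig mul a b := by
    have e := k.mul_sig hV a
    rwa [sig_comm hV b a, hsym b a] at e
  have pb's : mul (μ b) (sig mul a b) = ((768 * B a b - 25) / 1024) • μ b
      + (7 / 2048 : ℝ) • (a + μ (ν a)) + (7 / 32 : ℝ) • sig mul a b := by
    have e := congrArg μ pbs
    rwa [h.auto.1, h.map_sig_self hV b, map_add, map_add, map_smul, map_smul, map_smul, map_add,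
      h.fix, h.map_sig_self hV b] at e
  have psa : mul (sig mul a b) a = mul a (sig mul a b) := hV.1 _ a
  have psb : mul (sig mul a b) b = mul b (sig mul a b) := hV.1 _ b
  have psb' : mul (sig mul a b) (μ b) = mul (μ b) (sig mul a b) := hV.1 _ _
  have pa2 : mul a (ν a) = sig mul a (ν a) + (1 / 32 : ℝ) • (a + ν a) := mul_eq_sig _ _
  have pa2' : mul a (μ (ν a)) = sig mul a (ν a) + (1 / 32 : ℝ) • (a + μ (ν a)) := by
    rw [mul_eq_sig a (μ (ν a)), h.sig_map hV (ν a)]
  simp only [eu, ew, map_add, map_sub, map_smul, LinearMap.add_apply, LinearMap.sub_apply,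
    LinearMap.smul_apply, h.idem, psa, psb, psb', pba, pb'a, pb'b, pab, pab', pbb, pb'b', pbb', pas,
    pbs, pb's, pa2, pa2'] at huu huw hww
  have first : mul a (sig mul b (μ b)) =
      (-32 / 3 * B a b ^ 2 + 5 / 3 * B a b - 1 / 24 * B b (μ b) - 127 / 3072) • a
        + (32 / 3 * B a b - 19 / 48) • sig mul a b + (1 / 6 * B a b - 19 / 3072) • (b + μ b)
        + (7 / 96 : ℝ) • sig mul a (ν a) + (7 / 6144 : ℝ) • (ν a + μ (ν a)) := by
    linear_combination (norm := module) (8 / 3 : ℝ) • huu - (8 / 3 : ℝ) • hww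
  refine ⟨first, ?_⟩
  linear_combination (norm := module) (1 / 4 : ℝ) • huu + (1 / 4 : ℝ) • huw - (7 / 64 : ℝ) • first

/-- The inner products of `sig`. -/
theorem sig_inner (a b c : V) : B (sig mul a b) c = B b (mul a c) - (1 / 32) * (B a c + B b c) := by
  rw [sig, map_sub, LinearMap.sub_apply, map_smul, LinearMap.smul_apply, map_add,
    LinearMap.add_apply, smul_eq_mul, hV.1 a b, ← hV.2.2.2.1 b a c]

theorem sig_self (h : Ax mul B μ a) (b : V) : B (sig mul a b) a = (31 * B a b - 1) / 32 := by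
  rw [sig_inner hV, h.idem, hV.2.1 b a, h.norm]; ring

theorem eq_of_inner (h : Ax mul B μ a) (k : Ax mul B ν b) (e : B a b = 1) : a = b := by
  by_contra hne
  have h0 := hV.2.2.1 (a - b) (sub_ne_zero.2 hne)
  simp only [map_sub, LinearMap.sub_apply, h.norm, k.norm, hV.2.1 b a, e] at h0
  linarith

theorem inner_nonneg (h : Ax mul B μ a) (k : Ax mul B ν b) : 0 ≤ B a b := by
  have h1 := hV.2.2.2.2 a b
  rw [h.idem, k.idem] at h1
  by_cases h0 : mul a b = 0
  · simpa [h0] using h1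
  · exact (hV.2.2.1 _ h0).le.trans h1

end Ax

/-- Let V be a finite-dimensional real vector space with a commutative bilinear product and a positive-definite symmetric bilinear form that associates with the product and satisfies the Norton inequality (the Majorana setting of the definitions). Let μ₀ and μ₁ be Majorana involutions with axial vectors a₀ and a₁ of squared length 1, each involution having no other axial vector. Then the product μ₀μ₁ has order at most 6: some power (μ₀μ₁)^n with 1 ≤ n ≤ 6 is the identity (so the two involutions generate a dihedral group of order at most 12). This is the 6-transposition property of Majorana involutions. -/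
theorem result {V : Type*} [AddCommGroup V] [Module ℝ V] [FiniteDimensional ℝ V] (mul : V →ₗ[ℝ] V →ₗ[ℝ] V) (B : LinearMap.BilinForm ℝ V) (hV : Cfsg.Axial.IsMajoranaAmbient mul B) (μ₀ μ₁ : V ≃ₗ[ℝ] V) (a₀ a₁ : V) (h₀ : Cfsg.Axial.IsMajoranaPair mul B μ₀ a₀) (h₁ : Cfsg.Axial.IsMajoranaPair mul B μ₁ a₁) (hu₀ : ∀ a : V, Cfsg.Axial.IsMajoranaPair mul B μ₀ a → a = a₀) (hu₁ : ∀ a : V, Cfsg.Axial.IsMajoranaPair mul B μ₁ a → a = a₁) (hn₀ : B a₀ a₀ = 1) (hn₁ : B a₁ a₁ = 1) : ∃ n : ℕ, 1 ≤ n ∧ n ≤ 6 ∧ (μ₀ * μ₁) ^ n = 1 := by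
  have hA : Ax mul B μ₀ a₀ := ⟨h₀, hn₀⟩
  have hb : Ax mul B μ₁ a₁ := ⟨h₁, hn₁⟩
  have hs := hV.2.1
  have haB := hA.auto.2
  have hbB := hb.auto.2
  set a := a₀
  set b := a₁
  set μ := μ₀
  set ν := μ₁
  set σ := sig mul a b
  set σe := sig mul a (ν a) with hσe
  set σo := sig mul b (μ b) with hσo
  -- the other axes
  have h2 := hA.map hb.auto
  have hm1 := hb.map hA.auto
  have h3 := hm1.map hb.auto
  have hm2 := h2.map hA.auto
  have hm3 := h3.map hA.auto
  set am1 := μ b with ham1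
  set a2 := ν a with ha2
  set am2 := μ a2 with ham2
  set a3 := ν am1 with ha3
  set am3 := μ a3 with ham3
  set l := B a b with hl
  set n := B a a2 with hn
  set m := B b am1 with hm
  set p := B a a3 with hp
  set q := B a2 am2 with hq
  set r := B am1 a3 with hr
  set s5 := B am2 a3 with hs5
  set s6 := B am3 a3 with hs6
  -- inner products
  have fa := hA.fix
  have fb := hb.fix
  have ia := hA.invol
  have ib := hb.invol
  have ab' : B a am1 = l := by
    calc B a am1 = B (μ a) (μ b) := by rw [fa, ham1]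
      _ = l := haB a b
  have ba2 : B b a2 = l := by
    calc B b a2 = B (ν b) (ν a) := by rw [fb, ha2]
      _ = l := by rw [hbB, hs]
  have aam2 : B a am2 = n := by
    calc B a am2 = B (μ a) (μ a2) := by rw [fa, ham2]
      _ = n := haB a a2
  have ba3 : B b a3 = m := by
    calc B b a3 = B (ν b) (ν am1) := by rw [fb, ha3]
      _ = m := hbB b am1
  have a2a3 : B a2 a3 = l := by
    calc B a2 a3 = B (ν a) (ν am1) := by rw [ha2, ha3]
      _ = l := by rw [hbB, ab']
  have am1a2 : B am1 a2 = p := by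
    rw [hp, hs a a3]
    calc B am1 a2 = B (ν am1) (ν a2) := (hbB _ _).symm
      _ = B a3 a := by rw [ha2, ib]
  have bam2 : B b am2 = p := by
    rw [← am1a2]
    calc B b am2 = B (μ b) (μ am2) := (haB _ _).symm
      _ = B am1 a2 := by rw [ham2, ia]
  have am1am2 : B am1 am2 = l := by rw [ham1, ham2, haB, ba2]
  have aam3 : B a am3 = p := by
    calc B a am3 = B (μ a) (μ a3) := by rw [fa, ham3]
      _ = p := haB a a3
  have bam3 : B b am3 = r := by
    calc B b am3 = B (μ b) (μ am3) := (haB _ _).symm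
      _ = r := by rw [ham3, ia]
  have am1am3 : B am1 am3 = m := by rw [ham1, ham3, haB, ba3]
  have am2am3 : B am2 am3 = l := by rw [ham2, ham3, haB, a2a3]
  have a2am3 : B a2 am3 = s5 := by
    calc B a2 am3 = B (μ a2) (μ am3) := (haB _ _).symm
      _ = s5 := by rw [ham3, ia]
  -- inner products with the `sig`s
  have sa : B σ a = (31 * l - 1) / 32 := hA.sig_self hV b
  have sb : B σ b = (31 * l - 1) / 32 := by
    show B (sig mul a b) b = _
    rw [sig_comm hV, hb.sig_self hV a, hs b a, ← hl]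
  have μσ : μ σ = σ := hA.map_sig_self hV b
  have νσ : ν σ = σ := by
    show ν (sig mul a b) = sig mul a b
    rw [sig_comm hV]; exact hb.map_sig_self hV a
  have μe : μ σe = σe := hA.map_sig_self hV a2
  have νe : ν σe = σe := hb.map_sig_swap hV a
  have μo : μ σo = σo := hA.map_sig_swap hV b
  have νo : ν σo = σo := hb.map_sig_self hV am1
  have orbit : ∀ s, μ s = s → ν s = s → B s am1 = B s b ∧ B s a3 = B s b ∧ B s am3 = B s b ∧
      B s a2 = B s a ∧ B s am2 = B s a := by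
    intro s hμ hν
    have mm : ∀ x, B s (μ x) = B s x := fun x => by rw [← haB s x, hμ]
    have nn : ∀ x, B s (ν x) = B s x := fun x => by rw [← hbB s x, hν]
    refine ⟨mm b, ?_, ?_, nn a, ?_⟩
    · rw [ha3, nn]; exact mm b
    · rw [ham3, mm, ha3, nn]; exact mm b
    · rw [ham2, mm]; exact nn a
  obtain ⟨sam1, sa3, sam3, sa2, sam2⟩ := orbit σ μσ νσ
  obtain ⟨eam1, ea3, eam3, ea2, eam2⟩ := orbit σe μe νe
  obtain ⟨oam1, oa3, oam3, oa2, oam2⟩ := orbit σo μo νo
  have ea : B σe a = (31 * n - 1) / 32 := hA.sig_self hV a2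
  have ob : B σo b = (31 * m - 1) / 32 := hb.sig_self hV am1
  have eb : B σe b = (30 * l - 1 + n) / 32 := by
    have e := Ax.sig_inner hV a a2 b
    rw [mul_eq_sig a b, map_add, map_smul, map_add, hs a2 a] at e
    rw [hσe, e, hs a2 (sig mul a b)]
    change B σ a2 + _ - _ = _
    rw [sa2, sa, hs a2 b, ba2, ← hn, smul_eq_mul]
    ring
  have oa : B σo a = (30 * l - 1 + m) / 32 := by
    have e := Ax.sig_inner hV b am1 a
    rw [hV.1 b a, mul_eq_sig a b, map_add, map_smul, map_add, hs am1 b] at e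
    rw [hσo, e, hs am1 (sig mul a b)]
    change B σ am1 + _ - _ = _
    rw [sam1, sb, hs am1 a, ab', ← hm, hs b a, ← hl, smul_eq_mul]
    ring
  -- the relation
  obtain ⟨kao, kss⟩ := hA.key hV hb
  obtain ⟨kbe, kss'⟩ := hb.key hV hA
  rw [sig_comm hV b a, hs b a] at kss'
  set K := 32768 / 7 * l ^ 2 - 2304 / 7 * l + 33 / 7 with hK
  have hR : a3 = am2 - (256 * l - 6) • (a2 - am1) - (K + 128 / 7 * n) • b + (K + 128 / 7 * m) • a
      - (32 : ℝ) • σe + (32 : ℝ) • σo := by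
    linear_combination (norm := module) (196608 / 49 : ℝ) • (kss - kss')
  have R : ∀ x, B a3 x = B am2 x - (256 * l - 6) * (B a2 x - B am1 x) - (K + 128 / 7 * n) * B b x
      + (K + 128 / 7 * m) * B a x - 32 * B σe x + 32 * B σo x := by
    intro x
    conv_lhs => rw [hR]
    simp only [map_add, map_sub, map_smul, LinearMap.add_apply, LinearMap.sub_apply,
      LinearMap.smul_apply, smul_eq_mul]
  have Ra := R a
  rw [hs a3 a, ← hp, hs am2 a, aam2, hs a2 a, ← hn, hs am1 a, ab', hs b a, ← hl, hA.norm, ea, oa]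
    at Ra
  have Rb := R b
  rw [hs a3 b, ba3, hs am2 b, bam2, hs a2 b, ba2, hs am1 b, ← hm, hb.norm, ← hl, eb, ob] at Rb
  have Ra2 := R a2
  rw [hs a3 a2, a2a3, hs am2 a2, ← hq, h2.norm, am1a2, ba2, ← hn, ea2, ea, oa2, oa] at Ra2
  have Rm1 := R am1
  rw [hs a3 am1, ← hr, hs am2 am1, am1am2, hs a2 am1, am1a2, hm1.norm, ← hm, ab', eam1, eb, oam1,
    ob] at Rm1
  have Rm2 := R am2
  rw [hs a3 am2, ← hs5, hm2.norm, ← hq, am1am2, bam2, aam2, eam2, ea, oam2, oa] at Rm2
  have Rm3 := R am3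
  rw [hs a3 am3, ← hs6, am2am3, a2am3, am1am3, bam3, aam3, eam3, eb, oam3, ob] at Rm3
  -- the norm of `σo` and its product with `σe`
  have oo : B σo σo = ((768 * m - 25) / 1024) * m + 7 / 2048 * (1 + r) + 7 / 32 * B σo b
      - 1 / 32 * (B σo b + B σo b) := by
    conv_lhs => rw [hσo, Ax.sig_inner hV b am1 (sig mul b am1), hb.mul_sig hV am1]
    rw [← hσo, ← ha3, ← hm, map_add, map_add, map_smul, map_smul, map_smul, map_add,
      hs am1 b, ← hm, hm1.norm, ← hr, hs am1 σo, oam1, hs b σo]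
    simp only [smul_eq_mul]
  have eo : B σe σo = (-32 / 3 * l ^ 2 + 5 / 3 * l - 1 / 24 * m - 127 / 3072) * n
      + (32 / 3 * l - 19 / 48) * B σ a + (1 / 6 * l - 19 / 3072) * (l + p)
      + 7 / 96 * B σe a + 7 / 6144 * (1 + q) - 1 / 32 * (B σo a + B σo a) := by
    conv_lhs => rw [hσe, Ax.sig_inner hV a a2 σo, hσo, kao]
    rw [← hσo]
    change B a2 ((-32 / 3 * l ^ 2 + 5 / 3 * l - 1 / 24 * m - 127 / 3072) • a
      + (32 / 3 * l - 19 / 48) • σ + (1 / 6 * l - 19 / 3072) • (b + am1)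
      + (7 / 96 : ℝ) • σe + (7 / 6144 : ℝ) • (a2 + am2)) - _ = _
    simp only [map_add, map_smul, smul_eq_mul]
    rw [hs a2 a, ← hn, hs a2 σ, sa2, hs a2 b, ba2, hs a2 am1, am1a2, hs a2 σe, ea2, h2.norm, ← hq,
      hs a σo, hs a2 σo, oa2]
  have Ro := R σo
  rw [hs a3 σo, oa3, hs am2 σo, oam2, hs a2 σo, oa2, hs am1 σo, oam1, hs b σo, hs a σo, eo, oo, sa,
    ea, ob, oa] at Ro
  -- `(a · a3, a3) = (a, a3)`
  have Q : B (mul a a3) a3 = p := by rw [← hV.2.2.2.1, h3.idem]
  have pb : mul a b = σ + (1 / 32 : ℝ) • (a + b) := mul_eq_sig a b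
  have pm1 : mul a am1 = σ + (1 / 32 : ℝ) • (a + am1) := by
    rw [mul_eq_sig a am1, ham1, hA.sig_map hV b]
  have pa2 : mul a a2 = σe + (1 / 32 : ℝ) • (a + a2) := mul_eq_sig a a2
  have pm2 : mul a am2 = σe + (1 / 32 : ℝ) • (a + am2) := by
    rw [mul_eq_sig a am2, ham2, hA.sig_map hV a2]
  have pe : mul a σe = ((768 * n - 25) / 1024) • a + (7 / 2048 : ℝ) • (a2 + am2)
      + (7 / 32 : ℝ) • σe := hA.mul_sig hV a2
  have po : mul a σo = (-32 / 3 * l ^ 2 + 5 / 3 * l - 1 / 24 * m - 127 / 3072) • a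
      + (32 / 3 * l - 19 / 48) • σ + (1 / 6 * l - 19 / 3072) • (b + am1)
      + (7 / 96 : ℝ) • σe + (7 / 6144 : ℝ) • (a2 + am2) := kao
  conv_lhs at Q => arg 1; arg 2; arg 2; rw [hR]
  simp only [map_add, map_sub, map_smul, LinearMap.add_apply, LinearMap.sub_apply, LinearMap.smul_apply,
    smul_eq_mul, hA.idem, pb, pm1, pa2, pm2, pe, po] at Q
  rw [← hp, a2a3, ← hr, ← hs5, ba3, ea3, eb, sa3, sb] at Q
  -- the polynomial equations
  have hl0 : 0 ≤ l := hA.inner_nonneg hV hb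
  have hnm : n = m := by
    have e : (1920 * l + 303) * (n - m) = 0 := by
      linear_combination 7 * Ra + 7 * Rb
    rcases mul_eq_zero.1 e with e | e <;> linarith only [e, hl0]
  clear_value m
  subst hnm
  have hp' : p = -32768 / 7 * l ^ 3 + 36864 / 7 * l ^ 2 - 1920 / 7 * l * n - 2169 / 7 * l
      - 33 / 7 * n + 33 / 7 := by linear_combination Ra
  have hq' : q = 8388608 / 7 * l ^ 4 - 9601024 / 7 * l ^ 3 + 65536 * l ^ 2 * n + 110592 * l ^ 2
      - 640 / 7 * l * n - 19840 / 7 * l - 128 / 7 * n ^ 2 - 3 * n + 156 / 7 := by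
    linear_combination (-1) * Ra2 + (-256 * l + 6) * hp'
  have hr' : r = q := by linear_combination Rm1 + Ra2
  have hs5' : s5 = -13958643712 / 49 * l ^ 5 + 16273899520 / 49 * l ^ 4 - 754974720 / 49 * l ^ 3 * n
      - 1633419264 / 49 * l ^ 3 + 12582912 / 49 * l ^ 2 * n + 8683520 / 7 * l ^ 2
      + 475136 / 49 * l * n ^ 2 + 259584 / 49 * l * n - 137721 / 7 * l - 256 / 49 * n ^ 2
      - 5256 / 49 * n + 5512 / 49 := by
    linear_combination Rm2 + (-256 * l + 6) * hq' - (K + 128 / 7 * n) * hp'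
  have hs6' : s6 = 3298534883328 / 49 * l ^ 6 - 3917010173952 / 49 * l ^ 5
      + 177167400960 / 49 * l ^ 4 * n + 469317451776 / 49 * l ^ 4 - 5511315456 / 49 * l ^ 3 * n
      - 22767894528 / 49 * l ^ 3 - 25165824 / 7 * l ^ 2 * n ^ 2 - 97910784 / 49 * l ^ 2 * n
      + 542429184 / 49 * l ^ 2 + 2457600 / 49 * l * n ^ 2 + 5162880 / 49 * l * n - 904320 / 7 * l
      + 16384 / 49 * n ^ 3 + 1152 / 49 * n ^ 2 - 46500 / 49 * n + 29013 / 49 := by
    linear_combination Rm3 + (-256 * l + 6) * hs5' - (K + 128 / 7 * n) * hr' - (K + 128 / 7 * n) * hq'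
      + (K + 128 / 7 * n) * hp'
  clear_value p q r s5
  subst hr' hq' hp' hs5'
  obtain ⟨E1, hE1⟩ : ∃ e, e = 6291456 * l ^ 4 - 6979584 * l ^ 3 + 122880 * l ^ 2 * n + 552960 * l ^ 2
      + 26688 * l * n - 14400 * l + 384 * n ^ 2 - 501 * n + 117 := ⟨_, rfl⟩
  obtain ⟨E2, hE2⟩ : ∃ e, e = -1610612736 * l ^ 5 + 1815085056 * l ^ 4 - 78643200 * l ^ 3 * n
      - 132415488 * l ^ 3 + 4780032 * l ^ 2 * n + 2580480 * l ^ 2 - 282624 * l * n ^ 2
      - 497568 * l * n + 6048 * l - 8352 * n ^ 2 + 8703 * n - 351 := ⟨_, rfl⟩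
  have z1 : E1 = 0 := by rw [hE1]; linear_combination (-56) * Ro
  have z2 : E2 = 0 := by rw [hE2]; linear_combination (-196) * Q
  rw [hE1] at z1
  rw [hE2] at z2
  obtain ⟨A₃, hA₃⟩ : ∃ e, e = 4529848320 * l ^ 3 + 10404495360 * l ^ 2 - 109762560 * l - 842400 :=
    ⟨_, rfl⟩
  obtain ⟨B₃, hB₃⟩ : ∃ e, e = 1159641169920 * l ^ 5 - 1223059046400 * l ^ 4 + 47138734080 * l ^ 3
      + 1539440640 * l ^ 2 - 84879360 * l + 842400 := ⟨_, rfl⟩
  have hlin : A₃ * n + B₃ = 0 := by
    rw [hA₃, hB₃]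
    linear_combination 384 * z2 - (-282624 * l - 8352) * z1
  have hres : (l - 1) * (l - 1 / 8) * l * (l - 13 / 256) * (l - 1 / 64) ^ 2 * (l - 1 / 32)
      * (l - 3 / 128) * (l - 5 / 256) = 0 := by
    have key : (-1581446748136749343860326400 : ℝ) * ((l - 1) * (l - 1 / 8) * l * (l - 13 / 256)
        * (l - 1 / 64) ^ 2 * (l - 1 / 32) * (l - 3 / 128) * (l - 5 / 256)) = 0 := by
      have e : 384 * B₃ ^ 2 - (122880 * l ^ 2 + 26688 * l - 501) * A₃ * B₃
          + (6291456 * l ^ 4 - 6979584 * l ^ 3 + 552960 * l ^ 2 - 14400 * l + 117) * A₃ ^ 2 = 0 := by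
        linear_combination A₃ ^ 2 * z1
          - (384 * (A₃ * n - B₃) + (122880 * l ^ 2 + 26688 * l - 501) * A₃) * hlin
      rw [hA₃, hB₃] at e
      linear_combination e
    exact (mul_eq_zero.1 key).resolve_left (by norm_num)
  rw [hA₃, hB₃] at hlin
  -- the periods
  have hμ := hA.inv_eq
  have hν := hb.inv_eq
  have μμ := hA.sq
  have νν := hb.sq
  have p1 : l = 1 → (μ * ν) ^ 1 = 1 := fun e => by
    have e1 : a = b := hA.eq_of_inner hV hb (hl ▸ e)
    have e2 := (e1 ▸ hA : Ax mul B μ b).eq_inv hb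
    rw [pow_one, e2, νν]
  have p2 : n = 1 → (μ * ν) ^ 2 = 1 := fun e => by
    have e1 : a = a2 := hA.eq_of_inner hV h2 (hn ▸ e)
    have e2 := hA.eq_inv (show Ax mul B (ν * μ * ν⁻¹) a from e1 ▸ h2)
    rw [hν] at e2
    calc (μ * ν) ^ 2 = μ * (ν * μ * ν) := by rw [pow_two]; group
      _ = 1 := by rw [← e2, μμ]
  have p3 : B a a3 = 1 → (μ * ν) ^ 3 = 1 := fun e => by
    have e1 : a = a3 := hA.eq_of_inner hV h3 e
    have e2 := hA.eq_inv (show Ax mul B (ν * (μ * ν * μ⁻¹) * ν⁻¹) a from e1 ▸ h3)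
    rw [hμ, hν] at e2
    calc (μ * ν) ^ 3 = μ * (ν * (μ * ν * μ) * ν) := by rw [pow_three]; group
      _ = 1 := by rw [← e2, μμ]
  have p4 : B a2 am2 = 1 → (μ * ν) ^ 4 = 1 := fun e => by
    have e1 : a2 = am2 := h2.eq_of_inner hV hm2 e
    have e2 := h2.eq_inv (show Ax mul B (μ * (ν * μ * ν⁻¹) * μ⁻¹) a2 from e1 ▸ hm2)
    rw [hμ, hν] at e2
    calc (μ * ν) ^ 4 = μ * (ν * μ * ν) * μ * (ν * μ * ν) := by
          rw [show (4 : ℕ) = 2 + 2 by norm_num, pow_add, pow_two]; group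
      _ = ν * μ * ν * (ν * μ * ν) := by rw [← e2]
      _ = ν * (μ * (ν * ν) * μ) * ν := by group
      _ = 1 := by rw [νν, mul_one, μμ, mul_one, νν]
  have p5 : B am2 a3 = 1 → (μ * ν) ^ 5 = 1 := fun e => by
    have e1 : am2 = a3 := hm2.eq_of_inner hV h3 e
    have e2 := hm2.eq_inv (show Ax mul B (ν * (μ * ν * μ⁻¹) * ν⁻¹) am2 from e1 ▸ h3)
    rw [hμ, hν] at e2
    calc (μ * ν) ^ 5 = (μ * (ν * μ * ν) * μ) * (ν * (μ * ν * μ) * ν) := by
          rw [show (5 : ℕ) = 2 + 3 by norm_num, pow_add, pow_two, pow_three]; group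
      _ = ν * (μ * ν * μ) * ν * (ν * (μ * ν * μ) * ν) := by rw [e2]
      _ = ν * (μ * (ν * (μ * ((ν * ν) * μ)) * ν) * μ) * ν := by group
      _ = 1 := by rw [νν, one_mul, μμ, mul_one, νν, mul_one, μμ, mul_one, νν]
  have p6 : B am3 a3 = 1 → (μ * ν) ^ 6 = 1 := fun e => by
    have e1 : am3 = a3 := hm3.eq_of_inner hV h3 e
    have e2 := h3.eq_inv (show Ax mul B (μ * (ν * (μ * ν * μ⁻¹) * ν⁻¹) * μ⁻¹) a3 from e1 ▸ hm3)
    rw [hμ, hν] at e2
    calc (μ * ν) ^ 6 = μ * (ν * (μ * ν * μ) * ν) * μ * (ν * (μ * ν * μ) * ν) := by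
          rw [show (6 : ℕ) = 3 + 3 by norm_num, pow_add, pow_three]; group
      _ = ν * (μ * ν * μ) * ν * (ν * (μ * ν * μ) * ν) := by rw [← e2]
      _ = ν * (μ * (ν * (μ * ((ν * ν) * μ)) * ν) * μ) * ν := by group
      _ = 1 := by rw [νν, one_mul, μμ, mul_one, νν, mul_one, μμ, mul_one, νν]
  simp only [mul_eq_zero, pow_eq_zero_iff two_ne_zero, sub_eq_zero] at hres
  rcases hres with ((((((e | e) | e) | e) | e) | e) | e) | e
  · exact ⟨1, le_rfl, by norm_num, p1 e⟩
  · refine ⟨2, by norm_num, by norm_num, p2 ?_⟩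
    rw [e] at hlin; norm_num at hlin; linarith only [hlin]
  · refine ⟨2, by norm_num, by norm_num, p2 ?_⟩
    rw [e] at hlin; norm_num at hlin; linarith only [hlin]
  · refine ⟨3, by norm_num, by norm_num, p3 ?_⟩
    rw [e] at hlin; norm_num at hlin
    have hn13 : n = 13 / 256 := by linarith only [hlin]
    rw [← hp, e, hn13]; norm_num
  · rw [e] at z1; norm_num at z1
    have hsplit : (n - 1 / 64) * (n - 1 / 8) = 0 := by linear_combination (1 / 384 : ℝ) * z1
    rcases mul_eq_zero.1 hsplit with hh | hh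
    · refine ⟨3, by norm_num, by norm_num, p3 ?_⟩
      rw [← hp, e, sub_eq_zero.1 hh]; norm_num
    · refine ⟨4, by norm_num, by norm_num, p4 ?_⟩
      rw [← hq, e, sub_eq_zero.1 hh]; norm_num
  · refine ⟨4, by norm_num, by norm_num, p4 ?_⟩
    rw [e] at hlin; norm_num at hlin
    have hn0 : n = 0 := by linarith only [hlin]
    rw [← hq, e, hn0]; norm_num
  · refine ⟨5, by norm_num, by norm_num, p5 ?_⟩
    rw [e] at hlin; norm_num at hlin
    have hn5 : n = 3 / 128 := by linarith only [hlin]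
    rw [← hs5, e, hn5]; norm_num
  · refine ⟨6, by norm_num, by norm_num, p6 ?_⟩
    rw [e] at hlin; norm_num at hlin
    have hn6 : n = 13 / 256 := by linarith only [hlin]
    rw [← hs6, hs6', e, hn6]; norm_num

end Cfsg.Agent.S5544
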