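import Cfsg.Statements.S5545
-- import your own Cfsg.Agent.* helpers here

set_option autoImplicit false
open Cfsg Cfsg.Axial

namespace Cfsg.Agent.S5545

section

variable {V : Type*} [AddCommGroup V] [Module ℝ V]

/-- What is used of an axis `a` and an idempotent `b` fixed by the involution of `a`. -/
theorem split (mul : V →ₗ[ℝ] V →ₗ[ℝ] V) (B : LinearMap.BilinForm ℝ V) (hV : IsMajoranaAmbient mul B)
    (μ : V ≃ₗ[ℝ] V) (a b : V) (h : IsMajoranaPair mul B μ a) (hn : B a a = 1) (hfix : μ b = b) :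
    ∃ u w : V, b = B a b • a + u + w ∧ mul a u = 0 ∧ mul a w = (1 / 4 : ℝ) • w := by
  obtain ⟨-, -, ⟨⟨ha0, haa, htop, -⟩, h1⟩, hfixp, hneg⟩ := h
  have hb : b ∈ eigenSum mul a majoranaSpectrum := htop ▸ Submodule.mem_top
  rw [eigenSum, majoranaSpectrum, iSup_insert, iSup_insert, iSup_insert, iSup_singleton, h1] at hb
  obtain ⟨p, hp, r, hr, rfl⟩ := Submodule.mem_sup.1 hb
  obtain ⟨u, hu, r, hr', rfl⟩ := Submodule.mem_sup.1 hr
  obtain ⟨w, hw, q, hq, rfl⟩ := Submodule.mem_sup.1 hr'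
  obtain ⟨c, rfl⟩ := Submodule.mem_span_singleton.1 hp
  have hmem : ∀ t ∈ ({1, 0, 1 / 4} : Set ℝ), eigen mul a t ≤ eigenSum mul a {1, 0, 1 / 4} :=
    fun t ht => le_iSup₂_of_le t ht le_rfl
  have e1 : μ (c • a) = c • a := hfixp _ (hmem 1 (by simp) (h1 ▸ hp))
  have e2 : μ u = u := hfixp _ (hmem 0 (by simp) hu)
  have e3 : μ w = w := hfixp _ (hmem (1 / 4) (by simp) hw)
  have e4 : μ q = -q := hneg q hq
  rw [map_add, map_add, map_add, e1, e2, e3, e4] at hfix
  have hq0 : q = 0 := by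
    have h2 : (2 : ℝ) • q = 0 := by
      linear_combination (norm := module) -hfix
    exact (smul_eq_zero.1 h2).resolve_left (by norm_num)
  subst hq0
  have hu' : mul a u = 0 := by simpa using Module.End.mem_eigenspace_iff.1 hu
  have hw' : mul a w = (1 / 4 : ℝ) • w := Module.End.mem_eigenspace_iff.1 hw
  have hau : B a u = 0 := by
    have := hV.2.2.2.1 a a u
    rw [haa, hu', map_zero] at this
    exact this.symm
  have haw : B a w = 0 := by
    have := hV.2.2.2.1 a a w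
    rw [haa, hw', map_smul, smul_eq_mul] at this
    linarith
  refine ⟨u, w, ?_, hu', hw'⟩
  have : B a (c • a + (u + (w + 0))) = c := by
    simp [hn, hau, haw]
  rw [this]
  module

theorem prodFormula (mul : V →ₗ[ℝ] V →ₗ[ℝ] V) (a : V) (φ : ℝ) (u w : V) (haa : mul a a = a)
    (hu : mul a u = 0) (hw : mul a w = (1 / 4 : ℝ) • w) :
    mul a (mul a (φ • a + u + w)) = (3 / 4 * φ) • a + (1 / 4 : ℝ) • mul a (φ • a + u + w) := by
  simp only [map_add, map_smul, haa, hu, hw, map_zero]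
  module

end

/-- Let V be a finite-dimensional real vector space with a commutative bilinear product and a positive-definite symmetric bilinear form that associates with the product and satisfies the Norton inequality (the Majorana setting of the definitions). Let μ₀, μ₁ be commuting Majorana involutions with distinct axial vectors a₀ ≠ a₁ of squared length 1, each involution having no other axial vector. Then either a₀ and a₁ are orthogonal with a₀ ∘ a₁ = 0 (type 2B), or their inner product is 1/8 and, with a₂ = a₀ + a₁ − 8 a₀ ∘ a₁, the vector a₂ is an idempotent and a₀ ∘ a₂ = (1/8)(a₀ + a₂ − a₁), a₁ ∘ a₂ = (1/8)(a₁ + a₂ − a₀) (type 2A: the three idempotents span a subalgebra with aᵢ ∘ aⱼ = (1/8)(aᵢ + aⱼ − aₖ)). -/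
theorem result {V : Type*} [AddCommGroup V] [Module ℝ V] [FiniteDimensional ℝ V] (mul : V →ₗ[ℝ] V →ₗ[ℝ] V) (B : LinearMap.BilinForm ℝ V) (hV : Cfsg.Axial.IsMajoranaAmbient mul B) (μ₀ μ₁ : V ≃ₗ[ℝ] V) (a₀ a₁ : V) (h₀ : Cfsg.Axial.IsMajoranaPair mul B μ₀ a₀) (h₁ : Cfsg.Axial.IsMajoranaPair mul B μ₁ a₁) (hu₀ : ∀ a : V, Cfsg.Axial.IsMajoranaPair mul B μ₀ a → a = a₀) (hu₁ : ∀ a : V, Cfsg.Axial.IsMajoranaPair mul B μ₁ a → a = a₁) (hn₀ : B a₀ a₀ = 1) (hn₁ : B a₁ a₁ = 1) (hc : μ₀ * μ₁ = μ₁ * μ₀) (hne : a₀ ≠ a₁) : (B a₀ a₁ = 0 ∧ mul a₀ a₁ = 0) ∨ (B a₀ a₁ = 1 / 8 ∧ mul (a₀ + a₁ - (8 : ℝ) • mul a₀ a₁) (a₀ + a₁ - (8 : ℝ) • mul a₀ a₁) = a₀ + a₁ - (8 : ℝ) • mul a₀ a₁ ∧ mul a₀ (a₀ + a₁ - (8 : ℝ) • mul a₀ a₁) = (1 / 8 : ℝ) • (a₀ + (a₀ + a₁ - (8 : ℝ) • mul a₀ a₁) - a₁) ∧ mul a₁ (a₀ + a₁ - (8 : ℝ) • mul a₀ a₁) = (1 / 8 : ℝ) • (a₁ + (a₀ + a₁ - (8 : ℝ) • mul a₀ a₁) - a₀)) := by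
  classical
  have hcomm := hV.1
  have fixes : ∀ (μ ν : V ≃ₗ[ℝ] V) (a b : V), IsMajoranaPair mul B μ a → IsMajoranaPair mul B ν b →
      (∀ c : V, IsMajoranaPair mul B ν c → c = b) → μ * ν = ν * μ → μ b = b := by
    intro μ ν a b hμ hν hu hc
    apply hu
    obtain ⟨hm, hB, -, -⟩ := hμ
    obtain ⟨hm', hB', ⟨⟨hb0, hbb, htop, hlaw⟩, hone⟩, hf, hneg⟩ := hν
    have hc' : ∀ v, ν (μ v) = μ (ν v) := fun v => (LinearMap.congr_fun
      (congrArg LinearEquiv.toLinearMap hc) v).symm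
    have heig : ∀ c, eigen mul (μ b) c = (eigen mul b c).map μ.toLinearMap := by
      intro c
      ext v
      obtain ⟨v, rfl⟩ := μ.surjective v
      rw [eigen, eigen, Module.End.mem_eigenspace_iff, ← hm, ← map_smul, μ.injective.eq_iff]
      constructor
      · exact fun h => ⟨v, Module.End.mem_eigenspace_iff.2 h, rfl⟩
      · rintro ⟨v', hv', hvv⟩
        rw [← μ.injective hvv]
        exact Module.End.mem_eigenspace_iff.1 hv'
    have hsum : ∀ S, eigenSum mul (μ b) S = (eigenSum mul b S).map μ.toLinearMap := by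
      intro S
      simp only [eigenSum, Submodule.map_iSup, heig]
    refine ⟨hm', hB', ⟨⟨?_, ?_, ?_, ?_⟩, ?_⟩, ?_, ?_⟩
    · exact fun h => hb0 (μ.map_eq_zero_iff.1 h)
    · rw [← hm, hbb]
    · rw [hsum, htop, Submodule.map_top]
      exact LinearMap.range_eq_top.2 μ.surjective
    · intro c hc d hd x hx y hy
      rw [heig] at hx hy
      obtain ⟨x, hx, rfl⟩ := hx
      obtain ⟨y, hy, rfl⟩ := hy
      rw [hsum]
      exact ⟨_, hlaw c hc d hd x hx y hy, hm x y⟩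
    · rw [heig, hone, Submodule.map_span, Set.image_singleton]; rfl
    · intro v hv
      rw [hsum] at hv
      obtain ⟨v, hv, rfl⟩ := hv
      show ν (μ v) = μ v
      rw [hc']; exact congrArg μ (hf v hv)
    · intro v hv
      rw [heig] at hv
      obtain ⟨v, hv, rfl⟩ := hv
      show ν (μ v) = -μ v
      rw [hc', ← map_neg]; exact congrArg μ (hneg v hv)
  obtain ⟨u, w, hb, hu', hw⟩ := split mul B hV μ₀ a₀ a₁ h₀ hn₀ (fixes μ₀ μ₁ a₀ a₁ h₀ h₁ hu₁ hc)
  obtain ⟨u', w', ha, hu'', hw'⟩ := split mul B hV μ₁ a₁ a₀ h₁ hn₁ (fixes μ₁ μ₀ a₁ a₀ h₁ h₀ hu₀ hc.symm)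
  rw [hV.2.1 a₁ a₀] at ha
  set φ := B a₀ a₁ with hφ
  obtain ⟨⟨ha0, haa, -, hlaw⟩, -⟩ := h₀.2.2.1
  obtain ⟨⟨hb0, hbb, -, -⟩, -⟩ := h₁.2.2.1
  have har : mul a₀ (mul a₀ a₁) = (3 / 4 * φ) • a₀ + (1 / 4 : ℝ) • mul a₀ a₁ := by
    rw [hb]; exact prodFormula mul a₀ φ u w haa hu' hw
  have hbr : mul a₁ (mul a₀ a₁) = (3 / 4 * φ) • a₁ + (1 / 4 : ℝ) • mul a₀ a₁ := by
    rw [hcomm a₀ a₁, ha]; exact prodFormula mul a₁ φ u' w' hbb hu'' hw'
  have hr : mul a₀ a₁ = φ • a₀ + (1 / 4 : ℝ) • w := by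
    rw [hb]; simp only [map_add, map_smul, haa, hu', hw]; module
  by_cases hw0 : w = 0
  · left
    have hφ0 : φ = 0 := by
      have hr' : mul a₀ a₁ = φ • a₀ := by rw [hr, hw0]; module
      rw [hr', map_smul, hcomm a₁ a₀, hr', smul_smul, smul_smul] at hbr
      by_contra hne0
      have h3 : (φ * φ - 1 / 4 * φ) • a₀ = (3 / 4 * φ) • a₁ := by
        linear_combination (norm := module) hbr
      have h4 : a₁ = ((φ * φ - 1 / 4 * φ) / (3 / 4 * φ)) • a₀ := by
        rw [div_eq_mul_inv, mul_comm, ← smul_smul, h3, smul_smul, inv_mul_cancel₀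
          (by simpa using hne0), one_smul]
      generalize (φ * φ - 1 / 4 * φ) / (3 / 4 * φ) = c at h4
      simp only [h4, map_smul, LinearMap.smul_apply, haa, smul_smul] at hbb
      have h5 : (c * c - c) • a₀ = 0 := by rw [sub_smul, hbb, sub_self]
      rcases mul_eq_zero.1 (show c * (c - 1) = 0 by
        linarith [(smul_eq_zero.1 h5).resolve_right ha0]) with hc0 | hc1
      · exact hb0 (by rw [h4, hc0, zero_smul])
      · exact hne (by rw [h4, sub_eq_zero.1 hc1, one_smul])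
    exact ⟨hφ0, by rw [hr, hw0, hφ0]; module⟩
  right
  have hEu : u ∈ eigen mul a₀ 0 := Module.End.mem_eigenspace_iff.2 (by rw [hu', zero_smul])
  have hEw : w ∈ eigen mul a₀ (1 / 4) := Module.End.mem_eigenspace_iff.2 hw
  have h0S : (0 : ℝ) ∈ majoranaSpectrum := by simp [majoranaSpectrum]
  have h4S : (1 / 4 : ℝ) ∈ majoranaSpectrum := by simp [majoranaSpectrum]
  have hY : mul a₀ (mul u w) = (1 / 4 : ℝ) • mul u w := by
    have h := hlaw 0 h0S (1 / 4) h4S u hEu w hEw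
    rw [show monsterLaw (1 / 4 : ℝ) (1 / 32) 0 (1 / 4) = {1 / 4} by norm_num [monsterLaw],
      eigenSum, iSup_singleton] at h
    exact Module.End.mem_eigenspace_iff.1 h
  have hZ : mul a₀ (mul a₀ (mul w w)) = mul a₀ (mul w w) := by
    have h := hlaw (1 / 4) h4S (1 / 4) h4S w hEw w hEw
    rw [show monsterLaw (1 / 4 : ℝ) (1 / 32) (1 / 4) (1 / 4) = {1, 0} by norm_num [monsterLaw],
      eigenSum, iSup_insert, iSup_singleton] at h
    obtain ⟨p, hp, q, hq, hpq⟩ := Submodule.mem_sup.1 h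
    have hp' := Module.End.mem_eigenspace_iff.1 hp
    have hq' := Module.End.mem_eigenspace_iff.1 hq
    rw [← hpq, map_add, hp', hq', one_smul, zero_smul, add_zero, hp', one_smul]
  have hU : mul a₀ (mul u u) = 0 := by
    have h := hlaw 0 h0S 0 h0S u hEu u hEu
    rw [show monsterLaw (1 / 4 : ℝ) (1 / 32) 0 0 = {0} by norm_num [monsterLaw],
      eigenSum, iSup_singleton] at h
    simpa using Module.End.mem_eigenspace_iff.1 h
  have hY' : mul u w = (1 / 2 - φ / 4) • w := by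
    have h1 := hbb
    rw [hb] at h1
    simp only [map_add, map_smul, LinearMap.add_apply, LinearMap.smul_apply, haa, hu', hw,
      hcomm u a₀, hcomm w a₀, hcomm w u] at h1
    have h2 := congrArg (mul a₀) h1
    simp only [map_add, map_smul, haa, hu', hw, hY, hU, map_zero] at h2
    have h3 := congrArg (mul a₀) h2
    simp only [map_add, map_smul, haa, hw, hY, hZ, map_zero] at h3
    linear_combination (norm := module) (-(8 / 3) : ℝ) • h3 + (8 / 3 : ℝ) • h2
  have hbw : mul a₁ w = (φ / 4) • w + mul u w + mul w w := by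
    rw [hb]; simp only [map_add, map_smul, LinearMap.add_apply, LinearMap.smul_apply, hw]; module
  have hwr : w = (4 : ℝ) • mul a₀ a₁ - (4 * φ) • a₀ := by rw [hr]; module
  have hZv : mul w w = (3 * φ) • a₁ + (1 - 4 * φ) • mul a₀ a₁ - (1 / 2 : ℝ) • w := by
    rw [hY'] at hbw
    have h1 : mul a₁ w = (4 : ℝ) • mul a₁ (mul a₀ a₁) - (4 * φ) • mul a₀ a₁ := by
      rw [hwr, map_sub, map_smul, map_smul, hcomm a₁ a₀]
    rw [hbr, hbw] at h1
    linear_combination (norm := module) h1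
  have hφ8 : φ = 1 / 8 := by
    have hab : mul a₀ a₁ = φ • a₀ + (1 / 4 : ℝ) • w := hr
    have h2 := hZ
    rw [hZv] at h2
    simp only [map_add, map_sub, map_smul, hr, haa, hw, har] at h2
    have h3 : (3 / 16 * (2 * φ - 1 / 4)) • w = 0 := by
      linear_combination (norm := module) -h2
    have := (smul_eq_zero.1 h3).resolve_right hw0
    linarith
  refine ⟨hφ8, ?_, ?_, ?_⟩
  · have hrr : mul (mul a₀ a₁) (mul a₀ a₁) =
        (φ * φ) • a₀ + (φ / 8) • w + (1 / 16 : ℝ) • mul w w := by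
      rw [hr]
      simp only [map_add, map_smul, LinearMap.add_apply, LinearMap.smul_apply, haa, hw, hcomm w a₀]
      module
    rw [hZv, hwr, hφ8] at hrr
    simp only [map_add, map_sub, map_smul, LinearMap.add_apply, LinearMap.sub_apply,
      LinearMap.smul_apply, haa, hbb, hcomm a₁ a₀, hcomm (mul a₀ a₁) a₀, hcomm (mul a₀ a₁) a₁,
      har, hbr, hrr, hφ8]
    module
  · simp only [map_add, map_sub, map_smul, haa, har, hφ8]
    module
  · simp only [map_add, map_sub, map_smul, hbb, hbr, hφ8, hcomm a₁ a₀]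
    module

end Cfsg.Agent.S5545
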