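import Cfsg.Statements.S5546
import Cfsg.Agent.Lib.Leech.Basic

set_option autoImplicit false
set_option maxHeartbeats 400000
open Cfsg Cfsg.Agent.Leech Matrix

namespace Cfsg.Agent.S5546

abbrev L : Type := ↥Cfsg.leechLattice

/-- Eight times a unit vector. -/
def e8 (j : GolayPt) : L :=
  ⟨fun i => if i = j then 8 else 0, mem_leechLattice.2 (by
    refine ⟨fun i => ?_, ?_, ?_⟩
    · dsimp only; split_ifs <;> rfl
    · have : hb (fun i => if i = j then (8 : ℤ) else 0) = 0 := by
        funext i
        simp only [hb, Pi.zero_apply]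
        split_ifs <;> decide
      rw [this]; exact zero_mem _
    · rw [Finset.sum_ite_eq' Finset.univ j (fun _ => (8 : ℤ)), if_pos (Finset.mem_univ j)]
      dsimp only; split_ifs <;> rfl)⟩

/-- Reduction modulo 13. -/
def red : L →+ (GolayPt → ZMod 13) where
  toFun x i := ((x : GolayPt → ℤ) i : ZMod 13)
  map_zero' := by funext i; simp
  map_add' x y := by funext i; simp

theorem eight_smul (x : L) : (8 : ℤ) • x = ∑ j, ((x : GolayPt → ℤ) j) • e8 j := by
  apply Subtype.ext
  rw [AddSubgroup.val_finsetSum, AddSubgroup.coe_zsmul]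
  funext i
  rw [Finset.sum_apply, Finset.sum_eq_single i]
  · simp [e8, mul_comm]
  · intro j _ hji
    simp [e8, hji.symm]
  · intro h; exact absurd (Finset.mem_univ i) h

theorem red_surjective : Function.Surjective red := by
  intro v
  refine ⟨∑ j, ((5 * (v j).val : ℕ) : ℤ) • e8 j, ?_⟩
  funext i
  rw [map_sum, Finset.sum_apply, Finset.sum_eq_single i]
  · rw [map_zsmul, Pi.smul_apply, zsmul_eq_mul]
    show _ * ((if i = i then (8 : ℤ) else 0 : ℤ) : ZMod 13) = v i
    rw [if_pos rfl]
    push_cast
    rw [ZMod.natCast_zmod_val]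
    have h1 : (5 : ZMod 13) * 8 = 1 := by decide
    linear_combination (v i) * h1
  · intro j _ hji
    rw [map_zsmul, Pi.smul_apply, zsmul_eq_mul]
    show _ * ((if i = j then (8 : ℤ) else 0 : ℤ) : ZMod 13) = 0
    simp [hji.symm]
  · intro h; exact absurd (Finset.mem_univ i) h

abbrev H : Type := ↥Cfsg.Spor.Co2

theorem additive (g : H) : ∀ v w : L, (g : Equiv.Perm L) (v + w) = (g : Equiv.Perm L) v + (g : Equiv.Perm L) w :=
  (Subgroup.mem_inf.1 g.2).1.1

theorem isometric (g : H) (v : L) :
    sqNorm (((g : Equiv.Perm L) v : L) : GolayPt → ℤ) = sqNorm (v : GolayPt → ℤ) :=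
  (Subgroup.mem_inf.1 g.2).1.2 v

theorem fixU (g : H) : (g : Equiv.Perm L) Spor.leechU = Spor.leechU :=
  MulAction.mem_stabilizer_iff.1 (Subgroup.mem_inf.1 g.2).2

/-- The element as an additive map. -/
def act (g : H) : L →+ L := AddMonoidHom.mk' (fun v => (g : Equiv.Perm L) v) (additive g)

theorem dot_act (g : H) (v w : L) :
    dotInt ((act g v : L) : GolayPt → ℤ) (act g w : L) = dotInt (v : GolayPt → ℤ) w := by
  have key : ∀ a b : GolayPt → ℤ, sqNorm (a + b) = sqNorm a + 2 * dotInt a b + sqNorm b := by
    intro a b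
    simp only [sqNorm, dotInt, Finset.mul_sum, ← Finset.sum_add_distrib, Pi.add_apply]
    exact Finset.sum_congr rfl fun i _ => by ring
  have h := isometric g (v + w)
  rw [additive, AddSubgroup.coe_add, AddSubgroup.coe_add, key, key, isometric, isometric] at h
  show dotInt (((g : Equiv.Perm L) v : L) : GolayPt → ℤ) (((g : Equiv.Perm L) w : L) : GolayPt → ℤ) = _
  linarith

/-- The matrix of an element modulo 13. -/
def mat (g : H) : (GolayPt → ZMod 13) →ₗ[ZMod 13] (GolayPt → ZMod 13) :=
  Matrix.mulVecLin (Matrix.of fun i j => 5 * red (act g (e8 j)) i)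

theorem mat_red (g : H) (x : L) : mat g (red x) = red (act g x) := by
  funext i
  have h := congrArg (fun y => red (act g y) i) (eight_smul x)
  simp only [map_zsmul, map_sum, Finset.sum_apply, Pi.smul_apply, zsmul_eq_mul, Pi.mul_apply, Pi.intCast_apply] at h
  show (∑ j, (5 * red (act g (e8 j)) i) * red x j) = red (act g x) i
  have h1 : (5 : ZMod 13) * 8 = 1 := by decide
  calc ∑ j, (5 * red (act g (e8 j)) i) * red x j
      = 5 * ∑ j, (((x : GolayPt → ℤ) j : ℤ) : ZMod 13) * red (act g (e8 j)) i := by
        rw [Finset.mul_sum]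
        exact Finset.sum_congr rfl fun j _ => by
          show _ * (((x : GolayPt → ℤ) j : ℤ) : ZMod 13) = _
          ring
    _ = red (act g x) i := by rw [← h, Int.cast_ofNat, ← mul_assoc, h1, one_mul]

theorem mat_one : mat 1 = LinearMap.id := by
  refine LinearMap.ext fun v => ?_
  obtain ⟨x, rfl⟩ := red_surjective v
  rw [mat_red]; rfl

theorem mat_mul (g h : H) : mat (g * h) = mat g ∘ₗ mat h := by
  refine LinearMap.ext fun v => ?_
  obtain ⟨x, rfl⟩ := red_surjective v
  rw [LinearMap.comp_apply, mat_red, mat_red, mat_red]; rfl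

theorem mat_injective {g : H} (hg : mat g = LinearMap.id) : g = 1 := by
  have hfix : ∀ j, act g (e8 j) = e8 j := by
    intro j
    have h := mat_red g (e8 j)
    rw [hg, LinearMap.id_apply] at h
    set d := act g (e8 j) - e8 j with hd
    have hdiv : ∀ i, (13 : ℤ) ∣ (d : GolayPt → ℤ) i := by
      intro i
      rw [show ((13 : ℤ) = ((13 : ℕ) : ℤ)) from rfl, ← ZMod.intCast_zmod_eq_zero_iff_dvd]
      show red d i = 0
      rw [hd, map_sub, h, sub_self]; rfl
    have hnorm : sqNorm (d : GolayPt → ℤ) ≤ 256 := by
      have h1 := isometric g (e8 j)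
      have h2 : sqNorm ((e8 j : L) : GolayPt → ℤ) = 64 := by
        simp only [sqNorm, e8]
        rw [Finset.sum_eq_single j]
        · simp
        · intro i _ hij; simp [hij]
        · intro h; exact absurd (Finset.mem_univ j) h
      have h3 : sqNorm (d : GolayPt → ℤ) ≤
          2 * sqNorm ((act g (e8 j) : L) : GolayPt → ℤ) + 2 * sqNorm ((e8 j : L) : GolayPt → ℤ) := by
        simp only [sqNorm, Finset.mul_sum, ← Finset.sum_add_distrib]
        refine Finset.sum_le_sum fun i _ => ?_
        rw [hd, AddSubgroup.coe_sub, Pi.sub_apply]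
        nlinarith [sq_nonneg (((act g (e8 j) : L) : GolayPt → ℤ) i + ((e8 j : L) : GolayPt → ℤ) i)]
      have h4 : sqNorm ((act g (e8 j) : L) : GolayPt → ℤ) = 64 := h1.trans h2
      linarith
    have hpar := (mem_leechLattice.1 d.2).1
    have hz : d = 0 := by
      by_contra hne
      obtain ⟨i, hi⟩ : ∃ i, (d : GolayPt → ℤ) i ≠ 0 := by
        by_contra hall
        push Not at hall
        exact hne (Subtype.ext (funext hall))
      obtain ⟨i', hi'⟩ := exists_ne i
      have hbig : ∀ k, (d : GolayPt → ℤ) k ≠ 0 → 169 ≤ (d : GolayPt → ℤ) k ^ 2 := by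
        intro k hk
        obtain ⟨z, hz⟩ := hdiv k
        rw [hz] at hk ⊢
        have : z ≠ 0 := fun h => hk (by rw [h, mul_zero])
        nlinarith [mul_self_pos.2 this]
      have hpair : (d : GolayPt → ℤ) i ^ 2 + (d : GolayPt → ℤ) i' ^ 2 ≤ sqNorm (d : GolayPt → ℤ) := by
        rw [← Finset.sum_pair (f := fun k => (d : GolayPt → ℤ) k ^ 2) hi'.symm]
        exact Finset.sum_le_sum_of_subset_of_nonneg (Finset.subset_univ _) fun k _ _ => sq_nonneg _
      have hi0 : (d : GolayPt → ℤ) i' = 0 := by
        by_contra h0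
        have := hbig i hi
        have := hbig i' h0
        linarith
      obtain ⟨z, hz⟩ := hdiv i
      have := hbig i hi
      have hlt : -2 < z ∧ z < 2 := by
        rw [hz, hi0] at hpair
        constructor <;> nlinarith
      have e1 := hpar i
      have e2 := hpar i'
      rw [hi0] at e2
      rw [hz] at e1
      have : z ≠ 0 := fun h => hi (by rw [hz, h, mul_zero])
      omega
    exact sub_eq_zero.1 hz
  apply Subtype.ext
  refine Equiv.ext fun x => ?_
  have h := congrArg (act g) (eight_smul x)
  rw [map_zsmul, map_sum] at h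
  simp only [map_zsmul, hfix] at h
  rw [← eight_smul] at h
  apply Subtype.ext
  funext i
  have := congrArg (fun y : L => (y : GolayPt → ℤ) i) h
  simp only [AddSubgroup.coe_zsmul, Pi.smul_apply, smul_eq_mul] at this
  show ((act g x : L) : GolayPt → ℤ) i = (x : GolayPt → ℤ) i
  linarith

/-- The functional `v ↦ v·u / 4`. -/
def func : (GolayPt → ZMod 13) →ₗ[ZMod 13] ZMod 13 :=
  LinearMap.proj (R := ZMod 13) (φ := fun _ : GolayPt => ZMod 13) none +
    LinearMap.proj (R := ZMod 13) (φ := fun _ : GolayPt => ZMod 13) (some 0)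

abbrev W : Submodule (ZMod 13) (GolayPt → ZMod 13) := LinearMap.ker func

theorem func_mat (g : H) (v : GolayPt → ZMod 13) : func (mat g v) = func v := by
  obtain ⟨x, rfl⟩ := red_surjective v
  have hu : ∀ y : L, func (red y) * 4 = ((dotInt (y : GolayPt → ℤ) Spor.vecU : ℤ) : ZMod 13) := by
    intro y
    have hne : (none : GolayPt) ≠ some 0 := by simp
    rw [dotInt, ← Finset.sum_subset (Finset.subset_univ ({none, some 0} : Finset GolayPt)),
      Finset.sum_pair hne]
    · simp [Spor.vecU, func, red, add_mul]
    · intro i _ hi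
      simp only [Finset.mem_insert, Finset.mem_singleton] at hi
      rw [Spor.vecU, if_neg hi, mul_zero]
  rw [mat_red]
  have h := dot_act g x Spor.leechU
  rw [show act g Spor.leechU = Spor.leechU from fixU g] at h
  have h4 : (4 : ZMod 13) * 10 = 1 := by decide
  have := congrArg (fun t : ℤ => (t : ZMod 13)) h
  change ((dotInt _ Spor.vecU : ℤ) : ZMod 13) = ((dotInt _ Spor.vecU : ℤ) : ZMod 13) at this
  rw [← hu, ← hu] at this
  linear_combination 10 * this - (func (red (act g x)) - func (red x)) * h4

/-- The representation on the hyperplane. -/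
def rep : H →* Module.End (ZMod 13) W where
  toFun g := (mat g).restrict fun v hv => by
    rw [LinearMap.mem_ker] at hv ⊢
    rw [func_mat, hv]
  map_one' := by
    refine LinearMap.ext fun v => Subtype.ext ?_
    show mat 1 (v : GolayPt → ZMod 13) = v
    rw [mat_one]; rfl
  map_mul' g h := by
    refine LinearMap.ext fun v => Subtype.ext ?_
    show mat (g * h) (v : GolayPt → ZMod 13) = mat g (mat h v)
    rw [mat_mul]; rfl

theorem rep_apply (g : H) (v : W) :
    (rep g v : GolayPt → ZMod 13) = mat g (v : GolayPt → ZMod 13) :=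
  rfl

attribute [local irreducible] mat red

theorem rep_injective : Function.Injective rep := by
  rw [injective_iff_map_eq_one]
  intro g hg
  apply mat_injective
  refine LinearMap.ext fun v => ?_
  have hW : ∀ w, func w = 0 → mat g w = w := by
    intro w hw
    have h : (rep g ⟨w, LinearMap.mem_ker.2 hw⟩ : GolayPt → ZMod 13) = mat g w := rep_apply g _
    rw [← h, hg, Module.End.one_apply]
  set u := red Spor.leechU with hu
  have hgu : mat g u = u := by
    rw [hu, mat_red, show act g Spor.leechU = Spor.leechU from fixU g]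
  have hfu : func u = 8 := by
    rw [hu]
    unfold red
    simp [func, Spor.leechU, Spor.vecU]
    norm_num
  have h1 := hW (v - (5 * func v) • u) (by
    rw [map_sub, map_smul, hfu, smul_eq_mul]
    have h5 : (5 : ZMod 13) * 8 = 1 := by decide
    linear_combination -(func v) * h5)
  rw [map_sub, map_smul, hgu] at h1
  simpa using h1

theorem finrank_W [Fact (Nat.Prime 13)] : Module.finrank (ZMod 13) W = 23 := by
  have h := LinearMap.finrank_range_add_finrank_ker func
  have hs : LinearMap.range func = ⊤ := by
    rw [LinearMap.range_eq_top]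
    intro c
    exact ⟨fun i => if i = none then c else 0, by simp [func]⟩
  rw [hs, finrank_top, Module.finrank_self, Module.finrank_pi] at h
  have h24 : Fintype.card GolayPt = 24 := rfl
  rw [h24] at h
  show Module.finrank (ZMod 13) (LinearMap.ker func) = 23
  omega

/-- The second Conway group (the stabilizer in the Leech lattice automorphism group of the short vector fixed in the definitions) is isomorphic to a subgroup of the general linear group of degree 23 over the field with 13 elements: there is an injective homomorphism into it. -/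
theorem result : ∃ f : ↥Cfsg.Spor.Co2 →* GL (Fin 23) (ZMod 13), Function.Injective f := by
  haveI : Fact (Nat.Prime 13) := ⟨by norm_num⟩
  let b : Module.Basis (Fin 23) (ZMod 13) W := (Module.finBasis (ZMod 13) W).reindex (finCongr finrank_W)
  let f : H →* Matrix (Fin 23) (Fin 23) (ZMod 13) :=
    (LinearMap.toMatrixAlgEquiv b).toAlgHom.toRingHom.toMonoidHom.comp rep
  refine ⟨f.toHomUnits, fun g h hgh => ?_⟩
  apply rep_injective
  exact (LinearMap.toMatrixAlgEquiv b).injective (congrArg Units.val hgh)

end Cfsg.Agent.S5546
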