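import Cfsg.Statements.S5548
import Cfsg.Agent.Lib.Mathieu.Generators

set_option autoImplicit false
open Cfsg Cfsg.Agent.Mathieu

namespace Cfsg.Agent.S5548

abbrev V : Type := GolayPt → ZMod 2

/-- The word moved by the translation by `i`. -/
def T (i : ZMod 23) : V →ₗ[ZMod 2] V := LinearMap.funLeft (ZMod 2) (ZMod 2) (Option.map (· - i))

/-- The word moved by `x ↦ -1/x`. -/
def PI : V →ₗ[ZMod 2] V := LinearMap.funLeft (ZMod 2) (ZMod 2) projInv.symm

/-- The word moved by the inverse of `cubeTwist`. -/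
def CT : V →ₗ[ZMod 2] V := LinearMap.funLeft (ZMod 2) (ZMod 2) cubeTwistFun

/-- The word moved by `x ↦ -x`. -/
def NEG : V →ₗ[ZMod 2] V := LinearMap.funLeft (ZMod 2) (ZMod 2) (Option.map (fun x : ZMod 23 => -x))

def sqs : Finset (ZMod 23) := Finset.univ.filter fun x => ∃ r : ZMod 23, x = r ^ 2
def nsqs : Finset (ZMod 23) := Finset.univ.filter fun x => ∃ r : ZMod 23, -x = r ^ 2

def E (S : Finset (ZMod 23)) : V →ₗ[ZMod 2] V := ∑ i ∈ S, T i

abbrev e0 : V →ₗ[ZMod 2] V := E Finset.univ
abbrev eA : V →ₗ[ZMod 2] V := E sqs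
abbrev eB : V →ₗ[ZMod 2] V := E nsqs

def inf : V := Pi.single none 1
def fin : V := fun p => if p = none then 0 else 1

theorem ext_single {f g : V →ₗ[ZMod 2] V} (h : ∀ j p, f (Pi.single j 1) p = g (Pi.single j 1) p) :
    f = g :=
  (Pi.basisFun (ZMod 2) GolayPt).ext fun j => by
    rw [Pi.basisFun_apply]; exact funext (h j)

theorem split (w : V) : w = e0 w + eA w + eB w := by
  have h : (e0 + eA + eB) = LinearMap.id := ext_single (by decide +kernel)
  exact (LinearMap.congr_fun h w).symm

theorem T_succ (i : ZMod 23) (w : V) : T (i + 1) w = T 1 (T i w) := by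
  funext p
  cases p with
  | none => rfl
  | some x =>
    show w (some (x - (i + 1))) = w (some (x - 1 - i))
    congr 2; ring

theorem E_T (S : Finset (ZMod 23)) (w : V) : E S (T 1 w) = T 1 (E S w) := by
  simp only [E, LinearMap.coe_sum, Finset.sum_apply, map_sum]
  refine Finset.sum_congr rfl fun i _ => ?_
  rw [← T_succ]
  funext p
  cases p with
  | none => rfl
  | some x =>
    show w (some (x - i - 1)) = w (some (x - (i + 1)))
    congr 2; ring

theorem idem : eA ∘ₗ eA = eA ∧ eB ∘ₗ eB = eB := ⟨ext_single (by decide +kernel), ext_single (by decide +kernel)⟩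

theorem eA_code (w : V) : eA w ∈ golayCode := by
  have h : ∀ j : GolayPt, eA (Pi.single j 1) = (j.map qrWord).getD 0 := by decide +kernel
  have hw : w = ∑ j, w j • (Pi.single j 1 : V) := by
    funext p; simp [Finset.sum_apply, Pi.single_apply]
  rw [hw, map_sum]
  refine sum_mem fun j _ => ?_
  rw [map_smul, h]
  refine Submodule.smul_mem _ _ ?_
  cases j with
  | none => exact zero_mem _
  | some t => exact Submodule.subset_span (Or.inl ⟨t, rfl⟩)

theorem eB_code (w : V) : NEG (eB w) ∈ golayCode := by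
  have h : NEG ∘ₗ eB = eA ∘ₗ NEG := ext_single (by decide +kernel)
  rw [show NEG (eB w) = eA (NEG w) from LinearMap.congr_fun h w]
  exact eA_code _

theorem card_sets : sqs.card = 12 ∧ nsqs.card = 12 := by decide +kernel

theorem no_fixed {S : Finset (ZMod 23)} (hS : S.card = 12) {a : V} (ha : E S a = a)
    (hT : T 1 a = a) : a = 0 := by
  have hall : ∀ n : ℕ, T (n : ZMod 23) a = a := by
    intro n
    induction n with
    | zero => funext p; cases p <;> simp [T, LinearMap.funLeft]
    | succ n ih => rw [Nat.cast_succ, T_succ, ih, hT]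
  rw [← ha, E, LinearMap.coe_sum, Finset.sum_apply, Finset.sum_congr rfl
    (fun i _ => (by rw [← ZMod.natCast_zmod_val i]; exact hall _ : T i a = a)),
    Finset.sum_const, hS]
  funext p
  rw [Pi.smul_apply, nsmul_eq_mul, show ((12 : ℕ) : ZMod 2) = 0 by decide, zero_mul, Pi.zero_apply]

/-- A translation invariant subspace without fixed words, embedded in the code, is trivial or has
`2 ^ 11` elements. -/
theorem card_inv (U : Submodule (ZMod 2) V) (hU : ∀ u ∈ U, T 1 u ∈ U)
    (hfix : ∀ u ∈ U, T 1 u = u → u = 0) (N : V →ₗ[ZMod 2] V) (hN : Function.Injective N)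
    (hNC : ∀ u ∈ U, N u ∈ golayCode) : U = ⊥ ∨ Nat.card U = 2 ^ 11 := by
  classical
  haveI : Fact (Nat.Prime 23) := ⟨by norm_num⟩
  have hTinj : Function.Injective (T 1) :=
    LinearMap.funLeft_injective_of_surjective _ _ _ fun y =>
      ⟨y.map (· + 1), by cases y <;> simp⟩
  let f : Equiv.Perm U := Equiv.ofBijective (fun u => ⟨T 1 u, hU u u.2⟩)
    ((Finite.injective_iff_bijective).1 fun a b h => Subtype.ext (hTinj (congrArg Subtype.val h)))
  have hpow : ∀ n : ℕ, ∀ u : U, (((f ^ n) u : U) : V) = T (n : ZMod 23) u := by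
    intro n
    induction n with
    | zero => intro u; funext p; cases p <;> simp [T, LinearMap.funLeft]
    | succ n ih =>
      intro u
      rw [pow_succ', Equiv.Perm.mul_apply, Nat.cast_succ, T_succ, ← ih]
      rfl
  have hf : f ^ 23 ^ 1 = 1 := by
    rw [pow_one]
    refine Equiv.ext fun u => Subtype.ext ?_
    rw [hpow, show ((23 : ℕ) : ZMod 23) = 0 from ZMod.natCast_self 23]
    funext p; cases p <;> simp [T, LinearMap.funLeft]
  have hmod : Nat.card U ≡ 1 [MOD 23] := by
    have := Equiv.Perm.card_compl_support_modEq hf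
    have hsupp : f.supportᶜ = {0} := by
      ext u
      rw [Finset.mem_compl, Equiv.Perm.mem_support, not_not, Finset.mem_singleton]
      refine ⟨fun h => Subtype.ext (hfix u u.2 (congrArg Subtype.val h)), ?_⟩
      rintro rfl
      exact Subtype.ext (map_zero (T 1))
    rw [hsupp, Finset.card_singleton, ← Nat.card_eq_fintype_card] at this
    exact this.symm
  have hle : Nat.card U ≤ 4096 := by
    have h := Nat.card_le_card_of_injective (α := U) (β := golayCode)
      (fun u => ⟨N u, hNC u u.2⟩) (fun a b h => Subtype.ext (hN (congrArg Subtype.val h)))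
    rwa [Module.natCard_eq_pow_finrank (K := ZMod 2) (V := golayCode), finrank_golayCode,
      Nat.card_zmod] at h
  obtain ⟨k, hk⟩ : ∃ k, Nat.card U = 2 ^ k :=
    ⟨_, by rw [Module.natCard_eq_pow_finrank (K := ZMod 2) (V := U), Nat.card_zmod]⟩
  have hk12 : k ≤ 12 := (Nat.pow_le_pow_iff_right (le_refl 2)).1 (hk ▸ hle)
  rw [hk] at hmod ⊢
  rw [Nat.ModEq] at hmod
  interval_cases k
  all_goals first
    | (right; rfl)
    | omega
    | skip
  left
  rw [Submodule.eq_bot_iff]
  intro u hu
  have := (Nat.card_eq_one_iff_unique.1 hk).1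
  exact congrArg Subtype.val (Subsingleton.elim (⟨u, hu⟩ : U) 0)

theorem range_eq {S : Finset (ZMod 23)} (hS : S.card = 12) (hid : E S ∘ₗ E S = E S)
    (N : V →ₗ[ZMod 2] V) (hN : Function.Injective N) (hNC : ∀ w, N (E S w) ∈ golayCode)
    (W : Submodule (ZMod 2) V) (hT : ∀ w ∈ W, T 1 w ∈ W) {w₀ : V} (hw₀ : E S w₀ ∈ W)
    (hne : E S w₀ ≠ 0) (v : V) : E S v ∈ W := by
  have hfixR : ∀ u ∈ LinearMap.range (E S), T 1 u = u → u = 0 := by
    rintro _ ⟨x, rfl⟩ h
    exact no_fixed hS (LinearMap.congr_fun hid x) h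
  have hR : ∀ u ∈ LinearMap.range (E S), T 1 u ∈ LinearMap.range (E S) := by
    rintro _ ⟨x, rfl⟩; exact ⟨T 1 x, E_T S x⟩
  have hC : ∀ u ∈ LinearMap.range (E S), N u ∈ golayCode := by
    rintro _ ⟨x, rfl⟩; exact hNC x
  have h1 := card_inv _ hR hfixR N hN hC
  have h2 := card_inv (W ⊓ LinearMap.range (E S)) (fun u hu => ⟨hT u hu.1, hR u hu.2⟩)
    (fun u hu => hfixR u hu.2) N hN (fun u hu => hC u hu.2)
  have hm : E S w₀ ∈ W ⊓ LinearMap.range (E S) := ⟨hw₀, ⟨w₀, rfl⟩⟩
  have hb2 : W ⊓ LinearMap.range (E S) ≠ ⊥ := fun h => hne ((Submodule.eq_bot_iff _).1 h _ hm)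
  have hb1 : LinearMap.range (E S) ≠ ⊥ := fun h => hne ((Submodule.eq_bot_iff _).1 h _ hm.2)
  have heq : W ⊓ LinearMap.range (E S) = LinearMap.range (E S) := by
    apply SetLike.coe_injective
    refine Set.eq_of_subset_of_ncard_le (fun u hu => hu.2) ?_ (Set.toFinite _)
    rw [← Nat.card_coe_set_eq, ← Nat.card_coe_set_eq]
    exact ((h1.resolve_left hb1).trans (h2.resolve_left hb2).symm).le
  have : E S v ∈ W ⊓ LinearMap.range (E S) := by rw [heq]; exact ⟨v, rfl⟩
  exact this.1

theorem e0_form (w : V) : e0 w = e0 w none • inf + e0 w (some 0) • fin := by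
  have h : e0 = ((LinearMap.proj (R := ZMod 2) (φ := fun _ : GolayPt => ZMod 2) none).comp e0).smulRight inf +
      ((LinearMap.proj (R := ZMod 2) (φ := fun _ : GolayPt => ZMod 2) (some 0)).comp e0).smulRight fin :=
    ext_single (by decide +kernel)
  exact LinearMap.congr_fun h w

theorem zmod_two (a : ZMod 2) : a = 0 ∨ a = 1 := by revert a; decide

/-- Coordinate sum. -/
def total : V →ₗ[ZMod 2] ZMod 2 := ∑ p, LinearMap.proj (R := ZMod 2) (φ := fun _ : GolayPt => ZMod 2) p

theorem total_apply (w : V) : total w = ∑ p, w p := by simp [total]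

theorem total_eq (w : V) : e0 w none + e0 w (some 0) = ∑ p, w p := by
  have h : (LinearMap.proj (R := ZMod 2) (φ := fun _ : GolayPt => ZMod 2) none).comp e0 +
      (LinearMap.proj (R := ZMod 2) (φ := fun _ : GolayPt => ZMod 2) (some 0)).comp e0 = total :=
    (Pi.basisFun (ZMod 2) GolayPt).ext fun j => by
      rw [Pi.basisFun_apply]; revert j; decide +kernel
  rw [← total_apply]; exact LinearMap.congr_fun h w

/-- For the automorphism group of the length-24 binary Golay code of the definitions (the Mathieu group of degree 24) acting on binary words of length 24 by permuting coordinates, the only invariant subspaces of the space of all words are: zero, the span of the all-ones word, the code itself, the even-weight words, and the whole space. (So the permutation module has a unique composition series.) -/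
theorem result (W : Submodule (ZMod 2) (Cfsg.GolayPt → ZMod 2)) (hW : ∀ σ ∈ Cfsg.M24, ∀ w ∈ W, (fun p => w (σ.symm p)) ∈ W) : W = ⊥ ∨ W = Submodule.span (ZMod 2) {fun _ => (1 : ZMod 2)} ∨ W = Cfsg.golayCode ∨ (W : Set (Cfsg.GolayPt → ZMod 2)) = {w | ∑ p, w p = 0} ∨ W = ⊤ := by
  classical
  have hT1 : ∀ w ∈ W, T 1 w ∈ W := fun w hw => by
    have h := hW _ translation_mem w hw
    convert h using 1
    funext p
    cases p with
    | none => rfl
    | some x => simp [T, LinearMap.funLeft, Equiv.optionCongr, sub_eq_add_neg]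
  have hT : ∀ n : ℕ, ∀ w ∈ W, T (n : ZMod 23) w ∈ W := by
    intro n
    induction n with
    | zero =>
      intro w hw
      convert hw using 1
      funext p; cases p <;> simp [T, LinearMap.funLeft]
    | succ n ih => intro w hw; rw [Nat.cast_succ, T_succ]; exact hT1 _ (ih w hw)
  have hE : ∀ S, ∀ w ∈ W, E S w ∈ W := fun S w hw => by
    rw [E, LinearMap.coe_sum, Finset.sum_apply]
    exact sum_mem fun i _ => by rw [← ZMod.natCast_zmod_val i]; exact hT _ w hw
  have hPI : ∀ w ∈ W, PI w ∈ W := fun w hw => hW _ projInv_mem w hw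
  have hA : (∃ w ∈ W, eA w ≠ 0) → ∀ v, eA v ∈ W := fun ⟨w, hw, hne⟩ =>
    range_eq card_sets.1 idem.1 LinearMap.id Function.injective_id eA_code W hT1 (hE sqs w hw) hne
  have hB : (∃ w ∈ W, eB w ≠ 0) → ∀ v, eB v ∈ W := fun ⟨w, hw, hne⟩ =>
    range_eq card_sets.2 idem.2 NEG (LinearMap.funLeft_injective_of_surjective _ _ _ (by decide))
      eB_code W hT1 (hE nsqs w hw) hne
  by_cases htop : inf ∈ W ∨ fin ∈ W
  · right; right; right; right
    have key : (∀ v, eA v ∈ W) ∧ (∀ v, eB v ∈ W) ∧ inf ∈ W ∧ fin ∈ W := by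
      rcases htop with h | h
      · refine ⟨hA ⟨_, hPI _ h, by decide +kernel⟩, hB ⟨_, hPI _ h, by decide +kernel⟩, h, ?_⟩
        have h1 := hE Finset.univ _ (hPI _ h)
        rwa [show e0 (PI inf) = fin by decide +kernel] at h1
      · refine ⟨hA ⟨_, hPI _ h, by decide +kernel⟩, hB ⟨_, hPI _ h, by decide +kernel⟩, ?_, h⟩
        have h1 := hE Finset.univ _ (hPI _ h)
        rwa [show e0 (PI fin) = inf by decide +kernel] at h1
    rw [eq_top_iff]
    intro w _
    rw [split w, e0_form w]
    exact add_mem (add_mem (add_mem (W.smul_mem _ key.2.2.1) (W.smul_mem _ key.2.2.2)) (key.1 w)) (key.2.1 w)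
  push Not at htop
  have h0 : ∀ w ∈ W, e0 w none = e0 w (some 0) := by
    intro w hw
    have h := hE Finset.univ w hw
    rw [show E Finset.univ w = _ from e0_form w] at h
    rcases zmod_two (e0 w none) with a | a <;> rcases zmod_two (e0 w (some 0)) with b | b <;>
      simp only [a, b, zero_smul, one_smul, zero_add, add_zero] at h ⊢
    · exact absurd h htop.2
    · exact absurd h htop.1
  have hone : inf + fin = (1 : V) := by decide +kernel
  have he0 : ∀ w, e0 w none = e0 w (some 0) → e0 w = e0 w none • (1 : V) := fun w h => by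
    rw [e0_form w, ← hone, smul_add]
    simp [← h, inf, fin]
  have h1C : (1 : V) ∈ golayCode := Submodule.subset_span (Or.inr rfl)
  have hA1 : (∀ v, eA v ∈ W) → (1 : V) ∈ W := fun hA' => by
    have h := hE Finset.univ _ (hPI _ (hA' (Pi.single (some 0) 1)))
    rwa [show e0 (PI (eA (Pi.single (some 0) 1))) = (1 : V) by decide +kernel] at h
  by_cases hb : ∃ w ∈ W, eB w ≠ 0
  · right; right; right; left
    have hB' := hB hb
    have hCT : ∀ w ∈ W, CT w ∈ W := fun w hw => hW _ (inv_mem cubeTwist_mem) w hw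
    have hA' := hA ⟨_, hCT _ (hB' (Pi.single (some 1) 1)), by decide +kernel⟩
    have h1 := hA1 hA'
    ext w
    show w ∈ W ↔ ∑ p, w p = 0
    rw [← total_eq]
    constructor
    · intro hw; rw [h0 w hw]; rcases zmod_two (e0 w (some 0)) with h | h <;> rw [h] <;> rfl
    · intro hw
      have h' : e0 w none = e0 w (some 0) := by
        rcases zmod_two (e0 w none) with a | a <;> rcases zmod_two (e0 w (some 0)) with b | b <;>
          rw [a, b] at hw ⊢ <;> revert hw <;> decide
      rw [split w, he0 w h']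
      exact add_mem (add_mem (W.smul_mem _ h1) (hA' w)) (hB' w)
  push Not at hb
  by_cases ha : ∃ w ∈ W, eA w ≠ 0
  · right; right; left
    have hA' := hA ha
    have h1 := hA1 hA'
    refine le_antisymm (fun w hw => ?_) ?_
    · rw [split w, hb w hw, add_zero, he0 w (h0 w hw)]
      exact add_mem (Submodule.smul_mem _ _ h1C) (eA_code w)
    · rw [golayCode, Submodule.span_le]
      intro w hw
      have hC : e0 w none = e0 w (some 0) ∧ eB w = 0 := by
        rcases hw with ⟨t, rfl⟩ | rfl
        · revert t; decide +kernel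
        · decide +kernel
      show w ∈ W
      rw [split w, hC.2, add_zero, he0 w hC.1]
      exact add_mem (W.smul_mem _ h1) (hA' w)
  push Not at ha
  have hle : ∀ w ∈ W, w = e0 w none • (1 : V) := fun w hw => by
    conv_lhs => rw [split w, hb w hw, ha w hw, add_zero, add_zero, he0 w (h0 w hw)]
  by_cases h1 : (1 : V) ∈ W
  · right; left
    refine le_antisymm (fun w hw => ?_) ((Submodule.span_singleton_le_iff_mem _ _).2 h1)
    rw [hle w hw]
    exact Submodule.smul_mem _ _ (Submodule.mem_span_singleton_self _)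
  · left
    rw [Submodule.eq_bot_iff]
    intro w hw
    rcases zmod_two (e0 w none) with a | a
    · rw [hle w hw, a, zero_smul]
    · exact absurd (by rw [hle w hw, a, one_smul] at hw; exact hw) h1

end Cfsg.Agent.S5548
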