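import Cfsg.Statements.S5549
import Cfsg.Agent.Lib.Mathieu.Octads
import Cfsg.Agent.Lib.Mathieu.Trans

set_option autoImplicit false
open Cfsg Cfsg.Agent.Mathieu
open scoped Pointwise

namespace Cfsg.Agent.S5549

abbrev V : Type := GolayPt → ZMod 2

/-- Sum of a word over a set of positions. -/
def dot (S : Finset GolayPt) (w : V) : ZMod 2 := ∑ p, if p ∈ S then w p else 0

theorem dot_eq (S : Finset GolayPt) (w : V) : dot S w = ∑ p ∈ S, w p := by
  rw [dot, Finset.sum_ite_mem, Finset.univ_inter]

theorem dot_symmDiff (S T : Finset GolayPt) (w : V) :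
    dot (symmDiff S T) w = dot S w + dot T w := by
  rw [dot, dot, dot, ← Finset.sum_add_distrib]
  refine Finset.sum_congr rfl fun p _ => ?_
  by_cases h1 : p ∈ S <;> by_cases h2 : p ∈ T <;>
    simp [Finset.mem_symmDiff, h1, h2, CharTwo.add_self_eq_zero]

theorem dot_pair {p q : GolayPt} (h : p ≠ q) (w : V) : dot {p, q} w = w p + w q := by
  rw [dot_eq, Finset.sum_pair h]

theorem zmod_two_cases (a : ZMod 2) : a = 0 ∨ a = 1 := by revert a; decide

theorem support_injective : Function.Injective (support₂ : V → Finset GolayPt) := by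
  intro u w h
  funext p
  have := Finset.ext_iff.1 h p
  simp only [support₂, Finset.mem_filter, Finset.mem_univ, true_and] at this
  rcases zmod_two_cases (u p) with hu | hu <;> rcases zmod_two_cases (w p) with hw | hw <;>
    simp_all

theorem mem_code_iff {w : V} :
    w ∈ golayCode ↔ support₂ w ∈ supports (golayCode : Set V) := by
  refine ⟨fun h => ⟨w, h, rfl⟩, ?_⟩
  rintro ⟨u, hu, he⟩
  rw [← support_injective he]; exact hu

theorem support_perm (σ : Equiv.Perm GolayPt) (w : V) :
    support₂ (fun p => w (σ.symm p)) = σ • support₂ w := by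
  ext p
  simp [support₂, mem_smul_pts]

theorem perm_mem {σ : Equiv.Perm GolayPt} (hσ : σ ∈ M24) {w : V} (hw : w ∈ golayCode) :
    (fun p => w (σ.symm p)) ∈ golayCode := by
  rw [mem_code_iff, support_perm]
  exact mem_M24_iff.1 hσ _ (mem_code_iff.1 hw)

theorem wt_compl (w : V) : (support₂ (w + fun _ => (1 : ZMod 2))).card = 24 - (support₂ w).card := by
  have : support₂ (w + fun _ => (1 : ZMod 2)) = (support₂ w)ᶜ := by
    ext p
    rcases zmod_two_cases (w p) with h | h <;> simp [support₂, h, CharTwo.add_self_eq_zero]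
  rw [this, Finset.card_compl]
  simp

theorem dot_code {o : Finset GolayPt} (ho : o ∈ octads) {c : V} (hc : c ∈ golayCode) :
    dot o c = 0 := by
  obtain ⟨⟨u, hu, rfl⟩, -⟩ := ho
  have h := golayCode_orth hu hc
  rw [← h, dot]
  refine Finset.sum_congr rfl fun p _ => ?_
  rcases zmod_two_cases (u p) with e | e <;> simp [support₂, e]

/-- Every even set of positions is congruent to one of size 0, 2 or 4. -/
theorem exists_small (S : Finset GolayPt) (he : Even S.card) :
    ∃ T : Finset GolayPt, (T.card = 0 ∨ T.card = 2 ∨ T.card = 4) ∧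
      ∀ c ∈ golayCode, dot T c = dot S c := by
  induction hn : S.card using Nat.strong_induction_on generalizing S with
  | _ n ih =>
    subst hn
    by_cases h5 : S.card < 5
    · refine ⟨S, ?_, fun _ _ => rfl⟩
      obtain ⟨k, hk⟩ := he
      omega
    · obtain ⟨F, hFS, hF⟩ := Finset.exists_subset_card_eq (s := S) (show 5 ≤ S.card by omega)
      obtain ⟨o, ho, hFo⟩ := exists_octad hF
      have h1 := card_inter_add_card_symmDiff S o
      rw [octad_card ho] at h1
      have h2 : 5 ≤ (S ∩ o).card := hF ▸ Finset.card_le_card (Finset.subset_inter hFS hFo)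
      have he' : Even (symmDiff S o).card := by
        obtain ⟨k, hk⟩ := he
        exact ⟨k + 4 - (S ∩ o).card, by omega⟩
      obtain ⟨T, hT, hT'⟩ := ih _ (by omega) _ he' rfl
      exact ⟨T, hT, fun c hc => by
        rw [hT' c hc, dot_symmDiff, dot_code ho hc, add_zero]⟩

/-- The code words of weight 8 or 16. -/
def Sixteen (w : V) : Prop := (support₂ w).card = 8 ∨ (support₂ w).card = 16

/-- Number of words of weight 8 or 16 with odd sum over `S`. -/
noncomputable def N (S : Finset GolayPt) : ℕ :=
  {c : golayCode | Sixteen (c : V) ∧ dot S (c : V) = 1}.ncard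

theorem N_smul {σ : Equiv.Perm GolayPt} (hσ : σ ∈ M24) (S : Finset GolayPt) : N (σ • S) = N S := by
  let f : golayCode → golayCode := fun c => ⟨fun p => (c : V) (σ.symm p), perm_mem hσ c.2⟩
  have hf : Function.Injective f := by
    intro c d h
    apply Subtype.ext
    funext p
    simpa [f] using congrFun (congrArg Subtype.val h) (σ p)
  have hsurj : Function.Surjective f := Finite.surjective_of_injective hf
  have hdot : ∀ w : V, dot (σ • S) (fun p => w (σ.symm p)) = dot S w := by
    intro w
    rw [dot, dot, ← Equiv.sum_comp σ]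
    simp [apply_mem_smul_pts]
  rw [N, N, ← Set.ncard_preimage_of_injective_subset_range hf
    (by rw [hsurj.range_eq]; exact Set.subset_univ _)]
  congr 1
  ext c
  simp only [Set.preimage_setOf_eq, Set.mem_ofPred_eq, f, Sixteen, support_perm,
    Finset.card_smul_finset, hdot]

/-- Boolean count. -/
def countOdd (s : ℕ) : ℕ :=
  (codeList.filter fun m => (popc 24 m == 8 || popc 24 m == 16) && popc 24 (m &&& s) % 2 == 1).length

theorem dot_wordOf (s m : ℕ) : dot (ptsOf s) (wordOf m) = (popc 24 (m &&& s) : ZMod 2) := by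
  rw [← card_ptsOf, ptsOf_and, show ptsOf m ∩ ptsOf s =
      Finset.univ.filter (fun i => hasPt m i = true ∧ hasPt s i = true) by
    ext i; simp [mem_ptsOf], Finset.natCast_card_filter, dot]
  refine Finset.sum_congr rfl fun i _ => ?_
  simp only [mem_ptsOf, wordOf]
  cases hasPt m i <;> cases hasPt s i <;> simp

theorem N_ptsOf (s : ℕ) : N (ptsOf s) = countOdd s := by
  rw [N, countOdd, ← Set.ncard_image_of_injective _ Subtype.val_injective]
  set L := codeList.filter fun m =>
    (popc 24 m == 8 || popc 24 m == 16) && popc 24 (m &&& s) % 2 == 1 with hL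
  have hset : Subtype.val '' {c : golayCode | Sixteen (c : V) ∧ dot (ptsOf s) (c : V) = 1} =
      wordOf '' (L.toFinset : Set ℕ) := by
    ext w
    constructor
    · rintro ⟨⟨w, hw⟩, ⟨h16, hdot⟩, rfl⟩
      obtain ⟨m, hm, rfl⟩ := mem_golayCode_iff.1 hw
      refine ⟨m, ?_, rfl⟩
      simp only [List.coe_toFinset, Set.mem_ofPred_eq, hL, List.mem_filter, Bool.and_eq_true,
        Bool.or_eq_true, beq_iff_eq, ← inCode_iff_mem]
      simp only [Sixteen, support₂_wordOf, card_ptsOf] at h16
      refine ⟨hm, h16, ?_⟩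
      rw [dot_wordOf, ← ZMod.natCast_mod] at hdot
      rcases Nat.mod_two_eq_zero_or_one (popc 24 (m &&& s)) with h | h
      · rw [h] at hdot; exact absurd hdot (by decide)
      · exact h
    · rintro ⟨m, hm, rfl⟩
      simp only [List.coe_toFinset, Set.mem_ofPred_eq, hL, List.mem_filter, Bool.and_eq_true,
        Bool.or_eq_true, beq_iff_eq, ← inCode_iff_mem] at hm
      refine ⟨⟨wordOf m, wordOf_mem_of_inCode hm.1⟩, ⟨?_, ?_⟩, rfl⟩
      · simp only [Sixteen, support₂_wordOf, card_ptsOf]; exact hm.2.1
      · rw [dot_wordOf, ← ZMod.natCast_mod, hm.2.2]; rfl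
  rw [hset, Set.InjOn.ncard_image, Set.ncard_coe_finset,
    List.toFinset_card_of_nodup (List.Nodup.filter _ codeList_nodup)]
  intro a ha b hb h
  simp only [List.coe_toFinset, Set.mem_ofPred_eq, hL, List.mem_filter, ← inCode_iff_mem] at ha hb
  exact wordOf_inj (inCode_spec ha.1).1 (inCode_spec hb.1).1 h

theorem N_small {k m : ℕ} (hk : k ≤ 5) (hm : (ptsOf m).card = k) {S : Finset GolayPt}
    (hS : S.card = k) : N S = countOdd m := by
  let x : Fin k ↪ GolayPt :=
    ((ptsOf m).equivFinOfCardEq hm).symm.toEmbedding.trans (Function.Embedding.subtype _)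
  let y : Fin k ↪ GolayPt :=
    (S.equivFinOfCardEq hS).symm.toEmbedding.trans (Function.Embedding.subtype _)
  obtain ⟨g, hg, hgx⟩ := M24_exists_map hk x y
  have hgS : g • ptsOf m = S := by
    refine Finset.eq_of_subset_of_card_le ?_ (by rw [Finset.card_smul_finset, hm, hS])
    intro p hp
    obtain ⟨q, rfl⟩ := g.surjective p
    rw [apply_mem_smul_pts] at hp
    have h := hgx ((ptsOf m).equivFinOfCardEq hm ⟨q, hp⟩)
    have hxq : x ((ptsOf m).equivFinOfCardEq hm ⟨q, hp⟩) = q := by simp [x]
    rw [hxq] at h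
    rw [h]
    exact ((S.equivFinOfCardEq hS).symm _).2
  rw [← hgS, N_smul hg, N_ptsOf]

theorem N_zero {S : Finset GolayPt} (hS : S.card = 0) : N S = 0 := by
  rw [N_small (m := 0) (k := 0) (by norm_num) (by rw [card_ptsOf]; decide +kernel) hS]
  decide +kernel

theorem N_two {S : Finset GolayPt} (hS : S.card = 2) : N S = 704 := by
  rw [N_small (m := 3) (k := 2) (by norm_num) (by rw [card_ptsOf]; decide +kernel) hS]
  decide +kernel

theorem N_four {S : Finset GolayPt} (hS : S.card = 4) : N S = 768 := by
  rw [N_small (m := 15) (k := 4) (by norm_num) (by rw [card_ptsOf]; decide +kernel) hS]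
  decide +kernel

theorem card_two_of_N {S : Finset GolayPt} (hS : S.card = 0 ∨ S.card = 2 ∨ S.card = 4)
    (hN : N S = 704) : S.card = 2 := by
  rcases hS with h | h | h
  · rw [N_zero h] at hN; omega
  · exact h
  · rw [N_four h] at hN; omega

theorem N_congr {S T : Finset GolayPt} (h : ∀ c ∈ golayCode, dot S c = dot T c) : N S = N T := by
  have e : {c : golayCode | Sixteen (c : V) ∧ dot S (c : V) = 1} =
      {c : golayCode | Sixteen (c : V) ∧ dot T (c : V) = 1} :=
    Set.ext fun c => by rw [Set.mem_ofPred_eq, Set.mem_ofPred_eq, h c c.2]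
  rw [N, N, e]

/-- Two-element sets are separated by the code and meet in a point when their sum is a pair. -/
theorem inter_card {A B P : Finset GolayPt} (hA : A.card = 2) (hB : B.card = 2) (hP : P.card = 2)
    (h : ∀ c ∈ golayCode, dot (symmDiff A B) c = dot P c) : (A ∩ B).card = 1 := by
  have hN : N (symmDiff A B) = 704 := by rw [N_congr h, N_two hP]
  have h1 := card_inter_add_card_symmDiff A B
  have h2 := card_two_of_N (by omega) hN
  omega

/-- Let X be a group of linear automorphisms of the length-24 binary Golay code of the definitions that fix the all-ones word, containing the coordinate-permutation action of every element of the code's automorphism group (the Mathieu group of degree 24), and such that every element of X sends each codeword into its orbit under that Mathieu group up to adding the all-ones word (X has the same orbits as the Mathieu group on the code modulo the all-ones word). Then every element of X agrees, modulo the all-ones word, with the action of a single element of the Mathieu group: X induces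 exactly the Mathieu group on the code modulo the all-ones word. -/
theorem result (X : Subgroup (↥Cfsg.golayCode ≃ₗ[ZMod 2] ↥Cfsg.golayCode)) (h1 : ∀ x ∈ X, ∀ e : ↥Cfsg.golayCode, (e : (Cfsg.GolayPt → ZMod 2)) = (fun _ => (1 : ZMod 2)) → x e = e) (hM : ∀ σ ∈ Cfsg.M24, ∃ x ∈ X, ∀ c : ↥Cfsg.golayCode, ((x c : ↥Cfsg.golayCode) : (Cfsg.GolayPt → ZMod 2)) = fun p => (c : (Cfsg.GolayPt → ZMod 2)) (σ.symm p)) (horb : ∀ x ∈ X, ∀ c : ↥Cfsg.golayCode, ∃ σ ∈ Cfsg.M24, ((x c : ↥Cfsg.golayCode) : (Cfsg.GolayPt → ZMod 2)) = (fun p => (c : (Cfsg.GolayPt → ZMod 2)) (σ.symm p)) ∨ ((x c : ↥Cfsg.golayCode) : (Cfsg.GolayPt → ZMod 2)) = (fun p => (c : (Cfsg.GolayPt → ZMod 2)) (σ.symm p)) + fun _ => (1 : ZMod 2)) (x : ↥Cfsg.golayCode ≃ₗ[ZMod 2] ↥Cfsg.golayCode) (hx : x ∈ X) : ∃ σ ∈ Cfsg.M24, ∀ c : ↥Cfsg.golayCode, ((x c : ↥Cfsg.golayCode) : (Cfsg.GolayPt → ZMod 2)) = (fun p => (c : (Cfsg.GolayPt → ZMod 2)) (σ.symm p)) ∨ ((x c : ↥Cfsg.golayCode) : (Cfsg.GolayPt → ZMod 2)) = (fun p => (c : (Cfsg.GolayPt → ZMod 2)) (σ.symm p)) + fun _ => (1 : ZMod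 2) := by
  classical
  let O : golayCode → Prop := fun c => Sixteen (c : V)
  have hO : ∀ c, O (x c) ↔ O c := by
    intro c
    obtain ⟨σ, hσ, h⟩ := horb x hx c
    have h24 : (support₂ (c : V)).card ≤ 24 := by
      have := Finset.card_le_univ (support₂ (c : V))
      simpa using this
    rcases h with h | h
    · simp only [O, Sixteen, h, support_perm, Finset.card_smul_finset]
    · simp only [O, Sixteen, h, wt_compl, support_perm, Finset.card_smul_finset]
      omega
  have hone : ∀ e : golayCode, (e : V) = (fun _ => (1 : ZMod 2)) → x e = e := h1 x hx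
  have honeC : (fun _ => (1 : ZMod 2) : V) ∈ golayCode := Submodule.subset_span (Or.inr rfl)
  -- the image of a duad
  have hT : ∀ p q : GolayPt, p ≠ q → ∃ T : Finset GolayPt, T.card = 2 ∧
      ∀ c : golayCode, dot T (c : V) = (x c : V) p + (x c : V) q := by
    intro p q hpq
    let g : golayCode →ₗ[ZMod 2] ZMod 2 :=
      ((LinearMap.proj (R := ZMod 2) (φ := fun _ : GolayPt => ZMod 2) p +
        LinearMap.proj (R := ZMod 2) (φ := fun _ : GolayPt => ZMod 2) q).comp golayCode.subtype).comp
        x.toLinearMap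
    obtain ⟨G, hG⟩ := LinearMap.exists_extend g
    set S : Finset GolayPt := Finset.univ.filter fun r => G (Pi.single r 1) ≠ 0 with hS
    have hGS : ∀ w : V, G w = dot S w := by
      intro w
      conv_lhs => rw [← Finset.univ_sum_single w]
      rw [map_sum, dot]
      refine Finset.sum_congr rfl fun r _ => ?_
      have : Pi.single r (w r) = w r • (Pi.single r 1 : V) := by
        rw [← Pi.single_smul, smul_eq_mul, mul_one]
      rw [this, map_smul]
      rcases zmod_two_cases (G (Pi.single r 1)) with e | e <;> simp [hS, e]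
    have hg : ∀ c : golayCode, dot S (c : V) = (x c : V) p + (x c : V) q := fun c => by
      rw [← hGS]; exact LinearMap.congr_fun hG c
    have heven : Even S.card := by
      have h := hg ⟨_, honeC⟩
      rw [hone _ rfl, dot_eq] at h
      simp only [Finset.sum_const, nsmul_eq_mul, mul_one, CharTwo.add_self_eq_zero] at h
      exact even_iff_two_dvd.2 ((ZMod.natCast_eq_zero_iff _ _).1 h)
    obtain ⟨T, hT, hTS⟩ := exists_small S heven
    refine ⟨T, card_two_of_N hT ?_, fun c => (hTS c c.2).trans (hg c)⟩
    rw [← N_two (Finset.card_pair hpq), N, N,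
      ← Set.ncard_image_of_injective _ x.injective]
    congr 1
    ext d
    obtain ⟨c, rfl⟩ := x.surjective d
    have e : dot {p, q} (x c : V) = dot T (c : V) := by
      rw [dot_pair hpq, hTS c c.2, hg c]
    simp only [x.injective.mem_set_image, Set.mem_ofPred_eq, e]
    exact and_congr_left fun _ => (hO c).symm
  choose D hD2 hD using fun i : ZMod 23 => hT none (some i) (Option.some_ne_none i).symm
  have hinter : ∀ i j, i ≠ j → (D i ∩ D j).card = 1 := by
    intro i j hij
    obtain ⟨P, hP2, hP⟩ := hT (some i) (some j) (by simpa using hij)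
    refine inter_card (hD2 i) (hD2 j) hP2 fun c hc => ?_
    rw [dot_symmDiff, hD i ⟨c, hc⟩, hD j ⟨c, hc⟩, hP ⟨c, hc⟩,
      show ∀ a b d : ZMod 2, a + b + (a + d) = b + d by decide]
  obtain ⟨a, ha⟩ := Finset.card_eq_one.1 (hinter 0 1 (by decide))
  have ha0 : a ∈ D 0 := (Finset.mem_inter.1 (ha ▸ Finset.mem_singleton_self a)).1
  have ha1 : a ∈ D 1 := (Finset.mem_inter.1 (ha ▸ Finset.mem_singleton_self a)).2
  have hmeet : ∀ i j, i ≠ j → ∀ {u v}, D i = {u, v} → u ∉ D j → v ∈ D j := by
    intro i j hij u v hi hu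
    obtain ⟨w, hw⟩ := Finset.card_eq_one.1 (hinter i j hij)
    have := Finset.mem_inter.1 (hw ▸ Finset.mem_singleton_self w)
    rw [hi] at this
    rcases Finset.mem_insert.1 this.1 with rfl | h
    · exact absurd this.2 hu
    · rw [← Finset.mem_singleton.1 h]; exact this.2
  obtain ⟨b, hb⟩ : ∃ b, D 0 = {a, b} := by
    obtain ⟨u, v, -, huv⟩ := Finset.card_eq_two.1 (hD2 0)
    rw [huv] at ha0 ⊢
    rcases Finset.mem_insert.1 ha0 with rfl | h
    · exact ⟨v, rfl⟩
    · exact ⟨u, by rw [Finset.mem_singleton.1 h, Finset.pair_comm]⟩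
  obtain ⟨c₁, hc₁⟩ : ∃ c₁, D 1 = {a, c₁} := by
    obtain ⟨u, v, -, huv⟩ := Finset.card_eq_two.1 (hD2 1)
    rw [huv] at ha1 ⊢
    rcases Finset.mem_insert.1 ha1 with rfl | h
    · exact ⟨v, rfl⟩
    · exact ⟨u, by rw [Finset.mem_singleton.1 h, Finset.pair_comm]⟩
  have hDinj : ∀ i j, D i = D j → i = j := by
    intro i j h
    by_contra hne
    have := hinter i j hne
    rw [h, Finset.inter_self, hD2] at this
    omega
  have hbc : b ≠ c₁ := fun h => absurd (hDinj 0 1 (by rw [hb, hc₁, h])) (by decide)
  have haD : ∀ i, a ∈ D i := by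
    intro r
    by_contra hr
    have hne0 : (0 : ZMod 23) ≠ r := fun h => hr (h ▸ ha0)
    have hne1 : (1 : ZMod 23) ≠ r := fun h => hr (h ▸ ha1)
    have hbr := hmeet 0 r hne0 hb hr
    have hcr := hmeet 1 r hne1 hc₁ hr
    have hsub : ∀ s, b ∈ D s → c₁ ∈ D s → D s = {b, c₁} := by
      intro s h1 h2
      refine (Finset.eq_of_subset_of_card_le ?_ ?_).symm
      · intro t ht
        rcases Finset.mem_insert.1 ht with rfl | h
        · exact h1
        · rw [Finset.mem_singleton.1 h]; exact h2
      · rw [hD2, Finset.card_pair hbc]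
    obtain ⟨s, hs⟩ : ∃ s, s ∉ ({0, 1, r} : Finset (ZMod 23)) := by
      by_contra h
      push Not at h
      have h3 : ({0, 1, r} : Finset (ZMod 23)).card ≤ 3 := Finset.card_le_three
      have := Finset.card_le_card (show (Finset.univ : Finset (ZMod 23)) ⊆ {0, 1, r} from
        fun t _ => h t)
      rw [Finset.card_univ, ZMod.card] at this
      omega
    simp only [Finset.mem_insert, Finset.mem_singleton, not_or] at hs
    by_cases has : a ∈ D s
    · rcases Finset.card_eq_one.1 (hinter r s (Ne.symm hs.2.2)) with ⟨w, hw⟩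
      have := Finset.mem_inter.1 (hw ▸ Finset.mem_singleton_self w)
      rw [hsub r hbr hcr] at this
      have hwa : w ≠ a := by
        rintro rfl
        exact hr (hsub r hbr hcr ▸ this.1)
      have hcard : D s = {a, w} := by
        refine (Finset.eq_of_subset_of_card_le ?_ ?_).symm
        · intro t ht
          rcases Finset.mem_insert.1 ht with rfl | h
          · exact has
          · rw [Finset.mem_singleton.1 h]; exact this.2
        · rw [hD2, Finset.card_pair hwa.symm]
      rcases Finset.mem_insert.1 this.1 with rfl | h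
      · exact hs.1 (hDinj s 0 (by rw [hcard, hb]))
      · exact hs.2.1 (hDinj s 1 (by rw [hcard, hc₁, Finset.mem_singleton.1 h]))
    · exact hs.2.2 (hDinj s r (by
        rw [hsub r hbr hcr, hsub s (hmeet 0 s (Ne.symm hs.1) hb has)
          (hmeet 1 s (Ne.symm hs.2.1) hc₁ has)]))
  -- the permutation of the points
  have hother : ∀ i, ∃ u, u ≠ a ∧ D i = {a, u} := by
    intro i
    obtain ⟨u, hu⟩ := Finset.card_eq_one.1 (show ((D i).erase a).card = 1 by
      rw [Finset.card_erase_of_mem (haD i), hD2])
    refine ⟨u, Finset.ne_of_mem_erase (hu ▸ Finset.mem_singleton_self u), ?_⟩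
    rw [← Finset.insert_erase (haD i), hu]
  choose F hFa hDF using hother
  let f : GolayPt → GolayPt := fun p => p.elim a F
  have hf : Function.Injective f := by
    rintro (_ | i) (_ | j) h
    · rfl
    · exact absurd h (hFa j).symm
    · exact absurd h (hFa i)
    · exact congrArg some (hDinj i j (by rw [hDF, hDF, show F i = F j from h]))
  let π : Equiv.Perm GolayPt := Equiv.ofBijective f (Finite.injective_iff_bijective.1 hf)
  have hπ : ∀ (c : golayCode) (p : GolayPt),
      (x c : V) p + (c : V) (π p) = (x c : V) none + (c : V) a := by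
    intro c p
    cases p with
    | none => rfl
    | some i =>
      have h := hD i c
      rw [hDF i, dot_pair (hFa i).symm] at h
      show (x c : V) (some i) + (c : V) (F i) = _
      revert h
      generalize (c : V) a = A
      generalize (c : V) (F i) = B
      generalize (x c : V) none = C
      generalize (x c : V) (some i) = D
      revert A B C D
      decide
  have hk : ∀ c : golayCode,
      (x c : V) = (fun p => (c : V) (π p)) + fun _ => (x c : V) none + (c : V) a := by
    intro c
    funext p
    have := hπ c p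
    simp only [Pi.add_apply]
    rw [← this, show ∀ u v : ZMod 2, v + (u + v) = u by decide]
  refine ⟨π.symm, ?_, fun c => ?_⟩
  · rw [mem_M24_iff]
    rintro _ ⟨w, hw, rfl⟩
    rw [← support_perm, ← mem_code_iff, Equiv.symm_symm]
    have e := hk ⟨w, hw⟩
    have hconst : (fun _ => (x ⟨w, hw⟩ : V) none + w a : V) ∈ golayCode := by
      rcases zmod_two_cases ((x ⟨w, hw⟩ : V) none + w a) with h | h
      · rw [h]; exact golayCode.zero_mem
      · rw [h]; exact honeC
    have := golayCode.sub_mem (x ⟨w, hw⟩).2 hconst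
    rw [← eq_sub_of_add_eq e.symm] at this
    exact this
  · rw [Equiv.symm_symm]
    rcases zmod_two_cases ((x c : V) none + (c : V) a) with h | h
    · left; rw [hk c, h]; funext p; exact add_zero _
    · right; rw [hk c, h]

end Cfsg.Agent.S5549
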