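import Cfsg.Statements.S5550
import Cfsg.Agent.Lib.Mathieu.Trans
import Cfsg.Prelude.Def_Spor_Conway

set_option autoImplicit false
open Cfsg Cfsg.Agent.Mathieu
open scoped Pointwise

namespace Cfsg.Agent.S5550

abbrev V : Type := GolayPt → ZMod 2

/-- The word moved by a permutation. -/
def mv (σ : Equiv.Perm GolayPt) (w : V) : V := fun p => w (σ.symm p)

theorem mv_mul (σ τ : Equiv.Perm GolayPt) (w : V) : mv (σ * τ) w = mv σ (mv τ w) := rfl

theorem mv_sub (σ : Equiv.Perm GolayPt) (v w : V) : mv σ (v - w) = mv σ v - mv σ w := rfl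

theorem supp_mv (σ : Equiv.Perm GolayPt) (w : V) : support₂ (mv σ w) = σ • support₂ w := by
  ext p; rw [mem_smul_pts]; unfold support₂; exact ⟨fun h => Finset.mem_filter.2 ⟨Finset.mem_univ _, (Finset.mem_filter.1 h).2⟩, fun h => Finset.mem_filter.2 ⟨Finset.mem_univ _, (Finset.mem_filter.1 h).2⟩⟩

theorem supp_inj {v w : V} (h : support₂ v = support₂ w) : v = w := by
  funext p
  have h1 := congrArg (p ∈ ·) h
  simp only [support₂, Finset.mem_filter, Finset.mem_univ, true_and] at h1
  have h2 : ∀ a b : ZMod 2, (a ≠ 0 ↔ b ≠ 0) → a = b := by decide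
  exact h2 _ _ (Iff.of_eq h1)

theorem mv_code {σ : Equiv.Perm GolayPt} (hσ : σ ∈ M24) {w : V} (hw : w ∈ golayCode) :
    mv σ w ∈ golayCode := by
  obtain ⟨v, hv, hvw⟩ := mem_M24_iff.1 hσ _ ⟨w, hw, rfl⟩
  rw [← supp_mv] at hvw
  exact supp_inj hvw ▸ hv

/-- Stabilising elements of the octad of mask `octadA`. -/
def octGens : List ℕ :=
  [0x30a10150809050414170c160b120d060f1311070e020001, 0x9160f12130e0d07110b0c1004080a1406031502011705]

/-- The packed permutations preserve the code and the mask `b`, and move each coset. -/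
def certOK (b : ℕ) (gs : List ℕ) : Bool :=
  (gs.all fun l => permOK 24 l && presCode l && mapsMask l b b) &&
    ((List.range 4096).all fun c =>
      c == 0 || gs.any fun l => mapsMask l (c <<< 12) (pimg l (c <<< 12)) &&
        !inCode (pimg l (c <<< 12) ^^^ (c <<< 12)) && decide (pimg l (c <<< 12) < 2 ^ 24))

theorem reduce_coset (w : V) : ∃ c < 4096, w - wordOf (c <<< 12) ∈ golayCode := by
  obtain ⟨m, hm, hsupp⟩ := exists_mask (support₂ w)
  have hw : wordOf m = w := supp_inj (by rw [support₂_wordOf, hsupp])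
  set r := m % 4096 with hr
  have hr' : r < 4096 := Nat.mod_lt _ (by norm_num)
  obtain ⟨he, hem, -⟩ := codeList_spec hr'
  set x := m ^^^ encC codeBasis r with hx
  have hxlow : x % 2 ^ 12 = 0 := by
    rw [hx, Nat.xor_mod_two_pow, show (2 : ℕ) ^ 12 = 4096 from rfl, hem, ← hr, Nat.xor_self]
  have hxlt : x < 2 ^ 24 := Nat.xor_lt_two_pow hm he
  refine ⟨x / 2 ^ 12, by omega, ?_⟩
  have hshift : (x / 2 ^ 12) <<< 12 = x := by rw [Nat.shiftLeft_eq]; omega
  rw [hshift, hx, wordOf_xor, hw, sub_add_cancel_left]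
  exact neg_mem (wordOf_mem_of_inCode (inCode_encC hr'))

theorem base {b : ℕ} {gs : List ℕ} (h : certOK b gs = true) {w : V} (hw : w ∉ golayCode) :
    ∃ σ ∈ M24, σ • ptsOf b = ptsOf b ∧ mv σ w - w ∉ golayCode := by
  simp only [certOK, Bool.and_eq_true, List.all_eq_true, List.mem_range, Bool.or_eq_true,
    beq_iff_eq, List.any_eq_true, Bool.not_eq_true', decide_eq_true_eq] at h
  obtain ⟨c, hc, hcw⟩ := reduce_coset w
  rcases h.2 c hc with rfl | ⟨l, hl, ⟨hmap, hnot⟩, hlt⟩
  · exfalso; apply hw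
    have h0 : wordOf (0 <<< 12) = (0 : V) := by funext p; simp [wordOf, hasPt]
    rwa [h0, sub_zero] at hcw
  obtain ⟨⟨hp, hpres⟩, hfix⟩ := h.1 l hl
  obtain ⟨σ, hσ⟩ := exists_rep (e := ptEnc) hp
  have hM := mem_M24_of_rep hσ hpres
  refine ⟨σ, hM, smul_ptsOf hσ hfix, fun hcon => ?_⟩
  have himg : mv σ (wordOf (c <<< 12)) = wordOf (pimg l (c <<< 12)) :=
    supp_inj (by rw [supp_mv, support₂_wordOf, support₂_wordOf, smul_ptsOf hσ hmap])
  have h1 : wordOf (pimg l (c <<< 12)) + wordOf (c <<< 12) ∈ golayCode := by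
    have h2 := add_mem (sub_mem hcon (mv_code hM hcw)) hcw
    rw [mv_sub, himg] at h2
    have h3 : ∀ a : V, a + a = 0 := fun a => funext fun p => CharTwo.add_self_eq_zero _
    convert h2 using 1
    have := h3 (wordOf (c <<< 12))
    linear_combination this
  rw [← wordOf_xor] at h1
  have hlt' : c <<< 12 < 2 ^ 24 := by rw [Nat.shiftLeft_eq]; omega
  have h2 := (ptsOf_mem_supports (Nat.xor_lt_two_pow hlt hlt')).1
    ⟨_, h1, support₂_wordOf _⟩
  rw [hnot] at h2
  exact Bool.false_ne_true h2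

theorem cert_oct : certOK octadA octGens = true := by decide +kernel
theorem cert_dod : certOK dodMask gens12 = true := by decide +kernel

theorem transport {g : Equiv.Perm GolayPt} (hg : g ∈ M24) {b : ℕ} {gs : List ℕ}
    (h : certOK b gs = true) {w : V} (hw : w ∉ golayCode) :
    ∃ σ ∈ M24, σ • (g • ptsOf b) = g • ptsOf b ∧ mv σ w - w ∉ golayCode := by
  have hw' : mv g⁻¹ w ∉ golayCode := fun h' => hw (by
    have := mv_code hg h'
    rwa [← mv_mul, mul_inv_cancel] at this)
  obtain ⟨τ, hτ, hfix, hne⟩ := base h hw'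
  refine ⟨g * τ * g⁻¹, mul_mem (mul_mem hg hτ) (inv_mem hg), ?_, fun h' => hne ?_⟩
  · rw [mul_smul, inv_smul_smul, mul_smul, hfix]
  · have := mv_code (inv_mem hg) h'
    rwa [mv_sub, ← mv_mul, show g⁻¹ * (g * τ * g⁻¹) = τ * g⁻¹ by group, mv_mul] at this

/-- Let u be a word of the length-24 binary Golay code of the definitions (possibly zero or all-ones) and w any binary word of length 24 outside the code. Then some automorphism of the code (a coordinate permutation preserving it) fixes u but moves w to a word not congruent to w modulo the code: the stabilizer of a codeword fixes no non-zero element of the quotient of the space of all words by the code. -/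
theorem result (u : (Cfsg.GolayPt → ZMod 2)) (hu : u ∈ Cfsg.golayCode) (w : (Cfsg.GolayPt → ZMod 2)) (hw : w ∉ Cfsg.golayCode) : ∃ σ ∈ Cfsg.M24, (fun p => u (σ.symm p)) = u ∧ (fun p => w (σ.symm p)) - w ∉ Cfsg.golayCode := by
  classical
  suffices h : ∃ σ ∈ M24, σ • support₂ u = support₂ u ∧ mv σ w - w ∉ golayCode by
    obtain ⟨σ, hσ, hfix, hne⟩ := h
    exact ⟨σ, hσ, supp_inj (show support₂ (mv σ u) = _ by rw [supp_mv, hfix]), hne⟩
  have hs : support₂ u ∈ supports (golayCode : Set (GolayPt → ZMod 2)) := ⟨u, hu, rfl⟩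
  have hO : ptsOf octadA ∈ octads := ptsOf_mem_octads (by decide +kernel) (by decide +kernel)
  have hfix : ∀ (σ : Equiv.Perm GolayPt) (s : Finset GolayPt), σ • s = s →
      σ • symmDiff (Finset.univ) s = symmDiff (Finset.univ) s := fun σ s h => by
    rw [smul_symmDiff_pts, h, Finset.smul_finset_univ]
  rcases card_support_cases hs with h0 | h8 | h12 | h16 | h24
  · obtain ⟨σ, hσ, -, hne⟩ := transport (one_mem M24) cert_oct hw
    exact ⟨σ, hσ, by rw [Finset.card_eq_zero.1 h0, Finset.smul_finset_empty], hne⟩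
  · obtain ⟨g, hg, hgo⟩ := M24_transitive_octads hO (show support₂ u ∈ octads from ⟨hs, h8⟩)
    rw [← hgo]; exact transport hg cert_oct hw
  · obtain ⟨g, hg, hgo⟩ := M24_exists_map_square (show support₂ u ∈ dodecads from ⟨hs, h12⟩)
    rw [← hgo, squareDodecad_eq]; exact transport hg cert_dod hw
  · have hc : symmDiff Finset.univ (support₂ u) ∈ octads := by
      refine ⟨symmDiff_mem_supports (Spor.univ_mem_supports_golayCode) hs, ?_⟩
      rw [symmDiff_of_ge (show (support₂ u) ≤ Finset.univ from Finset.subset_univ _),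
        Finset.card_univ_sdiff, h16]
      rfl
    obtain ⟨g, hg, hgo⟩ := M24_transitive_octads hO hc
    obtain ⟨σ, hσ, hf, hne⟩ := transport hg cert_oct hw
    rw [hgo] at hf
    refine ⟨σ, hσ, ?_, hne⟩
    have := hfix σ _ hf
    rwa [symmDiff_symmDiff_cancel_left] at this
  · obtain ⟨σ, hσ, -, hne⟩ := transport (one_mem M24) cert_oct hw
    have : support₂ u = Finset.univ :=
      Finset.eq_univ_of_card _ (by rw [h24]; rfl)
    exact ⟨σ, hσ, by rw [this, Finset.smul_finset_univ], hne⟩

end Cfsg.Agent.S5550
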