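import Cfsg.Statements.S5553
import Cfsg.Agent.Lib.Leech.Basic
import Cfsg.Agent.Lib.Mathieu.Code
import Cfsg.Prelude.Def_Spor_Conway

set_option autoImplicit false
open Cfsg Cfsg.Agent.Leech

namespace Cfsg.Agent.S5553

/-- Vectors with all coordinates congruent modulo 4 to one even residue and sum divisible by 8. -/
def sub : AddSubgroup (GolayPt → ℤ) where
  carrier := {v | (∀ i, v i % 4 = v none % 4) ∧ v none % 2 = 0 ∧ (∑ i, v i) % 8 = 0}
  zero_mem' := ⟨fun _ => rfl, rfl, by simp⟩
  add_mem' := by
    rintro a b ⟨a1, a2, a3⟩ ⟨b1, b2, b3⟩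
    refine ⟨fun i => ?_, ?_, ?_⟩
    · have := a1 i; have := b1 i; simp only [Pi.add_apply]; omega
    · simp only [Pi.add_apply]; omega
    · simp only [Pi.add_apply, Finset.sum_add_distrib]; omega
  neg_mem' := by
    rintro a ⟨a1, a2, a3⟩
    refine ⟨fun i => ?_, ?_, ?_⟩
    · have := a1 i; simp only [Pi.neg_apply]; omega
    · simp only [Pi.neg_apply]; omega
    · simp only [Pi.neg_apply, Finset.sum_neg_distrib]; omega

theorem mem_sub {v : GolayPt → ℤ} :
    v ∈ sub ↔ (∀ i, v i % 4 = v none % 4) ∧ v none % 2 = 0 ∧ (∑ i, v i) % 8 = 0 := Iff.rfl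

theorem hb_add {x y : GolayPt → ℤ} (hx : InL x) (hy : InL y) :
    hb (x + y) = hb x + hb y + ((x none % 2 * (y none % 2) : ℤ) : ZMod 2) • 1 := by
  funext i
  simp only [hb, Pi.add_apply, Pi.smul_apply, Pi.one_apply, smul_eq_mul, mul_one, ← Int.cast_add]
  rw [ZMod.intCast_eq_intCast_iff', Nat.cast_ofNat]
  have := hx.1 i
  have := hy.1 i
  rcases Int.emod_two_eq_zero_or_one (x none) with h | h <;>
    rcases Int.emod_two_eq_zero_or_one (y none) with h' | h' <;> rw [h, h'] <;> omega

/-- The all-ones word inside the code. -/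
abbrev oneC : ↥golayCode := ⟨1, one_mem_code⟩

abbrev oneSpan : Submodule (ZMod 2) ↥golayCode := Submodule.span (ZMod 2) {oneC}

/-- Parity and second binary digits modulo the all-ones word. -/
noncomputable def phi : ↥leechLattice →+ ZMod 2 × (↥golayCode ⧸ oneSpan) :=
  AddMonoidHom.mk' (fun x => ((((x : GolayPt → ℤ) none : ℤ) : ZMod 2),
      Submodule.Quotient.mk (⟨hb x, (mem_leechLattice.1 x.2).2.1⟩ : ↥golayCode))) fun x y => by
    refine Prod.ext (by simp) ?_
    simp only [Prod.snd_add]
    rw [← Submodule.Quotient.mk_add, Submodule.Quotient.eq, Submodule.mem_span_singleton]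
    refine ⟨(((x : GolayPt → ℤ) none % 2 * ((y : GolayPt → ℤ) none % 2) : ℤ) : ZMod 2), Subtype.ext ?_⟩
    show (((x : GolayPt → ℤ) none % 2 * ((y : GolayPt → ℤ) none % 2) : ℤ) : ZMod 2) •
        (1 : GolayPt → ZMod 2) =
      hb ((x : GolayPt → ℤ) + y) - (hb (x : GolayPt → ℤ) + hb (y : GolayPt → ℤ))
    rw [hb_add (mem_leechLattice.1 x.2) (mem_leechLattice.1 y.2)]
    exact (add_sub_cancel_left _ _).symm

theorem ker_phi : phi.ker = sub.addSubgroupOf leechLattice := by
  ext x
  obtain ⟨a1, a2, a3⟩ := mem_leechLattice.1 x.2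
  rw [AddMonoidHom.mem_ker, AddSubgroup.mem_addSubgroupOf, mem_sub]
  show ((_ : ZMod 2), _) = (0, 0) ↔ _
  rw [Prod.mk.injEq, ZMod.intCast_zmod_eq_zero_iff_dvd, Submodule.Quotient.mk_eq_zero,
    Submodule.mem_span_singleton]
  constructor
  · rintro ⟨h2, c, hc⟩
    have hc' : ∀ i, hb (x : GolayPt → ℤ) i = c := by
      intro i
      have := congrFun (congrArg Subtype.val hc) i
      simpa using this.symm
    refine ⟨fun i => ?_, by omega, by omega⟩
    have := a1 i
    rcases zmod2_cases c with rfl | rfl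
    · have := hb_eq_zero_iff.1 (hc' i); have := hb_eq_zero_iff.1 (hc' none); omega
    · have := hb_eq_one_iff.1 (hc' i); have := hb_eq_one_iff.1 (hc' none); omega
  · rintro ⟨h4, h2, -⟩
    refine ⟨by omega, hb (x : GolayPt → ℤ) none, Subtype.ext (funext fun i => ?_)⟩
    show hb (x : GolayPt → ℤ) none * 1 = hb (x : GolayPt → ℤ) i
    rw [mul_one, hb, hb, ZMod.intCast_eq_intCast_iff']
    have := h4 i
    omega

theorem range_phi : Function.Surjective phi := by
  rintro ⟨m, q⟩
  induction q using Submodule.Quotient.induction_on with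
  | _ c =>
  have hX : InL (fun i => if (c : GolayPt → ZMod 2) i = 1 then 2 else 0) := by
    refine ⟨fun i => ?_, ?_, ?_⟩
    · dsimp only; split_ifs <;> rfl
    · convert c.2 using 1
      funext i
      rcases zmod2_cases ((c : GolayPt → ZMod 2) i) with h | h <;> simp [hb, h]
    · obtain ⟨k, hk⟩ := code_doubly_even c.2
      rw [Finset.sum_ite, Finset.sum_const, Finset.sum_const_zero, add_zero, nsmul_eq_mul]
      have : (Finset.univ.filter fun i => (c : GolayPt → ZMod 2) i = 1) =
          support₂ (c : GolayPt → ZMod 2) := by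
        ext i; simp [mem_supp]
      rw [this, hk]
      dsimp only
      split_ifs <;> push_cast <;> omega
  set X : ↥leechLattice := ⟨_, mem_leechLattice.2 hX⟩ with hXdef
  have hphiX : phi X = (0, Submodule.Quotient.mk c) := by
    refine Prod.ext ?_ ?_
    · show ((if (c : GolayPt → ZMod 2) none = 1 then (2 : ℤ) else 0 : ℤ) : ZMod 2) = 0
      split_ifs <;> decide
    · show Submodule.Quotient.mk _ = Submodule.Quotient.mk c
      congr 1
      apply Subtype.ext
      funext i
      show hb (fun i => if (c : GolayPt → ZMod 2) i = 1 then 2 else 0) i = _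
      rcases zmod2_cases ((c : GolayPt → ZMod 2) i) with h | h <;> simp [hb, h]
  rcases zmod2_cases m with rfl | rfl
  · exact ⟨X, hphiX⟩
  · set V : ↥leechLattice := Spor.leechV
    have h1 : (phi V).1 = 1 := by decide
    have h2 : (phi V).2 = 0 := by
      show Submodule.Quotient.mk _ = 0
      rw [Submodule.Quotient.mk_eq_zero, Submodule.mem_span_singleton]
      refine ⟨1, Subtype.ext (funext ?_)⟩
      show ∀ i, (1 : ZMod 2) * 1 = hb Spor.vecV i
      decide
    refine ⟨V + X, ?_⟩
    rw [map_add, hphiX]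
    exact Prod.ext (by simp [h1]) (by simp [h2])

theorem card_target : Nat.card (ZMod 2 × (↥golayCode ⧸ oneSpan)) = 2 ^ 12 := by
  have hs : Module.finrank (ZMod 2) oneSpan = 1 := finrank_span_singleton (by
    intro h
    exact one_ne_zero (congrFun (congrArg Subtype.val h) none))
  have hq := Submodule.finrank_quotient_add_finrank oneSpan
  rw [hs, Cfsg.Agent.Mathieu.finrank_golayCode] at hq
  rw [Nat.card_prod, Nat.card_zmod, Module.natCard_eq_pow_finrank (K := ZMod 2), Nat.card_zmod,
    show Module.finrank (ZMod 2) (↥golayCode ⧸ oneSpan) = 11 by omega]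
  norm_num

/-- The Leech lattice of the definitions has an additive subgroup A containing twice the lattice, of index 2^12 in the lattice, all of whose vectors have squared length divisible by 32: the invariant quadratic form 'squared length over 16 modulo 2' on the lattice modulo twice the lattice (a 24-dimensional space over the field with two elements) vanishes on a 12-dimensional subspace, so it is of plus type. -/
theorem result : ∃ A : AddSubgroup (Cfsg.GolayPt → ℤ), A ≤ Cfsg.leechLattice ∧ (∀ v ∈ Cfsg.leechLattice, (2 : ℤ) • v ∈ A) ∧ (A.addSubgroupOf Cfsg.leechLattice).index = 2 ^ 12 ∧ ∀ v ∈ A, (32 : ℤ) ∣ Cfsg.sqNorm v := by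
  refine ⟨sub, ?_, ?_, ?_, ?_⟩
  · intro v hv
    obtain ⟨h4, h2, h8⟩ := mem_sub.1 hv
    refine mem_leechLattice.2 ⟨fun i => ?_, ?_, by omega⟩
    · have := h4 i; omega
    · have : hb v = hb v none • (1 : GolayPt → ZMod 2) := by
        funext i
        show hb v i = hb v none * 1
        rw [mul_one, hb, hb, ZMod.intCast_eq_intCast_iff']
        have := h4 i
        omega
      rw [this]
      exact Submodule.smul_mem _ _ one_mem_code
  · intro v hv
    obtain ⟨a1, a2, a3⟩ := mem_leechLattice.1 hv
    refine mem_sub.2 ⟨fun i => ?_, ?_, ?_⟩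
    · have := a1 i; simp only [Pi.smul_apply, smul_eq_mul]; omega
    · simp only [Pi.smul_apply, smul_eq_mul]; omega
    · simp only [Pi.smul_apply, smul_eq_mul, ← Finset.mul_sum]; omega
  · rw [← ker_phi, AddSubgroup.index_ker, AddMonoidHom.range_eq_top.2 range_phi, AddSubgroup.card_top,
      card_target]
  · intro v hv
    obtain ⟨h4, h2, h8⟩ := mem_sub.1 hv
    set c := v none % 4 with hc
    set z : GolayPt → ℤ := fun i => v i / 4 with hz
    have hv' : ∀ i, v i = c + 4 * z i := fun i => by
      have := h4 i; simp only [hz]; omega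
    have h24 : Fintype.card GolayPt = 24 := rfl
    have hs : ∑ i, v i = 24 * c + 4 * ∑ i, z i := by
      simp only [hv', Finset.sum_add_distrib, ← Finset.mul_sum, Finset.sum_const, Finset.card_univ, h24]
      simp
    have hn : sqNorm v = 24 * c ^ 2 + 8 * c * ∑ i, z i + 16 * ∑ i, z i ^ 2 := by
      have : ∀ i, v i ^ 2 = c ^ 2 + 8 * c * z i + 16 * z i ^ 2 := fun i => by rw [hv' i]; ring
      simp only [sqNorm, this, Finset.sum_add_distrib, ← Finset.mul_sum, Finset.sum_const,
        Finset.card_univ, h24]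
      simp
    have hsq : (∑ i, z i ^ 2) % 2 = (∑ i, z i) % 2 := by
      rw [Finset.sum_int_mod, Finset.sum_int_mod Finset.univ 2 z]
      congr 1
      refine Finset.sum_congr rfl fun i _ => ?_
      rw [pow_two, Int.mul_emod]
      rcases Int.emod_two_eq_zero_or_one (z i) with h | h <;> rw [h] <;> rfl
    have hc2 : c = 0 ∨ c = 2 := by omega
    rw [hn]
    rcases hc2 with hc2 | hc2 <;> rw [hc2] at hs ⊢ <;> omega

end Cfsg.Agent.S5553
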