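import Cfsg.Statements.S5555
import Cfsg.Agent.Lib.Transpos.SUThreeTwo
import Cfsg.Agent.Lib.PCore.Basic

set_option autoImplicit false
open Cfsg Cfsg.Agent.Transpos

namespace Cfsg.Agent.S5555

theorem order9_commute {K : Type*} [Group K] [Finite K] (h : Nat.card K ∣ 9) (a b : K) :
    a * b = b * a := by
  haveI : Fact (Nat.Prime 3) := ⟨Nat.prime_three⟩
  have : Nat.card K = 1 ∨ Nat.card K = 3 ∨ Nat.card K = 9 := by
    have := Nat.le_of_dvd (by norm_num) h
    interval_cases hk : Nat.card K <;> simp_all
  rcases this with h | h | h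
  · have := (Nat.card_eq_one_iff_unique.1 h).1
    exact Subsingleton.elim _ _
  · haveI := isCyclic_of_prime_card h
    obtain ⟨g, hg⟩ := IsCyclic.exists_generator (α := K)
    obtain ⟨i, rfl⟩ := hg a
    obtain ⟨j, rfl⟩ := hg b
    exact ((Commute.refl g).zpow_zpow i j).eq
  · exact IsPGroup.commutative_of_card_eq_prime_sq (p := 3) (by simpa using h) a b

/-- Let G be a finite group generated by a conjugacy class D of 3-transpositions, with trivial centre and with generalized Fitting subgroup F*(G) = O₂(G) (so the Fitting subgroup is O₂(G) too). If G/O₂(G) is isomorphic to the derived group of SU₃(2) (the group of order 54 generated by nine 3-transpositions), then O₂(G) has a complement in G. -/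
theorem result {G : Type*} [Group G] [Finite G] {D : Set G} (hD : Cfsg.IsThreeTranspositionClass D)
    (hZ : Subgroup.center G = ⊥) (hF : Cfsg.generalizedFittingSubgroup G = Cfsg.pCore 2 G)
    (hq : ∃ (F : Type) (_ : Field F) (_ : Fintype F), Fintype.card F = 4 ∧ Nonempty (G ⧸ Cfsg.pCore 2 G ≃* ↥(commutator ↥(Cfsg.SU 3 F 2)))) :
    ∃ K : Subgroup G, (Cfsg.pCore 2 G).IsComplement' K := by
  classical
  obtain ⟨⟨hord, h3t⟩, ⟨d, hdD, hconj⟩, hgen⟩ := hD
  obtain ⟨F, iF, iF', hF4, ⟨e0⟩⟩ := hq
  obtain ⟨hcardC, a0, x0, y0, hrel, hgen0⟩ := @SU32.commutator_spec F iF iF' hF4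
  set V := pCore 2 G with hV
  let π := QuotientGroup.mk' V
  have hQ : Nat.card (G ⧸ V) = 54 := by rw [Nat.card_congr e0.toEquiv, hcardC]
  haveI : Fact (Nat.Prime 3) := ⟨Nat.prime_three⟩
  obtain ⟨R⟩ := (inferInstance : Nonempty (Sylow 3 (G ⧸ V)))
  have hR : Nat.card (R : Subgroup (G ⧸ V)) = 27 := by
    rw [R.card_eq_multiplicity, hQ, show (54 : ℕ) = 3 ^ 3 * 2 by norm_num,
      Nat.factorization_mul (by norm_num) (by norm_num), Finsupp.add_apply,
      Nat.prime_three.factorization_pow, Nat.prime_two.factorization, Finsupp.single_eq_same,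
      Finsupp.single_eq_of_ne (by norm_num)]
    norm_num
  have hidx : (R : Subgroup (G ⧸ V)).index = 2 := by
    have := (R : Subgroup (G ⧸ V)).card_mul_index
    rw [hR, hQ] at this
    omega
  haveI hRn : (R : Subgroup (G ⧸ V)).Normal := Subgroup.normal_of_index_eq_two hidx
  have hodd : ∀ g ∈ (R : Subgroup (G ⧸ V)), g ^ 2 = 1 → g = 1 := by
    intro g hg h2
    have h27 : g ^ 27 = 1 := by
      have h := pow_card_eq_one' (x := (⟨g, hg⟩ : (R : Subgroup (G ⧸ V))))
      rw [hR] at h
      exact congrArg Subtype.val h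
    have : g ^ Nat.gcd 2 27 = 1 := pow_gcd_eq_one.2 ⟨h2, h27⟩
    simpa using this
  have hcube : ∀ g : G ⧸ V, g ^ 3 = 1 → g ∈ (R : Subgroup (G ⧸ V)) := by
    intro g hg
    have h1 := Subgroup.sq_mem_of_index_two hidx g
    have h2 : g = (g ^ 2) ^ 2 := by rw [← pow_mul, pow_succ, hg, one_mul]
    rw [h2]; exact pow_mem h1 2
  have hD2 : ∀ z ∈ D, z * z = 1 := fun z hz => by
    rw [← pow_two, ← hord z hz]; exact pow_orderOf_eq_one z
  have hπgen : Subgroup.closure (π '' D) = ⊤ := by
    rw [← MonoidHom.map_closure, hgen, Subgroup.map_top_of_surjective _ (QuotientGroup.mk'_surjective V)]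
  have hout : ∀ z ∈ D, π z ∉ (R : Subgroup (G ⧸ V)) := by
    intro z hz hmem
    have h1 : π z = 1 := hodd _ hmem (by rw [← map_pow, pow_two, hD2 z hz, map_one])
    have : Subgroup.closure (π '' D) ≤ ⊥ := by
      rw [Subgroup.closure_le]
      rintro _ ⟨u, hu, rfl⟩
      rw [hconj] at hz hu
      obtain ⟨c, hc⟩ := isConj_iff.1 ((show IsConj d z from hz).symm.trans (show IsConj d u from hu))
      show π u = 1
      rw [← hc, map_mul, map_mul, h1, map_inv, mul_one, mul_inv_cancel]
    rw [hπgen, top_le_iff] at this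
    have h54 : Nat.card (⊥ : Subgroup (G ⧸ V)) = 54 := by rw [this, Subgroup.card_top, hQ]
    rw [Subgroup.card_bot] at h54
    omega
  have hprod : ∀ z ∈ D, ∀ u ∈ D, π (z * u) ∈ (R : Subgroup (G ⧸ V)) := by
    intro z hz u hu
    rw [map_mul, Subgroup.mul_mem_iff_of_index_two hidx]
    simp [hout z hz, hout u hu]
  have hord3 : ∀ z ∈ D, ∀ u ∈ D, π (z * u) ≠ 1 → (z * u) ^ 3 = 1 := by
    intro z hz u hu hne
    rcases h3t z hz u hu with h | h
    · exact absurd (hodd _ (hprod z hz u hu) (by rw [← map_pow, h, map_one])) hne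
    · exact h
  -- generators of the Sylow subgroup among products with `d`
  set S : Set (G ⧸ V) := (fun e => π (d * e)) '' D with hS
  have hSR : Subgroup.closure S ≤ (R : Subgroup (G ⧸ V)) := by
    rw [Subgroup.closure_le]
    rintro _ ⟨e, he, rfl⟩
    exact hprod d hdD e he
  have hdd : π d * π d = 1 := by rw [← map_mul, hD2 d hdD, map_one]
  have hSeq : Subgroup.closure S = R := by
    refine le_antisymm hSR fun r hr => ?_
    have hdn : π d ∈ Subgroup.normalizer (Subgroup.closure S : Set (G ⧸ V)) := by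
      apply Subgroup.mem_normalizer_fintype
      intro g hg
      induction hg using Subgroup.closure_induction with
      | mem g hg =>
        obtain ⟨e, he, rfl⟩ := hg
        have : π d * π (d * e) * (π d)⁻¹ = (π (d * e))⁻¹ := by
          rw [inv_eq_of_mul_eq_one_right hdd, map_mul, mul_inv_rev, inv_eq_of_mul_eq_one_right hdd,
            inv_eq_of_mul_eq_one_right (show π e * π e = 1 by rw [← map_mul, hD2 e he, map_one]),
            ← mul_assoc, hdd, one_mul]
        rw [this]
        exact inv_mem (Subgroup.subset_closure ⟨e, he, rfl⟩)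
      | one => simp [one_mem]
      | mul g g' _ _ h1 h2 => simpa [mul_assoc] using mul_mem h1 h2
      | inv g _ h1 =>
        rw [show π d * g⁻¹ * (π d)⁻¹ = (π d * g * (π d)⁻¹)⁻¹ by group]
        exact inv_mem h1
    have key : ∀ g : G ⧸ V, g ∈ Subgroup.closure S ∨ π d * g ∈ Subgroup.closure S := by
      intro g
      have hg : g ∈ Subgroup.closure (π '' D) := hπgen ▸ Subgroup.mem_top g
      induction hg using Subgroup.closure_induction_left with
      | one => exact Or.inl (one_mem _)
      | mul_left z hz w _ ih =>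
        obtain ⟨e, he, rfl⟩ := hz
        have hde : π d * π e ∈ Subgroup.closure S := Subgroup.subset_closure ⟨e, he, map_mul _ _ _⟩
        have hflip : ∀ k ∈ Subgroup.closure S, π d * k * π d ∈ Subgroup.closure S := fun k hk => by
          have := (Subgroup.mem_normalizer_iff.1 hdn k).1 hk
          rwa [inv_eq_of_mul_eq_one_right hdd] at this
        rcases ih with ih | ih
        · exact Or.inr (by rw [← mul_assoc]; exact mul_mem hde ih)
        · refine Or.inl ?_
          have : π e * w = (π d * (π d * π e) * π d) * (π d * w) := by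
            rw [← mul_assoc (π d) (π d), hdd, one_mul, mul_assoc, ← mul_assoc (π d), hdd, one_mul]
          rw [this]
          exact mul_mem (hflip _ hde) ih
      | inv_mul_cancel z hz w _ ih =>
        obtain ⟨e, he, rfl⟩ := hz
        have hei : (π e)⁻¹ = π e :=
          inv_eq_of_mul_eq_one_right (by rw [← map_mul, hD2 e he, map_one])
        have hde : π d * π e ∈ Subgroup.closure S := Subgroup.subset_closure ⟨e, he, map_mul _ _ _⟩
        have hflip : ∀ k ∈ Subgroup.closure S, π d * k * π d ∈ Subgroup.closure S := fun k hk => by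
          have := (Subgroup.mem_normalizer_iff.1 hdn k).1 hk
          rwa [inv_eq_of_mul_eq_one_right hdd] at this
        rw [hei]
        rcases ih with ih | ih
        · exact Or.inr (by rw [← mul_assoc]; exact mul_mem hde ih)
        · refine Or.inl ?_
          have : π e * w = (π d * (π d * π e) * π d) * (π d * w) := by
            rw [← mul_assoc (π d) (π d), hdd, one_mul, mul_assoc, ← mul_assoc (π d), hdd, one_mul]
          rw [this]
          exact mul_mem (hflip _ hde) ih
    rcases key r with h | h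
    · exact h
    · exfalso
      have h1 := hSR h
      exact hout d hdD ((Subgroup.mul_mem_cancel_right _ hr).1 h1)
  -- the Sylow subgroup is not abelian
  have hnc : ∃ u ∈ (R : Subgroup (G ⧸ V)), ∃ v ∈ (R : Subgroup (G ⧸ V)), ¬ Commute u v := by
    refine ⟨e0.symm x0, hcube _ (by rw [← map_pow, hrel.x3, map_one]), e0.symm y0,
      hcube _ (by rw [← map_pow, hrel.y3, map_one]), fun h => ?_⟩
    refine B23.not_commute hrel hgen0 (by omega) ?_
    have h' := congrArg e0 h
    simpa [Commute, SemiconjBy] using h'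
  obtain ⟨e, he, f, hf, hst⟩ : ∃ e ∈ D, ∃ f ∈ D, ¬ Commute (π (d * e)) (π (d * f)) := by
    by_contra hcon
    push Not at hcon
    obtain ⟨u, hu, v, hv, huv⟩ := hnc
    rw [← hSeq] at hu hv
    have hS' : ∀ p ∈ S, ∀ q ∈ S, Commute p q := by
      rintro _ ⟨e, he, rfl⟩ _ ⟨f, hf, rfl⟩; exact hcon e he f hf
    apply huv
    clear huv
    induction hu, hv using Subgroup.closure_induction₂ with
    | mem p q hp hq => exact hS' p hp q hq
    | one_left p _ => exact Commute.one_left p
    | one_right p _ => exact Commute.one_right p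
    | mul_left p q r _ _ _ h1 h2 => exact h1.mul_left h2
    | mul_right p q r _ _ _ h1 h2 => exact h1.mul_right h2
    | inv_left p q _ _ h1 => exact h1.inv_left
    | inv_right p q _ _ h1 => exact h1.inv_right
  set X := d * e with hX
  set Y := d * f with hY
  have hs1 : π X ≠ 1 := fun h => hst (h ▸ Commute.one_left _)
  have ht1 : π Y ≠ 1 := fun h => hst (h ▸ Commute.one_right _)
  have hL : Subgroup.closure ({π X, π Y} : Set (G ⧸ V)) = R := by
    have hle : Subgroup.closure ({π X, π Y} : Set (G ⧸ V)) ≤ (R : Subgroup (G ⧸ V)) := by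
      rw [Subgroup.closure_le]
      rintro _ (rfl | rfl)
      exacts [hprod d hdD e he, hprod d hdD f hf]
    obtain ⟨k, hk, hk'⟩ := (Nat.dvd_prime_pow Nat.prime_three).1
      (show _ ∣ 3 ^ 3 by simpa [hR] using Subgroup.card_dvd_of_le hle)
    by_cases h : k ≤ 2
    · exfalso
      apply hst
      have h9 : Nat.card (Subgroup.closure ({π X, π Y} : Set (G ⧸ V))) ∣ 9 := by
        rw [hk']; exact pow_dvd_pow 3 h
      exact congrArg Subtype.val (order9_commute h9
        ⟨π X, Subgroup.subset_closure (by simp)⟩ ⟨π Y, Subgroup.subset_closure (by simp)⟩)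
    · refine Subgroup.eq_of_le_of_card_ge hle ?_
      rw [hR, hk', show k = 3 by omega]
      norm_num
  have hfD : d * e * d ∈ D := by
    have hd' : d⁻¹ = d := inv_eq_of_mul_eq_one_right (hD2 d hdD)
    rw [hconj] at he ⊢
    exact IsConj.trans (show IsConj d e from he) (isConj_iff.2 ⟨d, by rw [hd']⟩)
  have hYi : Y⁻¹ = f * d := by
    rw [hY, mul_inv_rev, inv_eq_of_mul_eq_one_right (hD2 f hf),
      inv_eq_of_mul_eq_one_right (hD2 d hdD)]
  have hrels : B23.Rels d X Y := by
    refine ⟨hD2 d hdD, hord3 d hdD e he hs1, hord3 d hdD f hf ht1, ?_, ?_, ?_, ?_⟩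
    · have h1 : X * Y = d * e * d * f := by rw [hX, hY]; simp only [mul_assoc]
      rw [h1]
      refine hord3 _ hfD f hf fun h => hst ?_
      rw [← h1, map_mul] at h
      rw [eq_inv_of_mul_eq_one_right h]
      exact (Commute.refl (π X)).inv_right
    · have h1 : X * Y⁻¹ = d * (e * f) * d⁻¹ := by
        rw [hYi, hX, inv_eq_of_mul_eq_one_right (hD2 d hdD)]; simp only [mul_assoc]
      have hef : π (e * f) ≠ 1 := fun h => hst (by
        have h2 : π X = π Y := by
          rw [hX, hY, map_mul, map_mul]
          congr 1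
          rw [map_mul] at h
          rw [eq_inv_of_mul_eq_one_right h,
            inv_eq_of_mul_eq_one_right (show π e * π e = 1 by rw [← map_mul, hD2 e he, map_one])]
        rw [h2])
      rw [h1, conj_pow, hord3 e he f hf hef, mul_one, mul_inv_cancel]
    · rw [hX, ← mul_assoc, hD2 d hdD, one_mul, pow_two, hD2 e he]
    · rw [hY, ← mul_assoc, hD2 d hdD, one_mul, pow_two, hD2 f hf]
  set K : Subgroup G := Subgroup.closure {d, X, Y} with hK
  refine ⟨K, ?_⟩
  have hKcard : Nat.card K ≤ 54 := by
    have hmem : ∀ g ∈ ({d, X, Y} : Set G), g ∈ K := fun g hg => Subgroup.subset_closure hg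
    refine B23.card_le (a := (⟨d, hmem d (by simp)⟩ : K)) (x := ⟨X, hmem X (by simp)⟩)
      (y := ⟨Y, hmem Y (by simp)⟩) ?_ ?_
    · obtain ⟨h1, h2, h3, h4, h5, h6, h7⟩ := hrels
      refine ⟨?_, ?_, ?_, ?_, ?_, ?_, ?_⟩ <;> apply Subtype.ext <;>
        simp [h1, h2, h3, h4, h5, h6, h7]
    · apply Subgroup.map_injective K.subtype_injective
      rw [MonoidHom.map_closure, ← MonoidHom.range_eq_map, Subgroup.range_subtype,
        Set.image_insert_eq, Set.image_insert_eq, Set.image_singleton]
      rfl
  have hmap : K.map π = ⊤ := by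
    rw [eq_top_iff]
    intro g _
    have hRle : (R : Subgroup (G ⧸ V)) ≤ K.map π := by
      rw [← hL, Subgroup.closure_le]
      rintro _ (rfl | rfl)
      exacts [⟨X, Subgroup.subset_closure (by simp), rfl⟩, ⟨Y, Subgroup.subset_closure (by simp), rfl⟩]
    have hdm : π d ∈ K.map π := ⟨d, Subgroup.subset_closure (by simp), rfl⟩
    by_cases hg : g ∈ (R : Subgroup (G ⧸ V))
    · exact hRle hg
    · have h1 : π d * g ∈ (R : Subgroup (G ⧸ V)) := by
        rw [Subgroup.mul_mem_iff_of_index_two hidx]; simp [hg, hout d hdD]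
      have := mul_mem hdm (hRle h1)
      rwa [← mul_assoc, hdd, one_mul] at this
  have hsurj : Function.Surjective (π.comp K.subtype) := by
    rw [← MonoidHom.range_eq_top, MonoidHom.range_comp, Subgroup.range_subtype, hmap]
  have hbij : Function.Bijective (π.comp K.subtype) :=
    (Nat.bijective_iff_surjective_and_card _).2 ⟨hsurj, le_antisymm
      (by rw [hQ]; exact hKcard) (Nat.card_le_card_of_surjective _ hsurj)⟩
  apply Subgroup.isComplement'_of_card_mul_and_disjoint
  · rw [Nat.card_congr (Equiv.ofBijective _ hbij), ← Subgroup.index_eq_card]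
    exact V.card_mul_index
  · rw [Subgroup.disjoint_def]
    intro g hgV hgK
    have h1 : π.comp K.subtype ⟨g, hgK⟩ = π.comp K.subtype 1 := by
      rw [map_one]; exact (QuotientGroup.eq_one_iff g).2 hgV
    exact congrArg Subtype.val (hbij.1 h1)

end Cfsg.Agent.S5555
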