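import Cfsg.Statements.S5556
import Cfsg.Agent.Lib.Transpos.SUReach
import Cfsg.Agent.Lib.Transpos.SUPerpFive
import Cfsg.Agent.Lib.Transpos.OTwo.QuotFive

set_option autoImplicit false
open Cfsg

namespace Cfsg.Agent.S5556

/-- Let G be a finite group generated by a conjugacy class D of 3-transpositions, with trivial centre and with generalized Fitting subgroup F*(G) = O₂(G) (so the Fitting subgroup is O₂(G) too). If G/O₂(G) is isomorphic to SU₅(2), then O₂(G) is elementary abelian and has a complement in G. -/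
theorem result {G : Type*} [Group G] [Finite G] {D : Set G} (hD : Cfsg.IsThreeTranspositionClass D)
    (hZ : Subgroup.center G = ⊥) (hF : Cfsg.generalizedFittingSubgroup G = Cfsg.pCore 2 G)
    (hq : ∃ (F : Type) (_ : Field F) (_ : Fintype F), Fintype.card F = 4 ∧ Nonempty (G ⧸ Cfsg.pCore 2 G ≃* ↥(Cfsg.SU 5 F 2))) :
    Cfsg.IsElementaryAbelian 2 (Cfsg.pCore 2 G) ∧ ∃ K : Subgroup G, (Cfsg.pCore 2 G).IsComplement' K :=
  by
  refine Transpos.OTwo.su_five_split (Transpos.SUReach.bridge (by norm_num)) Transpos.SUReach.reach_five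
    ⟨?_, ?_, ?_, ?_⟩ hD hZ hq
  · exact fun e q _ _ => Transpos.SUReach.perp_two e q
  · exact fun e q m m' he hq hm hm' h1 h2 h3 h4 h5 h6 =>
      Transpos.SUReach.perp_four he hq hm hm' h1 h2 h3 h4 h5 h6
  · exact fun e q q' _ hq hq' _ _ h => Transpos.SUReach.perp_three e hq hq' h
  · exact fun q _ => Transpos.SUReach.perp_one q

end Cfsg.Agent.S5556
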