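import Cfsg.Statements.S5558
import Cfsg.Agent.Lib.Transpos.TwoRadicalLift
import Cfsg.Agent.Lib.Components.GenFitting

set_option autoImplicit false
open Cfsg

namespace Cfsg.Agent.S5558

/-- Let G be a finite group generated by a conjugacy class D of 3-transpositions, with trivial centre and with generalized Fitting subgroup F*(G) = O₂(G) (so the Fitting subgroup is O₂(G) too). If moreover O₂(G) is elementary abelian, then D is the only conjugacy class of 3-transpositions generating G. -/
theorem result {G : Type*} [Group G] [Finite G] {D : Set G} (hD : Cfsg.IsThreeTranspositionClass D)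
    (hZ : Subgroup.center G = ⊥) (hF : Cfsg.generalizedFittingSubgroup G = Cfsg.pCore 2 G)
    (hV : Cfsg.IsElementaryAbelian 2 (Cfsg.pCore 2 G)) :
    ∀ E : Set G, Cfsg.IsThreeTranspositionClass E → E = D := by
  intro E hE
  set W := pCore 2 G with hWdef
  have : IsMulCommutative W := hV.1
  have hW2 : ∀ a ∈ W, a * a = 1 := fun a ha => by rw [← pow_two]; exact hV.2 a ha
  have hcent : Subgroup.centralizer (W : Set G) ≤ W := by
    have := Agent.Components.centralizer_generalizedFittingSubgroup_le (G := G)
    rwa [hF] at this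
  have hne : W ≠ ⊤ := by
    intro h
    obtain ⟨⟨hord, -⟩, ⟨d, hd, -⟩, -⟩ := hD
    have hc : Subgroup.center G = ⊤ := by
      rw [eq_top_iff]
      intro x _
      refine Subgroup.mem_center_iff.2 fun y => ?_
      have hx : x ∈ W := h ▸ Subgroup.mem_top x
      have hy : y ∈ W := h ▸ Subgroup.mem_top y
      exact congrArg Subtype.val (hV.1.is_comm.comm (⟨y, hy⟩ : W) ⟨x, hx⟩)
    rw [hZ] at hc
    have h1 : d ∈ (⊥ : Subgroup G) := hc ▸ Subgroup.mem_top d
    have := hord d hd
    rw [Subgroup.mem_bot.1 h1, orderOf_one] at this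
    omega
  have hcore : pCore 2 (G ⧸ W) = ⊥ := Agent.PCore.pCore_quotient_self_eq_bot
  exact Set.Subset.antisymm
    (Agent.Transpos.TwoRad.class_subset hW2 hcent hcore hne hZ hD hE)
    (Agent.Transpos.TwoRad.class_subset hW2 hcent hcore hne hZ hE hD)

end Cfsg.Agent.S5558
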