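import Cfsg.Statements.S5559
import Cfsg.Agent.Lib.Transpos.ThreeByTwo
import Cfsg.Agent.Lib.Transpos.SUThreeTwo
import Cfsg.Agent.Lib.PCore.Basic
import Cfsg.Agent.Lib.LocalChar.Basic
import Cfsg.Agent.Lib.Coprime.Commutator
import Cfsg.Agent.Lib.PGroup.Frattini

set_option autoImplicit false
open Cfsg Cfsg.Agent.Transpos

namespace Cfsg.Agent.S5559

/-- All members of a class of 3-transpositions have the same image in a 2-group. -/
theorem image_eq {H : Type*} [Group H] {L : Type*} [Group L] {E : Set H}
    (hE : Cfsg.IsThreeTranspositionClass E) (hL : IsPGroup 2 L) (f : H →* L)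
    (hf : Function.Surjective f) : ∀ z ∈ E, ∀ u ∈ E, f z = f u := by
  obtain ⟨⟨hord, h3t⟩, ⟨d, hdE, hconj⟩, hgen⟩ := hE
  have hE2 : ∀ z ∈ E, z * z = 1 := fun z hz => by
    rw [← pow_two, ← hord z hz]; exact pow_orderOf_eq_one z
  have hcomm : ∀ z ∈ E, ∀ u ∈ E, Commute (f z) (f u) := by
    intro z hz u hu
    have hzz : f z * f z = 1 := by rw [← map_mul, hE2 z hz, map_one]
    have huu : f u * f u = 1 := by rw [← map_mul, hE2 u hu, map_one]
    have h2 : (f z * f u) ^ 2 = 1 := by
      rcases h3t z hz u hu with h | h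
      · rw [← map_mul, ← map_pow, h, map_one]
      · obtain ⟨k, hk⟩ := hL (f z * f u)
        have h3 : (f z * f u) ^ 3 = 1 := by rw [← map_mul, ← map_pow, h, map_one]
        have : (f z * f u) ^ Nat.gcd 3 (2 ^ k) = 1 := pow_gcd_eq_one.2 ⟨h3, hk⟩
        rw [Nat.Coprime.gcd_eq_one (Nat.Coprime.pow_right k (by norm_num)), pow_one] at this
        rw [this, one_pow]
    rw [pow_two] at h2
    show f z * f u = f u * f z
    rw [eq_inv_of_mul_eq_one_right h2, mul_inv_rev, inv_eq_of_mul_eq_one_right hzz,
      inv_eq_of_mul_eq_one_right huu]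
  have hall : ∀ z ∈ E, ∀ g : H, Commute (f z) (f g) := by
    intro z hz g
    have hg : g ∈ Subgroup.closure E := hgen ▸ Subgroup.mem_top g
    induction hg using Subgroup.closure_induction with
    | mem u hu => exact hcomm z hz u hu
    | one => rw [map_one]; exact Commute.one_right _
    | mul p q _ _ hp hq => rw [map_mul]; exact hp.mul_right hq
    | inv p _ hp => rw [map_inv]; exact hp.inv_right
  have key : ∀ z ∈ E, f z = f d := by
    intro z hz
    rw [hconj] at hz
    obtain ⟨c, rfl⟩ := isConj_iff.1 (show IsConj d z from hz)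
    rw [map_mul, map_mul, map_inv, ← (hall d hdE c).eq, mul_inv_cancel_right]
  intro z hz u hu
  rw [key z hz, key u hu]

theorem map_frattini_aut {H : Type*} [Group H] (e : MulAut H) :
    (frattini H).map (e : H →* H) = frattini H :=
  Subgroup.characteristic_iff_map_eq.1 (frattini_characteristic (G := H)) e

/-- The action of a group on the Frattini quotient of a normal subgroup. -/
noncomputable def actW {H : Type*} [Group H] (V : Subgroup H) [V.Normal] :
    H →* MulAut (V ⧸ frattini V) where
  toFun h := QuotientGroup.congr _ _ (MulAut.conjNormal h)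
    (map_frattini_aut (MulAut.conjNormal h))
  map_one' := by
    apply MulEquiv.ext
    intro q
    induction q using QuotientGroup.induction_on with
    | _ v => rw [QuotientGroup.congr_mk, map_one]; rfl
  map_mul' g h := by
    apply MulEquiv.ext
    intro q
    induction q using QuotientGroup.induction_on with
    | _ v =>
      rw [MulAut.mul_apply, QuotientGroup.congr_mk, QuotientGroup.congr_mk, QuotientGroup.congr_mk,
        map_mul]
      rfl

theorem actW_mk {H : Type*} [Group H] (V : Subgroup H) [V.Normal] (h : H) (v : V) :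
    actW V h (QuotientGroup.mk v) = QuotientGroup.mk (MulAut.conjNormal h v) := by
  show QuotientGroup.congr _ _ (MulAut.conjNormal h) (map_frattini_aut _) _ = _
  rw [QuotientGroup.congr_mk]

theorem actW_eq {H : Type*} [Group H] (V : Subgroup H) [V.Normal] {h : H} {v : V}
    (e : actW V h (QuotientGroup.mk v) = QuotientGroup.mk v) :
    (v : H)⁻¹ * (h * v * h⁻¹) ∈ (frattini V).map V.subtype := by
  rw [actW_mk] at e
  exact ⟨_, QuotientGroup.eq.1 e.symm, by
    rw [map_mul, map_inv, Subgroup.subtype_apply, Subgroup.subtype_apply, MulAut.conjNormal_apply]⟩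

/-- Let H be a finite group generated by a conjugacy class E of 3-transpositions with at least two members, with F*(H) = O₂(H), and such that H/O₂(H) has a normal Sylow 3-subgroup of 2-power index (that is, H = O_{2,3,2}(H)). Then H/O₂(H) is isomorphic to the symmetric group of degree 3 or to the derived group of SU₃(2) (of order 54). -/
theorem result {H : Type*} [Group H] [Finite H] {E : Set H} (hE : Cfsg.IsThreeTranspositionClass E)
    (hE2 : ∃ a ∈ E, ∃ b ∈ E, a ≠ b) (hF : Cfsg.generalizedFittingSubgroup H = Cfsg.pCore 2 H)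
    (h232 : ∃ P : Sylow 3 (H ⧸ Cfsg.pCore 2 H), (P : Subgroup (H ⧸ Cfsg.pCore 2 H)).Normal ∧
      ∃ k : ℕ, (P : Subgroup (H ⧸ Cfsg.pCore 2 H)).index = 2 ^ k) :
    Nonempty (H ⧸ Cfsg.pCore 2 H ≃* Equiv.Perm (Fin 3)) ∨
      ∃ (F : Type) (_ : Field F) (_ : Fintype F), Fintype.card F = 4 ∧
        Nonempty (H ⧸ Cfsg.pCore 2 H ≃* ↥(commutator ↥(Cfsg.SU 3 F 2))) := by
  classical
  have hE0 := hE
  obtain ⟨⟨hord, h3t⟩, ⟨d, hdE, hconj⟩, hgen⟩ := hE
  have hEsq : ∀ z ∈ E, z * z = 1 := fun z hz => by
    rw [← pow_two, ← hord z hz]; exact pow_orderOf_eq_one z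
  have hconjE : ∀ g : H, ∀ z ∈ E, g * z * g⁻¹ ∈ E := by
    intro g z hz
    rw [hconj] at hz ⊢
    exact IsConj.trans (show IsConj d z from hz) (isConj_iff.2 ⟨g, rfl⟩)
  haveI : Fact (Nat.Prime 2) := ⟨Nat.prime_two⟩
  haveI : Fact (Nat.Prime 3) := ⟨Nat.prime_three⟩
  have hcp := LocalChar.genFitting_eq_pCore_iff.1 hF
  obtain ⟨P, hPn, k, hk⟩ := h232
  set V := pCore 2 H with hV
  haveI hVn : V.Normal := Components.pCore_normal' 2
  have hVp : IsPGroup 2 V := Components.isPGroup_pCore' 2
  haveI := hPn
  let π := QuotientGroup.mk' V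
  have hπs : Function.Surjective π := QuotientGroup.mk'_surjective V
  have hQcore : pCore 2 (H ⧸ V) = ⊥ := PCore.pCore_quotient_self_eq_bot
  -- `π d` is outside `P`
  have hd2 : π d * π d = 1 := by rw [← map_mul, hEsq d hdE, map_one]
  have hodd : ∀ q : H ⧸ V, q ∈ (P : Subgroup (H ⧸ V)) → q ^ 2 = 1 → q = 1 := by
    intro q hq h2
    obtain ⟨j, hj⟩ := P.isPGroup' ⟨q, hq⟩
    have hj' : q ^ 3 ^ j = 1 := congrArg Subtype.val hj
    have : q ^ Nat.gcd 2 (3 ^ j) = 1 := pow_gcd_eq_one.2 ⟨h2, hj'⟩
    rwa [Nat.Coprime.gcd_eq_one (Nat.Coprime.pow_right j (by norm_num)), pow_one] at this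
  have hL : IsPGroup 2 ((H ⧸ V) ⧸ (P : Subgroup (H ⧸ V))) :=
    IsPGroup.of_card (n := k) (by rw [← Subgroup.index_eq_card, hk])
  let ρ := (QuotientGroup.mk' (P : Subgroup (H ⧸ V))).comp π
  have hρs : Function.Surjective ρ := (QuotientGroup.mk'_surjective _).comp hπs
  have hρ := image_eq hE0 hL ρ hρs
  have hπgen : Subgroup.closure (π '' E) = ⊤ := by
    rw [← MonoidHom.map_closure, hgen, Subgroup.map_top_of_surjective _ hπs]
  have haP : π d ∉ (P : Subgroup (H ⧸ V)) := by
    intro hmem
    have h1 : π d = 1 := hodd _ hmem (by rw [pow_two, hd2])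
    have hEV : ∀ z ∈ E, z ∈ V := by
      intro z hz
      rw [hconj] at hz
      obtain ⟨c, rfl⟩ := isConj_iff.1 (show IsConj d z from hz)
      exact hVn.conj_mem d ((QuotientGroup.eq_one_iff d).1 h1) c
    have hH : IsPGroup 2 H := by
      have htop : V = ⊤ := by
        rw [eq_top_iff, ← hgen, Subgroup.closure_le]; exact hEV
      intro g
      obtain ⟨j, hj⟩ := hVp ⟨g, htop ▸ Subgroup.mem_top g⟩
      exact ⟨j, congrArg Subtype.val hj⟩
    obtain ⟨a, ha, b, hb, hab⟩ := hE2
    exact hab (image_eq hE0 hH (MonoidHom.id H) (fun g => ⟨g, rfl⟩) a ha b hb)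
  have hsub : ∀ q : H ⧸ V, q ∈ (P : Subgroup (H ⧸ V)) ∨ π d * q ∈ (P : Subgroup (H ⧸ V)) := by
    intro q
    obtain ⟨g, rfl⟩ := hπs q
    have hg : g ∈ Subgroup.closure E := hgen ▸ Subgroup.mem_top g
    have hρd : ρ d * ρ d = 1 := by rw [← map_mul, hEsq d hdE, map_one]
    have hval : ρ g = 1 ∨ ρ g = ρ d := by
      induction hg using Subgroup.closure_induction with
      | mem u hu => exact Or.inr (hρ u hu d hdE)
      | one => exact Or.inl (map_one _)
      | mul p q _ _ hp hq =>
        rw [map_mul]
        rcases hp with hp | hp <;> rcases hq with hq | hq <;> rw [hp, hq] <;> simp [hρd]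
      | inv p _ hp =>
        rw [map_inv]
        rcases hp with hp | hp <;> rw [hp] <;> simp [inv_eq_of_mul_eq_one_right hρd]
    rcases hval with h | h
    · exact Or.inl ((QuotientGroup.eq_one_iff _).1 h)
    · refine Or.inr ((QuotientGroup.eq_one_iff _).1 ?_)
      show ((π d * π g : H ⧸ V) : (H ⧸ V) ⧸ (P : Subgroup (H ⧸ V))) = 1
      rw [QuotientGroup.mk_mul]
      show ρ d * ρ g = 1
      rw [h, hρd]
  have hidx : (P : Subgroup (H ⧸ V)).index = 2 := by
    refine Subgroup.index_eq_two_iff_exists_notMem_and.2 ⟨π d, haP, fun q => ?_⟩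
    rcases hsub q with h | h
    · exact Or.inr h
    · refine Or.inl ?_
      have := hPn.conj_mem _ h (π d)⁻¹
      rwa [inv_inv, inv_mul_cancel_left] at this
  have hout : ∀ z ∈ E, π z ∉ (P : Subgroup (H ⧸ V)) := by
    intro z hz hmem
    apply haP
    apply (QuotientGroup.eq_one_iff (π d)).1
    show ρ d = 1
    rw [hρ d hdE z hz]
    exact (QuotientGroup.eq_one_iff (π z)).2 hmem
  obtain ⟨n, hn⟩ := IsPGroup.iff_card.1 P.isPGroup'
  have hcardQ : Nat.card (H ⧸ V) = 2 * 3 ^ n := by
    have := (P : Subgroup (H ⧸ V)).card_mul_index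
    rw [hn, hidx, mul_comm] at this
    exact this.symm
  have hPne : (P : Subgroup (H ⧸ V)) ≠ ⊥ := by
    intro hbot
    have h2 : IsPGroup 2 (H ⧸ V) := IsPGroup.of_card (n := 1) (by
      have := (P : Subgroup (H ⧸ V)).card_mul_index
      rw [hbot, Subgroup.card_bot, one_mul] at this
      rw [← this, ← hbot, hidx, pow_one])
    rw [PCore.pCore_eq_top_of_isPGroup h2] at hQcore
    exact haP ((Subgroup.mem_bot.1 (hQcore ▸ Subgroup.mem_top (π d))) ▸ one_mem _)
  -- elements inverted by `π d`
  set ā := π d with hā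
  have hinv : ∀ q ∈ (P : Subgroup (H ⧸ V)), ā * q * ā = q⁻¹ → ∃ e ∈ E, q = π (d * e) := by
    intro q hq hiq
    have hs2 : (ā * q) * (ā * q) = 1 := by rw [← mul_assoc, hiq, inv_mul_cancel]
    have hsne : ā * q ∉ (P : Subgroup (H ⧸ V)) := fun h =>
      haP ((Subgroup.mul_mem_cancel_right _ hq).1 h)
    have hs1 : ā * q ≠ 1 := fun h => hsne (h ▸ one_mem _)
    have ha1 : ā ≠ 1 := fun h => haP (h ▸ one_mem _)
    have hc : ∀ t : H ⧸ V, t ≠ 1 → t * t = 1 → Nat.card (Subgroup.zpowers t) = 2 := fun t h1 h2 => by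
      rw [Nat.card_zpowers]; exact orderOf_eq_prime (by rw [pow_two, h2]) h1
    have hfac : 2 ^ (Nat.card (H ⧸ V)).factorization 2 = 2 := by
      rw [hcardQ, Nat.factorization_mul (by norm_num) (by positivity), Finsupp.add_apply,
        Nat.prime_two.factorization, Finsupp.single_eq_same,
        Nat.prime_three.factorization_pow, Finsupp.single_eq_of_ne (by norm_num), add_zero, pow_one]
    let S1 := Sylow.ofCard (Subgroup.zpowers ā) (by rw [hc ā ha1 hd2, hfac])
    let S2 := Sylow.ofCard (Subgroup.zpowers (ā * q)) (by rw [hc _ hs1 hs2, hfac])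
    obtain ⟨c, hcS⟩ := MulAction.exists_smul_eq (H ⧸ V) S1 S2
    have hmem : c * ā * c⁻¹ ∈ Subgroup.zpowers (ā * q) := by
      have h1 : c * ā * c⁻¹ ∈ ((c • S1 : Sylow 2 (H ⧸ V)) : Subgroup (H ⧸ V)) :=
        ⟨ā, Subgroup.mem_zpowers ā, rfl⟩
      rw [hcS] at h1
      exact h1
    obtain ⟨i, hi⟩ := hmem
    dsimp only at hi
    have hc' : c * ā * c⁻¹ = ā * q := by
      rcases Int.even_or_odd i with ⟨j, hj⟩ | ⟨j, hj⟩
      · exfalso
        rw [hj, ← two_mul, zpow_mul, show (ā * q) ^ (2 : ℤ) = 1 by rw [zpow_two, hs2], one_zpow] at hi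
        apply ha1
        have := conj_eq_one_iff.1 hi.symm
        exact this
      · rw [hj, zpow_add, zpow_mul, show (ā * q) ^ (2 : ℤ) = 1 by rw [zpow_two, hs2], one_zpow,
          one_mul, zpow_one] at hi
        exact hi.symm
    obtain ⟨g, rfl⟩ := hπs c
    refine ⟨g * d * g⁻¹, hconjE g d hdE, ?_⟩
    rw [map_mul, map_mul π (g * d), map_mul π g, map_inv, ← hā, hc', ← mul_assoc, hd2, one_mul]
  have hcube : ∀ q ∈ (P : Subgroup (H ⧸ V)), ā * q * ā = q⁻¹ → q ^ 3 = 1 := by
    intro q hq hiq
    obtain ⟨e, he, rfl⟩ := hinv q hq hiq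
    rcases h3t d hdE e he with h | h
    · rw [hodd _ hq (by rw [← map_pow, h, map_one]), one_pow]
    · rw [← map_pow, h, map_one]
  -- the Frattini quotient
  letI iW : CommGroup (V ⧸ frattini V) :=
    { (inferInstance : Group (V ⧸ frattini V)) with
      mul_comm := fun x y => by
        induction x using QuotientGroup.induction_on with
        | _ x =>
          induction y using QuotientGroup.induction_on with
          | _ y =>
            rw [← QuotientGroup.mk_mul, ← QuotientGroup.mk_mul, QuotientGroup.eq]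
            have h := PGroup.commutator_le_frattini hVp
              (Subgroup.commutator_mem_commutator (Subgroup.mem_top y⁻¹) (Subgroup.mem_top x⁻¹))
            rw [commutatorElement_def, inv_inv, inv_inv] at h
            rwa [mul_inv_rev, ← mul_assoc] }
  have hker : V ≤ (actW V).ker := by
    intro v hv
    rw [MonoidHom.mem_ker]
    apply MulEquiv.ext
    intro q
    induction q using QuotientGroup.induction_on with
    | _ x =>
      rw [actW_mk, MulAut.one_apply]
      have e : MulAut.conjNormal v x = (⟨v, hv⟩ : V) * x * (⟨v, hv⟩ : V)⁻¹ :=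
        Subtype.ext (by simp [MulAut.conjNormal_apply])
      rw [e, QuotientGroup.mk_mul, QuotientGroup.mk_mul, QuotientGroup.mk_inv,
        mul_comm ((⟨v, hv⟩ : V) : V ⧸ frattini V), mul_inv_cancel_right]
  let φ : H ⧸ V →* MulAut (V ⧸ frattini V) := QuotientGroup.lift V (actW V) hker
  have hφπ : ∀ g, φ (π g) = actW V g := fun g => rfl
  have hinj : Function.Injective φ := by
    rw [← MonoidHom.ker_eq_bot_iff, eq_bot_iff]
    intro q hq
    obtain ⟨g, rfl⟩ := hπs q
    rw [MonoidHom.mem_ker, hφπ] at hq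
    have hN : IsPGroup 2 (actW V).ker := by
      intro ⟨g, hg⟩
      obtain ⟨j, m, hm, hjm⟩ := Nat.exists_eq_pow_mul_and_not_dvd (orderOf_pos g).ne' 2 (by norm_num)
      refine ⟨j, Subtype.ext ?_⟩
      show g ^ 2 ^ j = 1
      have hord' : ¬ 2 ∣ orderOf (g ^ 2 ^ j) := by
        rw [orderOf_pow' _ (by positivity), hjm, Nat.gcd_eq_right (dvd_mul_right _ _),
          Nat.mul_div_cancel_left _ (by positivity)]
        exact hm
      refine LocalChar.cp_elim hcp (fun v hv => ?_) hord'
      have hA := Coprime.le_centralizer_of_frattini (A := Subgroup.zpowers (g ^ 2 ^ j)) (K := V)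
        (by rw [Subgroup.normalizer_eq_top]; exact le_top) ?_ ?_
      · exact (Subgroup.mem_centralizer_iff.1 (hA (Subgroup.mem_zpowers _)) v hv).symm
      · obtain ⟨l, hl⟩ := IsPGroup.iff_card.1 (hVp.to_subgroup (frattini V))
        rw [hl, Nat.card_zpowers]
        exact Nat.Coprime.pow_right l
          ((Nat.prime_two.coprime_iff_not_dvd.2 hord').symm)
      · intro a ha x hx
        have hak : a ∈ (actW V).ker :=
          Subgroup.zpowers_le.2 (pow_mem hg (2 ^ j)) ha
        have h1 : actW V a (QuotientGroup.mk (⟨x, hx⟩ : V)) = QuotientGroup.mk (⟨x, hx⟩ : V) := by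
          rw [MonoidHom.mem_ker.1 hak]; rfl
        have h2 := actW_eq V h1
        have := ((ConjAct.normal_of_characteristic_of_normal :
          ((frattini V).map V.subtype).Normal)).conj_mem _ h2 x
        simpa [mul_assoc] using this
    exact Subgroup.mem_bot.2 ((QuotientGroup.eq_one_iff g).2
      (PCore.le_pCore hN (MonoidHom.mem_ker.2 hq)))
  have hfix : ∀ q ∈ (P : Subgroup (H ⧸ V)), ā * q * ā = q⁻¹ → q ≠ 1 → ∀ w, φ q w = w → φ ā w = w := by
    intro q hq hiq hq1 w hw
    obtain ⟨e, he, rfl⟩ := hinv q hq hiq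
    set x := d * e with hxdef
    have hx3 : x ^ 3 = 1 := by
      rcases h3t d hdE e he with h | h
      · exact absurd (hodd _ hq (by rw [← map_pow, h, map_one])) hq1
      · exact h
    induction w using QuotientGroup.induction_on with
    | _ v =>
      rw [hφπ] at hw
      have hxA : ∀ a ∈ Subgroup.zpowers x,
          actW V a (QuotientGroup.mk v) = (QuotientGroup.mk v : V ⧸ frattini V) := by
        intro a ha
        have hle : Subgroup.zpowers x ≤ (MulAction.stabilizer (MulAut (V ⧸ frattini V))
            (QuotientGroup.mk v : V ⧸ frattini V)).comap (actW V) := Subgroup.zpowers_le.2 hw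
        exact hle ha
      haveI hΦn : ((frattini V).map V.subtype).Normal := ConjAct.normal_of_characteristic_of_normal
      obtain ⟨z, hz, hzc⟩ := Coprime.exists_mul_mem_centralizer (A := Subgroup.zpowers x)
        (N := (frattini V).map V.subtype) (k := (v : H))
        (by rw [Subgroup.normalizer_eq_top]; exact le_top) (by
          obtain ⟨l, hl⟩ := IsPGroup.iff_card.1 ((hVp.to_subgroup (frattini V)).map V.subtype)
          rw [hl, Nat.card_zpowers]
          exact Nat.Coprime.coprime_dvd_left (orderOf_dvd_of_pow_eq_one hx3)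
            (Nat.Coprime.pow_right l (by norm_num)))
        (Or.inl (Group.isSolvable_of_comm fun a b => Std.Commutative.comm a b)) (fun a ha => by
          simpa [mul_assoc] using actW_eq V (hxA a ha))
      obtain ⟨z₀, hz₀, rfl⟩ := hz
      set v' : V := v * z₀ with hv'
      have hvw : (QuotientGroup.mk v' : V ⧸ frattini V) = QuotientGroup.mk v := by
        rw [hv', QuotientGroup.mk_mul, (QuotientGroup.eq_one_iff z₀).2 hz₀, mul_one]
      have hcomm : Commute x (v' : H) := by
        have := Subgroup.mem_centralizer_iff.1 hzc x (Subgroup.mem_zpowers x)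
        exact this
      have hdi : d⁻¹ = d := inv_eq_of_mul_eq_one_right (hEsq d hdE)
      have hei : e⁻¹ = e := inv_eq_of_mul_eq_one_right (hEsq e he)
      set v₀ : H := (v' : H) with hv₀
      have hv₀V : v₀ ∈ V := v'.2
      set e' := v₀ * e * v₀⁻¹ with he'def
      have he' : e' ∈ E := hconjE v₀ e he
      set c := d * v₀ * d * v₀⁻¹ with hcdef
      have hcV : c ∈ V := by
        refine mul_mem ?_ (inv_mem hv₀V)
        have := hVn.conj_mem v₀ hv₀V d
        rwa [hdi] at this
      have hy : d * e' = c * x := by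
        calc d * e' = (d * v₀ * d) * (x * v₀⁻¹) := by
              simp only [hxdef, he'def, mul_assoc]
              rw [← mul_assoc d d, hEsq d hdE, one_mul]
          _ = (d * v₀ * d) * (v₀⁻¹ * x) := by rw [hcomm.inv_right.eq]
          _ = c * x := by rw [hcdef]; group
      have hdxd : d * x * d = x⁻¹ := by
        rw [hxdef, mul_inv_rev, hdi, hei, ← mul_assoc, hEsq d hdE, one_mul]
      have hcx : Commute c x := by
        have h1 : Commute (d * x⁻¹ * d) (d * v₀ * d) := by
          have := hcomm.inv_left.map (MulAut.conj d).toMonoidHom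
          simpa [hdi] using this
        have h2 : d * x⁻¹ * d = x := by
          rw [← hdxd, show d * (d * x * d) * d = (d * d) * x * (d * d) by group, hEsq d hdE, one_mul,
            mul_one]
        rw [h2] at h1
        exact (h1.mul_right hcomm.inv_right).symm
      have hc3 : c ^ 3 = 1 := by
        rcases h3t d hdE e' he' with h | h
        · exfalso
          apply hq1
          refine hodd _ hq ?_
          have h1 := congrArg π h
          rw [hy, hcx.mul_pow, map_mul, map_pow, map_pow,
            show π c = 1 from (QuotientGroup.eq_one_iff c).2 hcV, one_pow, one_mul, map_one] at h1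
          exact h1
        · rwa [hy, hcx.mul_pow, hx3, mul_one] at h
      have hc1 : c = 1 := by
        obtain ⟨j, hj⟩ := hVp ⟨c, hcV⟩
        have hj' : c ^ 2 ^ j = 1 := congrArg Subtype.val hj
        have : c ^ Nat.gcd 3 (2 ^ j) = 1 := pow_gcd_eq_one.2 ⟨hc3, hj'⟩
        rwa [Nat.Coprime.gcd_eq_one (Nat.Coprime.pow_right j (by norm_num)), pow_one] at this
      rw [hā, hφπ, ← hvw, actW_mk]
      congr 1
      apply Subtype.ext
      rw [MulAut.conjNormal_apply, hdi]
      exact mul_inv_eq_one.1 hc1
  have hgenI : Subgroup.closure {q : H ⧸ V | q ∈ (P : Subgroup (H ⧸ V)) ∧ ā * q * ā = q⁻¹} = P := by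
    set I := {q : H ⧸ V | q ∈ (P : Subgroup (H ⧸ V)) ∧ ā * q * ā = q⁻¹} with hI
    refine le_antisymm ((Subgroup.closure_le _).2 fun q hq => hq.1) fun r hr => ?_
    have hflip : ∀ k ∈ Subgroup.closure I, ā * k * ā ∈ Subgroup.closure I := by
      intro k hk
      induction hk using Subgroup.closure_induction with
      | mem g hg => rw [hg.2]; exact inv_mem (Subgroup.subset_closure hg)
      | one => rw [mul_one, hd2]; exact one_mem _
      | mul g g' _ _ h1 h2 =>
        rw [show ā * (g * g') * ā = (ā * g * ā) * (ā * g' * ā) by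
          rw [show (ā * g * ā) * (ā * g' * ā) = ā * g * (ā * ā) * g' * ā by group, hd2, mul_one]
          group]
        exact mul_mem h1 h2
      | inv g _ h1 =>
        rw [show ā * g⁻¹ * ā = (ā * g * ā)⁻¹ by
          rw [mul_inv_rev, mul_inv_rev, inv_eq_of_mul_eq_one_right hd2, mul_assoc]]
        exact inv_mem h1
    have hde : ∀ e ∈ E, ā * π e ∈ Subgroup.closure I := by
      intro e he
      refine Subgroup.subset_closure ⟨?_, ?_⟩
      · rw [Subgroup.mul_mem_iff_of_index_two hidx]; simp [haP, hout e he]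
      · rw [mul_inv_rev, inv_eq_of_mul_eq_one_right hd2, ← mul_assoc, hd2, one_mul,
          inv_eq_of_mul_eq_one_right (show π e * π e = 1 by rw [← map_mul, hEsq e he, map_one])]
    have key : ∀ g : H ⧸ V, g ∈ Subgroup.closure I ∨ ā * g ∈ Subgroup.closure I := by
      intro g
      have hg : g ∈ Subgroup.closure (π '' E) := hπgen ▸ Subgroup.mem_top g
      have step : ∀ e ∈ E, ∀ w, w ∈ Subgroup.closure I ∨ ā * w ∈ Subgroup.closure I →
          π e * w ∈ Subgroup.closure I ∨ ā * (π e * w) ∈ Subgroup.closure I := by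
        intro e he w hw
        rcases hw with hw | hw
        · exact Or.inr (by rw [← mul_assoc]; exact mul_mem (hde e he) hw)
        · refine Or.inl ?_
          have : π e * w = (ā * (ā * π e) * ā) * (ā * w) := by
            rw [← mul_assoc ā ā, hd2, one_mul, mul_assoc, ← mul_assoc ā, hd2, one_mul]
          rw [this]
          exact mul_mem (hflip _ (hde e he)) hw
      induction hg using Subgroup.closure_induction_left with
      | one => exact Or.inl (one_mem _)
      | mul_left z hz w _ ih => obtain ⟨e, he, rfl⟩ := hz; exact step e he w ih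
      | inv_mul_cancel z hz w _ ih =>
        obtain ⟨e, he, rfl⟩ := hz
        rw [inv_eq_of_mul_eq_one_right (show π e * π e = 1 by rw [← map_mul, hEsq e he, map_one])]
        exact step e he w ih
    rcases key r with h | h
    · exact h
    · exfalso
      have h1 : ā * r ∈ (P : Subgroup (H ⧸ V)) := (Subgroup.closure_le _).2 (fun q hq => hq.1) h
      exact haP ((Subgroup.mul_mem_cancel_right _ hr).1 h1)
  have hsetup : ThreeByTwo.Setup (P : Subgroup (H ⧸ V)) ā φ :=
    { normal := hPn
      three := P.isPGroup'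
      index := hidx
      sq := hd2
      notMem := haP
      inj := hinj
      exp2 := fun w => by
        induction w using QuotientGroup.induction_on with
        | _ v =>
          rw [← QuotientGroup.mk_mul, QuotientGroup.eq_one_iff, ← pow_two]
          exact PGroup.pow_mem_frattini hVp v
      cube := hcube
      fix := hfix
      ne_bot := hPne
      gen := hgenI }
  rcases hsetup.small with h | ⟨h54, b, u, x, hrel, hgen'⟩
  · exact Or.inl h
  · obtain ⟨hC, a', x', y', hrel', hgen''⟩ := SU32.commutator_spec SU32.K4 SU32.card_K4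
    exact Or.inr ⟨SU32.K4, SU32.fieldK4, inferInstance, SU32.card_K4,
      B23.nonempty_equiv hrel hgen' h54 hrel' hgen'' hC⟩

end Cfsg.Agent.S5559
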