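import Cfsg.Statements.S5562
-- import your own Cfsg.Agent.* helpers here

set_option autoImplicit false
open Cfsg

namespace Cfsg.Agent.S5562

/-- Let G be a finite group, d an involution of G whose conjugates pairwise have products of odd order, and x any involution of G. Then the conjugacy class of d is the disjoint union, over the conjugates a of d commuting with x, of the sets of conjugates of d commuting with ax: every conjugate of d commutes with ax for exactly one conjugate a of d that commutes with x. -/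
theorem result {G : Type*} [Group G] [Finite G] (d : G) (hd : orderOf d = 2)
    (hodd : ∀ a ∈ conjugatesOf d, ∀ b ∈ conjugatesOf d, Odd (orderOf (a * b)))
    (x : G) (hx : orderOf x = 2) :
    ∀ e ∈ conjugatesOf d,
      ∃! a : G, a ∈ conjugatesOf d ∧ Commute a x ∧ Commute e (a * x) := by
  intro e he
  have hsq : ∀ a ∈ conjugatesOf d, a * a = 1 := by
    intro a ha
    obtain ⟨c, rfl⟩ := isConj_iff.1 (show IsConj d a from ha)
    have : d * d = 1 := by rw [← pow_two, ← hd]; exact pow_orderOf_eq_one d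
    calc c * d * c⁻¹ * (c * d * c⁻¹) = c * (d * d) * c⁻¹ := by group
      _ = 1 := by rw [this]; group
  have hxx : x * x = 1 := by rw [← pow_two, ← hx]; exact pow_orderOf_eq_one x
  have hxi : x⁻¹ = x := inv_eq_of_mul_eq_one_right hxx
  have hclosed : ∀ a ∈ conjugatesOf d, ∀ g : G, g * a * g⁻¹ ∈ conjugatesOf d := fun a ha g =>
    IsConj.trans (show IsConj d a from ha) (isConj_iff.2 ⟨g, rfl⟩)
  set f := x * e * x with hf
  have hfD : f ∈ conjugatesOf d := by
    have := hclosed e he x; rwa [hxi] at this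
  have he2 := hsq e he
  have hf2 := hsq f hfD
  set r := e * f with hr
  obtain ⟨k, hk⟩ := hodd e he f hfD
  have hn : r ^ (2 * k + 1) = 1 := by rw [← hk]; exact pow_orderOf_eq_one r
  have hflip : ∀ m : ℕ, e * r ^ m * e = (r ^ m)⁻¹ := by
    intro m
    have hei : e⁻¹ = e := inv_eq_of_mul_eq_one_right he2
    have h1 : e * r * e⁻¹ = r⁻¹ := by
      rw [hr, mul_inv_rev, inv_eq_of_mul_eq_one_right hf2]
      calc e * (e * f) * e⁻¹ = e * e * f * e⁻¹ := by group
        _ = f * e⁻¹ := by rw [he2, one_mul]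
    have h2 : (e * r * e⁻¹) ^ m = e * r ^ m * e⁻¹ := conj_pow
    rw [h1, hei, inv_pow] at h2
    exact h2.symm
  have hfe : f = r⁻¹ * e := by
    rw [hr, mul_inv_rev, inv_eq_of_mul_eq_one_right hf2, inv_eq_of_mul_eq_one_right he2]
    rw [mul_assoc, he2, mul_one]
  set a := r ^ k * e with ha
  have haD : a ∈ conjugatesOf d := by
    have h1 := hclosed e he (r ^ (k * (k + 1)))
    have h2 : e * (r ^ (k * (k + 1)))⁻¹ = r ^ (k * (k + 1)) * e := by
      rw [← hflip]
      calc e * (e * r ^ (k * (k + 1)) * e) = e * e * r ^ (k * (k + 1)) * e := by group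
        _ = _ := by rw [he2, one_mul]
    have h3 : r ^ (k * (k + 1)) * e * (r ^ (k * (k + 1)))⁻¹ = a := by
      rw [mul_assoc, h2, ← mul_assoc, ← pow_add, ha]
      congr 1
      have : k * (k + 1) + k * (k + 1) = (2 * k + 1) * k + k := by ring
      rw [this, pow_add, pow_mul, hn, one_pow, one_mul]
    rw [← h3]; exact h1
  have hinvk : (r ^ k)⁻¹ * r⁻¹ = r ^ k := by
    rw [← mul_inv_rev, ← pow_succ', inv_eq_iff_mul_eq_one, ← pow_add,
      show k + 1 + k = 2 * k + 1 by ring, hn]
  have hxr : x * r * x⁻¹ = r⁻¹ := by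
    rw [hr, mul_inv_rev, inv_eq_of_mul_eq_one_right hf2, inv_eq_of_mul_eq_one_right he2, hxi, hf]
    calc x * (e * (x * e * x)) * x = x * e * x * e * (x * x) := by group
      _ = _ := by rw [hxx, mul_one]
  have hax : Commute a x := by
    have h1 : x * a * x⁻¹ = a := by
      calc x * a * x⁻¹ = (x * r ^ k * x⁻¹) * (x * e * x⁻¹) := by rw [ha]; group
        _ = (r ^ k)⁻¹ * f := by rw [← conj_pow, hxr, inv_pow, hxi, hf]
        _ = a := by rw [hfe, ← mul_assoc, hinvk]
    exact (mul_inv_eq_iff_eq_mul.1 h1).symm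
  have hiff : ∀ b ∈ conjugatesOf d, (Commute e (b * x) ↔ e * b = b * f) := by
    intro b _
    have : b * x * e = b * f * x := by
      calc b * x * e = b * x * e * (x * x) := by rw [hxx, mul_one]
        _ = b * f * x := by rw [hf]; group
    unfold Commute SemiconjBy
    rw [this, ← mul_assoc]
    exact ⟨mul_right_cancel, fun h => by rw [h]⟩
  have haf : e * a = a * f := by
    have : e * a = (r ^ k)⁻¹ := by rw [ha, ← mul_assoc]; exact hflip k
    rw [this, ha, mul_assoc, ← hr, ← pow_succ, inv_eq_iff_mul_eq_one, ← pow_add,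
      show k + (k + 1) = 2 * k + 1 by ring, hn]
  refine ⟨a, ⟨haD, hax, (hiff a haD).2 haf⟩, ?_⟩
  rintro b ⟨hbD, -, hbc⟩
  have key : ∀ c ∈ conjugatesOf d, e * c = c * f → (e * c) * (e * c) = r := by
    intro c hc h
    calc e * c * (e * c) = e * c * (c * f) := by rw [h]
      _ = e * (c * c) * f := by group
      _ = r := by rw [hsq c hc, mul_one, hr]
  obtain ⟨s, hs⟩ := hodd e he a haD
  obtain ⟨t, ht⟩ := hodd e he b hbD
  have ga : (e * a) ^ ((2 * s + 1) * (2 * t + 1)) = 1 := by
    rw [pow_mul, ← hs, pow_orderOf_eq_one, one_pow]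
  have gb : (e * b) ^ ((2 * s + 1) * (2 * t + 1)) = 1 := by
    rw [mul_comm, pow_mul, ← ht, pow_orderOf_eq_one, one_pow]
  have ka := key a haD haf
  have kb := key b hbD ((hiff b hbD).1 hbc)
  have root : ∀ g : G, g * g = r → g ^ ((2 * s + 1) * (2 * t + 1)) = 1 →
      g = r ^ (2 * s * t + s + t + 1) := by
    intro g hg h1
    rw [← hg, ← pow_two, ← pow_mul,
      show 2 * (2 * s * t + s + t + 1) = (2 * s + 1) * (2 * t + 1) + 1 by ring, pow_succ, h1,
      one_mul]
  exact mul_left_cancel ((root _ kb gb).trans (root _ ka ga).symm)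

end Cfsg.Agent.S5562
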