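import Cfsg.Statements.S5594
import Cfsg.Agent.Lib.Leech.Basic
import Cfsg.Agent.Lib.Mathieu.Generators
-- import your own Cfsg.Agent.* helpers here

set_option autoImplicit false
open Cfsg

namespace Cfsg.Agent.S5594

open Cfsg.Agent

theorem dod_spec : ∀ i : GolayPt, (i ∈ Cfsg.support₂ (Cfsg.qrWord 0) ↔
    projInv i ∉ Cfsg.support₂ (Cfsg.qrWord 0)) ∧ projInv (projInv i) = i := by decide +kernel

/-- Sign changes on the dodecad of squares after `x ↦ -1/x`. -/
def quarter (x : GolayPt → ℤ) : GolayPt → ℤ := fun i =>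
  if i ∈ Cfsg.support₂ (Cfsg.qrWord 0) then -x (projInv i) else x (projInv i)

theorem quarter_quarter (x : GolayPt → ℤ) : quarter (quarter x) = -x := by
  funext i
  obtain ⟨h1, h2⟩ := dod_spec i
  by_cases h : i ∈ Cfsg.support₂ (Cfsg.qrWord 0) <;> simp only [quarter, Pi.neg_apply, h2]
  · rw [if_pos h, if_neg (h1.mp h)]
  · rw [if_neg h, if_pos (not_not.mp fun e => h (h1.mpr e))]

theorem sqNorm_quarter (x : GolayPt → ℤ) : Cfsg.sqNorm (quarter x) = Cfsg.sqNorm x := by
  simp only [Cfsg.sqNorm, quarter]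
  rw [← Equiv.sum_comp projInv fun i => x i ^ 2]
  refine Finset.sum_congr rfl fun i _ => ?_
  split_ifs <;> ring

theorem quarter_mem {x : GolayPt → ℤ} (hx : x ∈ Cfsg.leechLattice) :
    quarter x ∈ Cfsg.leechLattice :=
  Leech.mem_leechLattice.2 (Leech.inL_sign (Leech.inL_comp Mathieu.projInv_mem
    (Leech.mem_leechLattice.1 hx)) (Leech.qrWord_mem_code 0))

theorem exists_quarter : ∃ g : ↥Cfsg.Co0, ∀ v : ↥Cfsg.leechLattice,
    (((g * g) • v : ↥Cfsg.leechLattice) : GolayPt → ℤ) = -(v : GolayPt → ℤ) := by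
  let f : Equiv.Perm ↥Cfsg.leechLattice :=
    { toFun := fun v => ⟨quarter v, quarter_mem v.2⟩
      invFun := fun v => -⟨quarter v, quarter_mem v.2⟩
      left_inv := fun v => Subtype.ext (by
        change -(quarter (quarter (v : GolayPt → ℤ))) = (v : GolayPt → ℤ)
        rw [quarter_quarter, neg_neg])
      right_inv := fun v => Subtype.ext (by
        change quarter (-(quarter (v : GolayPt → ℤ))) = (v : GolayPt → ℤ)
        have : quarter (-(quarter (v : GolayPt → ℤ))) = -(quarter (quarter (v : GolayPt → ℤ))) := by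
          funext i; simp only [quarter, Pi.neg_apply]; split_ifs <;> simp
        rw [this, quarter_quarter, neg_neg]) }
  refine ⟨⟨f, fun v w => Subtype.ext ?_, fun v => sqNorm_quarter v⟩, fun v => quarter_quarter v⟩
  change quarter ((v : GolayPt → ℤ) + w) = quarter v + quarter w
  funext i
  simp only [quarter, Pi.add_apply]
  split_ifs <;> ring

/-- The automorphism group of the Leech lattice contains the negation map, and the subgroup of order 2 it generates has no complement: the automorphism group is a non-split extension of its quotient by that subgroup (it is not the direct product of a group of order 2 with the first Conway group). -/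
theorem result :
    ∃ n : ↥Cfsg.Co0, (∀ v : ↥Cfsg.leechLattice, ((n • v : ↥Cfsg.leechLattice) : Cfsg.GolayPt → ℤ) = -(v : Cfsg.GolayPt → ℤ)) ∧
    ∀ K : Subgroup ↥Cfsg.Co0, ¬ (Subgroup.zpowers n).IsComplement' K := by
  obtain ⟨g, hg⟩ := exists_quarter
  refine ⟨g * g, hg, fun K hK => ?_⟩
  set n := g * g with hn
  have hneg : ∀ v : ↥Cfsg.leechLattice, n • v = -v := fun v => Subtype.ext (hg v)
  have hone : n ≠ 1 := by
    intro e
    have hmem : (fun i : Cfsg.GolayPt => if i = none then (8 : ℤ) else 0) ∈ Cfsg.leechLattice := by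
      refine AddSubgroup.subset_closure ⟨0, fun i => ?_, ?_, fun k => ?_⟩
      · dsimp only; split_ifs <;> decide
      · simp [Int.ModEq]
      · by_cases hk : 0 ≡ k [ZMOD 4]
        · refine ⟨1, Leech.one_mem_code, ?_⟩
          ext i
          have : (if i = none then (8 : ℤ) else 0) ≡ k [ZMOD 4] :=
            Int.ModEq.trans (by split_ifs <;> decide) hk
          simp [Cfsg.support₂, this]
        · refine ⟨0, zero_mem _, ?_⟩
          ext i
          have : ¬ (if i = none then (8 : ℤ) else 0) ≡ k [ZMOD 4] := fun h =>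
            hk (Int.ModEq.trans (by split_ifs <;> decide) h)
          simp [Cfsg.support₂, this]
    have h := hg ⟨_, hmem⟩
    rw [e, one_smul] at h
    have := congrFun h none
    simp at this
  have hord : orderOf n = 2 := orderOf_eq_prime (by
    rw [pow_two]
    refine Subtype.ext (Equiv.ext fun v => ?_)
    change n • n • v = v
    rw [hneg, hneg, neg_neg]) hone
  have hadd : ∀ (a : ↥Cfsg.Co0) (v : ↥Cfsg.leechLattice), a • (-v) = -(a • v) := by
    intro a v
    exact map_neg (AddMonoidHom.mk' (fun w => a • w) a.2.1) v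
  have hcentral : ∀ k : ↥Cfsg.Co0, k * n = n * k := fun k =>
    Subtype.ext (Equiv.ext fun v => by
      change k • n • v = n • k • v
      rw [hneg, hneg, hadd])
  obtain ⟨⟨a, k⟩, hak, -⟩ := hK.existsUnique g
  have hsq : k.1 * k.1 = n := by
    obtain ⟨j, hj⟩ := Subgroup.mem_zpowers_iff.mp a.2
    have haa : a.1 * a.1 = 1 := by
      rw [← hj, ← zpow_add, ← two_mul, zpow_mul]
      have h2 : n ^ (2 : ℤ) = 1 := by
        rw [show (2 : ℤ) = ((2 : ℕ) : ℤ) from rfl, zpow_natCast, ← hord, pow_orderOf_eq_one]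
      rw [h2, one_zpow]
    have hc : Commute k.1 a.1 := hj ▸ Commute.zpow_right (hcentral k.1) j
    calc k.1 * k.1 = a.1 * a.1 * (k.1 * k.1) := by rw [haa, one_mul]
      _ = (a.1 * k.1) * (a.1 * k.1) := hc.symm.mul_mul_mul_comm a.1 k.1
      _ = n := by rw [show a.1 * k.1 = g from hak]
  have hnK : n ∈ K := hsq ▸ mul_mem k.2 k.2
  exact hone (Subgroup.mem_bot.mp (hK.disjoint.eq_bot ▸ ⟨Subgroup.mem_zpowers n, hnK⟩))

end Cfsg.Agent.S5594
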