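import Cfsg.Statements.S5599
import Cfsg.Agent.Lib.Mathieu.Trans
-- import your own Cfsg.Agent.* helpers here

set_option autoImplicit false
open scoped Pointwise
open Cfsg

open scoped Pointwise

namespace Cfsg.Agent.S5599

open Cfsg.Agent

/-- In the automorphism group of the length-24 code, the two-point Mathieu group (permutations of the code's group fixing the extra point and the residue 0) has index 2 in the setwise stabiliser of that pair of points, and an element of the code's group interchanging the two points normalises the two-point group and induces on it, by conjugation, an automorphism that is not inner. -/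
theorem result (g : Equiv.Perm Cfsg.GolayPt) (hg : g ∈ Cfsg.M24) (h₁ : g none = some 0) (h₂ : g (some 0) = none) : Cfsg.Spor.M22.relIndex (Cfsg.M24 ⊓ MulAction.stabilizer (Equiv.Perm Cfsg.GolayPt) ({none, some 0} : Finset Cfsg.GolayPt)) = 2 ∧ (∀ x ∈ Cfsg.Spor.M22, g * x * g⁻¹ ∈ Cfsg.Spor.M22) ∧ ¬ ∃ h ∈ Cfsg.Spor.M22, ∀ x ∈ Cfsg.Spor.M22, g * x * g⁻¹ = h * x * h⁻¹ := by
  classical
  set H := Cfsg.M24 ⊓ MulAction.stabilizer (Equiv.Perm Cfsg.GolayPt)
    ({none, some 0} : Finset Cfsg.GolayPt) with hH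
  have hne : (none : Cfsg.GolayPt) ≠ some 0 := by simp
  have hpair : ∀ σ : Equiv.Perm Cfsg.GolayPt,
      (σ none = none ∧ σ (some 0) = some 0) ∨ (σ none = some 0 ∧ σ (some 0) = none) ↔
        σ • ({none, some 0} : Finset Cfsg.GolayPt) = {none, some 0} := by
    intro σ
    constructor
    · rintro (⟨a, b⟩ | ⟨a, b⟩) <;>
        simp [Finset.smul_finset_insert, Finset.smul_finset_singleton, a, b, Finset.pair_comm]
    · intro e
      have hmem : ∀ p ∈ ({none, some 0} : Finset Cfsg.GolayPt), σ p = none ∨ σ p = some 0 := by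
        intro p hp
        have h := Finset.smul_mem_smul_finset (a := σ) hp
        rw [e] at h
        simpa using h
      rcases hmem none (by simp) with a | a <;> rcases hmem (some 0) (by simp) with b | b
      · exact absurd (σ.injective (a.trans b.symm)) hne
      · exact Or.inl ⟨a, b⟩
      · exact Or.inr ⟨a, b⟩
      · exact absurd (σ.injective (a.trans b.symm)) hne
  have hnorm : ∀ x ∈ Cfsg.Spor.M22, g * x * g⁻¹ ∈ Cfsg.Spor.M22 := by
    intro x hx
    obtain ⟨hx24, hxn, hx0⟩ := Mathieu.mem_M22_iff.1 hx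
    refine Mathieu.mem_M22_iff.2 ⟨mul_mem (mul_mem hg hx24) (inv_mem hg), ?_, ?_⟩
    · rw [Equiv.Perm.mul_apply, Equiv.Perm.mul_apply, Equiv.Perm.inv_def,
        (Equiv.symm_apply_eq g).2 h₂.symm, hx0, h₂]
    · rw [Equiv.Perm.mul_apply, Equiv.Perm.mul_apply, Equiv.Perm.inv_def,
        (Equiv.symm_apply_eq g).2 h₁.symm, hxn, h₁]
  refine ⟨?_, hnorm, ?_⟩
  · change (Cfsg.Spor.M22.subgroupOf H).index = 2
    have hgH : g ∈ H := ⟨hg, (hpair g).1 (Or.inr ⟨h₁, h₂⟩)⟩
    rw [Subgroup.index_eq_two_iff]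
    refine ⟨⟨g, hgH⟩, fun b => ?_⟩
    simp only [Subgroup.mem_subgroupOf, Subgroup.coe_mul, Mathieu.mem_M22_iff,
      Equiv.Perm.mul_apply, h₁, h₂]
    have hb := b.2
    rcases (hpair b).2 hb.2 with ⟨a, c⟩ | ⟨a, c⟩
    · refine Or.inr ⟨⟨hb.1, a, c⟩, fun h => ?_⟩
      exact hne (h.2.1.symm.trans c)
    · exact Or.inl ⟨⟨mul_mem hb.1 hg, c, a⟩, fun h => hne (h.2.1.symm.trans a)⟩
  rintro ⟨h, hh, hconj⟩
  obtain ⟨hh24, hhn, hh0⟩ := Mathieu.mem_M22_iff.1 hh
  set c := h⁻¹ * g with hc
  have hcn : c none = some 0 := by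
    rw [hc, Equiv.Perm.mul_apply, h₁, Equiv.Perm.inv_def, Equiv.symm_apply_eq, hh0]
  have hc0 : c (some 0) = none := by
    rw [hc, Equiv.Perm.mul_apply, h₂, Equiv.Perm.inv_def, Equiv.symm_apply_eq, hhn]
  have hcomm : ∀ x ∈ Cfsg.Spor.M22, c * x = x * c := fun x hx => by
    calc c * x = h⁻¹ * (g * x * g⁻¹) * g := by rw [hc]; group
      _ = x * c := by rw [hconj x hx, hc]; group
  -- `c` fixes every other point, by 2-transitivity of `M22`
  have hfix : ∀ p, p ≠ none → p ≠ some 0 → c p = p := by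
    intro p hpn hp0
    by_contra hcp
    have hq : c p ≠ none ∧ c p ≠ some 0 :=
      ⟨fun e => hp0 (c.injective (e.trans hc0.symm)), fun e => hpn (c.injective (e.trans hcn.symm))⟩
    obtain ⟨r, hr⟩ : ∃ r, r ∉ ({none, some 0, p, c p} : Finset Cfsg.GolayPt) := by
      have hlt : ({none, some 0, p, c p} : Finset Cfsg.GolayPt).card ≤ 4 := Finset.card_le_four
      by_contra hall
      push Not at hall
      rw [Finset.eq_univ_of_forall hall, Finset.card_univ,
        show Fintype.card Cfsg.GolayPt = 24 by simp] at hlt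
      omega
    simp only [Finset.mem_insert, Finset.mem_singleton, not_or] at hr
    obtain ⟨σ, hσ, hσxy⟩ := Mathieu.M22_exists_map (k := 2) (by norm_num)
      ⟨![p, c p], fun i j hij => by
        fin_cases i <;> fin_cases j <;>
          first | rfl | exact absurd hij hcp | exact absurd hij (Ne.symm hcp)⟩
      ⟨![p, r], fun i j hij => by
        fin_cases i <;> fin_cases j <;>
          first | rfl | exact absurd hij hr.2.2.1 | exact absurd hij (Ne.symm hr.2.2.1)⟩
      (fun i => by fin_cases i; exacts [⟨hpn, hp0⟩, hq])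
      (fun i => by fin_cases i; exacts [⟨hpn, hp0⟩, ⟨hr.1, hr.2.1⟩])
    have h0 : σ p = p := hσxy 0
    have h1 : σ (c p) = r := hσxy 1
    have hk := congrArg (fun τ : Equiv.Perm Cfsg.GolayPt => τ p) (hcomm σ hσ)
    simp only [Equiv.Perm.mul_apply, h0, h1] at hk
    exact hr.2.2.2 hk.symm
  -- but a transposition moves some octad
  have hoct : ((Mathieu.maskList 8).any fun m => m.testBit 23 && !m.testBit 0) = true := by
    decide +kernel
  simp only [List.any_eq_true, Bool.and_eq_true, Bool.not_eq_true'] at hoct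
  obtain ⟨m, hm, hm23, hm0⟩ := hoct
  have ho : Mathieu.ptsOf m ∈ Cfsg.octads := Mathieu.mem_octads_iff.2 ⟨m, hm, rfl⟩
  have hno : (none : Cfsg.GolayPt) ∈ Mathieu.ptsOf m := Mathieu.mem_ptsOf.2 hm23
  have h0o : (some 0 : Cfsg.GolayPt) ∉ Mathieu.ptsOf m := fun e => by
    have h := Mathieu.mem_ptsOf.1 e
    rw [show Mathieu.hasPt m (some 0) = m.testBit 0 from rfl, hm0] at h
    exact Bool.false_ne_true h
  have hc24 : c ∈ Cfsg.M24 := mul_mem (inv_mem hh24) hg
  have hsame : c • Mathieu.ptsOf m = Mathieu.ptsOf m := by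
    refine Mathieu.octad_eq_of_five_le (Mathieu.M24_smul_octad hc24 ho) ho ?_
    have hsub : (Mathieu.ptsOf m).erase none ⊆ c • Mathieu.ptsOf m ∩ Mathieu.ptsOf m := by
      intro p hp
      obtain ⟨hpn, hp⟩ := Finset.mem_erase.1 hp
      refine Finset.mem_inter.2 ⟨?_, hp⟩
      rw [← hfix p hpn (fun e => h0o (e ▸ hp))]
      exact Mathieu.apply_mem_smul_pts.2 hp
    have := Finset.card_le_card hsub
    rw [Finset.card_erase_of_mem hno, Mathieu.octad_card ho] at this
    omega
  exact h0o (hsame ▸ hcn ▸ Mathieu.apply_mem_smul_pts.2 hno)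

end Cfsg.Agent.S5599
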