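import Cfsg.Statements.S5601
import Cfsg.Agent.Lib.Mathieu.Classes
-- import your own Cfsg.Agent.* helpers here

set_option autoImplicit false
open scoped Pointwise
open Cfsg

namespace Cfsg.Agent.S5601

/-- The group of the length-24 code has exactly two conjugacy classes of subgroups of order 3: a subgroup of order 3 fixes either exactly 6 of the 24 points or none of them, both cases occur, and two subgroups of order 3 with the same number of fixed points are conjugate. -/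
theorem result : (∀ X : Subgroup ↥Cfsg.M24, Nat.card X = 3 → {p : Cfsg.GolayPt | ∀ x ∈ X, ((x : ↥Cfsg.M24) : Equiv.Perm Cfsg.GolayPt) p = p}.ncard = 6 ∨ {p : Cfsg.GolayPt | ∀ x ∈ X, ((x : ↥Cfsg.M24) : Equiv.Perm Cfsg.GolayPt) p = p}.ncard = 0) ∧ (∃ X : Subgroup ↥Cfsg.M24, Nat.card X = 3 ∧ {p : Cfsg.GolayPt | ∀ x ∈ X, ((x : ↥Cfsg.M24) : Equiv.Perm Cfsg.GolayPt) p = p}.ncard = 6) ∧ (∃ X : Subgroup ↥Cfsg.M24, Nat.card X = 3 ∧ {p : Cfsg.GolayPt | ∀ x ∈ X, ((x : ↥Cfsg.M24) : Equiv.Perm Cfsg.GolayPt) p = p}.ncard = 0) ∧ ∀ X Y : Subgroup ↥Cfsg.M24, Nat.card X = 3 → Nat.card Y = 3 → {p : Cfsg.GolayPt | ∀ x ∈ X, ((x : ↥Cfsg.M24) : Equiv.Perm Cfsg.GolayPt) p = p}.ncard = {p : Cfsg.GolayPt | ∀ x ∈ Y, ((x : ↥Cfsg.M24) : Equiv.Perm Cfsg.GolayPt) p = p}.ncard → ∃ k : ↥Cfsg.M24, MulAut.conj k • X = Y := by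
  classical
  haveI : Fact (Nat.Prime 3) := ⟨Nat.prime_three⟩
  -- the fixed points of a subgroup are those of a generator
  have hgen : ∀ (X : Subgroup ↥Cfsg.M24) (x : ↥Cfsg.M24), Subgroup.zpowers x = X →
      {p : Cfsg.GolayPt | ∀ y ∈ X, ((y : ↥Cfsg.M24) : Equiv.Perm Cfsg.GolayPt) p = p}.ncard =
        (Finset.univ.filter fun p => (x : Equiv.Perm Cfsg.GolayPt) p = p).card := by
    intro X x hX
    rw [← Set.ncard_coe_finset]
    congr 1
    ext p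
    simp only [Finset.coe_filter, Finset.mem_univ, true_and, Set.mem_ofPred_eq]
    refine ⟨fun h => h x (hX ▸ Subgroup.mem_zpowers x), fun h y hy => ?_⟩
    rw [← hX] at hy
    obtain ⟨i, rfl⟩ := Subgroup.mem_zpowers_iff.1 hy
    rw [Subgroup.coe_zpow]
    exact Equiv.Perm.zpow_apply_eq_self_of_apply_eq_self h i
  have h6 : ∀ σ : Equiv.Perm Cfsg.GolayPt, Mathieu.Rep Mathieu.ptEnc σ Mathieu.three24_6 →
      (Finset.univ.filter fun p => σ p = p).card = 6 := fun σ h => by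
    rw [Mathieu.filter_fix_eq (m := 0x244488) h (by decide +kernel)]; decide +kernel
  have h0 : ∀ σ : Equiv.Perm Cfsg.GolayPt, Mathieu.Rep Mathieu.ptEnc σ Mathieu.three24_0 →
      (Finset.univ.filter fun p => σ p = p).card = 0 := fun σ h => by
    rw [Mathieu.filter_fix_eq (m := 0) h (by decide +kernel)]; decide +kernel
  have key : ∀ X : Subgroup ↥Cfsg.M24, Nat.card X = 3 → ∃ x c : ↥Cfsg.M24,
      Subgroup.zpowers x = X ∧
      (({p : Cfsg.GolayPt | ∀ y ∈ X, ((y : ↥Cfsg.M24) : Equiv.Perm Cfsg.GolayPt) p = p}.ncard = 6 ∧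
        Mathieu.Rep Mathieu.ptEnc ((c * x * c⁻¹ : ↥Cfsg.M24) : Equiv.Perm Cfsg.GolayPt)
          Mathieu.three24_6) ∨
      ({p : Cfsg.GolayPt | ∀ y ∈ X, ((y : ↥Cfsg.M24) : Equiv.Perm Cfsg.GolayPt) p = p}.ncard = 0 ∧
        Mathieu.Rep Mathieu.ptEnc ((c * x * c⁻¹ : ↥Cfsg.M24) : Equiv.Perm Cfsg.GolayPt)
          Mathieu.three24_0)) := by
    intro X hX
    obtain ⟨x, hx⟩ := exists_prime_orderOf_dvd_card' (G := X) 3 (by rw [hX])
    have ho : orderOf (x : ↥Cfsg.M24) = 3 := by rw [Subgroup.orderOf_coe, hx]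
    have hgX : Subgroup.zpowers (x : ↥Cfsg.M24) = X :=
      Subgroup.eq_of_le_of_card_ge (Subgroup.zpowers_le.2 x.2)
        (by rw [Nat.card_zpowers, ho, hX])
    obtain ⟨z, hz, c, hc⟩ := Mathieu.M24_three_cases _ ho
    refine ⟨x, c, hgX, ?_⟩
    rw [hgen X x hgX]
    have e := Mathieu.filter_fix_conj (c : Equiv.Perm Cfsg.GolayPt)
      ((x : ↥Cfsg.M24) : Equiv.Perm Cfsg.GolayPt)
    have hcard : (Finset.univ.filter fun p =>
        ((c * x * c⁻¹ : ↥Cfsg.M24) : Equiv.Perm Cfsg.GolayPt) p = p).card =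
        (Finset.univ.filter fun p => ((x : ↥Cfsg.M24) : Equiv.Perm Cfsg.GolayPt) p = p).card := by
      rw [Subgroup.coe_mul, Subgroup.coe_mul, InvMemClass.coe_inv, e,
        Finset.card_image_of_injective _ (c : Equiv.Perm Cfsg.GolayPt).injective]
    simp only [List.mem_cons, List.not_mem_nil, or_false] at hz
    rcases hz with rfl | rfl
    · exact Or.inl ⟨hcard ▸ h6 _ hc, hc⟩
    · exact Or.inr ⟨hcard ▸ h0 _ hc, hc⟩
  have ex : ∀ l n, (Mathieu.permOK 24 l && Mathieu.mem24 l) = true →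
      (Mathieu.isId 24 (Mathieu.packPow 24 l 3) && !Mathieu.isId 24 (Mathieu.packPow 24 l 1)) = true →
      (∀ σ : Equiv.Perm Cfsg.GolayPt, Mathieu.Rep Mathieu.ptEnc σ l →
        (Finset.univ.filter fun p => σ p = p).card = n) →
      ∃ X : Subgroup ↥Cfsg.M24, Nat.card X = 3 ∧
        {p : Cfsg.GolayPt | ∀ y ∈ X, ((y : ↥Cfsg.M24) : Equiv.Perm Cfsg.GolayPt) p = p}.ncard = n := by
    intro l n h1 h2 h3
    obtain ⟨x, hx⟩ := Mathieu.exists_elt (H := Cfsg.M24) Mathieu.mem24_sound h1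
    refine ⟨Subgroup.zpowers x, ?_, ?_⟩
    · rw [Nat.card_zpowers, Mathieu.orderOf_of_prime_pack Nat.prime_three hx h2]
    · rw [hgen _ x rfl, h3 _ hx]
  refine ⟨fun X hX => ?_, ex _ 6 (by decide +kernel) (by decide +kernel) h6,
    ex _ 0 (by decide +kernel) (by decide +kernel) h0, fun X Y hX hY heq => ?_⟩
  · obtain ⟨x, c, -, ⟨h, -⟩ | ⟨h, -⟩⟩ := key X hX
    · exact Or.inl h
    · exact Or.inr h
  · obtain ⟨x, c, hxX, hc⟩ := key X hX
    obtain ⟨y, d, hyY, hd⟩ := key Y hY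
    have e : c * x * c⁻¹ = d * y * d⁻¹ := by
      rcases hc with ⟨n1, r1⟩ | ⟨n1, r1⟩ <;> rcases hd with ⟨n2, r2⟩ | ⟨n2, r2⟩ <;>
        first
          | exact Subtype.ext (r1.unique r2)
          | (rw [heq, n2] at n1; exact absurd n1 (by decide))
    refine ⟨d⁻¹ * c, ?_⟩
    rw [← hxX, ← hyY]
    change (Subgroup.zpowers x).map (MulAut.conj (d⁻¹ * c)).toMonoidHom = Subgroup.zpowers y
    rw [MonoidHom.map_zpowers]
    congr 1
    calc d⁻¹ * c * x * (d⁻¹ * c)⁻¹ = d⁻¹ * (c * x * c⁻¹) * d := by group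
      _ = y := by rw [e]; group

end Cfsg.Agent.S5601
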