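import Cfsg.Statements.S5602
import Cfsg.Agent.Lib.Mathieu.FixedPoints

set_option autoImplicit false
open scoped Pointwise
open Cfsg

namespace Cfsg.Agent.S5602

/-- An element of order 3 of the group of the length-24 code having exactly 6 fixed points maps to themselves exactly 21 octads, exactly 15 trios, exactly 16 sextets and exactly 20 dodecads. -/
theorem result (g : Equiv.Perm Cfsg.GolayPt) (hg : g ∈ Cfsg.M24) (h₃ : orderOf g = 3) (h₆ : (Finset.univ.filter fun p => g p = p).card = 6) : {o : Finset Cfsg.GolayPt | o ∈ Cfsg.octads ∧ g • o = o}.ncard = 21 ∧ {T : Finset (Finset Cfsg.GolayPt) | T ∈ Cfsg.trios ∧ g • T = T}.ncard = 15 ∧ {S : Finset (Finset Cfsg.GolayPt) | S ∈ Cfsg.sextets ∧ g • S = S}.ncard = 16 ∧ {d : Finset Cfsg.GolayPt | d ∈ Cfsg.dodecads ∧ g • d = d}.ncard = 20 := by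
  obtain ⟨σ, hσ, hg'⟩ := Mathieu.conj_threeSix hg h₃ h₆
  have hc := Mathieu.threeSix_check
  simp only [Bool.and_eq_true] at hc
  obtain ⟨⟨⟨⟨hperm, -⟩, htab⟩, -⟩, -⟩ := hc
  have hrep := Mathieu.rep_decode hperm
  obtain ⟨n1, n2, n3⟩ := Mathieu.fixed_of_rep hrep htab Mathieu.threeSix_counts
  have n4 : {d : Finset GolayPt | d ∈ dodecads ∧ Mathieu.decode Mathieu.threeSix • d = d}.ncard = 20 := by
    refine (Mathieu.ncard_weight_filter 12 _ _ fun m hm => ?_).trans Mathieu.threeSix_dodecads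
    have hlt := (Mathieu.inCode_spec (Mathieu.mem_maskList.1 hm).1).1
    rw [Mathieu.smul_ptsOf_pimg hrep, ← Mathieu.pimgT_eq htab hlt, beq_iff_eq]
    exact ⟨fun e => by rw [e], Mathieu.ptsOf_inj (Mathieu.pimgT_lt _ _) hlt⟩
  have hO : ∀ a ∈ M24, ∀ x ∈ octads, a • x ∈ octads := fun a ha x hx => Mathieu.M24_smul_octad ha hx
  have hT : ∀ a ∈ M24, ∀ x ∈ trios, a • x ∈ trios := fun a ha x hx => Mathieu.M24_smul_mem_trios ha hx
  have hS : ∀ a ∈ M24, ∀ x ∈ sextets, a • x ∈ sextets := fun a ha x hx =>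
    Mathieu.M24_smul_mem_sextets ha hx
  have hD : ∀ a ∈ M24, ∀ x ∈ dodecads, a • x ∈ dodecads := fun a ha x hx =>
    Mathieu.M24_smul_dodecad ha hx
  rcases hg' with rfl | rfl
  · rw [Mathieu.ncard_fixed_conj hO hσ, Mathieu.ncard_fixed_conj hT hσ,
      Mathieu.ncard_fixed_conj hS hσ, Mathieu.ncard_fixed_conj hD hσ]
    exact ⟨n1, n2, n3, n4⟩
  · rw [Mathieu.ncard_fixed_conj hO hσ, Mathieu.ncard_fixed_conj hT hσ,
      Mathieu.ncard_fixed_conj hS hσ, Mathieu.ncard_fixed_conj hD hσ, Mathieu.ncard_fixed_inv,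
      Mathieu.ncard_fixed_inv, Mathieu.ncard_fixed_inv, Mathieu.ncard_fixed_inv]
    exact ⟨n1, n2, n3, n4⟩

end Cfsg.Agent.S5602
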