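import Cfsg.Statements.S5603
import Cfsg.Agent.Lib.Mathieu.FixedPoints
import Cfsg.Agent.Lib.Mathieu.FreeClasses
import Cfsg.Agent.Lib.Mathieu.FreeFixedCheck

set_option autoImplicit false
open scoped Pointwise
open Cfsg

namespace Cfsg.Agent.S5603

/-- A fixed-point-free element of order 3 of the group of the length-24 code maps to themselves exactly 7 sextets and exactly 15 trios. -/
theorem result (g : Equiv.Perm Cfsg.GolayPt) (hg : g ∈ Cfsg.M24) (h₃ : orderOf g = 3) (h₀ : ∀ p, g p ≠ p) : {S : Finset (Finset Cfsg.GolayPt) | S ∈ Cfsg.sextets ∧ g • S = S}.ncard = 7 ∧ {T : Finset (Finset Cfsg.GolayPt) | T ∈ Cfsg.trios ∧ g • T = T}.ncard = 15 := by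
  have h3 : g * (g * g) = 1 := by
    have := pow_orderOf_eq_one g
    rwa [h₃, pow_succ', pow_two] at this
  have hne : g ≠ 1 := fun e => by simp [e] at h₃
  have h0 : (Finset.univ.filter fun p => g p = p).card = 0 :=
    Finset.card_eq_zero.2 (Finset.filter_eq_empty_iff.2 fun p _ => h₀ p)
  rcases Mathieu.order_three_fix hg h3 hne with h | ⟨-, k, hk, rfl⟩
  · omega
  have hc := Mathieu.invFree_shape
  simp only [Bool.and_eq_true] at hc
  obtain ⟨-, n2, n3⟩ := Mathieu.fixed_of_rep (Mathieu.freeConj_spec (c := Mathieu.threeFree) (by simp)).2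
    hc.1.2 Mathieu.threeFree_counts
  rw [Mathieu.ncard_fixed_conj (fun a ha x hx => Mathieu.M24_smul_mem_sextets ha hx) hk,
    Mathieu.ncard_fixed_conj (fun a ha x hx => Mathieu.M24_smul_mem_trios ha hx) hk]
  exact ⟨n3, n2⟩

end Cfsg.Agent.S5603
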