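import Cfsg.Statements.S5605
import Cfsg.Agent.Lib.Mathieu.FixedPoints

set_option autoImplicit false
open scoped Pointwise
open Cfsg

namespace Cfsg.Agent.S5605

/-- An involution of the group of the length-24 code with exactly 8 fixed points maps to themselves exactly 71 octads, exactly 99 trios and exactly 91 sextets. -/
theorem result (g : Equiv.Perm Cfsg.GolayPt) (hg : g ∈ Cfsg.M24) (h₂ : orderOf g = 2) (h₈ : (Finset.univ.filter fun p => g p = p).card = 8) : {o : Finset Cfsg.GolayPt | o ∈ Cfsg.octads ∧ g • o = o}.ncard = 71 ∧ {T : Finset (Finset Cfsg.GolayPt) | T ∈ Cfsg.trios ∧ g • T = T}.ncard = 99 ∧ {S : Finset (Finset Cfsg.GolayPt) | S ∈ Cfsg.sextets ∧ g • S = S}.ncard = 91 := by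
  have h2 : g * g = 1 := by rw [← pow_two, ← h₂]; exact pow_orderOf_eq_one g
  have hne : g ≠ 1 := fun e => by simp [e] at h₂
  obtain ⟨σ, hσ, rfl⟩ := Mathieu.conj_invEight hg h2 hne h₈
  have hc := Mathieu.invEight_check
  simp only [Bool.and_eq_true] at hc
  obtain ⟨⟨⟨⟨⟨hperm, -⟩, htab⟩, -⟩, -⟩, -⟩ := hc
  obtain ⟨n1, n2, n3⟩ := Mathieu.fixed_of_rep (Mathieu.rep_decode hperm) htab Mathieu.invEight_counts
  rw [Mathieu.ncard_fixed_conj (fun a ha x hx => Mathieu.M24_smul_octad ha hx) hσ,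
    Mathieu.ncard_fixed_conj (fun a ha x hx => Mathieu.M24_smul_mem_trios ha hx) hσ,
    Mathieu.ncard_fixed_conj (fun a ha x hx => Mathieu.M24_smul_mem_sextets ha hx) hσ]
  exact ⟨n1, n2, n3⟩

end Cfsg.Agent.S5605
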