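import Cfsg.Statements.S5606
import Cfsg.Agent.Lib.Mathieu.FixedPoints
import Cfsg.Agent.Lib.Mathieu.FreeClasses
import Cfsg.Agent.Lib.Mathieu.FreeFixedCheck

set_option autoImplicit false
open scoped Pointwise
open Cfsg

namespace Cfsg.Agent.S5606

/-- A fixed-point-free involution of the group of the length-24 code maps to themselves exactly 15 octads, exactly 75 trios and exactly 51 sextets. -/
theorem result (g : Equiv.Perm Cfsg.GolayPt) (hg : g ∈ Cfsg.M24) (h₂ : orderOf g = 2) (h₀ : ∀ p, g p ≠ p) : {o : Finset Cfsg.GolayPt | o ∈ Cfsg.octads ∧ g • o = o}.ncard = 15 ∧ {T : Finset (Finset Cfsg.GolayPt) | T ∈ Cfsg.trios ∧ g • T = T}.ncard = 75 ∧ {S : Finset (Finset Cfsg.GolayPt) | S ∈ Cfsg.sextets ∧ g • S = S}.ncard = 51 := by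
  have h2 : g * g = 1 := by
    have := pow_orderOf_eq_one g
    rwa [h₂, pow_two] at this
  have hne : g ≠ 1 := fun e => by simp [e] at h₂
  have h0 : (Finset.univ.filter fun p => g p = p).card = 0 :=
    Finset.card_eq_zero.2 (Finset.filter_eq_empty_iff.2 fun p _ => h₀ p)
  rcases Mathieu.involution_fix hg h2 hne with h | ⟨-, k, hk, rfl⟩
  · omega
  have hc := Mathieu.invFree_shape
  simp only [Bool.and_eq_true] at hc
  obtain ⟨n1, n2, n3⟩ := Mathieu.fixed_of_rep (Mathieu.freeConj_spec (c := Mathieu.invFree) (by simp)).2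
    hc.1.1.1 Mathieu.invFree_counts
  rw [Mathieu.ncard_fixed_conj (fun a ha x hx => Mathieu.M24_smul_octad ha hx) hk,
    Mathieu.ncard_fixed_conj (fun a ha x hx => Mathieu.M24_smul_mem_trios ha hx) hk,
    Mathieu.ncard_fixed_conj (fun a ha x hx => Mathieu.M24_smul_mem_sextets ha hx) hk]
  exact ⟨n1, n2, n3⟩

end Cfsg.Agent.S5606
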