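import Cfsg.Statements.S5609
import Cfsg.Agent.Lib.Mathieu.OctPairs

set_option autoImplicit false
open scoped Pointwise
open Cfsg

namespace Cfsg.Agent.S5609

/-- In the graph on the 759 octads of the length-24 code in which two octads are adjacent when they are disjoint, the graph is connected (of diameter 3) and two distinct octads are at distance 1, 2 or 3 exactly when they meet in 0, 4 or 2 points respectively. -/
theorem result (o o' : Finset Cfsg.GolayPt) (ho : o ∈ Cfsg.octads) (ho' : o' ∈ Cfsg.octads) (hne : o ≠ o') : (Cfsg.blockGraph Cfsg.octads).Connected ∧ ((Cfsg.blockGraph Cfsg.octads).dist ⟨o, ho⟩ ⟨o', ho'⟩ = 1 ↔ (o ∩ o').card = 0) ∧ ((Cfsg.blockGraph Cfsg.octads).dist ⟨o, ho⟩ ⟨o', ho'⟩ = 2 ↔ (o ∩ o').card = 4) ∧ ((Cfsg.blockGraph Cfsg.octads).dist ⟨o, ho⟩ ⟨o', ho'⟩ = 3 ↔ (o ∩ o').card = 2) := by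
  classical
  have adj : ∀ a b : ↥octads, (blockGraph octads).Adj a b ↔
      ((a : Finset GolayPt) ∩ (b : Finset GolayPt)).card = 0 := by
    intro a b
    rw [blockGraph, SimpleGraph.fromRel_adj, disjoint_comm (a := (b : Finset GolayPt)), or_self,
      Finset.card_eq_zero, Finset.disjoint_iff_inter_eq_empty]
    refine ⟨fun h => h.2, fun h => ⟨fun e => ?_, h⟩⟩
    have h8 := Mathieu.octad_card b.2
    rw [e, Finset.inter_self] at h
    rw [h] at h8
    simp at h8
  have path : ∀ a b : ↥octads, ∃ w : (blockGraph octads).Walk a b, w.length ≤ 3 ∧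
      (((a : Finset GolayPt) ∩ b).card = 0 → w.length = 1) ∧
      (((a : Finset GolayPt) ∩ b).card = 4 → w.length = 2) := by
    intro a b
    rcases Mathieu.octad_inter_values a.2 b.2 with h | h | h | h
    · have e : a = b := Subtype.ext (Mathieu.octad_eq_of_five_le a.2 b.2 (by omega))
      subst e
      exact ⟨.nil, by simp, by omega, by omega⟩
    · exact ⟨.cons ((adj a b).2 h) .nil, by simp, by simp, by omega⟩
    · obtain ⟨k, hk, h1, h2⟩ := Mathieu.exists_disjoint_both a.2 b.2 h
      exact ⟨.cons ((adj a ⟨k, hk⟩).2 (by rwa [Finset.inter_comm]))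
        (.cons ((adj ⟨k, hk⟩ b).2 h2) .nil), by simp, by omega, by simp⟩
    · obtain ⟨k, hk, h1, h2⟩ := Mathieu.exists_disjoint_four a.2 b.2 h
      obtain ⟨l, hl, h3, h4⟩ := Mathieu.exists_disjoint_both hk b.2 h2
      exact ⟨.cons ((adj a ⟨k, hk⟩).2 (by rwa [Finset.inter_comm]))
        (.cons ((adj ⟨k, hk⟩ ⟨l, hl⟩).2 (by rwa [Finset.inter_comm]))
          (.cons ((adj ⟨l, hl⟩ b).2 h4) .nil)), by simp, by omega, by omega⟩
  have hconn : (blockGraph octads).Connected := by
    haveI : Nonempty ↥octads := ⟨⟨o, ho⟩⟩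
    exact ⟨fun a b => (path a b).choose.reachable⟩
  refine ⟨hconn, ?_⟩
  have h1 : (blockGraph octads).dist ⟨o, ho⟩ ⟨o', ho'⟩ = 1 ↔ (o ∩ o').card = 0 := by
    rw [SimpleGraph.dist_eq_one_iff_adj, adj]
  have h0 : (blockGraph octads).dist ⟨o, ho⟩ ⟨o', ho'⟩ ≠ 0 := fun h =>
    hne (congrArg Subtype.val ((hconn.dist_eq_zero_iff).1 h))
  have two : (blockGraph octads).dist ⟨o, ho⟩ ⟨o', ho'⟩ = 2 → (o ∩ o').card ≠ 2 := by
    intro h hc
    obtain ⟨w, hw⟩ := hconn.exists_walk_length_eq_dist ⟨o, ho⟩ ⟨o', ho'⟩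
    rw [h] at hw
    match w, hw with
    | .cons hab (.cons hbc .nil), _ =>
      rw [adj] at hab hbc
      exact Mathieu.not_exists_disjoint_both ho ho' hc (Subtype.prop _)
        (by rwa [Finset.inter_comm]) hbc
  obtain ⟨w, hw3, hw0, hw4⟩ := path ⟨o, ho⟩ ⟨o', ho'⟩
  have hle := (blockGraph octads).dist_le w
  rcases Mathieu.octad_inter_values ho ho' with h | h | h | h
  · exact absurd (Mathieu.octad_eq_of_five_le ho ho' (by omega)) hne
  · refine ⟨h1, ?_, ?_⟩ <;> constructor <;> intro h' <;>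
      first | omega | (have := h1.2 h; omega)
  · have := hw4 h
    refine ⟨h1, ?_, ?_⟩ <;> constructor <;> intro h' <;>
      first | omega | (by_contra hc; have : (blockGraph octads).dist ⟨o, ho⟩ ⟨o', ho'⟩ = 1 := by omega
                       have := h1.1 this
                       omega)
  · refine ⟨h1, ?_, ?_⟩ <;> constructor <;> intro h' <;>
      first
        | omega
        | exact absurd h (two h')
        | (by_contra hc
           by_cases hd : (blockGraph octads).dist ⟨o, ho⟩ ⟨o', ho'⟩ = 1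
           · have := h1.1 hd; omega
           · exact two (by omega) h)

end Cfsg.Agent.S5609
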