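import Cfsg.Statements.S5615
import Cfsg.Agent.Lib.Mathieu.OctTrioAction

set_option autoImplicit false
open scoped Pointwise
open Cfsg

namespace Cfsg.Agent.S5615

/-- An octad of the length-24 code lies in exactly 15 trios; the stabiliser of the octad in the code's group acts doubly transitively on these 15 trios, and the kernel of this action is the pointwise stabiliser of the octad. -/
theorem result (o : Finset Cfsg.GolayPt) (ho : o ∈ Cfsg.octads) : {T : Finset (Finset Cfsg.GolayPt) | T ∈ Cfsg.trios ∧ o ∈ T}.ncard = 15 ∧ (∀ T₁ T₂ T₁' T₂' : Finset (Finset Cfsg.GolayPt), T₁ ∈ Cfsg.trios → T₂ ∈ Cfsg.trios → T₁' ∈ Cfsg.trios → T₂' ∈ Cfsg.trios → o ∈ T₁ → o ∈ T₂ → o ∈ T₁' → o ∈ T₂' → T₁ ≠ T₂ → T₁' ≠ T₂' → ∃ g ∈ Cfsg.M24, g • o = o ∧ g • T₁ = T₁' ∧ g • T₂ = T₂') ∧ ∀ g ∈ Cfsg.M24, g • o = o → ((∀ T ∈ Cfsg.trios, o ∈ T → g • T = T) ↔ ∀ p ∈ o, g p = p) := by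
  obtain ⟨σ, hσ, rfl⟩ := Mathieu.M24_transitive_octads Mathieu.octBase_mem ho
  set B := Mathieu.ptsOf Mathieu.octBase
  have back : ∀ {T}, T ∈ trios → σ • B ∈ T → σ⁻¹ • T ∈ trios ∧ B ∈ σ⁻¹ • T := fun {T} hT h =>
    ⟨Mathieu.M24_smul_mem_trios (M24.inv_mem hσ) hT, Finset.mem_inv_smul_finset_iff.2 h⟩
  refine ⟨?_, ?_, ?_⟩
  · have : {T : Finset (Finset GolayPt) | T ∈ trios ∧ σ • B ∈ T} =
        (σ • ·) '' {T : Finset (Finset GolayPt) | T ∈ trios ∧ B ∈ T} := by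
      ext T
      constructor
      · rintro ⟨hT, h⟩
        exact ⟨σ⁻¹ • T, back hT h, smul_inv_smul σ T⟩
      · rintro ⟨U, ⟨hU, h⟩, rfl⟩
        exact ⟨Mathieu.M24_smul_mem_trios hσ hU, Finset.smul_mem_smul_finset h⟩
    rw [this, Set.ncard_image_of_injective _ (MulAction.injective σ)]
    exact Mathieu.ncard_trios_through
  · intro T₁ T₂ T₁' T₂' h₁ h₂ h₁' h₂' o₁ o₂ o₁' o₂' hne hne'
    obtain ⟨a, ha, haB, e₁, e₂⟩ := Mathieu.exists_map_trio_pair_base (back h₁ o₁).1 (back h₂ o₂).1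
      (back h₁ o₁).2 (back h₂ o₂).2 fun e => hne (MulAction.injective σ⁻¹ e)
    obtain ⟨b, hb, hbB, e₁', e₂'⟩ := Mathieu.exists_map_trio_pair_base (back h₁' o₁').1 (back h₂' o₂').1
      (back h₁' o₁').2 (back h₂' o₂').2 fun e => hne' (MulAction.injective σ⁻¹ e)
    refine ⟨σ * (b * a⁻¹) * σ⁻¹, M24.mul_mem (M24.mul_mem hσ (M24.mul_mem hb (M24.inv_mem ha)))
      (M24.inv_mem hσ), ?_, ?_, ?_⟩
    · rw [mul_smul, mul_smul, mul_smul, inv_smul_smul, inv_smul_eq_iff.2 haB.symm, hbB]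
    · rw [mul_smul, mul_smul, mul_smul, inv_smul_eq_iff.2 e₁.symm, e₁', smul_inv_smul]
    · rw [mul_smul, mul_smul, mul_smul, inv_smul_eq_iff.2 e₂.symm, e₂', smul_inv_smul]
  · intro g hg hgo
    have hc : σ⁻¹ * g * σ ∈ M24 := M24.mul_mem (M24.mul_mem (M24.inv_mem hσ) hg) hσ
    have hcB : (σ⁻¹ * g * σ) • B = B := by rw [mul_smul, mul_smul, hgo, inv_smul_smul]
    have hiff := Mathieu.kernel_trios_base hc hcB
    constructor
    · intro h p hp
      have h2 : ∀ U ∈ trios, B ∈ U → (σ⁻¹ * g * σ) • U = U := fun U hU hU' => by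
        rw [mul_smul, mul_smul, h _ (Mathieu.M24_smul_mem_trios hσ hU)
          (Finset.smul_mem_smul_finset hU'), inv_smul_smul]
      have := hiff.1 h2 (σ⁻¹ p) (Mathieu.mem_smul_pts.1 hp)
      simpa [Equiv.Perm.inv_def] using this
    · intro h T hT hoT
      have := hiff.2 (fun q hq => by
        have := h (σ q) (Mathieu.apply_mem_smul_pts.2 hq)
        simp [this]) _ (back hT hoT).1 (back hT hoT).2
      rwa [mul_smul, mul_smul, smul_inv_smul, inv_smul_eq_iff, smul_inv_smul] at this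

end Cfsg.Agent.S5615
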