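import Cfsg.Statements.S5616
import Cfsg.Agent.Lib.Mathieu.TriadOrbits

set_option autoImplicit false
open scoped Pointwise
open Cfsg

namespace Cfsg.Agent.S5616

/-- Let Y be a set of 3 of the 24 points. The sextets of the length-24 code whose tetrads meeting Y number 1, 2 or 3 are respectively 21, 630 and 1120 in number, and two sextets with the same number of tetrads meeting Y are conjugate under the setwise stabiliser of Y in the code's group. -/
theorem result (Y : Finset Cfsg.GolayPt) (hY : Y.card = 3) : {S : Finset (Finset Cfsg.GolayPt) | S ∈ Cfsg.sextets ∧ (S.filter fun t => (t ∩ Y).Nonempty).card = 1}.ncard = 21 ∧ {S : Finset (Finset Cfsg.GolayPt) | S ∈ Cfsg.sextets ∧ (S.filter fun t => (t ∩ Y).Nonempty).card = 2}.ncard = 630 ∧ {S : Finset (Finset Cfsg.GolayPt) | S ∈ Cfsg.sextets ∧ (S.filter fun t => (t ∩ Y).Nonempty).card = 3}.ncard = 1120 ∧ ∀ S S' : Finset (Finset Cfsg.GolayPt), S ∈ Cfsg.sextets → S' ∈ Cfsg.sextets → (S.filter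 fun t => (t ∩ Y).Nonempty).card = (S'.filter fun t => (t ∩ Y).Nonempty).card → ∃ g ∈ Cfsg.M24, g • Y = Y ∧ g • S = S' := by
  have hY0 : (Mathieu.ptsOf 0x800003).card = 3 := by rw [Mathieu.card_ptsOf]; decide +kernel
  obtain ⟨σ, hσ, hx⟩ : ∃ σ ∈ M24, σ • Mathieu.ptsOf 0x800003 = Y := by
    obtain ⟨x, hx⟩ := Mathieu.exists_embedding_of_le_card (k := 3) hY0.ge
    obtain ⟨y, hy⟩ := Mathieu.exists_embedding_of_le_card (k := 3) hY.ge
    obtain ⟨g, hg, hgx⟩ := Mathieu.M24_exists_map (by norm_num) x y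
    refine ⟨g, hg, (Finset.eq_of_subset_of_card_le ?_ ?_).symm⟩
    · intro p hp
      have : Finset.univ.map y = Y := Finset.eq_of_subset_of_card_le (fun q hq => by
        obtain ⟨i, -, rfl⟩ := Finset.mem_map.1 hq
        exact hy i) (by simp [hY])
      obtain ⟨i, -, rfl⟩ := Finset.mem_map.1 (this.symm ▸ hp : p ∈ Finset.univ.map y)
      rw [← hgx i]
      exact Finset.smul_mem_smul_finset (hx i)
    · rw [Finset.card_smul_finset, hY0, hY]
  subst hx
  obtain ⟨h1, h2⟩ := Mathieu.triadOnSext_orbits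
  have hkeys := Mathieu.triadOnSext_keys
  have hsize := Mathieu.triadOnSext_size
  simp only [Mathieu.triadOnSextRoots, List.map_cons, List.map_nil, List.cons.injEq, and_true]
    at hkeys hsize
  have hcount : ∀ S, Mathieu.meetCount (σ • Mathieu.ptsOf 0x800003) S =
      Mathieu.meetCount (Mathieu.ptsOf 0x800003) (σ⁻¹ • S) := fun S => by
    conv_lhs => rw [← smul_inv_smul σ S]
    exact Mathieu.meetCount_smul σ _ _
  have hset : ∀ r ∈ Mathieu.triadOnSextRoots, ∀ k, Mathieu.triadOnSextKey r = k →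
      {S : Finset (Finset GolayPt) | S ∈ sextets ∧
        Mathieu.meetCount (σ • Mathieu.ptsOf 0x800003) S = k}.ncard =
      Mathieu.classSize Mathieu.triadOnSextKey r 1771 := by
    intro r hr k hk
    refine Eq.trans (congrArg Set.ncard (Set.ext fun S => ?_))
      ((Set.ncard_image_of_injective _ (MulAction.injective σ)).trans (h1 r hr).2.1)
    rw [Set.mem_ofPred_eq, hcount, ← hk]
    constructor
    · rintro ⟨hS, hc⟩
      exact ⟨σ⁻¹ • S, ((h1 r hr).2.2 _).2 ⟨Mathieu.M24_smul_mem_sextets (M24.inv_mem hσ) hS, hc⟩,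
        smul_inv_smul σ S⟩
    · rintro ⟨U, hU, rfl⟩
      obtain ⟨hU, hc⟩ := ((h1 r hr).2.2 U).1 hU
      refine ⟨Mathieu.M24_smul_mem_sextets hσ hU, ?_⟩
      show Mathieu.meetCount _ (σ⁻¹ • σ • U) = _
      rw [inv_smul_smul]
      exact hc
  refine ⟨(hset 0 (by simp [Mathieu.triadOnSextRoots]) 1 hkeys.1).trans hsize.1,
    (hset 2 (by simp [Mathieu.triadOnSextRoots]) 2 hkeys.2.1).trans hsize.2.1,
    (hset 9 (by simp [Mathieu.triadOnSextRoots]) 3 hkeys.2.2).trans hsize.2.2, ?_⟩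
  intro S S' hS hS' he
  change Mathieu.meetCount _ S = Mathieu.meetCount _ S' at he
  rw [hcount, hcount] at he
  obtain ⟨r, hr, hS1⟩ := h2 _ (Mathieu.M24_smul_mem_sextets (M24.inv_mem hσ) hS)
  have hS2 := ((h1 r hr).2.2 (σ⁻¹ • S')).2
    ⟨Mathieu.M24_smul_mem_sextets (M24.inv_mem hσ) hS', he ▸ (((h1 r hr).2.2 _).1 hS1).2⟩
  obtain ⟨⟨a, ha, hafix⟩, ea⟩ := hS1
  obtain ⟨⟨b, hb, hbfix⟩, eb⟩ := hS2
  refine ⟨σ * (b * a⁻¹) * σ⁻¹, M24.mul_mem (M24.mul_mem hσ (M24.mul_mem hb (M24.inv_mem ha)))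
    (M24.inv_mem hσ), ?_, ?_⟩
  · rw [mul_smul, mul_smul, mul_smul, inv_smul_smul, inv_smul_eq_iff.2
      (show Mathieu.ptsOf 0x800003 = a • Mathieu.ptsOf 0x800003 from Eq.symm hafix),
      show b • Mathieu.ptsOf 0x800003 = Mathieu.ptsOf 0x800003 from hbfix]
  · rw [mul_smul, mul_smul, mul_smul, ← show a • _ = σ⁻¹ • S from ea, inv_smul_smul,
      show b • _ = σ⁻¹ • S' from eb, smul_inv_smul]

end Cfsg.Agent.S5616
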