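import Cfsg.Statements.S5620
import Cfsg.Agent.Lib.Mathieu.Generators
-- import your own Cfsg.Agent.* helpers here

set_option autoImplicit false
open scoped Pointwise
open Cfsg

open scoped Pointwise

namespace Cfsg.Agent.S5620

open Cfsg.Agent

theorem projInv_square :
    projInv (some 0) = none ∧ projInv none = some 0 ∧ projInv * projInv = 1 ∧
      projInv • Cfsg.Spor.squareDodecad = Finset.univ \ Cfsg.Spor.squareDodecad := by
  refine ⟨rfl, rfl, Equiv.ext (by decide +kernel), ?_⟩
  decide +kernel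

/-- Inside the stabiliser of the dodecad of squares (a Mathieu group of degree 12), the stabiliser of the residue 0 (a point of the dodecad) and the stabiliser of the extra point (a point outside the dodecad) are isomorphic but not conjugate; conjugation by a suitable element of the code's group that maps the dodecad of squares onto its complement carries the first onto the second. -/
theorem result : Nonempty (↥(Cfsg.Spor.M12 ⊓ MulAction.stabilizer (Equiv.Perm Cfsg.GolayPt) (none : Cfsg.GolayPt)) ≃* ↥Cfsg.Spor.M11) ∧ (¬ ∃ k ∈ Cfsg.Spor.M12, MulAut.conj k • Cfsg.Spor.M11 = Cfsg.Spor.M12 ⊓ MulAction.stabilizer (Equiv.Perm Cfsg.GolayPt) (none : Cfsg.GolayPt)) ∧ ∃ g ∈ Cfsg.M24, g • Cfsg.Spor.squareDodecad = Finset.univ \ Cfsg.Spor.squareDodecad ∧ MulAut.conj g • Cfsg.Spor.M11 = Cfsg.Spor.M12 ⊓ MulAction.stabilizer (Equiv.Perm Cfsg.GolayPt) (none : Cfsg.GolayPt) := by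
  obtain ⟨hp0, hpn, hinv, hd⟩ := projInv_square
  have hdp : projInv • (Finset.univ \ Cfsg.Spor.squareDodecad) = Cfsg.Spor.squareDodecad := by
    rw [← hd, smul_smul, hinv, one_smul]
  have hcompl : ∀ a ∈ Cfsg.M24, (a • (Finset.univ \ Cfsg.Spor.squareDodecad) =
      Finset.univ \ Cfsg.Spor.squareDodecad ↔ a • Cfsg.Spor.squareDodecad =
        Cfsg.Spor.squareDodecad) := fun a _ => by
    rw [Finset.smul_finset_sdiff, Finset.smul_finset_univ]
    refine ⟨fun e => ?_, fun e => by rw [e]⟩
    have := congrArg (fun s => Finset.univ \ s) e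
    simpa using this
  have hconj : MulAut.conj projInv • Cfsg.Spor.M11 = Cfsg.Spor.M12 ⊓
      MulAction.stabilizer (Equiv.Perm Cfsg.GolayPt) (none : Cfsg.GolayPt) := by
    ext σ
    rw [Subgroup.mem_pointwise_smul_iff_inv_smul_mem, Mathieu.mem_M11_iff, Mathieu.mem_M12_iff,
      Subgroup.mem_inf, Mathieu.mem_M12_iff]
    change _ ↔ _ ∧ σ none = none
    have hc : (MulAut.conj projInv)⁻¹ • σ = projInv * σ * projInv := by
      rw [← map_inv, inv_eq_of_mul_eq_one_right hinv]
      change projInv * σ * projInv⁻¹ = _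
      rw [inv_eq_of_mul_eq_one_right hinv]
    have hm : projInv * σ * projInv ∈ Cfsg.M24 ↔ σ ∈ Cfsg.M24 := by
      rw [Subgroup.mul_mem_cancel_right _ Mathieu.projInv_mem,
        Subgroup.mul_mem_cancel_left _ Mathieu.projInv_mem]
    rw [hc, hm]
    refine and_congr (and_congr_right fun hσ => ?_) ?_
    · rw [mul_smul, mul_smul, hd, ← inv_inv projInv, inv_smul_eq_iff,
        inv_eq_of_mul_eq_one_right hinv, hd, hcompl σ hσ]
    · rw [Equiv.Perm.mul_apply, Equiv.Perm.mul_apply, hp0]
      refine ⟨fun e => ?_, fun e => by rw [e, hpn]⟩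
      rw [← hpn] at e
      exact projInv.injective e
  refine ⟨?_, ?_, projInv, Mathieu.projInv_mem, hd, hconj⟩
  · rw [← hconj]
    exact ⟨(Subgroup.equivSMul (MulAut.conj projInv) Cfsg.Spor.M11).symm⟩
  rintro ⟨k, hk, e⟩
  have h0 : (some 0 : Cfsg.GolayPt) ∈ Cfsg.Spor.squareDodecad := by decide +kernel
  -- the stabiliser of `none` in M12 would fix `k 0`
  have hfix : ∀ σ ∈ Cfsg.Spor.M11, (projInv * σ * projInv⁻¹) (k (some 0)) = k (some 0) := by
    intro σ hσ
    have hmem : projInv * σ * projInv⁻¹ ∈ MulAut.conj k • Cfsg.Spor.M11 := by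
      rw [e, ← hconj]
      exact Subgroup.smul_mem_pointwise_smul σ (MulAut.conj projInv) _ hσ
    obtain ⟨τ, hτ, hτ'⟩ := hmem
    rw [← hτ']
    change (k * τ * k⁻¹) (k (some 0)) = k (some 0)
    rw [Equiv.Perm.mul_apply, Equiv.Perm.mul_apply, Equiv.Perm.inv_def, Equiv.symm_apply_apply,
      (Mathieu.mem_M11_iff.1 hτ).2]
  set a := projInv⁻¹ (k (some 0)) with ha
  have hac : a ∉ Cfsg.Spor.squareDodecad := by
    intro hmem
    have h1 : k (some 0) ∈ Cfsg.Spor.squareDodecad := Mathieu.M12_maps_dodecad hk h0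
    have h2 : k (some 0) ∈ Finset.univ \ Cfsg.Spor.squareDodecad := by
      rw [← hd, show k (some 0) = projInv • a by rw [ha]; simp]
      exact Finset.smul_mem_smul_finset hmem
    exact (Finset.mem_sdiff.1 h2).2 h1
  -- but M11 moves every point of the complement
  obtain ⟨b, hbc, hba⟩ : ∃ b, b ∉ Cfsg.Spor.squareDodecad ∧ b ≠ a := by
    revert hac; generalize a = z; revert z; decide +kernel
  obtain ⟨σ, hσ, hσab⟩ := Mathieu.M11_exists_map_compl (k := 1) (by norm_num)
    ⟨fun _ => a, fun i j _ => Subsingleton.elim i j⟩ ⟨fun _ => b, fun i j _ => Subsingleton.elim i j⟩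
    (fun _ => hac) (fun _ => hbc)
  have h := hfix σ hσ
  rw [Equiv.Perm.mul_apply, Equiv.Perm.mul_apply, ← ha, show σ a = b from hσab 0] at h
  exact hba (projInv.injective (h.trans (by rw [ha]; simp)))

end Cfsg.Agent.S5620
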