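import Cfsg.Statements.S5623
import Cfsg.Agent.Lib.AbstractGolay.Basic
-- import your own Cfsg.Agent.* helpers here

set_option autoImplicit false
open Cfsg

namespace Cfsg.Agent.S5623

/-- Let C be a self-dual binary code of length 24 with minimum weight at least 8 (a 12-dimensional subspace of the 24-dimensional space over the field with two elements, any two of whose words have dot product zero, with no non-zero word of weight below 8 — an abstract extended binary Golay code). Then every coset w + C of C in the ambient space contains either exactly one word of weight at most 4, which then has weight at most 3, or exactly six words of weight at most 4, all of weight exactly 4 and with pairwise disjoint supports (a sextet). -/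
theorem result (C : Submodule (ZMod 2) (Fin 24 → ZMod 2)) (hdim : Module.finrank (ZMod 2) C = 12) (horth : ∀ v ∈ C, ∀ w ∈ C, ∑ i, v i * w i = 0) (hmin : ∀ w ∈ C, w ≠ 0 → 8 ≤ hammingNorm w) (w : Fin 24 → ZMod 2) : (∃ u : Fin 24 → ZMod 2, {u : Fin 24 → ZMod 2 | u - w ∈ C ∧ hammingNorm u ≤ 4} = {u} ∧ hammingNorm u ≤ 3) ∨ ({u : Fin 24 → ZMod 2 | u - w ∈ C ∧ hammingNorm u ≤ 4}.ncard = 6 ∧ ∀ u ∈ {u : Fin 24 → ZMod 2 | u - w ∈ C ∧ hammingNorm u ≤ 4}, hammingNorm u = 4 ∧ ∀ u' ∈ {u : Fin 24 → ZMod 2 | u - w ∈ C ∧ hammingNorm u ≤ 4}, u ≠ u' → Disjoint (Finset.univ.filter fun i => u i ≠ 0) (Finset.univ.filter fun i => u' i ≠ 0)) := by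
  classical
  rcases AbstractGolay.coset_cover hdim hmin w with ⟨s, hs, hc⟩ | hF
  · refine Or.inl ⟨AbstractGolay.word s, ?_,
      by rwa [AbstractGolay.hammingNorm_eq, AbstractGolay.supp_word]⟩
    ext u
    simp only [Set.mem_setOf_eq, Set.mem_singleton_iff]
    constructor
    · rintro ⟨hu, hn⟩
      rw [AbstractGolay.hammingNorm_eq] at hn
      rcases AbstractGolay.MinWeight.eq_or_le hmin (s := AbstractGolay.supp u) (t := s)
        (by rw [AbstractGolay.word_supp]; simpa using C.sub_mem hu hc) with e | e
      · rw [← e, AbstractGolay.word_supp]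
      · omega
    · rintro rfl
      exact ⟨hc, by rw [AbstractGolay.hammingNorm_eq, AbstractGolay.supp_word]; omega⟩
  · right
    set F := Finset.univ.filter fun t : Finset (Fin 24) =>
      t.card = 4 ∧ AbstractGolay.word t - w ∈ C
    have hFm : ∀ t, t ∈ F ↔ t.card = 4 ∧ AbstractGolay.word t - w ∈ C := fun t => by simp [F]
    have hset : {u : Fin 24 → ZMod 2 | u - w ∈ C ∧ hammingNorm u ≤ 4} =
        AbstractGolay.word '' (F : Set (Finset (Fin 24))) := by
      ext u
      simp only [Set.mem_setOf_eq, Set.mem_image, Finset.mem_coe]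
      constructor
      · rintro ⟨hu, hn⟩
        refine ⟨AbstractGolay.supp u, (hFm _).mpr ⟨?_, ?_⟩, AbstractGolay.word_supp u⟩
        · rw [AbstractGolay.hammingNorm_eq] at hn
          obtain ⟨t, ht⟩ := Finset.card_pos.mp (hF ▸ Nat.succ_pos 5 : 0 < F.card)
          obtain ⟨ht4, htc⟩ := (hFm t).mp ht
          rcases AbstractGolay.MinWeight.eq_or_le hmin (s := AbstractGolay.supp u) (t := t)
            (by rw [AbstractGolay.word_supp]; simpa using C.sub_mem hu htc) with e | e
          · rw [e, ht4]
          · omega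
        · rwa [AbstractGolay.word_supp]
      · rintro ⟨t, ht, rfl⟩
        obtain ⟨ht4, htc⟩ := (hFm t).mp ht
        exact ⟨htc, by rw [AbstractGolay.hammingNorm_eq, AbstractGolay.supp_word, ht4]⟩
    refine ⟨?_, ?_⟩
    · rw [hset, Set.ncard_image_of_injective _ (fun a b e => by
        rw [← AbstractGolay.supp_word a, e, AbstractGolay.supp_word]), Set.ncard_coe_finset, hF]
    rw [hset]
    rintro _ ⟨t, ht, rfl⟩
    obtain ⟨ht4, htc⟩ := (hFm t).mp ht
    refine ⟨by rw [AbstractGolay.hammingNorm_eq, AbstractGolay.supp_word, ht4], ?_⟩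
    rintro _ ⟨t', ht', rfl⟩ hne
    obtain ⟨ht4', htc'⟩ := (hFm t').mp ht'
    have hd : Disjoint t t' := by
      rcases AbstractGolay.MinWeight.eq_or_le hmin (s := t) (t := t')
        (by simpa using C.sub_mem htc htc') with e | e
      · exact absurd (by rw [e]) hne
      · exact Finset.disjoint_iff_inter_eq_empty.mpr (Finset.card_eq_zero.mp (by omega))
    have key : ∀ r : Finset (Fin 24),
        (Finset.univ.filter fun i => AbstractGolay.word r i ≠ 0) = r := AbstractGolay.supp_word
    rw [key, key]
    exact hd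

end Cfsg.Agent.S5623
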