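import Cfsg.Statements.S5625
-- import your own Cfsg.Agent.* helpers here

set_option autoImplicit false
open Cfsg

namespace Cfsg.Agent.S5625

open Finset

theorem lam {α : Type*} [Fintype α] [DecidableEq α] (hα : Fintype.card α = 24)
    {F : Finset (Finset α)} (h5 : ∀ b ∈ F, b.card = 8)
    (hu : ∀ s : Finset α, s.card = 5 → ∃! b, b ∈ F ∧ s ⊆ b) (S : Finset α) (k : ℕ) (hk : k ≤ 5)
    (hS : S.card = k) :
    (F.filter fun b => S ⊆ b).card * (8 - k).choose (5 - k) = (24 - k).choose (5 - k) := by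
  have key := Finset.card_mul_eq_card_mul (fun (b : Finset α) (s : Finset α) => S ∪ s ⊆ b)
    (s := F.filter fun b => S ⊆ b) (t := (univ \ S).powersetCard (5 - k))
    (m := (8 - k).choose (5 - k)) (n := 1) ?_ ?_
  · rw [key, mul_one, card_powersetCard, card_sdiff_of_subset (subset_univ _), card_univ, hα, hS]
  · intro b hb
    rw [mem_filter] at hb
    have : ((univ \ S).powersetCard (5 - k)).bipartiteAbove
        (fun (b : Finset α) (s : Finset α) => S ∪ s ⊆ b) b = (b \ S).powersetCard (5 - k) := by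
      ext s
      simp only [mem_bipartiteAbove, mem_powersetCard, union_subset_iff, subset_sdiff, hb.2,
        subset_univ, true_and]
      tauto
    rw [this, card_powersetCard, card_sdiff_of_subset hb.2, h5 b hb.1, hS]
  · intro s hs
    rw [mem_powersetCard, subset_sdiff] at hs
    obtain ⟨b, hb, hb'⟩ := hu (S ∪ s) (by
      rw [card_union_of_disjoint hs.1.2.symm, hS, hs.2]; omega)
    refine card_eq_one.2 ⟨b, ?_⟩
    ext c
    simp only [mem_bipartiteBelow, mem_filter, mem_singleton]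
    exact ⟨fun h => hb' c ⟨h.1.1, h.2⟩,
      fun h => h ▸ ⟨⟨hb.1, subset_union_left.trans hb.2⟩, hb.2⟩⟩

/-- In any Steiner system S(5, 8, 24) and for any set Y of three points, the blocks meeting Y in exactly 3, 2, 1 and 0 points number 21, 168, 360 and 210 respectively (so there are 759 blocks in all). -/
theorem result (α : Type*) [Fintype α] [DecidableEq α] (hα : Fintype.card α = 24) (B : Set (Finset α)) (hB : Cfsg.IsSteinerSystem 5 8 B) (Y : Finset α) (hY : Y.card = 3) : {b : Finset α | b ∈ B ∧ (b ∩ Y).card = 3}.ncard = 21 ∧ {b : Finset α | b ∈ B ∧ (b ∩ Y).card = 2}.ncard = 168 ∧ {b : Finset α | b ∈ B ∧ (b ∩ Y).card = 1}.ncard = 360 ∧ {b : Finset α | b ∈ B ∧ (b ∩ Y).card = 0}.ncard = 210 := by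
  classical
  set F := (Finset.univ : Finset (Finset α)).filter fun b => b ∈ B with hF
  have hmemF : ∀ b, b ∈ F ↔ b ∈ B := fun b => by simp [hF]
  have hset : ∀ i, {b : Finset α | b ∈ B ∧ (b ∩ Y).card = i}.ncard =
      (F.filter fun b => (b ∩ Y).card = i).card := fun i => by
    rw [← Set.ncard_coe_finset]
    congr 1
    ext b
    simp [hmemF]
  have hlam := fun S k hk hS => lam hα (F := F) (fun b hb => hB.1 b ((hmemF b).1 hb))
    (fun s hs => by simpa only [hmemF] using hB.2 s hs) S k hk hS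
  obtain ⟨p, q, r, hpq, hpr, hqr, rfl⟩ := Finset.card_eq_three.1 hY
  have e0 := hlam ∅ 0 (by norm_num) rfl
  have ep := hlam {p} 1 (by norm_num) rfl
  have eq' := hlam {q} 1 (by norm_num) rfl
  have er := hlam {r} 1 (by norm_num) rfl
  have epq := hlam {p, q} 2 (by norm_num) (Finset.card_pair hpq)
  have epr := hlam {p, r} 2 (by norm_num) (Finset.card_pair hpr)
  have eqr := hlam {q, r} 2 (by norm_num) (Finset.card_pair hqr)
  have epqr := hlam {p, q, r} 3 (by norm_num) hY
  have htot : ∑ b ∈ F, (1 : ℕ) = 759 := by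
    rw [Finset.filter_true_of_mem fun b _ => Finset.empty_subset b,
      show Nat.choose (8 - 0) (5 - 0) = 56 from rfl,
      show Nat.choose (24 - 0) (5 - 0) = 42504 from rfl] at e0
    rw [← Finset.card_eq_sum_ones]
    omega
  simp only [Finset.insert_subset_iff, Finset.singleton_subset_iff, Finset.empty_subset,
    Finset.card_filter, show Nat.choose (8 - 0) (5 - 0) = 56 from rfl,
    show Nat.choose (24 - 0) (5 - 0) = 42504 from rfl,
    show Nat.choose (8 - 1) (5 - 1) = 35 from rfl, show Nat.choose (24 - 1) (5 - 1) = 8855 from rfl,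
    show Nat.choose (8 - 2) (5 - 2) = 20 from rfl, show Nat.choose (24 - 2) (5 - 2) = 1540 from rfl,
    show Nat.choose (8 - 3) (5 - 3) = 10 from rfl, show Nat.choose (24 - 3) (5 - 3) = 210 from rfl]
    at e0 ep eq' er epq epr eqr epqr
  have hcard : ∀ b : Finset α, (b ∩ {p, q, r}).card =
      (if p ∈ b then 1 else 0) + (if q ∈ b then 1 else 0) + (if r ∈ b then 1 else 0) := fun b => by
    rw [Finset.inter_comm, ← Finset.filter_mem_eq_inter, Finset.card_filter,
      Finset.sum_insert (by simp [hpq, hpr]), Finset.sum_pair hqr, add_assoc]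
  have i3 : ∑ b ∈ F, (if (b ∩ {p, q, r}).card = 3 then 1 else 0) =
      ∑ b ∈ F, (if p ∈ b ∧ q ∈ b ∧ r ∈ b then 1 else 0) :=
    Finset.sum_congr rfl fun b _ => by
      rw [hcard]; by_cases p ∈ b <;> by_cases q ∈ b <;> by_cases r ∈ b <;> simp [*]
  have i2 : ∑ b ∈ F, (if (b ∩ {p, q, r}).card = 2 then 1 else 0) +
      3 * ∑ b ∈ F, (if (b ∩ {p, q, r}).card = 3 then 1 else 0) =
      ∑ b ∈ F, (if p ∈ b ∧ q ∈ b then 1 else 0) + ∑ b ∈ F, (if p ∈ b ∧ r ∈ b then 1 else 0) +
        ∑ b ∈ F, (if q ∈ b ∧ r ∈ b then 1 else 0) := by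
    simp only [Finset.mul_sum, ← Finset.sum_add_distrib]
    exact Finset.sum_congr rfl fun b _ => by
      rw [hcard]; by_cases p ∈ b <;> by_cases q ∈ b <;> by_cases r ∈ b <;> simp [*]
  have i1 : ∑ b ∈ F, (if (b ∩ {p, q, r}).card = 1 then 1 else 0) +
      2 * ∑ b ∈ F, (if (b ∩ {p, q, r}).card = 2 then 1 else 0) +
      3 * ∑ b ∈ F, (if (b ∩ {p, q, r}).card = 3 then 1 else 0) =
      ∑ b ∈ F, (if p ∈ b then 1 else 0) + ∑ b ∈ F, (if q ∈ b then 1 else 0) +
        ∑ b ∈ F, (if r ∈ b then 1 else 0) := by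
    simp only [Finset.mul_sum, ← Finset.sum_add_distrib]
    exact Finset.sum_congr rfl fun b _ => by
      rw [hcard]; by_cases p ∈ b <;> by_cases q ∈ b <;> by_cases r ∈ b <;> simp [*]
  have i0 : ∑ b ∈ F, (if (b ∩ {p, q, r}).card = 0 then 1 else 0) +
      ∑ b ∈ F, (if (b ∩ {p, q, r}).card = 1 then 1 else 0) +
      ∑ b ∈ F, (if (b ∩ {p, q, r}).card = 2 then 1 else 0) +
      ∑ b ∈ F, (if (b ∩ {p, q, r}).card = 3 then 1 else 0) = ∑ b ∈ F, (if True then 1 else 0) := by
    simp only [← Finset.sum_add_distrib]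
    exact Finset.sum_congr rfl fun b _ => by
      rw [hcard]; by_cases p ∈ b <;> by_cases q ∈ b <;> by_cases r ∈ b <;> simp [*]
  simp only [hset, Finset.card_filter]
  simp only [if_true] at i0
  omega

end Cfsg.Agent.S5625
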