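import Cfsg.Statements.S5632
import Cfsg.Agent.Lib.MaxCl.LinearSubspace
-- import your own Cfsg.Agent.* helpers here

set_option autoImplicit false
open Cfsg

namespace Cfsg.Agent.S5632

/-- For a finite field F and subspaces 0 < W < U of F^n with dim W + dim U = n, the elements of SL_n(F) stabilising both W and U form a subgroup that is not maximal in SL_n(F): some subgroup lies strictly between it and SL_n(F). -/
theorem result {F : Type*} [Field F] [Fintype F] (n : ℕ) (W U : Submodule F (Fin n → F)) (hW0 : W ≠ ⊥) (hWU : W < U) (hdim : Module.finrank F W + Module.finrank F U = n) : ∃ K : Subgroup (Matrix.GeneralLinearGroup (Fin n) F), Cfsg.Geo.subspaceStabilizer W ⊓ Cfsg.Geo.subspaceStabilizer U ⊓ Cfsg.Geo.specialLinear (Fin n) F < K ∧ K < Cfsg.Geo.specialLinear (Fin n) F := by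
  have hU1 : U ≠ ⊤ := by
    rintro rfl
    rw [finrank_top, Module.finrank_fin_fun] at hdim
    exact hW0 (Submodule.finrank_eq_zero.mp (by omega))
  obtain ⟨v, hv, -⟩ := MaxCl.exists_notMem_two U U hU1 hU1
  obtain ⟨u, hu, huW⟩ := SetLike.exists_of_lt hWU
  have hu' : u ∉ W ⊔ F ∙ v := fun h => by
    obtain ⟨w, hw, y, hy, e⟩ := Submodule.mem_sup.mp h
    obtain ⟨a, rfl⟩ := Submodule.mem_span_singleton.mp hy
    rcases eq_or_ne a 0 with rfl | ha
    · exact huW (by rw [← e]; simpa using hw)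
    · refine hv ((U.smul_mem_iff ha).mp ?_)
      rw [show a • v = u - w by rw [← e]; abel]
      exact U.sub_mem hu (hWU.le hw)
  obtain ⟨φ, h0, h1⟩ := MaxCl.exists_dual _ hu'
  have hz : φ v = 0 := h0 v (Submodule.mem_sup_right (Submodule.mem_span_singleton_self v))
  refine ⟨Cfsg.Geo.subspaceStabilizer W ⊓ Cfsg.Geo.specialLinear (Fin n) F, ?_,
    MaxCl.subspaceStabilizer_inf_lt hW0 (fun e => hWU.ne_top e)⟩
  refine lt_of_le_of_ne (inf_le_inf_right _ inf_le_left) fun e =>
    MaxCl.tv_not_mem_subspaceStabilizer hz hu h1 hv ?_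
  have hm : MaxCl.tv φ v ∈ Cfsg.Geo.subspaceStabilizer W ⊓ Cfsg.Geo.specialLinear (Fin n) F :=
    ⟨MaxCl.tv_mem_subspaceStabilizer hz (Or.inr fun x hx => h0 x (Submodule.mem_sup_left hx)),
      MaxCl.tv_det hz⟩
  rw [← e] at hm
  exact hm.1.2

end Cfsg.Agent.S5632
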