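import Cfsg.Statements.S5633
import Cfsg.Agent.Lib.MaxCl.LinearSubspace
-- import your own Cfsg.Agent.* helpers here

set_option autoImplicit false
open Cfsg

namespace Cfsg.Agent.S5633

/-- For a finite field F and complementary non-zero subspaces W ⊕ U = F^n with dim W < dim U, the elements of SL_n(F) stabilising both W and U form a subgroup that is not maximal in SL_n(F): some subgroup lies strictly between it and SL_n(F). -/
theorem result {F : Type*} [Field F] [Fintype F] (n : ℕ) (W U : Submodule F (Fin n → F)) (hW0 : W ≠ ⊥) (hWU : W ⊓ U = ⊥) (hWU' : W ⊔ U = ⊤) (hdim : Module.finrank F W < Module.finrank F U) : ∃ K : Subgroup (Matrix.GeneralLinearGroup (Fin n) F), Cfsg.Geo.subspaceStabilizer W ⊓ Cfsg.Geo.subspaceStabilizer U ⊓ Cfsg.Geo.specialLinear (Fin n) F < K ∧ K < Cfsg.Geo.specialLinear (Fin n) F := by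
  have hW1 : W ≠ ⊤ := by
    rintro rfl
    rw [top_inf_eq] at hWU
    subst hWU
    simp at hdim
  have hU0 : U ≠ ⊥ := by
    rintro rfl
    simp at hdim
  obtain ⟨w, hw, hw0⟩ := W.ne_bot_iff.mp hW0
  obtain ⟨u, hu, hu0⟩ := U.ne_bot_iff.mp hU0
  have hdisj : ∀ x, x ∈ W → x ∈ U → x = 0 := fun x h1 h2 =>
    (Submodule.mem_bot F).mp (hWU ▸ ⟨h1, h2⟩)
  have hu' : u ∉ W := fun h => hu0 (hdisj u h hu)
  obtain ⟨φ, h0, h1⟩ := MaxCl.exists_dual _ hu'
  have hz : φ w = 0 := h0 w hw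
  refine ⟨Cfsg.Geo.subspaceStabilizer W ⊓ Cfsg.Geo.specialLinear (Fin n) F, ?_,
    MaxCl.subspaceStabilizer_inf_lt hW0 hW1⟩
  refine lt_of_le_of_ne (inf_le_inf_right _ inf_le_left) fun e =>
    MaxCl.tv_not_mem_subspaceStabilizer hz hu h1 (fun h => hw0 (hdisj w hw h)) ?_
  have hm : MaxCl.tv φ w ∈ Cfsg.Geo.subspaceStabilizer W ⊓ Cfsg.Geo.specialLinear (Fin n) F :=
    ⟨MaxCl.tv_mem_subspaceStabilizer hz (Or.inl hw), MaxCl.tv_det hz⟩
  rw [← e] at hm
  exact hm.1.2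

end Cfsg.Agent.S5633
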