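import Cfsg.Statements.S5634
import Cfsg.Agent.Lib.MaxCl.LinearBlocks
import Cfsg.Agent.Lib.MaxCl.SympSwap
-- import your own Cfsg.Agent.* helpers here

set_option autoImplicit false
open Cfsg Cfsg.Agent.MaxCl Cfsg.Agent.MaxCl.Monom

namespace Cfsg.Agent.S5634

/-- For a finite field F with q elements and n ≥ 13, let D be a decomposition of F^n into t ≥ 2 independent subspaces of equal dimension m ≥ 1 spanning F^n. Unless m = 1 and q ≤ 4, or m = 2 and q = 2, the elements of SL_n(F) permuting the members of D form a maximal subgroup of SL_n(F). -/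
theorem result {F : Type*} [Field F] [Fintype F] (n : ℕ) (hn : 13 ≤ n) {t : ℕ} (m : ℕ) (D : Fin t → Submodule F (Fin n → F)) (hD : Cfsg.Geo.IsMDecomposition m D) (h1 : ¬ (m = 1 ∧ Fintype.card F ≤ 4)) (h2 : ¬ (m = 2 ∧ Fintype.card F = 2)) : Cfsg.Geo.IsMaximalIn (Cfsg.Geo.specialLinear (Fin n) F) (Cfsg.Geo.decompositionStabilizer D ⊓ Cfsg.Geo.specialLinear (Fin n) F) := by
  classical
  have hint : DirectSum.IsInternal D :=
    DirectSum.isInternal_submodule_of_iSupIndep_of_iSup_eq_top hD.indep hD.iSup_eq_top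
  obtain ⟨b, hb⟩ : ∃ b : ∀ i, Module.Basis (Fin m) F (D i), True :=
    ⟨fun i => Module.finBasisOfFinrankEq F (D i) (hD.finrank_eq i), trivial⟩
  obtain ⟨B, hB⟩ : ∃ B, B = hint.collectedBasis b := ⟨_, rfl⟩
  let e : Fin n ≃ (Σ _ : Fin t, Fin m) := Fintype.equivOfCardEq (by
    rw [Fintype.card_fin, ← Module.finrank_eq_card_basis B, Module.finrank_fin_fun])
  let blk : Fin n → Fin t := fun k => (e k).1
  obtain ⟨P, hP⟩ := exists_gl_of_injective ((B.reindex e.symm).equivFun.symm.toLinearMap)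
    (B.reindex e.symm).equivFun.symm.injective
  have hPe : ∀ k, act P (Pi.single k 1) = B (e k) := fun k => by
    rw [hP, LinearEquiv.coe_coe, Module.Basis.equivFun_symm_apply, Finset.sum_eq_single k]
    · simp
    · intro l _ hl; simp [hl]
    · simp
  have hcoord : ∀ x k, act P⁻¹ x k = B.repr x (e k) := by
    intro x k
    have e2 : act P ((B.reindex e.symm).equivFun x) = x := by
      rw [hP, LinearEquiv.coe_coe, LinearEquiv.symm_apply_apply]
    conv_lhs => rw [← e2, act_inv_act]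
    simp
  have hmem : ∀ x i, x ∈ D i ↔ ∀ k, blk k ≠ i → act P⁻¹ x k = 0 := by
    intro x i
    refine ⟨fun hx k hk => ?_, fun h => ?_⟩
    · rw [hcoord, hB]
      exact DirectSum.IsInternal.collectedBasis_repr_of_mem_ne hint b (Ne.symm hk) hx
    · rw [← act_act_inv P x, eq_sum_single (act P⁻¹ x), map_sum]
      refine (D i).sum_mem fun k _ => ?_
      rw [map_smul, hPe]
      by_cases hk : blk k = i
      · refine (D i).smul_mem _ ?_
        rw [← hk, hB]
        exact DirectSum.IsInternal.collectedBasis_mem hint b (e k)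
      · rw [h k hk, zero_smul]; exact (D i).zero_mem
  have hcard : ∀ i, (Finset.univ.filter fun k => blk k = i).card = m := by
    intro i
    rw [← Fintype.card_subtype]
    exact (Fintype.card_congr ((Equiv.subtypeEquiv e (fun k => Iff.rfl) :
      {k // blk k = i} ≃ {s : Σ _ : Fin t, Fin m // s.1 = i}).trans (Equiv.sigmaSubtype i))).trans (Fintype.card_fin m)
  have hstab : ∀ g : GL (Fin n) F, BlockPerm blk g ↔ P * g * P⁻¹ ∈ Cfsg.Geo.decompositionStabilizer D := by
    intro g
    constructor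
    · rintro ⟨σ, hσ⟩
      refine ⟨σ, fun i => Submodule.eq_of_le_of_finrank_eq (Submodule.map_le_iff_le_comap.2 fun x hx => ?_) (by
        rw [toLin'_eq_act, finrank_map_act, hD.finrank_eq, hD.finrank_eq])⟩
      rw [Submodule.mem_comap, toLin'_eq_act, hmem]
      intro k hk
      rw [act_mul, act_mul, act_inv_act, eq_sum_single (act P⁻¹ x), map_sum, Finset.sum_apply]
      refine Finset.sum_eq_zero fun p _ => ?_
      rw [map_smul, Pi.smul_apply]
      by_cases hp : blk p = i
      · rw [hσ p k (hp ▸ hk), smul_zero]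
      · rw [(hmem x i).1 hx p hp, zero_smul]
    · rintro ⟨σ, hσ⟩
      refine ⟨σ, fun p k hk => ?_⟩
      have h1 : act P (Pi.single p 1) ∈ D (blk p) := by
        rw [hPe, hB]; exact DirectSum.IsInternal.collectedBasis_mem hint b (e p)
      have h2 : act (P * g * P⁻¹) (act P (Pi.single p 1)) ∈ D (σ (blk p)) := by
        rw [← hσ (blk p)]; exact ⟨_, h1, rfl⟩
      have := (hmem _ _).1 h2 k hk
      rwa [act_mul, act_mul, act_inv_act, act_inv_act] at this
  have hsl : ∀ g : GL (Fin n) F, P * g * P⁻¹ ∈ Cfsg.Geo.specialLinear (Fin n) F ↔ g ∈ Cfsg.Geo.specialLinear (Fin n) F :=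
    fun g => by simp [Cfsg.Geo.specialLinear, MonoidHom.mem_ker]
  have ht := hD.two_le
  refine ⟨lt_of_le_of_ne inf_le_right fun heq => ?_, fun M hM1 hM2 => ?_⟩
  · obtain ⟨a, ha⟩ : ∃ a, blk a = ⟨0, by omega⟩ := ⟨e.symm ⟨⟨0, by omega⟩, ⟨0, hD.pos⟩⟩, by simp [blk]⟩
    obtain ⟨c, hc⟩ : ∃ c, blk c = ⟨1, by omega⟩ := ⟨e.symm ⟨⟨1, by omega⟩, ⟨0, hD.pos⟩⟩, by simp [blk]⟩
    have hac : blk a ≠ blk c := by rw [ha, hc]; simp [Fin.ext_iff]
    have hca : c ≠ a := fun z => hac (by rw [z])
    obtain ⟨φ, hφ⟩ : ∃ φ : (Fin n → F) →ₗ[F] F, φ = LinearMap.proj c := ⟨_, rfl⟩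
    have hφa : φ (Pi.single a 1) = 0 := by simp [hφ, hca]
    have h := (inf_eq_right.1 heq) ((hsl (tv φ (Pi.single a 1))).2 (mem_specialLinear_iff.2 (by
      rw [det_eq_of_fix_hyperplane (act_tv hφa), hφa, add_zero])))
    obtain ⟨σ, hσ⟩ := (hstab _).2 h
    have hx : act (tv φ (Pi.single a 1)) (Pi.single c 1) = Pi.single c 1 + Pi.single a 1 := by
      rw [act_tv hφa, hφ]; simp
    by_cases hsc : σ (blk c) = blk c
    · have := hσ c a (by rw [hsc]; exact hac)
      rw [hx] at this; simp [hca.symm] at this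
    · have := hσ c c (Ne.symm hsc)
      rw [hx] at this; simp [hca] at this
  by_cases hsub : M ≤ Cfsg.Geo.decompositionStabilizer D
  · exact Or.inl (le_antisymm (le_inf hsub hM2) hM1)
  right
  obtain ⟨g, hgM, hg⟩ := SetLike.not_le_iff_exists.1 hsub
  obtain ⟨M', hM'⟩ : ∃ M', M' = M.comap (MulAut.conj P).toMonoidHom := ⟨_, rfl⟩
  have hmemM' : ∀ x, x ∈ M' ↔ P * x * P⁻¹ ∈ M := fun x => by
    rw [hM', Subgroup.mem_comap]; rfl
  have hover : OverB blk M' := by
    refine ⟨fun x hx => (hsl x).1 (hM2 ((hmemM' x).1 hx)), fun x hx hx' => (hmemM' x).2 (hM1 ⟨(hstab x).1 hx, (hsl x).2 hx'⟩)⟩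
  obtain ⟨g', hg'⟩ : ∃ g', g' = P⁻¹ * g * P := ⟨_, rfl⟩
  have hgP : P * g' * P⁻¹ = g := by rw [hg']; group
  have hg'M : g' ∈ M' := (hmemM' g').2 (by rw [hgP]; exact hgM)
  have hg'b : ¬ BlockPerm blk g' := fun h => hg (hgP ▸ (hstab g').1 h)
  suffices hle : Cfsg.Geo.specialLinear (Fin n) F ≤ M' by
    refine le_antisymm hM2 fun x hx => ?_
    have := (hmemM' _).1 (hle ((hsl (P⁻¹ * x * P)).1 (by rwa [show P * (P⁻¹ * x * P) * P⁻¹ = x by group])))
    rwa [show P * (P⁻¹ * x * P) * P⁻¹ = x by group] at this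
  by_cases hm : m = 1
  · have h5 : 5 ≤ Fintype.card F := by
      by_contra h; exact h1 ⟨hm, by omega⟩
    have hinj : Function.Injective blk := by
      intro x y hxy
      refine Finset.card_le_one.1 (le_of_eq ((hcard (blk y)).trans hm)) x ?_ y ?_ <;> simp [hxy]
    have hmono : ∀ x : GL (Fin n) F, Mono x → BlockPerm blk x := by
      intro x hx
      obtain ⟨π, d, -, hd⟩ := hx.exists_data
      have hsurj : Function.Surjective blk := fun i => ⟨e.symm ⟨i, ⟨0, hD.pos⟩⟩, by simp [blk]⟩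
      let E : Fin n ≃ Fin t := Equiv.ofBijective blk ⟨hinj, hsurj⟩
      refine ⟨(E.symm.trans π).trans E, fun p k hk => ?_⟩
      rw [hd, Pi.smul_apply, Pi.single_eq_of_ne, smul_zero]
      rintro rfl
      apply hk
      change E (π p) = _
      rw [Equiv.trans_apply, Equiv.trans_apply, show blk p = E p from rfl, Equiv.symm_apply_apply]
    refine specialLinear_le (M := M') ⟨hover.1, fun x hx hx' => hover.2 x (hmono x hx) hx'⟩ h5 (by simpa using hn) hg'M
      (fun h => hg'b (hmono g' h))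
  · have hm2 : 2 ≤ m := by have := hD.pos; omega
    refine specialLinear_le_blocks hover (fun i => (hcard i).symm ▸ hm2) (fun i j => by rw [hcard, hcard])
      (Or.inl (by simpa using (le_trans (by norm_num) hn : 5 ≤ n))) ?_ hg'M hg'b
    by_cases hq : 3 ≤ Fintype.card F
    · left
      by_contra h; push Not at h
      have := Finset.card_le_card (show (Finset.univ : Finset F) ⊆ {0, 1} from fun x _ => by
        by_cases hx : x = 0
        · simp [hx]
        · simp [h x hx])
      have h2' : ({0, 1} : Finset F).card ≤ 2 := Finset.card_le_two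
      rw [Finset.card_univ] at this
      omega
    · right
      intro i
      rw [hcard]
      have := Fintype.one_lt_card (α := F)
      by_contra h; exact h2 ⟨by omega, by omega⟩

end Cfsg.Agent.S5634
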