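import Cfsg.Statements.S5635
import Cfsg.Agent.Lib.MaxCl.Transvection
-- import your own Cfsg.Agent.* helpers here

set_option autoImplicit false
open Cfsg

namespace Cfsg.Agent.S5635

open scoped MatrixGroups
open Cfsg.Agent.MaxCl

section Mix

variable {U : Type*} [AddCommGroup U]

/-- `J - 1` on four summands. -/
def even4 (a b c d : U) : Fin 4 → U := ![b + c + d, a + c + d, a + b + d, a + b + c]

/-- A Hadamard matrix with its first column negated. -/
def odd4 (a b c d : U) : Fin 4 → U :=
  ![-a + b + c + d, -a + b - c - d, -a - b + c - d, -a - b - c + d]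

/-- Applying `odd4` to a vector. -/
def oddMap (x : Fin 4 → U) : Fin 4 → U := odd4 (x 0) (x 1) (x 2) (x 3)

/-- Number of non-zero entries modulo `p`. -/
def cnt (p : ℕ) [DecidableEq U] {n : ℕ} (x : Fin n → U) : ZMod p :=
  ∑ i, if x i = 0 then 0 else 1

variable [DecidableEq U]

/-- What is needed of the mixing map in characteristic 2. -/
def EvenGood (U : Type*) [AddCommGroup U] [DecidableEq U] : Prop :=
  ∀ a b c d : U, cnt 2 (even4 a b c d) = cnt 2 ![a, b, c, d] ∧
    even4 (even4 a b c d 0) (even4 a b c d 1) (even4 a b c d 2) (even4 a b c d 3) = ![a, b, c, d]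

/-- What is needed of the mixing map in characteristic 3. -/
def OddGood (U : Type*) [AddCommGroup U] [DecidableEq U] : Prop :=
  ∀ a b c d : U, cnt 3 (odd4 a b c d) = cnt 3 ![a, b, c, d] ∧
    (odd4 a b c d = 0 → a = 0 ∧ b = 0 ∧ c = 0 ∧ d = 0) ∧
    (b = 0 → c = 0 → d = 0 → a ≠ 0 →
      oddMap (odd4 a b c d) 0 ≠ 0 ∧ oddMap (odd4 a b c d) 1 ≠ 0)

theorem evenGood_two : EvenGood (ZMod 2) := by unfold EvenGood; decide

theorem evenGood_four : EvenGood (ZMod 2 × ZMod 2) := by unfold EvenGood; decide

set_option synthInstance.maxSize 2048 in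
theorem oddGood_three : OddGood (ZMod 3) := by unfold OddGood; decide

omit [DecidableEq U] in
theorem map_even4 {W : Type*} [AddCommGroup W] (e : U ≃+ W) (a b c d : U) (i : Fin 4) :
    e (even4 a b c d i) = even4 (e a) (e b) (e c) (e d) i := by
  fin_cases i <;> simp [even4]

omit [DecidableEq U] in
theorem map_odd4 {W : Type*} [AddCommGroup W] (e : U ≃+ W) (a b c d : U) (i : Fin 4) :
    e (odd4 a b c d i) = odd4 (e a) (e b) (e c) (e d) i := by
  fin_cases i <;> simp [odd4, sub_eq_add_neg]

theorem cnt_map (p : ℕ) {W : Type*} [AddCommGroup W] [DecidableEq W] (e : U ≃+ W) {n : ℕ}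
    (x : Fin n → U) : cnt p (fun i => e (x i)) = cnt p x := by
  simp [cnt, EmbeddingLike.map_eq_zero_iff]

theorem EvenGood.of_equiv {W : Type*} [AddCommGroup W] [DecidableEq W] (e : U ≃+ W)
    (h : EvenGood W) : EvenGood U := by
  intro a b c d
  obtain ⟨h1, h2⟩ := h (e a) (e b) (e c) (e d)
  refine ⟨?_, ?_⟩
  · rw [← cnt_map 2 e, ← cnt_map 2 e ![a, b, c, d]]
    convert h1 using 2
    · funext i; exact map_even4 e a b c d i
    · funext i; fin_cases i <;> rfl
  · funext i
    apply e.injective
    rw [map_even4, map_even4, map_even4, map_even4, map_even4, h2]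
    fin_cases i <;> rfl

theorem OddGood.of_equiv {W : Type*} [AddCommGroup W] [DecidableEq W] (e : U ≃+ W)
    (h : OddGood W) : OddGood U := by
  intro a b c d
  obtain ⟨h1, h2, h3⟩ := h (e a) (e b) (e c) (e d)
  refine ⟨?_, fun h0 => ?_, fun hb hc hd ha => ?_⟩
  · rw [← cnt_map 3 e, ← cnt_map 3 e ![a, b, c, d]]
    convert h1 using 2
    · funext i; exact map_odd4 e a b c d i
    · funext i; fin_cases i <;> rfl
  · have := h2 (funext fun i => by rw [← map_odd4, h0]; simp)
    simpa [EmbeddingLike.map_eq_zero_iff] using this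
  · obtain ⟨h30, h31⟩ := h3 (by simp [hb]) (by simp [hc]) (by simp [hd])
      (by simpa [EmbeddingLike.map_eq_zero_iff] using ha)
    have key : ∀ i, oddMap (odd4 (e a) (e b) (e c) (e d)) i = e (oddMap (odd4 a b c d) i) := by
      intro i
      simp only [oddMap, map_odd4]
    rw [key, ne_eq, EmbeddingLike.map_eq_zero_iff] at h30 h31
    exact ⟨h30, h31⟩

end Mix

theorem exists_addEquiv_two (U : Type*) [AddCommGroup U] [Fintype U] [Module (ZMod 2) U]
    (h : Fintype.card U = 2 ∨ Fintype.card U = 4) :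
    Nonempty (U ≃+ ZMod 2) ∨ Nonempty (U ≃+ ZMod 2 × ZMod 2) := by
  have hc := Module.natCard_eq_pow_finrank (K := ZMod 2) (V := U)
  rw [Nat.card_eq_fintype_card, Nat.card_zmod] at hc
  rcases h with h | h
  · left
    obtain ⟨e⟩ : Nonempty (U ≃ₗ[ZMod 2] ZMod 2) := FiniteDimensional.nonempty_linearEquiv_of_finrank_eq
      (by rw [Module.finrank_self]; exact Nat.pow_right_injective le_rfl (hc.symm.trans h))
    exact ⟨e.toAddEquiv⟩
  · right
    obtain ⟨e⟩ : Nonempty (U ≃ₗ[ZMod 2] ZMod 2 × ZMod 2) :=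
      FiniteDimensional.nonempty_linearEquiv_of_finrank_eq (by
        rw [Module.finrank_prod, Module.finrank_self]
        exact Nat.pow_right_injective le_rfl (hc.symm.trans h))
    exact ⟨e.toAddEquiv⟩

section Blocks

variable {F : Type*} [Field F] {n m r : ℕ}

/-- Extend an endomorphism of the first four blocks to all blocks. -/
def extend4 (T : (Fin 4 → Fin m → F) →ₗ[F] (Fin 4 → Fin m → F)) :
    (Fin (4 + r) → Fin m → F) →ₗ[F] (Fin (4 + r) → Fin m → F) where
  toFun x := Fin.addCases (T fun i => x (Fin.castAdd r i)) fun i => x (Fin.natAdd 4 i)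
  map_add' x y := by
    funext i
    induction i using Fin.addCases with
    | left i =>
      simp only [Fin.addCases_left, Pi.add_apply]
      exact congrFun (T.map_add (fun i => x (Fin.castAdd r i)) fun i => y (Fin.castAdd r i)) i
    | right i => simp
  map_smul' a x := by
    funext i
    induction i using Fin.addCases with
    | left i =>
      simp only [Fin.addCases_left, Pi.smul_apply, RingHom.id_apply]
      exact congrFun (T.map_smul a fun i => x (Fin.castAdd r i)) i
    | right i => simp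

theorem extend4_comp (T S : (Fin 4 → Fin m → F) →ₗ[F] (Fin 4 → Fin m → F)) :
    (extend4 T).comp (extend4 S) = (extend4 (T.comp S) :
      (Fin (4 + r) → Fin m → F) →ₗ[F] (Fin (4 + r) → Fin m → F)) := by
  refine LinearMap.ext fun x => funext fun i => ?_
  induction i using Fin.addCases with
  | left i => simp [extend4]
  | right i => simp [extend4]

theorem extend4_id : extend4 (LinearMap.id (R := F) (M := Fin 4 → Fin m → F)) =
    (LinearMap.id : (Fin (4 + r) → Fin m → F) →ₗ[F] _) := by
  refine LinearMap.ext fun x => funext fun i => ?_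
  induction i using Fin.addCases with
  | left i => simp [extend4]
  | right i => simp [extend4]

theorem extend4_injective {T : (Fin 4 → Fin m → F) →ₗ[F] (Fin 4 → Fin m → F)}
    (hT : Function.Injective T) : Function.Injective (extend4 (r := r) T) := by
  intro x y h
  funext i
  induction i using Fin.addCases with
  | left i =>
    refine congrFun (hT ?_ : (fun i => x (Fin.castAdd r i)) = fun i => y (Fin.castAdd r i)) i
    funext j
    simpa [extend4] using congrFun h (Fin.castAdd r j)
  | right i => simpa [extend4] using congrFun h (Fin.natAdd 4 i)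

theorem cnt_extend4 (p : ℕ) [DecidableEq F] {T : (Fin 4 → Fin m → F) →ₗ[F] (Fin 4 → Fin m → F)}
    (hT : ∀ x, cnt p (T x) = cnt p x) (x : Fin (4 + r) → Fin m → F) :
    cnt p (extend4 T x) = cnt p x := by
  simp only [cnt, Fin.sum_univ_add]
  congr 1
  · simpa [extend4, cnt] using hT fun i => x (Fin.castAdd r i)
  · simp [extend4]

/-- `even4` as a linear map. -/
def evenT : (Fin 4 → Fin m → F) →ₗ[F] (Fin 4 → Fin m → F) where
  toFun x := even4 (x 0) (x 1) (x 2) (x 3)
  map_add' x y := by funext i; fin_cases i <;> simp [even4] <;> abel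
  map_smul' a x := by funext i; fin_cases i <;> simp [even4, smul_add]

/-- `odd4` as a linear map. -/
def oddT : (Fin 4 → Fin m → F) →ₗ[F] (Fin 4 → Fin m → F) where
  toFun x := oddMap x
  map_add' x y := by funext i; fin_cases i <;> simp [oddMap, odd4] <;> abel
  map_smul' a x := by funext i; fin_cases i <;> simp [oddMap, odd4, smul_add, smul_sub]

theorem exists_mix [Fintype F] [DecidableEq F] (hm : (m = 1 ∧ Fintype.card F ≤ 4) ∨
    (m = 2 ∧ Fintype.card F = 2)) :
    ∃ (p : ℕ) (_ : 2 ≤ p) (T : (Fin 4 → Fin m → F) →ₗ[F] (Fin 4 → Fin m → F)),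
      Function.Injective T ∧ (∀ x, cnt p (T x) = cnt p x) ∧
      ((T.comp T = LinearMap.id ∧ (∀ a : F, a * a = 1 → a = 1) ∧
          ∀ x, x 1 = 0 → x 2 = 0 → x 3 = 0 → x 0 ≠ 0 → T x 1 ≠ 0 ∧ T x 2 ≠ 0) ∨
        ((∀ a : F, a ≠ 0 → a * a = 1) ∧
          ∀ x, x 1 = 0 → x 2 = 0 → x 3 = 0 → x 0 ≠ 0 →
            T.comp T x 0 ≠ 0 ∧ T.comp T x 1 ≠ 0)) := by
  have hcard : Fintype.card F = 2 ∨ Fintype.card F = 3 ∨ Fintype.card F = 4 := by
    have := Fintype.one_lt_card (α := F)
    omega
  have e4 : ∀ x : Fin 4 → Fin m → F, ![x 0, x 1, x 2, x 3] = x := fun x => by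
    funext i; fin_cases i <;> rfl
  have hU : Fintype.card (Fin m → F) = Fintype.card F ^ m := by simp
  rcases (by omega : Fintype.card F = 3 ∨ (Fintype.card F = 2 ∨ Fintype.card F = 4)) with h3 | h2
  · obtain ⟨rfl, -⟩ : m = 1 ∧ True := by rcases hm with h | h <;> [exact ⟨h.1, trivial⟩; omega]
    have : Fact (Nat.Prime 3) := ⟨Nat.prime_three⟩
    have : CharP F 3 := charP_of_card_eq_prime (p := 3) (by rw [h3])
    have e : (Fin 1 → F) ≃+ ZMod 3 :=
      ((LinearEquiv.funUnique (Fin 1) F F).toAddEquiv).trans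
        (ZMod.ringEquivOfPrime F Nat.prime_three h3).symm.toAddEquiv
    have G := OddGood.of_equiv e oddGood_three
    refine ⟨3, by norm_num, oddT, ?_, fun x => ?_, Or.inr ⟨?_, ?_⟩⟩
    · rw [injective_iff_map_eq_zero]
      intro x hx
      obtain ⟨h0, h1, h2, h3⟩ := (G (x 0) (x 1) (x 2) (x 3)).2.1 hx
      funext i; fin_cases i <;> assumption
    · exact ((G (x 0) (x 1) (x 2) (x 3)).1).trans (by rw [e4])
    · intro a ha
      have := FiniteField.pow_card_sub_one_eq_one a ha
      rwa [h3, pow_two] at this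
    · intro x h1 h2 h3 h0
      exact (G (x 0) (x 1) (x 2) (x 3)).2.2 h1 h2 h3 h0
  · have hc2 : ringChar F = 2 := by
      by_contra h
      have := FiniteField.odd_card_of_char_ne_two h
      omega
    have : CharP F 2 := ringChar.of_eq hc2
    let : Algebra (ZMod 2) F := ZMod.algebra F 2
    have hU2 : Fintype.card (Fin m → F) = 2 ∨ Fintype.card (Fin m → F) = 4 := by
      rw [hU]
      rcases hm with ⟨rfl, -⟩ | ⟨rfl, h⟩
      · simpa using h2
      · simp [h]
    have G : EvenGood (Fin m → F) := by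
      rcases exists_addEquiv_two (Fin m → F) hU2 with ⟨⟨e⟩⟩ | ⟨⟨e⟩⟩
      · exact EvenGood.of_equiv e evenGood_two
      · exact EvenGood.of_equiv e evenGood_four
    have hTT : (evenT (m := m) (F := F)).comp evenT = LinearMap.id := LinearMap.ext fun x =>
      ((G (x 0) (x 1) (x 2) (x 3)).2).trans (e4 x)
    refine ⟨2, le_rfl, evenT, Function.LeftInverse.injective (g := evenT) fun x => LinearMap.congr_fun hTT x,
      fun x => ?_, Or.inl ⟨hTT, ?_, ?_⟩⟩
    · exact ((G (x 0) (x 1) (x 2) (x 3)).1).trans (by rw [e4])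
    · intro a ha
      have h : (a - 1) * (a - 1) = 0 := by linear_combination ha - (a - 1) * CharTwo.two_eq_zero (R := F)
      exact sub_eq_zero.mp (mul_self_eq_zero.mp h)
    · intro x h1 h2 h3 h0
      simp [evenT, even4, h1, h2, h3, h0]

/-- Block coordinates for a decomposition. -/
theorem exists_coords {t : ℕ} {D : Fin t → Submodule F (Fin n → F)}
    (hD : Cfsg.Geo.IsMDecomposition m D) :
    ∃ E : (Fin n → F) ≃ₗ[F] (Fin t → Fin m → F),
      ∀ i v, v ∈ D i ↔ ∀ j, j ≠ i → E v j = 0 := by
  classical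
  have hint : DirectSum.IsInternal D :=
    DirectSum.isInternal_submodule_of_iSupIndep_of_iSup_eq_top hD.indep hD.iSup_eq_top
  have hbl : ∀ i, Nonempty (↥(D i) ≃ₗ[F] (Fin m → F)) := fun i =>
    FiniteDimensional.nonempty_linearEquiv_of_finrank_eq (by simp [hD.finrank_eq i])
  let bl := fun i => (hbl i).some
  let L : (Fin n → F) ≃ₗ[F] (∀ i, ↥(D i)) :=
    (LinearEquiv.ofBijective (DirectSum.coeLinearMap D) hint).symm.trans
      (DirectSum.linearEquivFunOnFintype F (Fin t) fun i => ↥(D i))
  have hL : ∀ i (d : ↥(D i)), L d = Pi.single i d := by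
    intro i d
    have : (LinearEquiv.ofBijective (DirectSum.coeLinearMap D) hint).symm (d : Fin n → F) =
        DirectSum.lof F (Fin t) (fun i => ↥(D i)) i d := by
      rw [LinearEquiv.symm_apply_eq]
      exact (DirectSum.coeLinearMap_of D i d).symm
    funext j
    simp only [L, LinearEquiv.trans_apply, this]
    rcases eq_or_ne j i with rfl | hj
    · simp [DirectSum.lof_eq_of]
    · simp [DirectSum.lof_eq_of, DirectSum.of_eq_of_ne _ _ _ hj, Pi.single_eq_of_ne hj]
  refine ⟨L.trans (LinearEquiv.piCongrRight bl), fun i v => ⟨fun hv j hj => ?_, fun h => ?_⟩⟩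
  · simp [hL i ⟨v, hv⟩, Pi.single_eq_of_ne hj]
  · have : L v = Pi.single i (L v i) := by
      funext j
      rcases eq_or_ne j i with rfl | hj
      · simp
      · rw [Pi.single_eq_of_ne hj]
        simpa [EmbeddingLike.map_eq_zero_iff] using h j hj
    rw [← hL i, L.injective.eq_iff] at this
    exact this ▸ (L v i).2

theorem main [Fintype F] (hn : 13 ≤ n) {t : ℕ} {D : Fin t → Submodule F (Fin n → F)}
    (hD : Cfsg.Geo.IsMDecomposition m D)
    (h : (m = 1 ∧ Fintype.card F ≤ 4) ∨ (m = 2 ∧ Fintype.card F = 2)) :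
    ∃ K : Subgroup (GL (Fin n) F),
      Cfsg.Geo.decompositionStabilizer D ⊓ Cfsg.Geo.specialLinear (Fin n) F < K ∧
        K < Cfsg.Geo.specialLinear (Fin n) F := by
  classical
  obtain ⟨E, hE⟩ := exists_coords hD
  have htm : n = t * m := by
    have := E.finrank_eq
    simpa [Module.finrank_pi_fintype] using this
  obtain ⟨r, rfl⟩ : ∃ r, t = 4 + r := ⟨t - 4, by
    rcases h with ⟨rfl, -⟩ | ⟨rfl, -⟩ <;> omega⟩
  obtain ⟨p, hp, T, hTinj, hTcnt, hTcase⟩ := exists_mix (m := m) h
  let K : Subgroup (GL (Fin n) F) :=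
    { carrier := {g | ∀ v, cnt p (E (act g v)) = cnt p (E v)}
      one_mem' := fun v => by rw [act_one]
      mul_mem' := fun {a b} ha hb v => by rw [act_mul, ha, hb]
      inv_mem' := fun {a} ha v => by rw [← ha (act a⁻¹ v), act_act_inv] }
  -- invertible extension of a map on the first four blocks
  have mk : ∀ S : (Fin 4 → Fin m → F) →ₗ[F] (Fin 4 → Fin m → F), Function.Injective S →
      ∃ g : GL (Fin n) F, ∀ v, E (act g v) = extend4 S (E v) := by
    intro S hS
    let L := LinearEquiv.ofBijective ((E.symm.toLinearMap.comp (extend4 S)).comp E.toLinearMap)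
      (Function.Injective.bijective_of_finite
        ((E.symm.injective.comp (extend4_injective hS)).comp E.injective))
    refine ⟨⟨LinearMap.toMatrix' L.toLinearMap, LinearMap.toMatrix' L.symm.toLinearMap, ?_, ?_⟩,
      fun v => ?_⟩
    · rw [← LinearMap.toMatrix'_comp, L.comp_symm]; simp
    · rw [← LinearMap.toMatrix'_comp, L.symm_comp]; simp
    · simp [act_apply, LinearMap.toMatrix'_mulVec, L]
  obtain ⟨g, hg⟩ := mk T hTinj
  have hgK : g ∈ K := fun v => by rw [hg, cnt_extend4 p hTcnt]
  have hHK : Cfsg.Geo.decompositionStabilizer D ≤ K := by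
    rintro a ⟨σ, hσ⟩ v
    have hcomp : ∀ (w : Fin n → F) i, E.symm (Pi.single i (E w i)) ∈ D i := fun w i =>
      (hE i _).mpr fun j hj => by simp [Pi.single_eq_of_ne hj]
    have hv : v = ∑ i, E.symm (Pi.single i (E v i)) := by
      rw [← map_sum, Finset.univ_sum_single, E.symm_apply_apply]
    have hmap : ∀ i, act a (E.symm (Pi.single i (E v i))) ∈ D (σ i) := fun i =>
      (hσ i) ▸ Submodule.mem_map_of_mem (hcomp v i)
    have hval : ∀ i, E (act a v) (σ i) = E (act a (E.symm (Pi.single i (E v i)))) (σ i) := by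
      intro i
      conv_lhs => rw [hv, map_sum, map_sum, Finset.sum_apply]
      refine Finset.sum_eq_single i (fun j _ hji => ?_) (by simp)
      exact (hE (σ j) _).mp (hmap j) _ (σ.injective.ne hji.symm)
    simp only [cnt]
    rw [← Equiv.sum_comp σ]
    refine Finset.sum_congr rfl fun i _ => ?_
    have : E (act a v) (σ i) = 0 ↔ E v i = 0 := by
      rw [hval]
      constructor
      · intro h0
        have hz : E (act a (E.symm (Pi.single i (E v i)))) = 0 := by
          funext j
          rcases eq_or_ne j (σ i) with rfl | hj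
          · exact h0
          · exact (hE (σ i) _).mp (hmap i) j hj
        have h1 := E.map_eq_zero_iff.mp hz
        rw [map_eq_zero_iff _ (act_injective a), E.symm.map_eq_zero_iff] at h1
        simpa using congrFun h1 i
      · intro h0; simp [h0]
    simp only [this]
  -- vectors supported on one of the blocks
  let i0 : Fin (4 + r) := Fin.castAdd r 0
  let i1 : Fin (4 + r) := Fin.castAdd r 1
  have h01 : i0 ≠ i1 := by simp [i0, i1, Fin.ext_iff]
  have hm0 : 0 < m := hD.pos
  let u : Fin m → F := Pi.single ⟨0, hm0⟩ 1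
  have hu : u ≠ 0 := by simp [u]
  let v0 := E.symm (Pi.single i0 u)
  have hv0 : v0 ∈ D i0 := (hE i0 _).mpr fun j hj => by simp [v0, Pi.single_eq_of_ne hj]
  have hx : (fun i : Fin 4 => E v0 (Fin.castAdd r i)) = Pi.single 0 u := by
    funext i
    fin_cases i <;> simp [v0, i0, Fin.ext_iff]
  have notstab : ∀ a : GL (Fin n) F, ∀ i j : Fin (4 + r), i ≠ j →
      E (act a v0) i ≠ 0 → E (act a v0) j ≠ 0 → a ∉ Cfsg.Geo.decompositionStabilizer D := by
    rintro a i j hij hi hj ⟨σ, hσ⟩
    have hm : act a v0 ∈ D (σ i0) := (hσ i0) ▸ Submodule.mem_map_of_mem hv0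
    rcases eq_or_ne i (σ i0) with e | e
    · exact hj ((hE _ _).mp hm j (e ▸ hij.symm))
    · exact hi ((hE _ _).mp hm i e)
  obtain ⟨a, haK, haS, haD⟩ : ∃ a, a ∈ K ∧ a ∈ Cfsg.Geo.specialLinear (Fin n) F ∧
      a ∉ Cfsg.Geo.decompositionStabilizer D := by
    set δ := Matrix.GeneralLinearGroup.det g with hδ
    rcases hTcase with ⟨hTT, hsq, hmove⟩ | ⟨hsq, hmove⟩
    · refine ⟨g, hgK, MonoidHom.mem_ker.mpr (Units.ext (hsq _ ?_)), ?_⟩
      · have hgg : g * g = 1 := gl_ext fun v => E.injective (by
          rw [act_mul, act_one, hg, hg, ← LinearMap.comp_apply, extend4_comp, hTT, extend4_id]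
          rfl)
        rw [← Units.val_mul, ← map_mul, hgg, map_one, Units.val_one]
      · obtain ⟨m1, m2⟩ := hmove (fun i => E v0 (Fin.castAdd r i)) (by simp [v0, i0, Fin.ext_iff])
          (by simp [v0, i0, Fin.ext_iff]) (by simp [v0, i0, Fin.ext_iff]) (by simp [v0, i0, hu])
        refine notstab g (Fin.castAdd r 1) (Fin.castAdd r 2) (by simp [Fin.ext_iff]) ?_ ?_ <;>
          rw [hg] <;> simp [extend4, m1, m2]
    · refine ⟨g * g, K.mul_mem hgK hgK, MonoidHom.mem_ker.mpr (Units.ext ?_), ?_⟩
      · rw [map_mul, Units.val_mul, hsq _ (Units.ne_zero _), Units.val_one]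
      · obtain ⟨m1, m2⟩ := hmove (fun i => E v0 (Fin.castAdd r i)) (by simp [v0, i0, Fin.ext_iff])
          (by simp [v0, i0, Fin.ext_iff]) (by simp [v0, i0, Fin.ext_iff]) (by simp [v0, i0, hu])
        rw [LinearMap.comp_apply] at m1 m2
        refine notstab (g * g) i0 i1 h01 ?_ ?_ <;>
          rw [act_mul, hg, hg, ← LinearMap.comp_apply, extend4_comp] <;>
          simp [extend4, i0, i1, m1, m2]
  refine ⟨K ⊓ Cfsg.Geo.specialLinear (Fin n) F, ?_, ?_⟩
  · refine lt_of_le_of_ne (inf_le_inf_right _ hHK) fun e => haD ?_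
    have ha : a ∈ K ⊓ Cfsg.Geo.specialLinear (Fin n) F := ⟨haK, haS⟩
    rw [← e] at ha
    exact ha.1
  · -- a transvection changing the number of non-zero blocks
    let w := E.symm (Pi.single i1 u)
    have hne : v0 ∉ F ∙ w := fun h => by
      obtain ⟨c, hc⟩ := Submodule.mem_span_singleton.mp h
      have := congrFun (congrArg E hc) i0
      simp [v0, w, Pi.single_eq_of_ne h01] at this
      exact hu this.symm
    obtain ⟨φ, h0, h1⟩ := exists_dual _ hne
    have hz : φ w = 0 := h0 w (Submodule.mem_span_singleton_self w)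
    refine lt_of_le_of_ne inf_le_right fun e => ?_
    have hS : tv φ w ∈ Cfsg.Geo.specialLinear (Fin n) F :=
      MonoidHom.mem_ker.mpr (Units.ext (by simpa [hz] using det_eq_of_fix_hyperplane (act_tv hz)))
    have hK' : tv φ w ∈ K := (e.symm ▸ hS : tv φ w ∈ K ⊓ _).1
    have hk := hK' v0
    rw [act_tv hz, h1, one_smul, map_add] at hk
    simp only [cnt, v0, w, LinearEquiv.apply_symm_apply] at hk
    have two : ∀ j, (if (Pi.single i0 u + Pi.single i1 u : Fin (4 + r) → Fin m → F) j = 0
        then (0 : ZMod p) else 1) = (if j = i0 then 1 else 0) + (if j = i1 then 1 else 0) := by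
      intro j
      rcases eq_or_ne j i0 with rfl | e0
      · simp [h01, hu]
      · rcases eq_or_ne j i1 with rfl | e1
        · simp [h01.symm, hu]
        · simp [e0, e1]
    have one : ∀ j, (if (Pi.single i0 u : Fin (4 + r) → Fin m → F) j = 0 then (0 : ZMod p) else 1)
        = (if j = i0 then 1 else 0) := by
      intro j
      rcases eq_or_ne j i0 with rfl | e0
      · simp [hu]
      · simp [e0]
    simp only [two, one, Finset.sum_add_distrib, Finset.sum_ite_eq', Finset.mem_univ, if_true,
      add_eq_left] at hk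
    have : Fact (1 < p) := ⟨by omega⟩
    exact one_ne_zero hk

end Blocks

/-- For a finite field F with q elements and n ≥ 13, let D be a decomposition of F^n into t ≥ 2 independent subspaces of equal dimension m spanning F^n, where m = 1 and q ≤ 4, or m = 2 and q = 2. Then the elements of SL_n(F) permuting the members of D form a subgroup that is not maximal: some subgroup lies strictly between it and SL_n(F). -/
theorem result {F : Type*} [Field F] [Fintype F] (n : ℕ) (hn : 13 ≤ n) {t : ℕ} (m : ℕ) (D : Fin t → Submodule F (Fin n → F)) (hD : Cfsg.Geo.IsMDecomposition m D) (h : (m = 1 ∧ Fintype.card F ≤ 4) ∨ (m = 2 ∧ Fintype.card F = 2)) : ∃ K : Subgroup (Matrix.GeneralLinearGroup (Fin n) F), Cfsg.Geo.decompositionStabilizer D ⊓ Cfsg.Geo.specialLinear (Fin n) F < K ∧ K < Cfsg.Geo.specialLinear (Fin n) F := by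
  exact main hn hD h

end Cfsg.Agent.S5635
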