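import Cfsg.Statements.S5637
import Cfsg.Agent.Lib.MaxCl.TensorMax
import Cfsg.Agent.Lib.Aschbacher.MatrixUnits

set_option autoImplicit false
open Cfsg
open scoped Matrix MatrixGroups

namespace Cfsg.Agent.S5637

/-- For a finite field F with q elements and n = n₁ n₂ ≥ 13 with 2 ≤ n₁ < n₂, excluding n₁ = q = 2, the stabiliser in SL_n(F) of a tensor decomposition F^n ≅ F^(n₁) ⊗ F^(n₂) (the conjugate by any P of the Kronecker-product subgroup transported along any bijection Fin n ≃ Fin n₁ × Fin n₂, intersected with SL_n(F)) is a maximal subgroup of SL_n(F). -/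
theorem result {F : Type*} [Field F] [Fintype F] (n : ℕ) (hn : 13 ≤ n) (n₁ n₂ : ℕ) (h1 : 2 ≤ n₁) (h12 : n₁ < n₂) (hex : ¬ (n₁ = 2 ∧ Fintype.card F = 2)) (e : Fin n ≃ Fin n₁ × Fin n₂) (P : Matrix.GeneralLinearGroup (Fin n) F) : Cfsg.Geo.IsMaximalIn (Cfsg.Geo.specialLinear (Fin n) F) (Cfsg.Geo.tensorProductSubgroup n₁ n₂ e P ⊓ Cfsg.Geo.specialLinear (Fin n) F) := by
  classical
  let E := Cfsg.Agent.Aschbacher.coordGL e P
  have hsl : ∀ g, E g ∈ Cfsg.Geo.specialLinear (Fin n) F ↔ g ∈ Cfsg.Geo.specialLinear (Fin n₁ × Fin n₂) F :=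
    fun g => by
      rw [MaxCl.TP.mem_sl_iff, MaxCl.TP.mem_sl_iff, Cfsg.Agent.Aschbacher.coordGL_eq]
      simp [Cfsg.Geo.glReindex, mul_comm (P : Matrix (Fin n) (Fin n) F).det]
      rw [mul_assoc, mul_inv_cancel₀ (show (P : Matrix (Fin n) (Fin n) F).det ≠ 0 from (Matrix.GeneralLinearGroup.det P).ne_zero), mul_one]
  have hkr : ∀ g, E g ∈ Cfsg.Geo.tensorProductSubgroup n₁ n₂ e P ↔ g ∈ MaxCl.TP.Kron (Fin n₁) (Fin n₂) F := by
    intro g
    constructor
    · rintro ⟨_, ⟨h, ⟨a, b, hab⟩, rfl⟩, he⟩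
      refine ⟨(a, b), E.injective ?_⟩
      rw [show MaxCl.TP.kr (a, b) = h from Units.ext hab.symm, Cfsg.Agent.Aschbacher.coordGL_eq]
      exact he
    · rintro ⟨⟨a, b⟩, rfl⟩
      exact ⟨_, ⟨MaxCl.TP.kr (a, b), ⟨a, b, rfl⟩, rfl⟩, (Cfsg.Agent.Aschbacher.coordGL_eq e P _).symm⟩
  have ha : 2 ≤ Fintype.card (Fin n₁) := by rwa [Fintype.card_fin]
  have hab : Fintype.card (Fin n₁) < Fintype.card (Fin n₂) := by rwa [Fintype.card_fin, Fintype.card_fin]
  refine ⟨lt_of_le_of_ne inf_le_right fun heq => ?_, fun M hHM hMS => ?_⟩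
  · obtain ⟨i, k, hik⟩ := Fintype.exists_pair_of_one_lt_card (α := Fin n₁) (by omega)
    obtain ⟨j, l, hjl⟩ := Fintype.exists_pair_of_one_lt_card (α := Fin n₂) (by omega)
    have hne : ((i, j) : Fin n₁ × Fin n₂) ≠ (k, l) := fun h => hik (congrArg Prod.fst h)
    have hel : MaxCl.TP.el (i, j) (k, l) (1 : F) ∈ Cfsg.Geo.specialLinear (Fin n₁ × Fin n₂) F := by
      rw [MaxCl.TP.mem_sl_iff, MaxCl.TP.el, MaxCl.det_eq_of_fix_hyperplane (MaxCl.act_tv (by simp [hne.symm]))]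
      simp [hne.symm]
    obtain ⟨u, w, huw⟩ := MaxCl.TP.exists_of_mem ((hkr _).1 ((inf_eq_right.1 heq) ((hsl _).2 hel)))
    have h := congrArg (fun g => MaxCl.act g (MaxCl.TP.pv (Pi.single k 1) (Pi.single l 1))) huw
    simp only [MaxCl.TP.act_el hne, MaxCl.TP.act_kr_pv, MaxCl.TP.pv_apply, Pi.single_eq_same, mul_one, one_smul] at h
    have e1 := congrFun h (i, j)
    have e2 := congrFun h (k, l)
    have e3 := congrFun h (i, l)
    simp [MaxCl.TP.pv_apply, hik, hik.symm, hjl, hjl.symm, hne, hne.symm] at e1 e2 e3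
    rcases e3 with h3 | h3 <;> simp [h3] at e1 e2
  · by_cases hsub : M ≤ Cfsg.Geo.tensorProductSubgroup n₁ n₂ e P
    · exact Or.inl (le_antisymm (le_inf hsub hMS) hHM)
    refine Or.inr (le_antisymm hMS fun x hx => ?_)
    obtain ⟨x, rfl⟩ := E.surjective x
    have hex' : 3 ≤ Fintype.card (Fin n₁) ∨ ∀ x : F, ∃ c : F, c ≠ 0 ∧ c ≠ x := by
      by_cases hq : 3 ≤ Fintype.card F
      · right
        intro x
        by_contra hc
        push Not at hc
        have h1 : Fintype.card F ≤ ({0, x} : Finset F).card := Finset.card_le_card fun c _ => by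
          by_cases hc0 : c = 0
          · simp [hc0]
          · simp [hc c hc0]
        have h2 := Finset.card_le_two (a := (0 : F)) (b := x)
        omega
      · left
        rw [Fintype.card_fin]
        have := Fintype.one_lt_card (α := F)
        by_contra hlt
        exact hex ⟨by omega, by omega⟩
    have hover : MaxCl.TP.Over (M.comap E.toMonoidHom) := ⟨fun g hg => (hsl g).1 (hMS hg),
      fun g hg => hHM ⟨(hkr g).2 hg.1, (hsl g).2 hg.2⟩⟩
    by_contra hxM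
    refine hsub fun y hy => ?_
    obtain ⟨y, rfl⟩ := E.surjective y
    exact (hkr y).2 (MaxCl.TP.le_kron hex' ha hab hover (fun hle => hxM (hle ((hsl x).1 hx))) hy)

end Cfsg.Agent.S5637
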