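import Cfsg.Statements.S5638
import Cfsg.Prelude.Def_GeometricClasses
-- import your own Cfsg.Agent.* helpers here

set_option autoImplicit false
open Cfsg

namespace Cfsg.Agent.S5638

open scoped MatrixGroups Kronecker

section

variable {F : Type*} [Field F] [Fintype F]

theorem two_elements (hq : Fintype.card F = 2) (a : F) : a = 0 ∨ a = 1 := by
  classical
  have h : ({0, 1} : Finset F) = Finset.univ := Finset.eq_univ_of_card _ (by simp [hq])
  have := h.symm ▸ Finset.mem_univ a
  simpa using this

/-- A generator of the subgroup of order 3 of GL₂(2). -/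
def omega (F : Type*) [Field F] : Matrix (Fin 2) (Fin 2) F := !![0, 1; 1, 1]

omit [Fintype F] in
theorem omega_sq (hF : (1 : F) + 1 = 0) : omega F * omega F = !![1, 1; 1, 0] := by
  ext i j; fin_cases i <;> fin_cases j <;> simp [omega, Matrix.mul_apply, Fin.sum_univ_two, hF]

omit [Fintype F] in
theorem omega_mul_sq (hF : (1 : F) + 1 = 0) :
    omega F * !![1, 1; 1, 0] = 1 ∧ !![1, 1; 1, 0] * omega F = 1 := by
  constructor <;> ext i j <;> fin_cases i <;> fin_cases j <;>
    simp [omega, Matrix.mul_apply, Fin.sum_univ_two, hF]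

theorem normalizes (hq : Fintype.card F = 2) (hF : (1 : F) + 1 = 0) (a : Matrix (Fin 2) (Fin 2) F)
    (ha : a.det ≠ 0) : a * omega F = omega F * a ∨ a * omega F = !![1, 1; 1, 0] * a := by
  have e : a = !![a 0 0, a 0 1; a 1 0, a 1 1] := Matrix.eta_fin_two a
  rw [e] at ha ⊢
  generalize a 0 0 = p, a 0 1 = q, a 1 0 = r, a 1 1 = s at *
  rcases two_elements hq p with rfl | rfl <;> rcases two_elements hq q with rfl | rfl <;>
    rcases two_elements hq r with rfl | rfl <;> rcases two_elements hq s with rfl | rfl <;>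
    simp [omega, Matrix.det_fin_two, hF] at ha ⊢

/-- `Ω ⊗ 1` as an invertible matrix. -/
def omegaTensor (n₂ : ℕ) (hF : (1 : F) + 1 = 0) : GL (Fin 2 × Fin n₂) F where
  val := omega F ⊗ₖ (1 : Matrix (Fin n₂) (Fin n₂) F)
  inv := !![1, 1; 1, 0] ⊗ₖ (1 : Matrix (Fin n₂) (Fin n₂) F)
  val_inv := by rw [← Matrix.mul_kronecker_mul, (omega_mul_sq hF).1, Matrix.one_mul,
    Matrix.one_kronecker_one]
  inv_val := by rw [← Matrix.mul_kronecker_mul, (omega_mul_sq hF).2, Matrix.one_mul,
    Matrix.one_kronecker_one]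

theorem main (hq : Fintype.card F = 2) (n₂ : ℕ) (h2 : 2 ≤ n₂) :
    ∃ K : Subgroup (GL (Fin 2 × Fin n₂) F), Cfsg.Geo.kroneckerSubgroup 2 n₂ F < K ∧ K < ⊤ := by
  classical
  have : CharP F 2 := ringChar.of_eq (by
    by_contra h
    have := FiniteField.odd_card_of_char_ne_two h
    omega)
  have hF : (1 : F) + 1 = 0 := CharTwo.add_self_eq_zero 1
  set j := omegaTensor n₂ hF
  have hfin : Finite (GL (Fin 2 × Fin n₂) F) := inferInstance
  have hK : ∀ g : GL (Fin 2 × Fin n₂) F, g * j * g⁻¹ ∈ Subgroup.zpowers j →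
      g ∈ Subgroup.normalizer (Subgroup.zpowers j : Set (GL (Fin 2 × Fin n₂) F)) := by
    intro g hg
    have hle : (Subgroup.zpowers j).map (MulAut.conj g).toMonoidHom ≤ Subgroup.zpowers j := by
      rw [MonoidHom.map_zpowers, Subgroup.zpowers_le]; exact hg
    have heq := Subgroup.eq_of_le_of_card_ge hle
      (Subgroup.card_map_of_injective (MulAut.conj g).injective).ge
    rw [Subgroup.mem_normalizer_iff]
    intro h
    constructor
    · intro hh; exact hle ⟨h, hh, rfl⟩
    · intro hh
      rw [← heq] at hh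
      obtain ⟨x, hx, e⟩ := hh
      exact (MulAut.conj g).injective e ▸ hx
  let g₀ : Fin n₂ := ⟨0, by omega⟩
  let g₁ : Fin n₂ := ⟨1, by omega⟩
  have hne : g₀ ≠ g₁ := by simp [g₀, g₁]
  -- an element centralising `j` outside the Kronecker subgroup
  let d : Matrix (Fin n₂) (Fin n₂) F := Matrix.diagonal fun k => if k = g₀ then 1 else 0
  let d' : Matrix (Fin n₂) (Fin n₂) F := Matrix.diagonal fun k => if k = g₀ then 0 else 1
  have hd : d * d = d ∧ d' * d' = d' ∧ d * d' = 0 ∧ d' * d = 0 ∧ d + d' = 1 := by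
    simp only [d, d', Matrix.diagonal_mul_diagonal, Matrix.diagonal_add]
    refine ⟨?_, ?_, ?_, ?_, ?_⟩
    · congr 1; funext k; split_ifs <;> simp
    · congr 1; funext k; split_ifs <;> simp
    · rw [Matrix.diagonal_eq_zero]; funext k; split_ifs <;> simp
    · rw [Matrix.diagonal_eq_zero]; funext k; split_ifs <;> simp
    · rw [← Matrix.diagonal_one]; congr 1; funext k; split_ifs <;> simp
  let C : GL (Fin 2 × Fin n₂) F :=
    { val := omega F ⊗ₖ d + (1 : Matrix (Fin 2) (Fin 2) F) ⊗ₖ d'
      inv := !![1, 1; 1, 0] ⊗ₖ d + (1 : Matrix (Fin 2) (Fin 2) F) ⊗ₖ d'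
      val_inv := by
        simp only [add_mul, mul_add, ← Matrix.mul_kronecker_mul, hd.1, hd.2.1, hd.2.2.1, hd.2.2.2.1,
          (omega_mul_sq hF).1, Matrix.kronecker_zero, add_zero, zero_add, Matrix.one_mul]
        rw [← Matrix.kronecker_add, hd.2.2.2.2, Matrix.one_kronecker_one]
      inv_val := by
        simp only [add_mul, mul_add, ← Matrix.mul_kronecker_mul, hd.1, hd.2.1, hd.2.2.1, hd.2.2.2.1,
          (omega_mul_sq hF).2, Matrix.kronecker_zero, add_zero, zero_add, Matrix.one_mul]
        rw [← Matrix.kronecker_add, hd.2.2.2.2, Matrix.one_kronecker_one] }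
  refine ⟨Subgroup.normalizer (Subgroup.zpowers j : Set (GL (Fin 2 × Fin n₂) F)),
    SetLike.lt_iff_le_and_exists.mpr ⟨?_, C, ?_, ?_⟩, ?_⟩
  · rintro g ⟨a, b, hg⟩
    refine hK g ?_
    have hdet : (a : Matrix (Fin 2) (Fin 2) F).det ≠ 0 := (Matrix.isUnits_det_units a).ne_zero
    rcases normalizes hq hF _ hdet with e | e
    · have : g * j = j * g := Units.ext (by
        simp only [Units.val_mul, hg, j, omegaTensor, ← Matrix.mul_kronecker_mul, e,
          Matrix.one_mul, Matrix.mul_one])
      rw [this, mul_inv_cancel_right]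
      exact Subgroup.mem_zpowers j
    · have : g * j = j⁻¹ * g := Units.ext (by
        simp only [Units.val_mul, hg, j, omegaTensor, Units.inv_mk, ← Matrix.mul_kronecker_mul, e,
          Matrix.one_mul, Matrix.mul_one])
      rw [this, mul_inv_cancel_right]
      exact Subgroup.inv_mem _ (Subgroup.mem_zpowers j)
  · refine hK C ?_
    have : C * j = j * C := Units.ext (by
      simp only [Units.val_mul, C, j, omegaTensor, add_mul, mul_add, ← Matrix.mul_kronecker_mul,
        Matrix.one_mul, Matrix.mul_one])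
    rw [this, mul_inv_cancel_right]
    exact Subgroup.mem_zpowers j
  · rintro ⟨a, b, hab⟩
    have h := fun (i k : Fin 2) (l : Fin n₂) => congrFun (congrFun hab (i, l)) (k, l)
    have h000 := h 0 0 g₁
    have h010 := h 0 1 g₁
    have h01 := h 0 1 g₀
    simp [C, d, d', omega, Matrix.kroneckerMap_apply, hne.symm] at h000 h010 h01
    rcases h010 with h | h
    · rw [h, zero_mul] at h01; exact one_ne_zero h01
    · rw [h, mul_zero] at h000; exact one_ne_zero h000
  · refine lt_top_iff_ne_top.mpr fun htop => ?_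
    let T : GL (Fin 2 × Fin n₂) F :=
      { val := Matrix.transvection (0, g₀) (0, g₁) 1
        inv := Matrix.transvection (0, g₀) (0, g₁) (-1)
        val_inv := by rw [Matrix.transvection_mul_transvection_same _ _ (by simp [hne]),
          add_neg_cancel, Matrix.transvection_zero]
        inv_val := by rw [Matrix.transvection_mul_transvection_same _ _ (by simp [hne]),
          neg_add_cancel, Matrix.transvection_zero] }
    have hT : T ∈ Subgroup.normalizer (Subgroup.zpowers j : Set (GL (Fin 2 × Fin n₂) F)) :=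
      htop ▸ Subgroup.mem_top T
    have hmem := (Subgroup.mem_normalizer_iff.mp hT j).mp (Subgroup.mem_zpowers j)
    obtain ⟨k, hk⟩ := Subgroup.mem_zpowers_iff.mp hmem
    have hsq : j * j = j⁻¹ := Units.ext (by
      simp only [Units.val_mul, j, omegaTensor, Units.inv_mk, ← Matrix.mul_kronecker_mul,
        omega_sq hF, Matrix.one_mul])
    have hcases : ∀ k : ℤ, j ^ k = 1 ∨ j ^ k = j ∨ j ^ k = j⁻¹ := by
      intro k
      induction k using Int.induction_on with
      | zero => simp
      | succ k ih =>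
        rw [zpow_add, zpow_one]
        rcases ih with e | e | e <;> rw [e] <;> simp [hsq]
      | pred k ih =>
        rw [zpow_sub, zpow_one]
        rcases ih with e | e | e <;> rw [e]
        · simp
        · simp
        · right; left
          calc j⁻¹ * j⁻¹ = (j * j) * j⁻¹ := by rw [hsq]
            _ = j := by group
    have hcomb : T * j = T ∨ T * j = j * T ∨ T * j = j⁻¹ * T := by
      have e : T * j = j ^ k * T := by rw [hk]; group
      rcases hcases k with h | h | h <;> rw [h] at e <;> simp at e ⊢ <;> tauto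
    have ent : ∀ M : GL (Fin 2 × Fin n₂) F, T * j = M →
        (M : Matrix (Fin 2 × Fin n₂) (Fin 2 × Fin n₂) F) (0, g₀) (1, g₁) = 1 := by
      intro M hM
      rw [← hM]
      simp [T, j, omegaTensor, omega, Matrix.transvection_mul_apply_same, hne]
    rcases hcomb with e | e | e
    all_goals
      have := ent _ e
      simp [T, j, omegaTensor, omega, Matrix.mul_transvection_apply_of_ne, Matrix.transvection,
        Matrix.mul_add, Matrix.mul_single_apply_of_ne, hne] at this

end

/-- Over the field with 2 elements, for n = 2 n₂ ≥ 13, the stabiliser in SL_n of a tensor decomposition with factors of dimensions 2 and n₂ (the conjugate by any P of the Kronecker-product subgroup transported along any bijection Fin n ≃ Fin 2 × Fin n₂, intersected with SL_n) is not a maximal subgroup: some subgroup lies strictly between it and SL_n. -/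
theorem result {F : Type*} [Field F] [Fintype F] (n : ℕ) (hn : 13 ≤ n) (hq : Fintype.card F = 2) (n₂ : ℕ) (e : Fin n ≃ Fin 2 × Fin n₂) (P : Matrix.GeneralLinearGroup (Fin n) F) : ∃ K : Subgroup (Matrix.GeneralLinearGroup (Fin n) F), Cfsg.Geo.tensorProductSubgroup 2 n₂ e P ⊓ Cfsg.Geo.specialLinear (Fin n) F < K ∧ K < Cfsg.Geo.specialLinear (Fin n) F := by
  have hn₂ : n = 2 * n₂ := by simpa using Fintype.card_congr e
  obtain ⟨K, hlt, htop⟩ := main hq n₂ (by omega)
  set Ψ := (Cfsg.Geo.glReindex (F := F) e.symm).trans (MulAut.conj P)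
  have hSL : Cfsg.Geo.specialLinear (Fin n) F = ⊤ := eq_top_iff.mpr fun g _ =>
    MonoidHom.mem_ker.mpr (Units.ext ((two_elements hq _).resolve_left (Units.ne_zero _)))
  have hT : Cfsg.Geo.tensorProductSubgroup 2 n₂ e P =
      (Cfsg.Geo.kroneckerSubgroup 2 n₂ F).map Ψ.toMonoidHom := by
    rw [Cfsg.Geo.tensorProductSubgroup, Subgroup.map_map]
    rfl
  refine ⟨K.map Ψ.toMonoidHom, ?_, ?_⟩
  · rw [hSL, inf_top_eq, hT]
    exact (Subgroup.map_lt_map_iff_of_injective Ψ.injective).mpr hlt
  · rw [hSL, ← Subgroup.map_top_of_surjective Ψ.toMonoidHom Ψ.surjective]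
    exact (Subgroup.map_lt_map_iff_of_injective Ψ.injective).mpr htop

end Cfsg.Agent.S5638
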