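import Cfsg.Statements.S5641
import Cfsg.Agent.Lib.MaxCl.PowerMax
import Cfsg.Agent.Lib.Aschbacher.TensorNormal

set_option autoImplicit false
open Cfsg
open scoped Matrix MatrixGroups

namespace Cfsg.Agent.S5641

open Cfsg.Agent.MaxCl

variable {F : Type*} [Field F] {m t : ℕ}

theorem standard_eq : Geo.tensorWreathStandard m t F = TW.Wr (Fin t) m F := by
  refine le_antisymm ((Subgroup.closure_le _).2 ?_) fun g hg => ?_
  · rintro g (⟨gs, hgs⟩ | ⟨σ, hσ⟩)
    · rw [show g = TW.tk gs from Units.ext (Matrix.ext hgs)]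
      exact TW.tk_mem gs
    · rw [show g = TW.pg σ from Units.ext (Matrix.ext hσ)]
      exact TW.pg_mem σ
  · obtain ⟨σ, u, rfl⟩ := TW.exists_of_mem_wr hg
    refine mul_mem ?_ ?_
    · rw [show (TW.pg σ : GL (Fin t → Fin m) F) = Aschbacher.permGL σ from Units.ext rfl]
      exact Aschbacher.permGL_mem σ
    · rw [show TW.tk u = Aschbacher.pureGL u from Units.ext (Matrix.ext fun _ _ => rfl)]
      exact Aschbacher.pureGL_mem u

theorem sq_one_pow {d : F} (h : d * d = 1) {k : ℕ} (hk : Even k) : d ^ k = 1 := by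
  obtain ⟨r, rfl⟩ := hk
  rw [pow_add, ← mul_pow, h, one_pow]

theorem exists_perm_det {S : Type} [Fintype S] [DecidableEq S] (hm : 3 ≤ m) (h3 : 3 ≤ Fintype.card S)
    (σ : Equiv.Perm S) : ∃ u : S → GL (Fin m) F,
      ((TW.pg σ * TW.tk u : GL (S → Fin m) F) : Matrix (S → Fin m) (S → Fin m) F).det = 1 := by
  classical
  induction σ using Equiv.Perm.swap_induction_on with
  | one => exact ⟨1, by rw [TW.pg_one, map_one, mul_one, Units.val_one, Matrix.det_one]⟩
  | swap_mul f p q hpq ih =>
    obtain ⟨v, hv⟩ := ih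
    obtain ⟨w, hw⟩ : ∃ w : S → GL (Fin m) F, ((TW.pg (Equiv.swap p q) * TW.tk w : GL (S → Fin m) F) :
        Matrix (S → Fin m) (S → Fin m) F).det = 1 := by
      set π : GL (S → Fin m) F := TW.pg (Equiv.swap p q) with hπ
      set d := (π : Matrix (S → Fin m) (S → Fin m) F).det with hd
      have hd2 : d * d = 1 := by
        rw [hd, ← Matrix.det_mul, ← Units.val_mul, hπ, ← TW.pg_mul, Equiv.swap_mul_self, TW.pg_one, Units.val_one,
          Matrix.det_one]
      rcases Nat.even_or_odd m with he | ho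
      · obtain ⟨o, hop, hoq⟩ : ∃ o, o ≠ p ∧ o ≠ q := by
          by_contra hc
          push Not at hc
          have h1 : Fintype.card S ≤ ({p, q} : Finset S).card := Finset.card_le_card fun x _ => by
            by_cases hx : x = p
            · simp [hx]
            · simp [hc x hx]
          have h2 := Finset.card_le_two (a := p) (b := q)
          omega
        have hfix : ∀ r, r = o ↔ Equiv.swap p q r = o := fun r => by
          constructor
          · rintro rfl
            exact Equiv.swap_apply_of_ne_of_ne hop hoq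
          · intro h
            rw [← Equiv.swap_apply_self p q r, h, Equiv.swap_apply_of_ne_of_ne hop hoq]
        set σ' : Equiv.Perm {r // r ≠ o} := (Equiv.swap p q).subtypePerm (p := fun r => r ≠ o)
          fun r => not_congr (hfix r).symm with hσ'
        have hσ : Equiv.Perm.ofSubtype σ' = Equiv.swap p q :=
          Equiv.Perm.ofSubtype_subtypePerm _ fun r hr e => hr (by
            rw [e]
            exact Equiv.swap_apply_of_ne_of_ne hop hoq)
        refine ⟨1, ?_⟩
        rw [map_one, mul_one, ← TW.det_rid o, hπ, ← hσ, TW.rid_pg, TP.det_kr, Units.val_one, Matrix.det_one, one_pow,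
          mul_one, Fintype.card_fin]
        refine sq_one_pow ?_ he
        rw [← Matrix.det_mul, ← Units.val_mul, ← TW.pg_mul,
          show σ' * σ' = 1 from Equiv.ext fun r => Subtype.ext (by simp [hσ']), TW.pg_one, Units.val_one,
          Matrix.det_one]
      · have hd0 : d ≠ 0 := fun e => by simp [e] at hd2
        obtain ⟨D, -, -, -, hD⟩ := TW.exists_diag (⟨0, by omega⟩ : Fin m) hd0
        refine ⟨Pi.mulSingle p D, ?_⟩
        rw [Units.val_mul, Matrix.det_mul, ← TW.rt_eq, ← TW.det_rid p (TW.rt p D), TW.rid_rt, TP.det_kr, hD,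
          Units.val_one, Matrix.det_one, one_pow, one_mul, ← hd, Fintype.card_fun, Fintype.card_fin]
        obtain ⟨r, hr⟩ := ho.pow (n := Fintype.card {q // q ≠ p})
        rw [hr, pow_succ', ← mul_assoc, hd2, one_mul, pow_mul, pow_two, hd2, one_pow]
    refine ⟨(fun r => w (f r)) * v, ?_⟩
    rw [TW.pg_mul, map_mul, show TW.pg (Equiv.swap p q) * TW.pg f * (TW.tk (fun r => w (f r)) * TW.tk v) =
      TW.pg (Equiv.swap p q) * TW.tk w * (TW.pg f * TW.tk v) by
        rw [mul_assoc, ← mul_assoc (TW.pg f), ← TW.tk_pg]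
        simp only [mul_assoc], Units.val_mul, Matrix.det_mul, hw, hv, one_mul]

/-- For a finite field F and n = m ^ t ≥ 13 with m ≥ 3 and t ≥ 2, the stabiliser in SL_n(F) of a tensor decomposition of F^n into t factors of dimension m (the conjugate by any P of the standard tensor-wreath subgroup transported along any bijection Fin n ≃ (Fin t → Fin m), intersected with SL_n(F)) is a maximal subgroup of SL_n(F). -/
theorem result {F : Type*} [Field F] [Fintype F] (n : ℕ) (hn : 13 ≤ n) (m t : ℕ) (hm : 3 ≤ m) (ht : 2 ≤ t) (e : Fin n ≃ (Fin t → Fin m)) (P : Matrix.GeneralLinearGroup (Fin n) F) : Cfsg.Geo.IsMaximalIn (Cfsg.Geo.specialLinear (Fin n) F) (Cfsg.Geo.tensorWreathSubgroup m t e P ⊓ Cfsg.Geo.specialLinear (Fin n) F) := by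
  classical
  let E := Cfsg.Agent.Aschbacher.coordGL e P
  have hsl : ∀ g, E g ∈ Geo.specialLinear (Fin n) F ↔ g ∈ Geo.specialLinear (Fin t → Fin m) F := fun g => by
    rw [Cfsg.Agent.MaxCl.TP.mem_sl_iff, Cfsg.Agent.MaxCl.TP.mem_sl_iff, Cfsg.Agent.Aschbacher.coordGL_eq]
    simp [Geo.glReindex, mul_comm (P : Matrix (Fin n) (Fin n) F).det]
    rw [mul_assoc, mul_inv_cancel₀ (show (P : Matrix (Fin n) (Fin n) F).det ≠ 0 from
      (Matrix.GeneralLinearGroup.det P).ne_zero), mul_one]
  have hwr : ∀ g, E g ∈ Geo.tensorWreathSubgroup m t e P ↔ g ∈ Cfsg.Agent.MaxCl.TW.Wr (Fin t) m F := by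
    intro g
    rw [← standard_eq]
    constructor
    · rintro ⟨_, ⟨h, hh, rfl⟩, he⟩
      rwa [show g = h from E.injective ((Cfsg.Agent.Aschbacher.coordGL_eq e P h).trans he).symm]
    · exact fun h => Cfsg.Agent.Aschbacher.mem_tensorWreathSubgroup e P h
  haveI : Nonempty (Fin t) := ⟨⟨0, by omega⟩⟩
  refine ⟨lt_of_le_of_ne inf_le_right fun heq => ?_, fun M hHM hMS => ?_⟩
  · set x : Fin t → Fin m := fun _ => ⟨0, by omega⟩ with hx
    set y : Fin t → Fin m := fun _ => ⟨1, by omega⟩ with hy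
    have hxy : x ≠ y := fun h => by simpa [hx, hy] using congrFun h ⟨0, by omega⟩
    have hdet : (1 + Matrix.single x y (1 : F)).det = 1 := Matrix.det_transvection_of_ne x y hxy 1
    set g := Matrix.GeneralLinearGroup.mkOfDetNeZero (1 + Matrix.single x y (1 : F))
      (by rw [hdet]; exact one_ne_zero) with hg
    obtain ⟨σ, u, hgu⟩ := (hwr g).1 (inf_eq_right.1 heq ((hsl g).2 (MaxCl.TP.mem_sl_iff.2 hdet)))
    have h := congrArg (fun g => MaxCl.act g (MaxCl.TW.tp fun s => Pi.single (y s) (1 : F))) hgu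
    rw [MaxCl.TW.act_wr, MaxCl.TW.tp_single, MaxCl.act_apply] at h
    have hval : ∀ z, ((1 + Matrix.single x y (1 : F)) *ᵥ Pi.single y 1) z =
        (Pi.single y (1 : F) : (Fin t → Fin m) → F) z + (Pi.single x (1 : F) : (Fin t → Fin m) → F) z := fun z => by
      rw [Matrix.add_mulVec, Matrix.one_mulVec, Pi.add_apply, Matrix.single_mulVec]
      simp [Function.update_apply, Pi.single_apply]
    have hx1 := congrFun h x
    have hy1 := congrFun h y
    rw [show (g : Matrix (Fin t → Fin m) (Fin t → Fin m) F) = 1 + Matrix.single x y 1 from rfl, hval,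
      MaxCl.TW.tp_apply] at hx1 hy1
    simp [hxy, hxy.symm] at hx1 hy1
    set z := Function.update x ⟨0, by omega⟩ (⟨1, by omega⟩ : Fin m) with hz
    have hzx : z ≠ x := fun h => by simpa [hz, hx] using congrFun h ⟨0, by omega⟩
    have hzy : z ≠ y := fun h => by simpa [hz, hx, hy, Function.update_apply, Fin.ext_iff] using congrFun h ⟨1, by omega⟩
    have hz1 := congrFun h z
    rw [show (g : Matrix (Fin t → Fin m) (Fin t → Fin m) F) = 1 + Matrix.single x y 1 from rfl, hval,
      MaxCl.TW.tp_apply] at hz1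
    simp [hzx, hzy] at hz1
    obtain ⟨s, hs⟩ := Finset.prod_eq_zero_iff.1 hz1.symm
    rcases eq_or_ne s ⟨0, by omega⟩ with rfl | hne
    · exact one_ne_zero (hy1.trans (Finset.prod_eq_zero (Finset.mem_univ _) (by simpa [hz, hy] using hs.2)))
    · exact one_ne_zero (hx1.trans (Finset.prod_eq_zero (Finset.mem_univ s) (by simpa [hz, hx, hne] using hs.2)))
  · by_cases hsub : M ≤ Geo.tensorWreathSubgroup m t e P
    · exact Or.inl (le_antisymm (le_inf hsub hMS) hHM)
    refine Or.inr (le_antisymm hMS fun x hx => ?_)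
    obtain ⟨x, rfl⟩ := E.surjective x
    have hover : MaxCl.TW.Over (M.comap E.toMonoidHom) := ⟨fun u hu =>
      hHM ⟨(hwr _).2 (MaxCl.TW.tk_mem u), (hsl _).2 (MaxCl.TP.mem_sl_iff.2 (MaxCl.TW.det_tk_eq_one hu))⟩,
      fun h3 σ => by
        obtain ⟨u, hu⟩ := exists_perm_det (F := F) hm h3 σ
        exact ⟨u, hHM ⟨(hwr _).2 (MaxCl.TW.mul_mem_wr σ u), (hsl _).2 (MaxCl.TP.mem_sl_iff.2 hu)⟩⟩⟩
    by_contra hxM
    refine hsub fun y hy => ?_
    obtain ⟨y, rfl⟩ := E.surjective y
    exact (hwr y).2 (MaxCl.TW.le_wr hm hover (fun hle => hxM (hle ((hsl x).1 hx))) hy)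

end Cfsg.Agent.S5641
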