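import Cfsg.Statements.S5642
import Cfsg.Agent.Lib.MaxCl.Symplectic

set_option autoImplicit false
open Cfsg

namespace Cfsg.Agent.S5642

open Cfsg.Agent.MaxCl

/-- For a finite field F and n ≥ 13, let f be a non-degenerate symplectic form on F^n (so n is even). Then the elements of SL_n(F) that are similarities of f (f(gu, gv) = c f(u, v) for a non-zero scalar c depending on g) form a maximal subgroup of SL_n(F). -/
theorem result {F : Type*} [Field F] [Fintype F] (n : ℕ) (hn : 13 ≤ n) (f : (Fin n → F) → (Fin n → F) → F) (hf : Cfsg.Geo.IsSymplecticForm f) : Cfsg.Geo.IsMaximalIn (Cfsg.Geo.specialLinear (Fin n) F) (Cfsg.Geo.similarityGroup f ⊓ Cfsg.Geo.specialLinear (Fin n) F) := by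
  have hn2 : ∀ v : Fin n → F, v ≠ 0 → ∃ w, f v w = 0 ∧ w ∉ F ∙ v := by
    intro v hv
    by_contra h; push Not at h
    have hle : LinearMap.ker (flin hf.bilinear v) ≤ F ∙ v := fun x hx =>
      h x (f_eq_zero_symm hf (LinearMap.mem_ker.1 hx))
    have h1 := Submodule.finrank_mono hle
    rw [finrank_span_singleton hv] at h1
    have h2 := LinearMap.finrank_range_add_finrank_ker (flin hf.bilinear v)
    have h3 : Module.finrank F (LinearMap.range (flin hf.bilinear v)) ≤ 1 := by
      simpa using Submodule.finrank_le (LinearMap.range (flin hf.bilinear v))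
    simp only [Module.finrank_fin_fun] at h2
    omega
  -- the transvection `x ↦ x + f x w • v`
  let T : (Fin n → F) → (Fin n → F) → GL (Fin n) F := fun v w => tv (flin hf.bilinear w) v
  have hTk : ∀ v w, f v w = 0 → flin hf.bilinear w v = 0 := fun v w h => h
  have hTa : ∀ v w, f v w = 0 → ∀ x, act (T v w) x = x + f x w • v := fun v w h x =>
    act_tv (hTk v w h) x
  have hTsl : ∀ v w, f v w = 0 → T v w ∈ Cfsg.Geo.specialLinear (Fin n) F := by
    intro v w h
    refine MonoidHom.mem_ker.2 (Units.ext ?_)
    simpa [T, det_eq_of_fix_hyperplane (act_tv (hTk v w h))] using hTk v w h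
  -- transvections off the diagonal are not similitudes
  have hTnot : ∀ v w, f v w = 0 → v ≠ 0 → w ∉ F ∙ v → T v w ∉ Cfsg.Geo.similarityGroup f := by
    intro v w h hv hw hmem
    obtain ⟨c, hc⟩ := hmem
    simp only [← act_apply, hTa v w h] at hc
    simp only [f_add_left hf, f_add_right hf, f_smul_left hf, f_smul_right hf, f_self hf, mul_zero,
      add_zero] at hc
    obtain ⟨z, hz⟩ := (hf.nondegenerate v hv).2
    have hc1 : (c : F) = 1 := by
      have := hc v z
      simp only [h, f_self hf, zero_mul, mul_zero, add_zero] at this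
      exact mul_right_cancel₀ hz (by rw [one_mul]; exact this.symm)
    obtain ⟨y, hy⟩ := exists_dual (F ∙ v) hw
    obtain ⟨x, hx⟩ := exists_repr hf y
    have hxv : f x v = 0 := by
      apply f_eq_zero_symm hf; rw [← hx]; exact hy.1 v (Submodule.mem_span_singleton_self _)
    have hxw : f x w ≠ 0 := by
      apply f_ne_symm hf; rw [← hx, hy.2]; exact one_ne_zero
    have := hc x z
    rw [hc1, one_mul, hxv] at this
    simp only [mul_zero, zero_add] at this
    exact (mul_ne_zero hxw hz) (by linear_combination this)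
  refine ⟨lt_of_le_of_ne inf_le_right ?_, ?_⟩
  · intro heq
    obtain ⟨v, hv⟩ : ∃ v : Fin n → F, v ≠ 0 := ⟨Pi.single ⟨0, by omega⟩ 1, by simp⟩
    obtain ⟨w, hw1, hw2⟩ := hn2 v hv
    have := hTsl v w hw1
    rw [← heq] at this
    exact hTnot v w hw1 hv hw2 this.1
  intro M hM1 hM2
  by_cases hsub : M ≤ Cfsg.Geo.similarityGroup f
  · exact Or.inl (le_antisymm (le_inf hsub hM2) hM1)
  right
  obtain ⟨g, hgM, hg⟩ := SetLike.not_le_iff_exists.1 hsub
  have hsp : ∀ u c, stv hf u c ∈ M := by
    intro u c
    apply hM1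
    refine ⟨⟨1, fun x y => ?_⟩, MonoidHom.mem_ker.2 (Units.ext ?_)⟩
    · rw [Units.val_one, one_mul]; exact stv_mem hf u c x y
    · simpa [stv, det_eq_of_fix_hyperplane (act_tv (stv_ker hf u c))] using stv_ker hf u c
  obtain ⟨v₀, w₀, hvw, hv₀, hw₀, hTmem⟩ : ∃ v w, f v w = 0 ∧ v ≠ 0 ∧ w ∉ F ∙ v ∧ T v w ∈ M := by
    by_contra hno; push Not at hno
    apply hg
    have hlam : ∀ u : Fin n → F, ∃ l : F, ∀ x, f (act g x) (act g u) * l = f x u := by
      intro u
      rcases eq_or_ne u 0 with rfl | hu
      · exact ⟨0, fun x => by simp [f_zero_right hf]⟩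
      obtain ⟨w, hw⟩ := exists_repr hf ((flin hf.bilinear u) ∘ₗ act g⁻¹)
      have hgu : act g u ≠ 0 := fun h => hu (act_injective g (by rw [h, map_zero]))
      have hk : f (act g u) w = 0 := by
        rw [← hw]; simp [act_inv_act, flin_apply, f_self hf]
      have heq : g * stv hf u 1 * g⁻¹ = T (act g u) w := by
        rw [stv, one_smul, conj_tv g (by simp [flin_apply, f_self hf])]
        congr 1
        exact LinearMap.ext fun x => hw x
      have hmem : T (act g u) w ∈ M := heq ▸ M.mul_mem (M.mul_mem hgM (hsp u 1)) (M.inv_mem hgM)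
      have : w ∈ F ∙ act g u := by
        by_contra hn; exact hno _ _ hk hgu hn hmem
      obtain ⟨l, rfl⟩ := Submodule.mem_span_singleton.1 this
      refine ⟨l, fun x => ?_⟩
      have := hw (act g x)
      rw [LinearMap.comp_apply, act_inv_act, flin_apply, f_smul_right hf] at this
      rw [this, mul_comm]
    choose lam hlam using hlam
    have hgne : ∀ u, u ≠ 0 → act g u ≠ 0 :=
      fun u hu h => hu (act_injective g (by rw [h, map_zero]))
    have hconst : ∀ u v : Fin n → F, u ≠ 0 → v ≠ 0 → lam u = lam v := by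
      intro u v hu hv
      by_cases hdep : v ∈ F ∙ u
      · obtain ⟨a, rfl⟩ := Submodule.mem_span_singleton.1 hdep
        obtain ⟨x, hx⟩ := (hf.nondegenerate u hu).1
        have ha : a ≠ 0 := by rintro rfl; simp at hv
        have h1 := hlam u x
        have h2 := hlam (a • u) x
        rw [map_smul, f_smul_right hf, f_smul_right hf, mul_assoc, mul_right_inj' ha] at h2
        exact mul_left_cancel₀ (left_ne_zero_of_mul (h1 ▸ hx)) (h1.trans h2.symm)
      · have huv : u + v ≠ 0 := by
          intro h; apply hdep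
          rw [eq_neg_of_add_eq_zero_right h]
          exact Submodule.neg_mem _ (Submodule.mem_span_singleton_self _)
        have e : ∀ x, f x ((lam (u + v) - lam u) • act g u + (lam (u + v) - lam v) • act g v) = 0 := by
          intro x
          have h3 := hlam (u + v) (act g⁻¹ x)
          have h1 := hlam u (act g⁻¹ x)
          have h2 := hlam v (act g⁻¹ x)
          rw [act_act_inv] at h1 h2 h3
          rw [map_add, f_add_right hf, f_add_right hf (act g⁻¹ x) u v] at h3
          rw [f_add_right hf, f_smul_right hf, f_smul_right hf]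
          linear_combination h3 - h1 - h2
        have z : (lam (u + v) - lam u) • act g u + (lam (u + v) - lam v) • act g v = 0 := by
          by_contra hz
          obtain ⟨x, hx⟩ := (hf.nondegenerate _ hz).1
          exact hx (e x)
        rw [← map_smul, ← map_smul, ← map_add] at z
        have z' := act_injective g (z.trans (map_zero _).symm)
        have hb : lam (u + v) - lam v = 0 := by
          by_contra hb
          apply hdep
          refine Submodule.mem_span_singleton.2 ⟨-(lam (u + v) - lam u) / (lam (u + v) - lam v), ?_⟩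
          rw [div_eq_inv_mul, ← smul_smul, neg_smul, neg_eq_of_add_eq_zero_right z', inv_smul_smul₀ hb]
        rw [hb, zero_smul, add_zero] at z'
        have ha : lam (u + v) - lam u = 0 := (smul_eq_zero.1 z').resolve_right hu
        linear_combination hb - ha
    obtain ⟨v, hv⟩ : ∃ v : Fin n → F, v ≠ 0 := ⟨Pi.single ⟨0, by omega⟩ 1, by simp⟩
    obtain ⟨z, hz⟩ := (hf.nondegenerate v hv).1
    have hl : lam v ≠ 0 := right_ne_zero_of_mul ((hlam v z).symm ▸ hz)
    refine ⟨Units.mk0 (lam v)⁻¹ (inv_ne_zero hl), fun x y => ?_⟩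
    simp only [← act_apply, Units.val_mk0]
    rcases eq_or_ne y 0 with rfl | hy
    · simp [f_zero_right hf]
    · rw [← hlam y x, hconst y v hy hv]
      field_simp
  -- all transvections lie in `M`
  let P : (Fin n → F) → Prop := fun v => ∀ w, f v w = 0 → T v w ∈ M
  have hP0 : P v₀ := by
    have key : ∀ u, f v₀ u = 0 → f w₀ u ≠ 0 → T v₀ u ∈ M := by
      intro u hu hwu
      set h := stv hf u (1 / f w₀ u) with hh
      have hfix : act h v₀ = v₀ := by rw [hh, act_stv hf, hu]; simp
      have hmove : act h w₀ = w₀ + u := by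
        rw [hh, act_stv hf, one_div_mul_cancel hwu, one_smul]
      have hc : h * T v₀ w₀ * h⁻¹ = T v₀ (w₀ + u) := by
        simp only [T]
        rw [conj_tv h (hTk v₀ w₀ hvw), hfix]
        congr 1
        apply LinearMap.ext; intro x
        simp only [LinearMap.comp_apply, flin_apply]
        conv_rhs => rw [← hmove, ← act_act_inv h x, mem_isoGroup.1 (stv_mem hf _ _)]
      have hm : T v₀ (w₀ + u) ∈ M :=
        hc ▸ M.mul_mem (M.mul_mem (hsp u _) hTmem) (M.inv_mem (hsp u _))
      have hsum : T v₀ u = (T v₀ w₀)⁻¹ * T v₀ (w₀ + u) := by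
        rw [eq_inv_mul_iff_mul_eq]
        simp only [T]
        rw [tv_add _ _ _ (hTk v₀ w₀ hvw) (hTk v₀ u hu)]
        congr 1
        exact (map_add (toBil hf.bilinear).flip w₀ u).symm
      rw [hsum]; exact M.mul_mem (M.inv_mem hTmem) hm
    obtain ⟨u₀, hu₀, hu₀'⟩ : ∃ u, f v₀ u = 0 ∧ f w₀ u ≠ 0 := by
      obtain ⟨y, hy0, hy1⟩ := exists_dual (F ∙ v₀) hw₀
      obtain ⟨u, hu⟩ := exists_repr hf y
      exact ⟨u, by rw [← hu, hy0 v₀ (Submodule.mem_span_singleton_self _)],
        by rw [← hu, hy1]; exact one_ne_zero⟩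
    intro u hu
    by_cases hwu : f w₀ u = 0
    · have h1 := key (u + u₀) (by rw [f_add_right hf, hu, hu₀, add_zero])
        (by rw [f_add_right hf, hwu, zero_add]; exact hu₀')
      have h2 := key u₀ hu₀ hu₀'
      have hsum : T v₀ (u + u₀) = T v₀ u * T v₀ u₀ := by
        simp only [T]
        rw [tv_add _ _ _ (hTk v₀ u hu) (hTk v₀ u₀ hu₀)]
        congr 1
        exact map_add (toBil hf.bilinear).flip u u₀
      rw [hsum] at h1
      exact (mul_mem_cancel_right h2).1 h1
    · exact key u hu hwu
  have hPall : ∀ v, v ≠ 0 → P v := by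
    intro v hv
    refine full_all_of_one hf hsp (P := P) ?_ hv₀ hP0 hv
    intro h hhM hhf x hx w hw
    have hxw : f x (act h⁻¹ w) = 0 := by
      rw [← hw]; conv_rhs => rw [← act_act_inv h w, mem_isoGroup.1 hhf]
    have hc : h * T x (act h⁻¹ w) * h⁻¹ = T (act h x) w := by
      simp only [T]
      rw [conj_tv h (hTk _ _ hxw)]
      congr 1
      apply LinearMap.ext; intro y
      simp only [LinearMap.comp_apply, flin_apply]
      conv_rhs => rw [← act_act_inv h y, ← act_act_inv h w, mem_isoGroup.1 hhf]
    rw [← hc]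
    exact M.mul_mem (M.mul_mem hhM (hx _ hxw)) (M.inv_mem hhM)
  refine le_antisymm hM2 (specialLinear_le_of_transvections M ?_)
  intro φ v hφ
  rcases eq_or_ne v 0 with rfl | hv
  · have : tv φ (0 : Fin n → F) = 1 := by
      apply gl_ext; intro x; rw [act_tv (map_zero φ), act_one]; simp
    rw [this]; exact M.one_mem
  obtain ⟨w, hw⟩ := exists_repr hf φ
  have : φ = flin hf.bilinear w := LinearMap.ext hw
  rw [this]
  exact hPall v hv w (by rw [← hw]; exact hφ)

end Cfsg.Agent.S5642
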