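import Cfsg.Statements.S5643
import Cfsg.Agent.Lib.MaxCl.Unitary

set_option autoImplicit false
open Cfsg Cfsg.Agent.MaxCl Cfsg.Agent.MaxCl.Unit

namespace Cfsg.Agent.S5643

/-- For a finite field F and n ≥ 13, let σ be a field automorphism of F of order two and f a non-degenerate unitary form on F^n with respect to σ. Then the elements of SL_n(F) that are similarities of f form a maximal subgroup of SL_n(F). -/
theorem result {F : Type*} [Field F] [Fintype F] (n : ℕ) (hn : 13 ≤ n) (σ : F ≃+* F) (f : (Fin n → F) → (Fin n → F) → F) (hf : Cfsg.Geo.IsUnitaryForm σ f) : Cfsg.Geo.IsMaximalIn (Cfsg.Geo.specialLinear (Fin n) F) (Cfsg.Geo.similarityGroup f ⊓ Cfsg.Geo.specialLinear (Fin n) F) := by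
  classical
  have hn6 : 6 ≤ Fintype.card (Fin n) := by rw [Fintype.card_fin]; omega
  obtain ⟨c₀, hc₀, hc₀s⟩ := exists_skew hf.ne_refl hf.involutive
  -- unitary transvections are determinant one isometries
  have hU0 : ∀ u c, f u u = 0 → c + σ c = 0 →
      utv hf u c ∈ Cfsg.Geo.similarityGroup f ⊓ Cfsg.Geo.specialLinear (Fin n) F := by
    intro u c hu hc
    refine ⟨⟨1, fun x y => ?_⟩, det_ptv hf (by rw [smul_right hf, hu, mul_zero])⟩
    rw [Units.val_one, one_mul]; exact utv_mem hf hu hc x y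
  have hne0 : ∃ x : Fin n → F, x ≠ 0 := ⟨Pi.single ⟨0, by omega⟩ 1, by simp⟩
  obtain ⟨v₁, hv₁⟩ := hne0
  obtain ⟨u₁, hu₁, hu₁v⟩ := exists_isotropic_ne hf (by omega) hv₁
  have hu₁0 : u₁ ≠ 0 := fun h => hu₁v (by rw [h]; exact zero_left hf v₁)
  refine ⟨lt_of_le_of_ne inf_le_right ?_, ?_⟩
  · intro heq
    obtain ⟨a, ha⟩ := exists_trace_one hf.involutive hf.ne_refl
    have hmem : ptv hf u₁ (σ a • u₁) ∈ Cfsg.Geo.specialLinear (Fin n) F :=
      det_ptv hf (by rw [smul_right hf, hu₁, mul_zero])
    rw [← heq] at hmem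
    obtain ⟨c, hc⟩ := hmem.1
    simp only [← act_apply, act_ptv hf (show f u₁ (σ a • u₁) = 0 by rw [smul_right hf, hu₁, mul_zero]),
      smul_right hf, hf.involutive, add_left hf, add_right hf, smul_left hf, hu₁, mul_zero, add_zero,
      map_mul, herm' hf] at hc
    have hc1 : (c : F) = 1 := by
      have h1 := hc u₁ v₁
      simp only [hu₁, mul_zero, zero_mul, add_zero] at h1
      exact mul_right_cancel₀ (ne_symm hf (ne_symm hf hu₁v)) (by rw [one_mul]; exact h1.symm)
    have h2 := hc v₁ v₁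
    rw [hc1, one_mul] at h2
    have h3 : (a + σ a) * (f v₁ u₁ * f u₁ v₁) = 0 := by linear_combination h2
    rw [ha, one_mul] at h3
    exact mul_ne_zero (ne_symm hf hu₁v) hu₁v h3
  intro M hM1 hM2
  by_cases hsub : M ≤ Cfsg.Geo.similarityGroup f
  · exact Or.inl (le_antisymm (le_inf hsub hM2) hM1)
  right
  obtain ⟨g, hgM, hg⟩ := SetLike.not_le_iff_exists.1 hsub
  have hutv : ∀ u c, f u u = 0 → c + σ c = 0 → utv hf u c ∈ M := fun u c hu hc => hM1 (hU0 u c hu hc)
  have hskew : ∀ {c : F}, c + σ c = 0 → σ c + σ (σ c) = 0 := fun {c} hc => by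
    rw [hf.involutive, add_comm]; exact hc
  -- a transvection which is not unitary
  obtain ⟨v, w, hvw, hvM, hgood⟩ : ∃ v w, f v w = 0 ∧ ptv hf v w ∈ M ∧ v ≠ 0 ∧ w ≠ 0 ∧
      ∀ d, w = d • v → f v v = 0 → σ d + d ≠ 0 := by
    by_contra hno; push Not at hno
    apply hg
    have hlam : ∀ u, f u u = 0 → u ≠ 0 → ∃ l : F, l ≠ 0 ∧ σ l = l ∧ ∀ x, f (act g x) (act g u) = l * f x u := by
      intro u hu hu0
      obtain ⟨w, hw⟩ := exists_repr hf (c₀ • (flinU hf u ∘ₗ act g⁻¹))
      have hgu : act g u ≠ 0 := fun h => hu0 (act_injective g (h.trans (map_zero _).symm))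
      have hk : f (act g u) w = 0 := by
        rw [← hw]; simp [act_inv_act, flinU_apply, hu]
      have hker : (c₀ • flinU hf u) u = 0 := by simp [flinU_apply, hu]
      have e1 : utv hf u c₀ = tv (c₀ • flinU hf u) u := by
        apply gl_ext; intro x
        rw [act_utv hf hu, act_tv hker]; simp [flinU_apply]
      have e2 : g * utv hf u c₀ * g⁻¹ = ptv hf (act g u) w := by
        rw [e1, conj_tv g hker, ptv]
        congr 1
        exact LinearMap.ext fun x => by rw [flinU_apply, ← hw]; rfl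
      have hmem : ptv hf (act g u) w ∈ M :=
        e2 ▸ M.mul_mem (M.mul_mem hgM (hutv u c₀ hu hc₀s)) (M.inv_mem hgM)
      have hw0 : w ≠ 0 := by
        intro h
        obtain ⟨x, hx⟩ := (hf.nondegenerate u hu0).1
        have := hw (act g x)
        rw [h, zero_right hf] at this
        simp [act_inv_act, flinU_apply, hc₀, hx] at this
      obtain ⟨d, rfl, hgiso, hd⟩ := hno _ _ hk hmem hgu hw0
      have hd0 : d ≠ 0 := by rintro rfl; simp at hw0
      have hsd : σ d ≠ 0 := (map_ne_zero σ).2 hd0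
      refine ⟨c₀ / σ d, div_ne_zero hc₀ hsd, ?_, fun x => ?_⟩
      · rw [map_div₀, hf.involutive, div_eq_div_iff hd0 hsd]
        linear_combination σ d * hc₀s - c₀ * hd
      · have := hw (act g x)
        simp only [LinearMap.smul_apply, LinearMap.comp_apply, act_inv_act, flinU_apply, smul_eq_mul,
          smul_right hf] at this
        rw [div_mul_eq_mul_div, this, mul_div_assoc, mul_comm (σ d), div_mul_cancel₀ _ hsd]
    choose! lam hlam0 hlamσ hlam using hlam
    have hsym : ∀ a b, f a a = 0 → f b b = 0 → f a b ≠ 0 → lam a = lam b := by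
      intro a b ha hb hab
      have ha0 : a ≠ 0 := by rintro rfl; exact hab (zero_left hf b)
      have hb0 : b ≠ 0 := by rintro rfl; exact hab (zero_right hf a)
      have h1 := hlam b hb hb0 a
      have h2 := congrArg σ (hlam a ha ha0 b)
      rw [map_mul, hlamσ a ha ha0, herm' hf, herm' hf, h1] at h2
      exact (mul_right_cancel₀ hab h2).symm
    have hconst : ∀ a b, f a a = 0 → a ≠ 0 → f b b = 0 → b ≠ 0 → lam a = lam b := by
      intro a b ha ha0 hb hb0
      obtain ⟨z, z', iz, -, za, iz', -, zb, hzz⟩ := exists_isotropic_two hf (by omega) (v := 0) (a := a) (b := b)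
        (by simpa [Submodule.mem_span_singleton] using ha0) (by simpa [Submodule.mem_span_singleton] using hb0)
      rw [← hsym z a iz ha za, ← hsym z' b iz' hb zb]
      rcases hzz with rfl | h
      · rfl
      · exact hsym z z' iz iz' h
    have hl := hlam0 u₁ hu₁ hu₁0
    refine ⟨Units.mk0 (lam u₁) hl, fun x y => ?_⟩
    simp only [← act_apply, Units.val_mk0]
    obtain ⟨w, hw⟩ := exists_repr hf (flinU hf (act g y) ∘ₗ act g)
    have hwy : w - lam u₁ • y = 0 := by
      by_contra hne
      obtain ⟨u, hu, huw⟩ := exists_isotropic_ne hf (by omega) hne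
      apply huw
      have hu0 : u ≠ 0 := fun h => huw (by rw [h]; exact zero_left hf _)
      have h1 : f u w = f (act g u) (act g y) := (hw u).symm
      rw [sub_right hf, smul_right hf, hlamσ u₁ hu₁ hu₁0, h1, ← herm' hf (act g y), hlam u hu hu0 y,
        map_mul, hlamσ u hu hu0, herm' hf, hconst u u₁ hu hu0 hu₁ hu₁0, sub_self]
    have := hw x
    rw [sub_eq_zero.1 hwy, smul_right hf, hlamσ u₁ hu₁ hu₁0] at this
    exact this
  -- moving axes and centres
  have hstepR : ∀ v w u, f v w = 0 → ptv hf v w ∈ M → f u u = 0 → f v u = 0 → ∀ c, c + σ c = 0 →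
      ptv hf v ((c * f w u) • u) ∈ M := by
    intro v w u hvw hM hu hvu c hc
    have hh := hutv u c hu hc
    have := M.mul_mem (M.mul_mem hh hM) (M.inv_mem hh)
    rw [conj_ptv hf (utv_mem hf hu hc) hvw, act_utv hf hu, act_utv hf hu, hvu, mul_zero, zero_smul,
      add_zero, ← ptv_add_right hf hvw (by rw [smul_right hf, hvu, mul_zero])] at this
    exact (mul_mem_cancel_left hM).1 this
  have hstepL : ∀ v w u, f v w = 0 → ptv hf v w ∈ M → f u u = 0 → f w u = 0 → ∀ c, c + σ c = 0 →
      ptv hf ((c * f v u) • u) w ∈ M := by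
    intro v w u hvw hM hu hwu c hc
    have hh := hutv u c hu hc
    have := M.mul_mem (M.mul_mem hh hM) (M.inv_mem hh)
    rw [conj_ptv hf (utv_mem hf hu hc) hvw, act_utv hf hu, act_utv hf hu, hwu, mul_zero, zero_smul,
      add_zero, ← ptv_add_left hf hvw (by rw [smul_left hf, eq_zero_symm hf hwu, mul_zero])] at this
    exact (mul_mem_cancel_left hM).1 this
  -- an isotropic independent pair
  obtain ⟨v, w, hvw, hvM, hvv, hww, hv0, hwv⟩ : ∃ v w, f v w = 0 ∧ ptv hf v w ∈ M ∧ f v v = 0 ∧
      f w w = 0 ∧ v ≠ 0 ∧ w ∉ F ∙ v := by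
    obtain ⟨hv0, hw0, hd⟩ := hgood
    obtain ⟨v, w, hvw, hvM, hv0, hwv⟩ : ∃ v w, f v w = 0 ∧ ptv hf v w ∈ M ∧ v ≠ 0 ∧ w ∉ F ∙ v := by
      by_cases hdep : w ∈ F ∙ v
      · obtain ⟨d, rfl⟩ := Submodule.mem_span_singleton.1 hdep
        have hd0 : d ≠ 0 := by rintro rfl; simp at hw0
        have hvv : f v v = 0 := by
          rw [smul_right hf] at hvw
          exact (mul_eq_zero.1 hvw).resolve_left ((map_ne_zero σ).2 hd0)
        have hd' := hd d rfl hvv
        obtain ⟨u, hu, huv⟩ := exists_isotropic_ne hf (by omega) hv0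
        obtain ⟨T, hT⟩ : ∃ T, T = ptv hf v (d • v) := ⟨_, rfl⟩
        have hTa : ∀ x, act T x = x + (σ d * f x v) • v := fun x => by
          rw [hT, act_ptv hf hvw, smul_right hf]
        have hker : (c₀ • flinU hf u) u = 0 := by simp [flinU_apply, hu]
        have e1 : utv hf u c₀ = tv (c₀ • flinU hf u) u := by
          apply gl_ext; intro x
          rw [act_utv hf hu, act_tv hker]; simp [flinU_apply]
        obtain ⟨w', hw'⟩ := exists_repr hf (c₀ • (flinU hf u ∘ₗ act T⁻¹))
        have e2 : T * utv hf u c₀ * T⁻¹ = ptv hf (act T u) w' := by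
          rw [e1, conj_tv T hker, ptv]
          congr 1
          exact LinearMap.ext fun x => by rw [flinU_apply, ← hw']; rfl
        have hTM : T ∈ M := hT ▸ hvM
        have hz : f (act T u) (act T u) ≠ 0 := by
          rw [hTa]
          simp only [add_left hf, add_right hf, smul_left hf, smul_right hf, hu, hvv, map_mul, hf.involutive,
            herm' hf, mul_zero, add_zero, zero_add]
          rw [show d * f v u * f u v + σ d * f u v * f v u = (σ d + d) * (f v u * f u v) by ring]
          exact mul_ne_zero hd' (mul_ne_zero (ne_symm hf huv) huv)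
        have hk : f (act T u) w' = 0 := by
          rw [← hw']; simp [act_inv_act, flinU_apply, hu]
        refine ⟨act T u, w', hk, e2 ▸ M.mul_mem (M.mul_mem hTM (hutv u c₀ hu hc₀s)) (M.inv_mem hTM),
          fun h => hz (by rw [h]; exact zero_left hf _), fun h => ?_⟩
        obtain ⟨a, rfl⟩ := Submodule.mem_span_singleton.1 h
        rw [smul_right hf, mul_eq_zero] at hk
        rcases hk with ha | ha
        · obtain ⟨x, hx⟩ := (hf.nondegenerate u (fun h => huv (by rw [h]; exact zero_left hf v))).1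
          have := hw' (act T x)
          rw [(map_eq_zero σ).1 ha, zero_smul, zero_right hf] at this
          simp [act_inv_act, flinU_apply, hc₀, hx] at this
        · exact hz ha
      · exact ⟨v, w, hvw, hvM, hv0, hdep⟩
    obtain ⟨u, hu, huv, huw, hu'⟩ := exists_isotropic_sep hf (by omega) hwv
    set w₁ := (c₀ * f w u) • u with hw₁
    have hs : c₀ * f w u ≠ 0 := mul_ne_zero hc₀ (ne_symm hf huw)
    have hvw₁ : f v w₁ = 0 := by rw [hw₁, smul_right hf, eq_zero_symm hf huv, mul_zero]
    have hw₁M : ptv hf v w₁ ∈ M := hstepR v w u hvw hvM hu (eq_zero_symm hf huv) c₀ hc₀s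
    have hw₁0 : w₁ ≠ 0 := smul_ne_zero hs (fun h => hu' (by rw [h]; exact Submodule.zero_mem _))
    have hvw' : v ∉ F ∙ w₁ := by
      intro h
      obtain ⟨a, ha⟩ := Submodule.mem_span_singleton.1 h
      rcases eq_or_ne a 0 with rfl | ha0
      · exact hv0 (by rw [← ha, zero_smul])
      · refine hu' ((Submodule.smul_mem_iff _ (mul_ne_zero ha0 hs)).1 ?_)
        rw [mul_smul, ← hw₁, ha]; exact Submodule.mem_span_singleton_self v
    obtain ⟨u', hi', hu'w, hu'v, hu''⟩ := exists_isotropic_sep hf (by omega) hvw'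
    set v₂ := (c₀ * f v u') • u' with hv₂
    have hs' : c₀ * f v u' ≠ 0 := mul_ne_zero hc₀ (ne_symm hf hu'v)
    have hu'0 : u' ≠ 0 := fun h => hu'' (by rw [h]; exact Submodule.zero_mem _)
    refine ⟨v₂, w₁, ?_, hstepL v w₁ u' hvw₁ hw₁M hi' (eq_zero_symm hf hu'w) c₀ hc₀s, ?_, ?_,
      smul_ne_zero hs' hu'0, fun h => ?_⟩
    · rw [hv₂, smul_left hf, hu'w, mul_zero]
    · rw [hv₂, smul_left hf, smul_right hf, hi', mul_zero, mul_zero]
    · rw [hw₁, smul_left hf, smul_right hf, hu, mul_zero, mul_zero]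
    · obtain ⟨a, ha⟩ := Submodule.mem_span_singleton.1 h
      have ha0 : a ≠ 0 := by rintro rfl; rw [zero_smul] at ha; exact hw₁0 ha.symm
      refine hu'' ((Submodule.smul_mem_iff _ (mul_ne_zero ha0 hs')).1 ?_)
      rw [mul_smul, ← hv₂, ha]; exact Submodule.mem_span_singleton_self _
  -- all multiples of an isotropic axis
  have hscale : ∀ v w, f v v = 0 → f w w = 0 → f v w = 0 → w ∉ F ∙ v → ptv hf v w ∈ M →
      ∀ a : F, ptv hf v (a • w) ∈ M := by
    intro v w hvv hww hvw hwv hM a
    obtain ⟨u, hu, huv, huw, -⟩ := exists_isotropic_sep hf (by omega) hwv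
    set P := Submodule.span F ({v, w, u} : Set (Fin n → F)) with hP
    have hPdim : Module.finrank F P ≤ 3 := by
      refine (finrank_span_le_card ({v, w, u} : Set (Fin n → F))).trans ?_
      simp only [Set.toFinset_insert, Set.toFinset_singleton]
      exact Finset.card_le_three
    obtain ⟨y, hyP, hyy⟩ : ∃ y ∈ uperp hf P, f y y ≠ 0 := by
      by_contra h; push Not at h
      have hX := finrank_uperp_ge hf P
      have h' : uperp hf P ≤ uperp hf (uperp hf P) := by
        intro x hx y hy
        have key : ∀ b : F, b * f x y + σ b * f y x = 0 := by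
          intro b
          have h1 := h _ (add_mem ((uperp hf P).smul_mem b hx) hy)
          simp only [add_left hf, add_right hf, smul_left hf, smul_right hf, h x hx, h y hy, mul_zero,
            zero_add, add_zero] at h1
          linear_combination h1
        have k1 := key 1
        obtain ⟨b, hb⟩ := exists_moved hf.ne_refl
        have k2 := key b
        rw [map_one, one_mul, one_mul] at k1
        have k3 : (b - σ b) * f x y = 0 := by linear_combination k2 - σ b * k1
        exact (mul_eq_zero.1 k3).resolve_left (sub_ne_zero.2 (Ne.symm hb))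
      by_cases hle : uperp hf P ≤ P
      · have := Submodule.finrank_mono hle
        rw [Fintype.card_fin] at hX; omega
      obtain ⟨x, hx, hxP⟩ := SetLike.not_le_iff_exists.1 hle
      obtain ⟨φ, h0, h1⟩ := exists_dual P hxP
      obtain ⟨z, hz⟩ := exists_repr hf φ
      have hzX : z ∈ uperp hf P := fun p hp => eq_zero_symm hf (by rw [← hz]; exact h0 p hp)
      have := h' hx z hzX
      rw [← hz, h1] at this
      exact one_ne_zero this
    have hP' : ∀ x ∈ ({v, w, u} : Set (Fin n → F)), f y x = 0 := fun x hx =>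
      hyP x (Submodule.subset_span hx)
    have hyv := hP' v (by simp)
    have hyw := hP' w (by simp)
    have hyu := hP' u (by simp)
    set k := (f u w)⁻¹ with hk
    obtain ⟨u₀, hu₀def⟩ : ∃ u₀, u₀ = k • u := ⟨_, rfl⟩
    have hu₀w : f u₀ w = 1 := by rw [hu₀def, smul_left hf, hk, inv_mul_cancel₀ huw]
    have hwu₀ : f w u₀ = 1 := by rw [← herm' hf, hu₀w, map_one]
    have hu₀u : f u₀ u₀ = 0 := by rw [hu₀def, smul_left hf, smul_right hf, hu, mul_zero, mul_zero]
    have hu₀v : f u₀ v = 0 := by rw [hu₀def, smul_left hf, huv, mul_zero]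
    have hyu₀ : f y u₀ = 0 := by rw [hu₀def, smul_right hf, hyu, mul_zero]
    obtain ⟨β, hβ⟩ := exists_trace hf.involutive hf.ne_refl (-(f y y)) (by rw [map_neg, herm' hf])
    obtain ⟨u', hu'def⟩ : ∃ u', u' = w + β • u₀ + y := ⟨_, rfl⟩
    have hu'v : f v u' = 0 := by
      rw [hu'def, add_right hf, add_right hf, smul_right hf, hvw, eq_zero_symm hf hu₀v,
        eq_zero_symm hf hyv, mul_zero]; ring
    have hu'u : f u' u' = 0 := by
      simp only [hu'def, add_left hf, add_right hf, smul_left hf, smul_right hf, hww, hu₀u, hwu₀, hu₀w,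
        hyw, hyu₀, eq_zero_symm hf hyw, eq_zero_symm hf hyu₀]
      linear_combination hβ
    have hu₀u' : f u₀ u' = 1 := by
      simp only [hu'def, add_right hf, smul_right hf, hu₀w, hu₀u, eq_zero_symm hf hyu₀]; ring
    have hu'w : f u' w = β := by
      simp only [hu'def, add_left hf, smul_left hf, hww, hu₀w, hyw]; ring
    have hvu₀ : f v u₀ = 0 := eq_zero_symm hf hu₀v
    have h1 : ∀ c, c + σ c = 0 → f v (c • u₀) = 0 ∧ ptv hf v (c • u₀) ∈ M := fun c hc => by
      refine ⟨by rw [smul_right hf, hvu₀, mul_zero], ?_⟩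
      have := hstepR v w u₀ hvw hM hu₀u hvu₀ c hc
      rwa [hwu₀, mul_one] at this
    have hline : ∀ c d, c + σ c = 0 → d + σ d = 0 → ptv hf v ((d * c) • w) ∈ M := fun c d hc hd => by
      have := hstepR v _ w (h1 c hc).1 (h1 c hc).2 hww hvw d hd
      rwa [smul_left hf, hu₀w, mul_one] at this
    have h3 : ∀ c d, c + σ c = 0 → d + σ d = 0 → ptv hf v ((c₀ * (d * c) * β) • w) ∈ M := by
      intro c d hc hd
      have e1 : ptv hf v ((d * c) • u') ∈ M := by
        have := hstepR v _ u' (h1 c hc).1 (h1 c hc).2 hu'u hu'v d hd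
        rwa [smul_left hf, hu₀u', mul_one] at this
      have := hstepR v _ w (by rw [smul_right hf, hu'v, mul_zero]) e1 hww hvw c₀ hc₀s
      rwa [smul_left hf, hu'w, ← mul_assoc] at this
    have hβ0 : β + σ β ≠ 0 := by rw [hβ]; exact neg_ne_zero.2 hyy
    obtain ⟨s, hsdef⟩ : ∃ s, s = (a - σ a) / (β + σ β) := ⟨_, rfl⟩
    have hs : s + σ s = 0 := by
      rw [hsdef, map_div₀, map_add, map_sub, hf.involutive, hf.involutive, add_comm (σ β) β, ← add_div,
        div_eq_zero_iff]
      left; ring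
    obtain ⟨k', hk'def⟩ : ∃ k', k' = a - s * β := ⟨_, rfl⟩
    have hk' : σ k' = k' := by
      have e : s * (β + σ β) = a - σ a := by rw [hsdef, div_mul_cancel₀ _ hβ0]
      rw [hk'def, map_sub, map_mul]
      linear_combination -σ β * hs - (0 : F) + e
    have hck : ∀ c, σ c = c → c₀ * c + σ (c₀ * c) = 0 := fun c hc => by
      rw [map_mul, hc]; linear_combination c * hc₀s
    have hdiv : c₀ * c₀ ≠ 0 := mul_ne_zero hc₀ hc₀
    have m1 : ptv hf v (k' • w) ∈ M := by
      have hd : (k' / c₀) + σ (k' / c₀) = 0 := by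
        rw [map_div₀, hk', eq_neg_of_add_eq_zero_right hc₀s, div_neg, add_neg_cancel]
      have := hline c₀ (k' / c₀) hc₀s hd
      rwa [div_mul_cancel₀ _ hc₀] at this
    have m2 : ptv hf v ((s * β) • w) ∈ M := by
      have hd : s / (c₀ * c₀) + σ (s / (c₀ * c₀)) = 0 := by
        rw [map_div₀, map_mul, eq_neg_of_add_eq_zero_right hc₀s, eq_neg_of_add_eq_zero_right hs]
        ring
      have := h3 c₀ (s / (c₀ * c₀)) hc₀s hd
      rwa [show c₀ * (s / (c₀ * c₀) * c₀) * β = s * β by field_simp] at this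
    have := M.mul_mem m1 m2
    rwa [ptv_add_right hf (by rw [smul_right hf, hvw, mul_zero]) (by rw [smul_right hf, hvw, mul_zero]),
      ← add_smul, hk'def, sub_add_cancel] at this
  -- full isotropic axes propagate
  have hmove : ∀ v a, f v v = 0 → f a a = 0 → f v a = 0 → a ∉ F ∙ v → (∀ t : F, ptv hf v (t • a) ∈ M) →
      ∀ z, f z z = 0 → f v z = 0 → f a z ≠ 0 → ∀ t : F, ptv hf v (t • z) ∈ M := by
    intro v a _ haa hva _ hA z hz hvz haz t
    have := hstepR v _ z (by rw [smul_right hf, hva, mul_zero]) (hA (t / (c₀ * f a z))) hz hvz c₀ hc₀s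
    rwa [smul_left hf, show c₀ * (t / (c₀ * f a z) * f a z) = t from by field_simp] at this
  have hspan : ∀ v x, v ≠ 0 → f x v = 0 →
      x ∈ Submodule.span F {u | f u u = 0 ∧ f u v = 0 ∧ u ∉ F ∙ v} := by
    intro v x hv hxv
    by_contra hx
    obtain ⟨φ, h0, h1⟩ := exists_dual _ hx
    obtain ⟨z, hz⟩ := exists_repr hf φ
    have hzv : z ∉ F ∙ v := by
      intro h
      obtain ⟨r, rfl⟩ := Submodule.mem_span_singleton.1 h
      rw [hz, smul_right hf, hxv, mul_zero] at h1
      exact zero_ne_one h1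
    obtain ⟨u, hu, huv, huz, hu'⟩ := exists_isotropic_sep hf (by omega) hzv
    exact huz (by rw [← hz]; exact h0 u (Submodule.subset_span ⟨hu, huv, hu'⟩))
  have hP : ∀ v a, v ≠ 0 → f v v = 0 → f a a = 0 → f v a = 0 → a ∉ F ∙ v → ptv hf v a ∈ M →
      ∀ x, f v x = 0 → ptv hf v x ∈ M := by
    intro v a hv0 hvv haa hva hav hM x hvx
    have hA := hscale v a hvv haa hva hav hM
    have hgen : ∀ b, f b b = 0 → f b v = 0 → b ∉ F ∙ v → ∀ t : F, ptv hf v (t • b) ∈ M := by
      intro b hb hbv hb'
      obtain ⟨z, z', iz, zv, za, iz', z'v, zb, hzz⟩ := exists_isotropic_two hf (by omega) hav hb'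
      have hz' : ∀ {z}, f z v = 0 → ∀ {a}, f z a ≠ 0 → f v a = 0 → z ∉ F ∙ v := by
        intro z _ a hza hva h
        obtain ⟨r, rfl⟩ := Submodule.mem_span_singleton.1 h
        rw [smul_left hf, hva, mul_zero] at hza
        exact hza rfl
      have hvz := eq_zero_symm hf zv
      have m1 := hmove v a hvv haa hva hav hA z iz hvz (ne_symm hf za)
      have m2 : ∀ t : F, ptv hf v (t • z') ∈ M := by
        rcases hzz with rfl | h
        · exact m1
        · exact hmove v z hvv iz hvz (hz' zv za hva) m1 z' iz' (eq_zero_symm hf z'v) h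
      exact hmove v z' hvv iz' (eq_zero_symm hf z'v) (hz' z'v zb (eq_zero_symm hf hbv)) m2 b hb
        (eq_zero_symm hf hbv) zb
    have hxm := hspan v x hv0 (eq_zero_symm hf hvx)
    have key : ∀ x, x ∈ Submodule.span F {u | f u u = 0 ∧ f u v = 0 ∧ u ∉ F ∙ v} →
        f v x = 0 ∧ ∀ t : F, ptv hf v (t • x) ∈ M := by
      intro x hx
      induction hx using Submodule.span_induction with
      | mem x hx => exact ⟨eq_zero_symm hf hx.2.1, hgen x hx.1 hx.2.1 hx.2.2⟩
      | zero => exact ⟨zero_right hf v, fun t => by rw [smul_zero, ptv_zero_right]; exact M.one_mem⟩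
      | add x y _ _ hx hy =>
        refine ⟨by rw [add_right hf, hx.1, hy.1, add_zero], fun t => ?_⟩
        rw [smul_add, ← ptv_add_right hf (by rw [smul_right hf, hx.1, mul_zero]) (by rw [smul_right hf, hy.1, mul_zero])]
        exact M.mul_mem (hx.2 t) (hy.2 t)
      | smul c x _ hx =>
        refine ⟨by rw [smul_right hf, hx.1, mul_zero], fun t => ?_⟩
        rw [smul_smul]; exact hx.2 _
    simpa using (key x hxm).2 1
  -- every isotropic centre
  have hPv := hP v w hv0 hvv hww hvw hwv hvM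
  have hPmove : ∀ v u, v ≠ 0 → f v v = 0 → f u u = 0 → f v u ≠ 0 → (∀ x, f v x = 0 → ptv hf v x ∈ M) →
      ∀ x, f u x = 0 → ptv hf u x ∈ M := by
    intro v u hv0 hvv hu hvu hPv
    have hu0 : u ≠ 0 := fun h => hvu (by rw [h]; exact zero_right hf v)
    set X := uperp hf (F ∙ v ⊔ F ∙ u) with hX
    have hXd := finrank_uperp_ge hf (F ∙ v ⊔ F ∙ u)
    have h2 : Module.finrank F ↥(F ∙ v ⊔ F ∙ u) ≤ 2 := by
      have := Submodule.finrank_add_le_finrank_add_finrank (F ∙ v) (F ∙ u)
      rw [finrank_span_singleton hv0, finrank_span_singleton hu0] at this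
      exact this
    obtain ⟨a, ha, hau⟩ := SetLike.not_le_iff_exists.1 (show ¬ X ≤ F ∙ u by
      intro h; have := Submodule.finrank_mono h; rw [finrank_span_singleton hu0] at this
      rw [Fintype.card_fin, ← hX] at hXd; omega)
    obtain ⟨b, hb, hba⟩ := SetLike.not_le_iff_exists.1 (show ¬ X ≤ F ∙ u ⊔ F ∙ a by
      intro h; have := Submodule.finrank_mono h
      rw [Submodule.finrank_sup_span_singleton hau, finrank_span_singleton hu0] at this
      rw [Fintype.card_fin, ← hX] at hXd; omega)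
    obtain ⟨s, t, hst, hiso⟩ := exists_isotropic_pair hf a b
    obtain ⟨x, hxdef⟩ : ∃ x, x = s • a + t • b := ⟨_, rfl⟩
    rw [← hxdef] at hiso
    have hxX : x ∈ X := hxdef ▸ add_mem (X.smul_mem _ ha) (X.smul_mem _ hb)
    have hxv : f x v = 0 := hxX v (Submodule.mem_sup_left (Submodule.mem_span_singleton_self v))
    have hxu : f x u = 0 := hxX u (Submodule.mem_sup_right (Submodule.mem_span_singleton_self u))
    have hxu' : x ∉ F ∙ u := by
      intro h
      rcases eq_or_ne t 0 with rfl | ht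
      · refine hau ((Submodule.smul_mem_iff _ (hst.resolve_right (by simp))).1 ?_)
        rw [hxdef, zero_smul, add_zero] at h; exact h
      · refine hba ((Submodule.smul_mem_iff _ ht).1 ?_)
        rw [show t • b = x - s • a by rw [hxdef]; abel]
        exact Submodule.sub_mem _ (Submodule.mem_sup_left h)
          (Submodule.mem_sup_right (Submodule.smul_mem _ _ (Submodule.mem_span_singleton_self a)))
    have h3 := hstepL v x u (eq_zero_symm hf hxv) (hPv x (eq_zero_symm hf hxv)) hu hxu c₀ hc₀s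
    have hs0 : c₀ * f v u ≠ 0 := mul_ne_zero hc₀ hvu
    rw [ptv_smul hf u x _ (eq_zero_symm hf hxu)] at h3
    have hs0' : σ (c₀ * f v u) ≠ 0 := (map_ne_zero σ).2 hs0
    intro y hy
    refine hP u _ hu0 hu (by rw [smul_left hf, smul_right hf, hiso, mul_zero, mul_zero])
      (by rw [smul_right hf, eq_zero_symm hf hxu, mul_zero]) (fun h => hxu' ?_) h3 y hy
    exact (Submodule.smul_mem_iff _ hs0').1 h
  have hPiso : ∀ u, f u u = 0 → ∀ x, f u x = 0 → ptv hf u x ∈ M := by
    intro u hu
    rcases eq_or_ne u 0 with rfl | hu0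
    · intro x _; rw [ptv_zero_left]; exact M.one_mem
    obtain ⟨z, z', iz, -, za, iz', -, zb, hzz⟩ := exists_isotropic_two hf (by omega) (v := 0) (a := v) (b := u)
      (by simpa [Submodule.mem_span_singleton] using hv0) (by simpa [Submodule.mem_span_singleton] using hu0)
    have m1 := hPmove v z hv0 hvv iz (ne_symm hf za) hPv
    have hz0 : z ≠ 0 := fun h => za (by rw [h]; exact zero_left hf _)
    have hz'0 : z' ≠ 0 := fun h => zb (by rw [h]; exact zero_left hf _)
    have m2 : ∀ x, f z' x = 0 → ptv hf z' x ∈ M := by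
      rcases hzz with rfl | h
      · exact m1
      · exact hPmove z z' hz0 iz iz' h m1
    exact hPmove z' u hz'0 iz' hu zb m2
  -- all transvections
  refine le_antisymm hM2 (specialLinear_le_of_transvections M ?_)
  intro φ x hφ
  obtain ⟨y, hy⟩ := exists_repr hf φ
  have hxy : f x y = 0 := by rw [← hy]; exact hφ
  have e : tv φ x = ptv hf x y := by
    apply gl_ext; intro z
    rw [act_tv hφ, act_ptv hf hxy, hy]
  rw [e]
  rcases eq_or_ne y 0 with rfl | hy0
  · rw [ptv_zero_right]; exact M.one_mem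
  have key : ∀ x, x ∈ Submodule.span F {u | f u u = 0 ∧ f u y = 0 ∧ u ∉ F ∙ y} →
      f x y = 0 ∧ ∀ t : F, ptv hf (t • x) y ∈ M := by
    intro x hx
    induction hx using Submodule.span_induction with
    | mem x hx =>
      refine ⟨hx.2.1, fun t => hPiso _ ?_ _ ?_⟩
      · rw [smul_left hf, smul_right hf, hx.1, mul_zero, mul_zero]
      · rw [smul_left hf, hx.2.1, mul_zero]
    | zero => exact ⟨zero_left hf y, fun t => by rw [smul_zero, ptv_zero_left]; exact M.one_mem⟩
    | add a b _ _ ha hb =>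
      refine ⟨by rw [add_left hf, ha.1, hb.1, add_zero], fun t => ?_⟩
      rw [smul_add, ← ptv_add_left hf (by rw [smul_left hf, ha.1, mul_zero]) (by rw [smul_left hf, hb.1, mul_zero])]
      exact M.mul_mem (ha.2 t) (hb.2 t)
    | smul c a _ ha =>
      refine ⟨by rw [smul_left hf, ha.1, mul_zero], fun t => ?_⟩
      rw [smul_smul]; exact ha.2 _
  simpa using (key x (hspan y x hy0 hxy)).2 1


end Cfsg.Agent.S5643
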