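import Cfsg.Statements.S5644
import Cfsg.Agent.Lib.MaxCl.LinearOrth
-- import your own Cfsg.Agent.* helpers here

set_option autoImplicit false
open Cfsg

namespace Cfsg.Agent.S5644

/-- For a finite field F of odd order and n ≥ 13, let Q be a non-degenerate quadratic form on F^n (its polar form is non-degenerate). Then the elements of SL_n(F) that are similarities of Q (Q(gv) = c Q(v) for a non-zero scalar c depending on g) form a maximal subgroup of SL_n(F). -/
theorem result {F : Type*} [Field F] [Fintype F] (n : ℕ) (hn : 13 ≤ n) (hodd : Odd (Fintype.card F)) (Q : (Fin n → F) → F) (hQ : Cfsg.Geo.IsNondegenerateQuadraticForm Q) : Cfsg.Geo.IsMaximalIn (Cfsg.Geo.specialLinear (Fin n) F) (Cfsg.Geo.quadSimilarityGroup Q ⊓ Cfsg.Geo.specialLinear (Fin n) F) := by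
  obtain ⟨q, rfl, hnd⟩ := MaxCl.Orth.exists_form hQ
  have hn' : 6 ≤ Fintype.card (Fin n) := by rw [Fintype.card_fin]; omega
  have h2 : (2 : F) ≠ 0 := by
    intro h
    haveI : CharP F 2 := CharTwo.of_one_ne_zero_of_two_eq_zero one_ne_zero h
    obtain ⟨k, hk⟩ := hodd
    have := FiniteField.even_card_of_char_two (F := F) (ringChar.eq F 2)
    omega
  refine ⟨lt_of_le_of_ne inf_le_right ?_, ?_⟩
  · intro heq
    obtain ⟨u, v, -, -, hu, hv, -, -, huv, -⟩ := MaxCl.Orth.exists_two_pairs (Q := q) hnd (by omega)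
    have huu : QuadraticMap.polar (⇑q) u u = 0 := MaxCl.Orth.B_self_of_singular q hu
    have hdet : MaxCl.tv (QuadraticMap.polarBilin q u) u ∈ Cfsg.Geo.specialLinear (Fin n) F := by
      refine MonoidHom.mem_ker.2 (Units.ext ?_)
      simpa [MaxCl.det_eq_of_fix_hyperplane (MaxCl.act_tv (φ := QuadraticMap.polarBilin q u) huu), QuadraticMap.polarBilin_apply_apply, add_eq_left] using huu
    obtain ⟨c, hc⟩ := (inf_eq_right.1 heq) hdet
    have h1 := hc v
    rw [← MaxCl.act_apply, MaxCl.Orth.act_tvPol huu, huv, one_smul, MaxCl.Orth.Q_add q, hv, hu,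
      MaxCl.Orth.B_comm q v u, huv] at h1
    simp at h1
  intro M hM1 hM2
  by_cases hsub : M ≤ Cfsg.Geo.quadSimilarityGroup ⇑q
  · exact Or.inl (le_antisymm (le_inf hsub hM2) hM1)
  right
  obtain ⟨g, hgM, hg⟩ := SetLike.not_le_iff_exists.1 hsub
  have hsg : ∀ u w, MaxCl.Orth.sg q u w ∈ M := fun u w =>
    hM1 ⟨MaxCl.Orth.sg_mem_similarity u w, MaxCl.Orth.sg_mem_sl hnd hn' u w⟩
  obtain ⟨c, v, hc, hc0, hv0, hcv⟩ := MaxCl.Orth.exists_tvPol hnd hn' h2 hsg hgM hg
  exact le_antisymm hM2 (MaxCl.Orth.sl_le_of_tvPol hnd hn' h2 hsg hc hc0 hv0 hcv)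

end Cfsg.Agent.S5644
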