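import Cfsg.Statements.S5645
import Cfsg.Agent.Lib.MaxCl.SympStab

set_option autoImplicit false
open Cfsg Cfsg.Agent.MaxCl

namespace Cfsg.Agent.S5645

/-- For a finite field F and m ≥ 7, in the symplectic group Sp_2m(F) of the standard alternating form on F^(2m) (as a subgroup of GL_2m(F)), the stabiliser of any non-zero subspace on which the form vanishes identically is a maximal subgroup. -/
theorem result {F : Type*} [Field F] [Fintype F] (m : ℕ) (hm : 7 ≤ m) (W : Submodule F (Fin m ⊕ Fin m → F)) (hW0 : W ≠ ⊥) (hW : Cfsg.Geo.IsTotallySingularFor (Cfsg.sympForm m F) W) : Cfsg.Geo.IsMaximalIn (Cfsg.spGL m F) (Cfsg.Geo.subspaceStabilizer W ⊓ Cfsg.spGL m F) := by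
  have hf := sympForm_isSymplectic m F
  set f := Cfsg.sympForm m F
  have hWW : W ≤ perp hf W := fun x hx => (mem_perp hf).2 fun w hw => hW x hx w hw
  -- a vector outside the perp
  obtain ⟨w₀, hw₀, hw₀0⟩ : ∃ a ∈ W, a ≠ 0 := Submodule.exists_mem_ne_zero_of_ne_bot hW0
  obtain ⟨z₀, hz₀⟩ := (hf.nondegenerate w₀ hw₀0).1
  refine ⟨lt_of_le_of_ne inf_le_right ?_, ?_⟩
  · intro heq
    have hmem := (inf_eq_right.1 heq) (stv_mem hf z₀ 1 : stv hf z₀ 1 ∈ Cfsg.spGL m F)
    have h1 := (mem_subspaceStabilizer.1 hmem w₀).1 hw₀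
    rw [act_stv hf, W.add_mem_iff_right hw₀, one_mul, W.smul_mem_iff (f_ne_symm hf hz₀)] at h1
    exact hz₀ (hW z₀ h1 w₀ hw₀)
  intro M hM1 hM2
  by_cases hsub : M ≤ Cfsg.Geo.subspaceStabilizer W
  · exact Or.inl (le_antisymm (le_inf hsub hM2) hM1)
  right
  obtain ⟨g, hgM, hg⟩ := SetLike.not_le_iff_exists.1 hsub
  have hgf : g ∈ isoGroup f := hM2 hgM
  have hWf : ∀ u, u ∈ perp hf W → Full hf M u := fun u hu c =>
    hM1 ⟨stv_mem_stabilizer hf (Or.inr hu) c, stv_mem hf u c⟩
  obtain ⟨v₀, hv₀, hv₀W⟩ : ∃ v, Full hf M v ∧ v ∉ perp hf W := by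
    by_contra hno; push Not at hno
    apply hg
    have e : (perp hf W).map (act g) = perp hf W := by
      refine Submodule.eq_of_le_of_finrank_eq ?_ (finrank_map_act _ _)
      rintro _ ⟨u, hu, rfl⟩
      exact hno _ (full_conj hf hgM hgf (hWf u hu))
    rw [map_perp hf hgf] at e
    have e' : W.map (act g) = W := by rw [← perp_perp hf (W.map (act g)), e, perp_perp hf]
    exact mem_subspaceStabilizer_of_le fun v hv => e' ▸ ⟨v, hv, rfl⟩
  -- everything not orthogonal to `a`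
  have key : ∀ a ∈ W, f v₀ a ≠ 0 → ∀ x, f x a ≠ 0 → Full hf M x := by
    intro a ha h0 x hx
    set s := f v₀ a / f x a with hs
    have hs0 : s ≠ 0 := div_ne_zero h0 hx
    suffices H : Full hf M (s • x) by
      have := full_smul hf H s⁻¹
      rwa [inv_smul_smul₀ hs0] at this
    obtain ⟨y, hydef⟩ : ∃ y, y = s • x - v₀ := ⟨_, rfl⟩
    have hy : f y a = 0 := by
      rw [hydef, f_sub_left hf, f_smul_left hf, hs, div_mul_cancel₀ _ hx, sub_self]
    obtain ⟨b, hbdef⟩ : ∃ b, b = (f v₀ a)⁻¹ • y := ⟨_, rfl⟩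
    have hab : f a b = 0 := by
      rw [hbdef, f_smul_right hf, f_eq_zero_symm hf hy, mul_zero]
    have hba : f b a = 0 := f_eq_zero_symm hf hab
    let Y := stv hf (a + b) 1 * stv hf a (-1) * stv hf b (-1)
    have hY : ∀ z, act Y z = z + f z a • b + f z b • a := by
      intro z
      simp only [Y, act_mul, act_stv hf, f_add_left hf, f_smul_left hf, f_add_right hf,
        f_self hf, hab, hba]
      match_scalars <;> ring
    have hYf : Y ∈ isoGroup f :=
      mul_mem (mul_mem (stv_mem hf _ _) (stv_mem hf _ _)) (stv_mem hf _ _)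
    have hYW : Y ∈ Cfsg.Geo.subspaceStabilizer W := by
      refine mem_subspaceStabilizer_of_le fun z hz => ?_
      rw [hY, hW z hz a ha, zero_smul, add_zero]
      exact W.add_mem hz (W.smul_mem _ ha)
    have h1 := full_conj hf (hM1 ⟨hYW, hYf⟩) hYf hv₀
    rw [hY] at h1
    have hne : f (v₀ + f v₀ a • b + f v₀ b • a) a ≠ 0 := by
      simpa [f_add_left hf, f_smul_left hf, hba, f_self hf] using h0
    have h2 := full_add hf (hWf a (hWW ha)) h1 hne (-f v₀ b)
    rw [neg_smul, add_neg_cancel_right, hbdef, smul_inv_smul₀ h0, hydef, add_sub_cancel] at h2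
    exact h2
  refine le_antisymm hM2 (isoGroup_le_of_full hf M fun x => ?_)
  by_cases hx : x ∈ perp hf W
  · exact hWf x hx
  simp only [mem_perp hf] at hx hv₀W
  push Not at hx hv₀W
  obtain ⟨a₁, ha₁, hxa⟩ := hx
  obtain ⟨a₂, ha₂, hva⟩ := hv₀W
  by_cases h : f v₀ a₁ = 0
  · by_cases h' : f x a₂ = 0
    · refine key (a₁ + a₂) (W.add_mem ha₁ ha₂) ?_ x ?_
      · rw [f_add_right hf, h, zero_add]; exact hva
      · rw [f_add_right hf, h', add_zero]; exact hxa
    · exact key a₂ ha₂ hva x h'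
  · exact key a₁ ha₁ h x hxa


end Cfsg.Agent.S5645
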