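import Cfsg.Statements.S5646
import Cfsg.Agent.Lib.MaxCl.SympStab

set_option autoImplicit false
open Cfsg Cfsg.Agent.MaxCl

namespace Cfsg.Agent.S5646

/-- For a finite field F and m ≥ 7, in the symplectic group Sp_2m(F) of the standard alternating form on F^(2m), the stabiliser of any non-zero subspace W on which the form is non-degenerate and with dim W < m is a maximal subgroup. -/
theorem result {F : Type*} [Field F] [Fintype F] (m : ℕ) (hm : 7 ≤ m) (W : Submodule F (Fin m ⊕ Fin m → F)) (hW0 : W ≠ ⊥) (hW : Cfsg.Geo.IsNondegenerateOn (Cfsg.sympForm m F) W) (hdim : Module.finrank F W < m) : Cfsg.Geo.IsMaximalIn (Cfsg.spGL m F) (Cfsg.Geo.subspaceStabilizer W ⊓ Cfsg.spGL m F) := by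
  have hf := sympForm_isSymplectic m F
  set f := Cfsg.sympForm m F
  have hcard : Fintype.card (Fin m ⊕ Fin m) = m + m := by simp
  have hdisj : ∀ x, x ∈ W → x ∈ perp hf W → x = 0 := by
    intro x hx hx'
    by_contra h0
    obtain ⟨y, hy, hxy⟩ := (hW x hx h0).2
    exact hxy ((mem_perp hf).1 hx' y hy)
  have hsup : ∀ v, ∃ a ∈ W, ∃ b ∈ perp hf W, a + b = v := by
    intro v
    refine Submodule.mem_sup.1 ?_
    have : W ⊔ perp hf W = ⊤ := by
      apply Submodule.eq_top_of_finrank_eq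
      have h := Submodule.finrank_sup_add_finrank_inf_eq W (perp hf W)
      have hinf : W ⊓ perp hf W = ⊥ := (Submodule.eq_bot_iff _).2 fun x hx => hdisj x hx.1 hx.2
      rw [hinf, finrank_bot, finrank_perp hf, hcard] at h
      rw [Module.finrank_pi, hcard]
      omega
    rw [this]; trivial
  -- a vector outside both subspaces
  obtain ⟨a₀, ha₀, ha₀0⟩ : ∃ a ∈ W, a ≠ 0 := Submodule.exists_mem_ne_zero_of_ne_bot hW0
  obtain ⟨b₀, hb₀, hb₀0⟩ : ∃ b ∈ perp hf W, b ≠ 0 := by
    apply Submodule.exists_mem_ne_zero_of_ne_bot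
    intro h
    have := finrank_perp hf W
    rw [h, finrank_bot, hcard] at this
    omega
  refine ⟨lt_of_le_of_ne inf_le_right ?_, ?_⟩
  · intro heq
    have hmem := (inf_eq_right.1 heq) (stv_mem hf (a₀ + b₀) 1 : stv hf (a₀ + b₀) 1 ∈ Cfsg.spGL m F)
    obtain ⟨x, hx, hxa⟩ := (hW a₀ ha₀ ha₀0).1
    have h1 := (mem_subspaceStabilizer.1 hmem x).1 hx
    have hfx : f x (a₀ + b₀) = f x a₀ := by
      rw [f_add_right hf, f_eq_zero_symm hf ((mem_perp hf).1 hb₀ x hx), add_zero]
    rw [act_stv hf, one_mul, hfx, W.add_mem_iff_right hx, W.smul_mem_iff hxa,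
      W.add_mem_iff_right ha₀] at h1
    exact hb₀0 (hdisj _ h1 hb₀)
  intro M hM1 hM2
  by_cases hsub : M ≤ Cfsg.Geo.subspaceStabilizer W
  · exact Or.inl (le_antisymm (le_inf hsub hM2) hM1)
  right
  obtain ⟨g, hgM, hg⟩ := SetLike.not_le_iff_exists.1 hsub
  have hgf : g ∈ isoGroup f := hM2 hgM
  have hWf : ∀ u, u ∈ W ∨ u ∈ perp hf W → Full hf M u := fun u hu c =>
    hM1 ⟨stv_mem_stabilizer hf hu c, stv_mem hf u c⟩
  obtain ⟨a, ha, b, hb, ha0, hb0, hab⟩ : ∃ a ∈ W, ∃ b ∈ perp hf W, a ≠ 0 ∧ b ≠ 0 ∧ Full hf M (a + b) := by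
    by_contra hno; push Not at hno
    have hall : ∀ u, u ∈ W ∨ u ∈ perp hf W → act g u ∈ W ∨ act g u ∈ perp hf W := by
      intro u hu
      obtain ⟨a, ha, b, hb, e⟩ := hsup (act g u)
      rcases eq_or_ne a 0 with rfl | ha0
      · right; rw [← e, zero_add]; exact hb
      rcases eq_or_ne b 0 with rfl | hb0
      · left; rw [← e, add_zero]; exact ha
      exact absurd (e ▸ full_conj hf hgM hgf (hWf u hu)) (hno a ha b hb ha0 hb0)
    have hcl : ∀ U : Submodule F (Fin m ⊕ Fin m → F), (∀ u ∈ U, u ∈ W ∨ u ∈ perp hf W) →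
        U.map (act g) ≤ W ∨ U.map (act g) ≤ perp hf W := by
      intro U hU
      by_contra h; push Not at h
      obtain ⟨x, hx, hxW⟩ := SetLike.not_le_iff_exists.1 h.1
      obtain ⟨y, hy, hyW⟩ := SetLike.not_le_iff_exists.1 h.2
      have mem : ∀ z ∈ U.map (act g), z ∈ W ∨ z ∈ perp hf W := by
        rintro _ ⟨u, hu, rfl⟩; exact hall u (hU u hu)
      have hx' := (mem x hx).resolve_left hxW
      have hy' := (mem y hy).resolve_right hyW
      rcases mem (x + y) (add_mem hx hy) with hh | hh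
      · exact hxW (by simpa using W.sub_mem hh hy')
      · exact hyW (by simpa using (perp hf W).sub_mem hh hx')
    apply hg
    refine mem_subspaceStabilizer_of_le fun v hv => ?_
    rcases hcl W (fun u hu => Or.inl hu) with h | h
    · exact h ⟨v, hv, rfl⟩
    rcases hcl (perp hf W) (fun u hu => Or.inr hu) with h' | h'
    · have := Submodule.finrank_mono h'
      rw [finrank_map_act, finrank_perp hf, hcard] at this
      omega
    have e : (perp hf W).map (act g) = perp hf W :=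
      Submodule.eq_of_le_of_finrank_eq h' (finrank_map_act _ _)
    rw [map_perp hf hgf] at e
    have e' : W.map (act g) = W := by rw [← perp_perp hf (W.map (act g)), e, perp_perp hf]
    exact e' ▸ ⟨v, hv, rfl⟩
  refine le_antisymm hM2 (isoGroup_le_of_full hf M fun v => ?_)
  obtain ⟨a', ha', b', hb', rfl⟩ := hsup v
  rcases eq_or_ne a' 0 with rfl | ha'0
  · rw [zero_add]; exact hWf _ (Or.inr hb')
  rcases eq_or_ne b' 0 with rfl | hb'0
  · rw [add_zero]; exact hWf _ (Or.inl ha')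
  have hbW : ∀ w ∈ W, f b w = 0 := (mem_perp hf).1 hb
  have h1 := full_move_in hf hW (fun u hu => hWf u (Or.inl hu)) ha ha0 hbW hab ha' ha'0
  have hperpnd : Cfsg.Geo.IsNondegenerateOn f (perp hf W) := by
    intro w hw hw0
    obtain ⟨x, hx⟩ := (hf.nondegenerate w hw0).1
    obtain ⟨p, hp, r, hr, rfl⟩ := hsup x
    rw [f_add_left hf, f_eq_zero_symm hf ((mem_perp hf).1 hw p hp), zero_add] at hx
    exact ⟨⟨r, hr, hx⟩, ⟨r, hr, f_ne_symm hf hx⟩⟩
  rw [add_comm] at h1 ⊢
  exact full_move_in hf hperpnd (fun u hu => hWf u (Or.inr hu)) hb hb0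
    (fun w hw => f_eq_zero_symm hf ((mem_perp hf).1 hw a' ha')) h1 hb' hb'0


end Cfsg.Agent.S5646
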