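import Cfsg.Statements.S5647
import Cfsg.Agent.Lib.MaxCl.SympSwap

set_option autoImplicit false
open Cfsg Cfsg.Agent.MaxCl

namespace Cfsg.Agent.S5647

/-- For a finite field F with q elements and m ≥ 7, let D be a decomposition of F^(2m) into t ≥ 2 pairwise orthogonal subspaces of equal dimension k on each of which the standard alternating form is non-degenerate, spanning F^(2m). Unless k = 2 and q = 2, the elements of Sp_2m(F) permuting the members of D form a maximal subgroup of Sp_2m(F). -/
theorem result {F : Type*} [Field F] [Fintype F] (m : ℕ) (hm : 7 ≤ m) {t : ℕ} (k : ℕ) (D : Fin t → Submodule F (Fin m ⊕ Fin m → F)) (hD : Cfsg.Geo.IsNondegenerateMDecomposition (Cfsg.sympForm m F) k D) (hex : ¬ (k = 2 ∧ Fintype.card F = 2)) : Cfsg.Geo.IsMaximalIn (Cfsg.spGL m F) (Cfsg.Geo.decompositionStabilizer D ⊓ Cfsg.spGL m F) := by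
  classical
  have hf := sympForm_isSymplectic m F
  set f := Cfsg.sympForm m F
  have hdim := hD.decomp.finrank_eq
  have ht : 2 ≤ t := hD.decomp.two_le
  have hk0 : 0 < k := hD.decomp.pos
  have hex0 : ∀ i, ∃ x ∈ D i, x ≠ 0 := fun i => Submodule.exists_mem_ne_zero_of_ne_bot (by
    intro h; have := hdim i; rw [h, finrank_bot] at this; omega)
  have hex1 : ∀ i, ∃ x ∈ D i, ∃ y ∈ D i, f x y ≠ 0 := by
    intro i
    obtain ⟨x, hx, hx0⟩ := hex0 i
    obtain ⟨y, hy, h⟩ := (hD.nondegenerate i x hx hx0).2
    exact ⟨x, hx, y, hy, h⟩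
  have hex2 : ∀ i, ∃ x ∈ D i, ∃ y ∈ D i, x ≠ 0 ∧ y ≠ 0 ∧ x + y ≠ 0 ∧ f x y = 0 := by
    intro i
    obtain ⟨x, hx, hx0⟩ := hex0 i
    by_cases hq : ∃ a : F, a ≠ 0 ∧ a ≠ -1
    · obtain ⟨a, ha, ha'⟩ := hq
      refine ⟨x, hx, a • x, (D i).smul_mem a hx, hx0, smul_ne_zero ha hx0, ?_, ?_⟩
      · rw [show x + a • x = (1 + a) • x by rw [add_smul, one_smul]]
        exact smul_ne_zero (fun h => ha' (eq_neg_of_add_eq_zero_right h)) hx0
      · rw [f_smul_right hf, f_self hf, mul_zero]
    · push Not at hq
      have hk2 : 3 ≤ k := by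
        by_contra hk2
        obtain ⟨y, hy, hxy⟩ := (hD.nondegenerate i x hx hx0).2
        have hle : F ∙ x ≤ D i := (Submodule.span_singleton_le_iff_mem _ _).2 hx
        rcases Nat.lt_or_ge k 2 with hk1 | hk1
        · have : F ∙ x = D i := Submodule.eq_of_le_of_finrank_eq hle (by
            rw [finrank_span_singleton hx0, hdim i]; omega)
          rw [← this] at hy
          obtain ⟨a, rfl⟩ := Submodule.mem_span_singleton.1 hy
          rw [f_smul_right hf, f_self hf, mul_zero] at hxy
          exact hxy rfl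
        · have hc : (Finset.univ : Finset F) = {0, -1} := Finset.ext fun a => by
            simp only [Finset.mem_univ, Finset.mem_insert, Finset.mem_singleton, true_iff]
            exact (em (a = 0)).imp_right (fun h => hq a h)
          have hc' : Fintype.card F ≤ 2 := by
            rw [← Finset.card_univ, hc]; exact Finset.card_le_two
          exact hex ⟨by omega, le_antisymm hc' Fintype.one_lt_card⟩
      obtain ⟨y, hy, hyx⟩ := SetLike.not_le_iff_exists.1 (show ¬ D i ⊓ LinearMap.ker (flin hf.bilinear x) ≤ F ∙ x by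
        intro hle
        have h1 := Submodule.finrank_mono hle
        rw [finrank_span_singleton hx0] at h1
        have h2 := Submodule.finrank_sup_add_finrank_inf_eq (D i) (LinearMap.ker (flin hf.bilinear x))
        have h3 := Submodule.finrank_le (D i ⊔ LinearMap.ker (flin hf.bilinear x))
        have h4 := LinearMap.finrank_range_add_finrank_ker (flin hf.bilinear x)
        have h5 : Module.finrank F (LinearMap.range (flin hf.bilinear x)) ≤ 1 := by
          simpa using Submodule.finrank_le (LinearMap.range (flin hf.bilinear x))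
        have := hdim i
        omega)
      refine ⟨x, hx, y, hy.1, hx0, ?_, ?_, f_eq_zero_symm hf (LinearMap.mem_ker.1 hy.2)⟩
      · rintro rfl; exact hyx (Submodule.zero_mem _)
      · intro h; apply hyx
        rw [eq_neg_of_add_eq_zero_right h]
        exact Submodule.neg_mem _ (Submodule.mem_span_singleton_self _)
  have hdisj : ∀ i j, i ≠ j → ∀ x, x ∈ D i → x ∈ D j → x = 0 := fun i j hij x hi hj => by
    by_contra h
    obtain ⟨y, hy, hxy⟩ := (hD.nondegenerate i x hi h).2
    exact hxy (f_eq_zero_symm hf (hD.orthogonal i j hij y hy x hj))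
  have hrep : ∀ v, ∃ d : Fin t → (Fin m ⊕ Fin m → F), (∀ i, d i ∈ D i) ∧ ∑ i, d i = v := by
    intro v
    have hv : v ∈ ⨆ i, D i := by
      rw [show (⨆ i, D i) = ⊤ from hD.decomp.iSup_eq_top]; trivial
    obtain ⟨d, hd⟩ := (Submodule.mem_iSup_iff_exists_finsupp D v).1 hv
    exact ⟨d, hd.1, by rw [← hd.2, Finsupp.sum_fintype _ _ (fun _ => rfl)]⟩
  have hsum : ∀ (s : Finset (Fin t)) (d : Fin t → (Fin m ⊕ Fin m → F)), (∀ i ∈ s, d i ∈ D i) →
      ∀ j, ∀ x ∈ D j, f (∑ i ∈ s, d i) x = if j ∈ s then f (d j) x else 0 := by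
    intro s d hd j x hx
    rw [← flin_apply hf.bilinear, map_sum]
    simp only [flin_apply]
    rw [← Finset.sum_ite_eq' s j (fun i => f (d i) x)]
    refine Finset.sum_congr rfl fun i hi => ?_
    split
    · rfl
    · exact hD.orthogonal i j (by assumption) _ (hd i hi) x hx
  have hmap : ∀ {g : GL (Fin m ⊕ Fin m) F} {i j : Fin t}, (∀ x ∈ D i, act g x ∈ D j) →
      (D i).map (act g) = D j := fun {g i j} h =>
    Submodule.eq_of_le_of_finrank_eq (Submodule.map_le_iff_le_comap.2 h)
      (by rw [finrank_map_act, hdim, hdim])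
  have hmem : ∀ (g : GL (Fin m ⊕ Fin m) F) (σ : Equiv.Perm (Fin t)),
      (∀ i, ∀ x ∈ D i, act g x ∈ D (σ i)) → g ∈ Cfsg.Geo.decompositionStabilizer D :=
    fun g σ h => ⟨σ, fun i => hmap (h i)⟩
  -- strictness
  refine ⟨lt_of_le_of_ne inf_le_right ?_, ?_⟩
  · intro heq
    let i : Fin t := ⟨0, by omega⟩
    let j : Fin t := ⟨1, by omega⟩
    have hij : i ≠ j := by simp [i, j, Fin.ext_iff]
    obtain ⟨x, hx, y, hy, hxy⟩ := hex1 i
    obtain ⟨b, hb, hb0⟩ := hex0 j
    obtain ⟨σ, hσ⟩ := (inf_eq_right.1 heq) (stv_mem hf (y + b) 1 : stv hf (y + b) 1 ∈ Cfsg.spGL m F)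
    have h1 : act (stv hf (y + b) 1) x ∈ D (σ i) := by
      rw [← hσ i]; exact ⟨x, hx, rfl⟩
    rw [act_stv hf, f_add_right hf, hD.orthogonal i j hij x hx b hb, add_zero, one_mul, smul_add] at h1
    rcases eq_or_ne (σ i) i with hsi | hsi
    · rw [hsi, ← add_assoc, (D i).add_mem_iff_right ((D i).add_mem hx ((D i).smul_mem _ hy))] at h1
      exact smul_ne_zero hxy hb0 (hdisj i j hij _ h1 ((D j).smul_mem _ hb))
    · -- pair against a vector of `D i`
      obtain ⟨z, hz, hz'⟩ := (hD.nondegenerate i (x + f x y • y) ((D i).add_mem hx ((D i).smul_mem _ hy)) (by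
        intro h
        have := congrArg (flin hf.bilinear y) h
        simp [flin_apply, f_self hf, f_zero_left hf, f_add_left hf, f_smul_left hf] at this
        exact hxy this)).2
      have := hD.orthogonal (σ i) i hsi _ h1 z hz
      rw [← add_assoc, f_add_left hf, f_smul_left hf (f x y) b, hD.orthogonal j i hij.symm b hb z hz,
        mul_zero, add_zero] at this
      exact hz' this
  intro M hM1 hM2
  by_cases hsub : M ≤ Cfsg.Geo.decompositionStabilizer D
  · exact Or.inl (le_antisymm (le_inf hsub hM2) hM1)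
  right
  obtain ⟨g, hgM, hg⟩ := SetLike.not_le_iff_exists.1 hsub
  have hgf : g ∈ isoGroup f := hM2 hgM
  have hDf : ∀ i, ∀ u ∈ D i, Full hf M u := by
    intro i u hu c
    refine hM1 ⟨hmem _ 1 fun j x hx => ?_, stv_mem hf u c⟩
    rw [act_stv hf, Equiv.Perm.one_apply]
    rcases eq_or_ne j i with rfl | hji
    · exact (D j).add_mem hx ((D j).smul_mem _ hu)
    · rw [hD.orthogonal j i hji x hx u hu]; simpa using hx
  -- changing components
  let S : Finset (Fin t) → Prop := fun s =>
    ∀ d : Fin t → (Fin m ⊕ Fin m → F), (∀ i ∈ s, d i ∈ D i ∧ d i ≠ 0) → Full hf M (∑ i ∈ s, d i)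
  have hS : ∀ (s : Finset (Fin t)) (d : Fin t → (Fin m ⊕ Fin m → F)),
      (∀ i ∈ s, d i ∈ D i ∧ d i ≠ 0) → Full hf M (∑ i ∈ s, d i) → S s := by
    intro s d hd hfull d' hd'
    suffices H : ∀ r : Finset (Fin t), r ⊆ s → Full hf M (∑ i ∈ s, if i ∈ r then d' i else d i) by
      have := H s subset_rfl
      rwa [Finset.sum_congr rfl (fun i hi => if_pos hi)] at this
    intro r
    induction r using Finset.induction_on with
    | empty => intro; simpa using hfull
    | insert a r har ih =>
      intro hrs
      have has : a ∈ s := hrs (Finset.mem_insert_self a r)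
      have h := ih (fun i hi => hrs (Finset.mem_insert_of_mem hi))
      rw [← Finset.add_sum_erase s _ has, if_neg har] at h
      rw [← Finset.add_sum_erase s _ has, if_pos (Finset.mem_insert_self a r)]
      have e : ∀ i ∈ s.erase a, (if i ∈ insert a r then d' i else d i) = if i ∈ r then d' i else d i := by
        intro i hi
        simp [Finset.ne_of_mem_erase hi]
      rw [Finset.sum_congr rfl e]
      refine full_move_in hf (hD.nondegenerate a) (hDf a) (hd a has).1 (hd a has).2 ?_ h
        (hd' a has).1 (hd' a has).2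
      intro w hw
      rw [hsum _ _ (fun i hi => ?_) a w hw, if_neg (Finset.notMem_erase a s)]
      split
      · exact (hd' i (Finset.mem_of_mem_erase hi)).1
      · exact (hd i (Finset.mem_of_mem_erase hi)).1
  -- a vector with at least two components
  obtain ⟨s₀, hs₀, hS₀⟩ : ∃ s : Finset (Fin t), 2 ≤ s.card ∧ S s := by
    by_contra hno
    apply hg
    have hin : ∀ i, ∀ x ∈ D i, ∃ j, act g x ∈ D j := by
      intro i x hx
      obtain ⟨d, hd, hdsum⟩ := hrep (act g x)
      set s := Finset.univ.filter (fun i => d i ≠ 0) with hs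
      have hsum' : ∑ i ∈ s, d i = act g x := by
        rw [hs, Finset.sum_filter_ne_zero, hdsum]
      have hc : s.card ≤ 1 := by
        by_contra hc
        exact hno ⟨s, by omega, hS s d (fun i hi => ⟨hd i, (Finset.mem_filter.1 hi).2⟩)
          (hsum' ▸ full_conj hf hgM hgf (hDf i x hx))⟩
      rcases Nat.le_one_iff_eq_zero_or_eq_one.1 hc with h0 | h1
      · refine ⟨i, ?_⟩
        rw [← hsum', Finset.card_eq_zero.1 h0, Finset.sum_empty]; exact Submodule.zero_mem _
      · obtain ⟨j, hj⟩ := Finset.card_eq_one.1 h1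
        exact ⟨j, by rw [← hsum', hj, Finset.sum_singleton]; exact hd j⟩
    have hto : ∀ i, ∃ j, ∀ x ∈ D i, act g x ∈ D j := by
      intro i
      obtain ⟨x, hx, hx0⟩ := hex0 i
      obtain ⟨j, hj⟩ := hin i x hx
      refine ⟨j, fun y hy => ?_⟩
      obtain ⟨l, hl⟩ := hin i y hy
      rcases eq_or_ne l j with rfl | hlj
      · exact hl
      obtain ⟨p, hp⟩ := hin i (x + y) ((D i).add_mem hx hy)
      rw [map_add] at hp
      rcases eq_or_ne p j with rfl | hpj
      · exact ((D p).add_mem_iff_right hj).1 hp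
      rcases eq_or_ne p l with rfl | hpl
      · have := hdisj p j hlj _ (((D p).add_mem_iff_left hl).1 hp) hj
        exact absurd (act_injective g (this.trans (map_zero _).symm)) hx0
      exfalso
      obtain ⟨z, hz, hz'⟩ := (hD.nondegenerate j (act g x) hj
        (fun h => hx0 (act_injective g (h.trans (map_zero _).symm)))).1
      apply hz'
      have e1 := hD.orthogonal j p hpj.symm z hz _ hp
      rwa [f_add_right hf, hD.orthogonal j l hlj.symm z hz _ hl, add_zero] at e1
    choose σ hσ using hto
    have hinj : Function.Injective σ := by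
      intro a b hab
      by_contra hne
      obtain ⟨x, hx, hx0⟩ := hex0 a
      have e1 := hmap (hσ a)
      have e2 := hmap (hσ b)
      have hgx : act g x ∈ (D b).map (act g) := by rw [e2, ← hab]; exact hσ a x hx
      obtain ⟨y, hy, hyx⟩ := hgx
      rw [act_injective g hyx] at hy
      exact hx0 (hdisj a b hne x hx hy)
    exact hmem g (Equiv.ofBijective σ (Finite.injective_iff_bijective.1 hinj)) hσ
  -- two components
  obtain ⟨i₀, hi₀, j₀, hj₀, hij₀⟩ := Finset.one_lt_card.1 hs₀
  have hpair0 : S {i₀, j₀} := by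
    obtain ⟨a, ha, a', ha', haa⟩ := hex1 i₀
    obtain ⟨b, hb, b', hb', hb0, hb'0, hbb, hbb'⟩ := hex2 j₀
    choose z hz hz0 using hex0
    let d : Fin t → (Fin m ⊕ Fin m → F) := fun i => if i = i₀ then a else if i = j₀ then b else z i
    let e : Fin t → (Fin m ⊕ Fin m → F) := fun i => if i = i₀ then a' else if i = j₀ then b' else -z i
    have ha0 : a ≠ 0 := fun h => haa (by rw [h, f_zero_left hf])
    have ha'0 : a' ≠ 0 := fun h => haa (by rw [h, f_zero_right hf])
    have haa0 : a + a' ≠ 0 := by
      intro h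
      rw [eq_neg_of_add_eq_zero_right h, ← neg_one_smul F a, f_smul_right hf, f_self hf, mul_zero] at haa
      exact haa rfl
    have hd : ∀ i ∈ s₀, d i ∈ D i ∧ d i ≠ 0 := by
      intro i _; simp only [d]; split
      · subst i; exact ⟨ha, ha0⟩
      · split
        · subst i; exact ⟨hb, hb0⟩
        · exact ⟨hz i, hz0 i⟩
    have he : ∀ i ∈ s₀, e i ∈ D i ∧ e i ≠ 0 := by
      intro i _; simp only [e]; split
      · subst i; exact ⟨ha', ha'0⟩
      · split
        · subst i; exact ⟨hb', hb'0⟩
        · exact ⟨(D i).neg_mem (hz i), neg_ne_zero.2 (hz0 i)⟩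
    have hde : f (∑ i ∈ s₀, d i) (∑ i ∈ s₀, e i) = f a a' := by
      rw [show f (∑ i ∈ s₀, d i) (∑ i ∈ s₀, e i) = ∑ i ∈ s₀, f (d i) (e i) from ?_]
      · rw [Finset.sum_eq_single i₀]
        · simp [d, e]
        · intro i _ hne
          simp only [d, e, if_neg hne]
          split
          · exact hbb'
          · rw [← neg_one_smul F (z i), f_smul_right hf, f_self hf, mul_zero]
        · exact fun h => absurd hi₀ h
      rw [← toBil_apply hf.bilinear, map_sum]
      refine Finset.sum_congr rfl fun i hi => ?_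
      rw [toBil_apply, hsum s₀ d (fun j hj => (hd j hj).1) i _ (he i hi).1, if_pos hi]
    have h2 := full_add hf (hS₀ e he) (hS₀ d hd) (by rw [hde]; exact haa) 1
    rw [one_smul, ← Finset.sum_add_distrib,
      ← Finset.sum_subset (s₁ := {i₀, j₀}) (by simp [Finset.insert_subset_iff, hi₀, hj₀])] at h2
    · refine hS _ _ (fun i hi => ?_) h2
      rcases Finset.mem_insert.1 hi with rfl | hi
      · simpa [d, e] using ⟨(D i).add_mem ha ha', haa0⟩
      · rw [Finset.mem_singleton] at hi; subst hi
        simpa [d, e, hij₀.symm] using ⟨(D i).add_mem hb hb', hbb⟩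
    · intro i _ hi
      simp only [Finset.mem_insert, Finset.mem_singleton, not_or] at hi
      simp [d, e, hi.1, hi.2]
  -- all pairs
  have hswap : ∀ a b c : Fin t, a ≠ b → S {a, b} → c ≠ b → S {c, b} := by
    intro a b c hab hSab hcb
    rcases eq_or_ne a c with rfl | hac
    · exact hSab
    obtain ⟨h, hhf, hh1, hh2, hh3⟩ := exists_swap hf k (D a) (D c) (hdim a) (hdim c)
      (hD.nondegenerate a) (hD.nondegenerate c) (hD.orthogonal a c hac)
    have hfix : ∀ l, l ≠ a → l ≠ c → ∀ x ∈ D l, act h x = x := fun l hla hlc x hx =>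
      hh3 x (fun u hu => hD.orthogonal l a hla x hx u hu) (fun u hu => hD.orthogonal l c hlc x hx u hu)
    have hhM : h ∈ M := by
      refine hM1 ⟨hmem h (Equiv.swap a c) fun l x hx => ?_, hhf⟩
      by_cases h1 : l = a
      · subst h1; rw [Equiv.swap_apply_left]; exact hh1 x hx
      by_cases h2 : l = c
      · subst h2; rw [Equiv.swap_apply_right]; exact hh2 x hx
      rw [Equiv.swap_apply_of_ne_of_ne h1 h2, hfix l h1 h2 x hx]; exact hx
    choose z hz hz0 using hex0
    have := full_conj hf hhM hhf (hSab z (fun i _ => ⟨hz i, hz0 i⟩))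
    rw [map_sum, Finset.sum_pair hab, hfix b hab.symm hcb.symm _ (hz b)] at this
    refine hS _ (fun i => if i = b then z b else act h (z a)) (fun i hi => ?_) ?_
    · rcases Finset.mem_insert.1 hi with rfl | hi
      · simp only [if_neg hcb]
        exact ⟨hh1 _ (hz a), fun e => hz0 a (act_injective h (e.trans (map_zero _).symm))⟩
      · rw [Finset.mem_singleton] at hi; subst hi; simp [hz, hz0]
    · rw [Finset.sum_pair hcb]; simpa [hcb] using this
  have hpairs : ∀ a b, a ≠ b → S {a, b} := by
    intro a b hab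
    rcases eq_or_ne a j₀ with rfl | haj
    · have h1 := hswap i₀ a b hij₀ hpair0 hab.symm
      rwa [Finset.pair_comm]
    · have h1 := hswap i₀ j₀ a hij₀ hpair0 haj
      rw [Finset.pair_comm] at h1
      have h2 := hswap j₀ a b haj.symm h1 hab.symm
      rwa [Finset.pair_comm]
  -- all supports
  have hall : ∀ s : Finset (Fin t), S s := by
    intro s
    induction s using Finset.induction_on with
    | empty => intro d _; simpa using full_zero hf M
    | insert j s hjs ih =>
      rcases s.eq_empty_or_nonempty with rfl | ⟨l, hl⟩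
      · intro d hd
        simp only [insert_empty_eq, Finset.sum_singleton]
        exact hDf j _ (hd j (by simp)).1
      choose z hz hz0 using hex0
      obtain ⟨x, hx, y, hy, hxy⟩ := hex1 l
      have hx0 : x ≠ 0 := fun h => hxy (by rw [h, f_zero_left hf])
      have hy0 : y ≠ 0 := fun h => hxy (by rw [h, f_zero_right hf])
      have hxy0 : x + y ≠ 0 := by
        intro h
        rw [eq_neg_of_add_eq_zero_right h, ← neg_one_smul F x, f_smul_right hf, f_self hf, mul_zero] at hxy
        exact hxy rfl
      have hlj : l ≠ j := fun h => hjs (h ▸ hl)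
      let d : Fin t → (Fin m ⊕ Fin m → F) := fun i => if i = l then x else z i
      have hd : ∀ i ∈ s, d i ∈ D i ∧ d i ≠ 0 := by
        intro i _; simp only [d]; split
        · subst i; exact ⟨hx, hx0⟩
        · exact ⟨hz i, hz0 i⟩
      have h1 := ih d hd
      have h2 := hpairs l j hlj (fun i => if i = l then y else z i) (fun i hi => by
        split
        · subst i; exact ⟨hy, hy0⟩
        · exact ⟨hz i, hz0 i⟩)
      rw [Finset.sum_pair hlj] at h2
      simp only [if_true, if_neg hlj.symm] at h2
      have hne : f (∑ i ∈ s, d i) (y + z j) ≠ 0 := by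
        rw [f_add_right hf, hsum s d (fun i hi => (hd i hi).1) l y hy, if_pos hl,
          hsum s d (fun i hi => (hd i hi).1) j (z j) (hz j), if_neg hjs, add_zero]
        simpa [d] using hxy
      have h3 := full_add hf h2 h1 hne 1
      refine hS _ (fun i => if i = l then x + y else z i) (fun i hi => ?_) ?_
      · split
        · subst i; exact ⟨(D _).add_mem hx hy, hxy0⟩
        · exact ⟨hz i, hz0 i⟩
      · rw [Finset.sum_insert hjs, if_neg hlj.symm]
        have e : (fun i => if i = l then x + y else z i) = fun i => d i + if i = l then y else 0 := by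
          funext i; simp only [d]; split <;> simp
        rw [e, Finset.sum_add_distrib, Finset.sum_ite_eq' s l (fun _ => y), if_pos hl]
        convert h3 using 1
        rw [one_smul]; abel
  refine le_antisymm hM2 (isoGroup_le_of_full hf M fun v => ?_)
  obtain ⟨d, hd, rfl⟩ := hrep v
  rw [← Finset.sum_filter_ne_zero (s := Finset.univ)]
  exact hall _ d (fun i hi => ⟨hd i, (Finset.mem_filter.1 hi).2⟩)


end Cfsg.Agent.S5647
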