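import Cfsg.Statements.S5648
import Cfsg.Agent.Lib.MaxCl.SympStab

set_option autoImplicit false
open Cfsg Cfsg.Agent.MaxCl

namespace Cfsg.Agent.S5648

/-- Over the field with 2 elements and for m ≥ 7, let D be a decomposition of F^(2m) into t pairwise orthogonal non-degenerate 2-dimensional subspaces for the standard alternating form (t = m ≥ 2). Then the elements of Sp_2m(2) permuting the members of D form a subgroup that is not maximal: some subgroup lies strictly between it and Sp_2m(2). -/
theorem result {F : Type*} [Field F] [Fintype F] (m : ℕ) (hm : 7 ≤ m) (hq : Fintype.card F = 2) {t : ℕ} (D : Fin t → Submodule F (Fin m ⊕ Fin m → F)) (hD : Cfsg.Geo.IsNondegenerateMDecomposition (Cfsg.sympForm m F) 2 D) : ∃ K : Subgroup (Matrix.GeneralLinearGroup (Fin m ⊕ Fin m) F), Cfsg.Geo.decompositionStabilizer D ⊓ Cfsg.spGL m F < K ∧ K < Cfsg.spGL m F := by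
  classical
  have hf := sympForm_isSymplectic m F
  set f := Cfsg.sympForm m F
  have hdim := hD.decomp.finrank_eq
  have h01 : ∀ a : F, a = 0 ∨ a = 1 := by
    intro a
    by_contra h; push Not at h
    have : ({0, 1, a} : Finset F).card ≤ 2 := hq ▸ Finset.card_le_univ _
    rw [Finset.card_insert_of_notMem (by simp [Ne.symm h.1]), Finset.card_insert_of_notMem (by simp [Ne.symm h.2])] at this
    simp at this
  have h11 : (1 : F) + 1 = 0 := (h01 _).resolve_right (by simp)
  have hex0 : ∀ i, ∃ x ∈ D i, x ≠ 0 := fun i => Submodule.exists_mem_ne_zero_of_ne_bot (by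
    intro h; have := hdim i; rw [h, finrank_bot] at this; omega)
  have hrep : ∀ v, ∃ d : Fin t → (Fin m ⊕ Fin m → F), (∀ i, d i ∈ D i) ∧ ∑ i, d i = v := by
    intro v
    have hv : v ∈ ⨆ i, D i := by
      rw [show (⨆ i, D i) = ⊤ from hD.decomp.iSup_eq_top]; trivial
    obtain ⟨d, hd⟩ := (Submodule.mem_iSup_iff_exists_finsupp D v).1 hv
    exact ⟨d, hd.1, by rw [← hd.2, Finsupp.sum_fintype _ _ (fun _ => rfl)]⟩
  choose comp hcomp hcompsum using hrep
  have hperp : ∀ (d : Fin t → (Fin m ⊕ Fin m → F)), (∀ i, d i ∈ D i) →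
      ∀ j, ∀ x ∈ D j, f (∑ i, d i) x = f (d j) x := by
    intro d hd j x hx
    rw [← flin_apply hf.bilinear, map_sum]
    simp only [flin_apply]
    exact Finset.sum_eq_single j (fun i _ hij => hD.orthogonal i j hij _ (hd i) x hx) (by simp)
  have huniq : ∀ (d : Fin t → (Fin m ⊕ Fin m → F)), (∀ i, d i ∈ D i) → comp (∑ i, d i) = d := by
    intro d hd
    funext j
    by_contra hne
    obtain ⟨x, hx, hx'⟩ := (hD.nondegenerate j _ ((D j).sub_mem (hcomp (∑ i, d i) j) (hd j))
      (sub_ne_zero.2 hne)).2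
    apply hx'
    rw [f_sub_left hf, ← hperp d hd j x hx]
    conv_lhs => arg 2; rw [← hcompsum (∑ i, d i)]
    rw [hperp _ (hcomp _) j x hx, sub_self]
  let χ : (Fin m ⊕ Fin m → F) → F := fun x => if x = 0 then 0 else 1
  let Q : (Fin m ⊕ Fin m → F) → F := fun v => ∑ i, χ (comp v i)
  have hQ : ∀ (d : Fin t → (Fin m ⊕ Fin m → F)), (∀ i, d i ∈ D i) → Q (∑ i, d i) = ∑ i, χ (d i) :=
    fun d hd => by simp only [Q, huniq d hd]
  have hχ : ∀ i, ∀ x ∈ D i, ∀ y ∈ D i, χ (x + y) = χ x + χ y + f x y := by
    intro i x hx y hy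
    rcases eq_or_ne x 0 with rfl | hx0
    · simp [χ, f_zero_left hf]
    rcases eq_or_ne y 0 with rfl | hy0
    · simp [χ, f_zero_right hf]
    rcases eq_or_ne x y with rfl | hxy
    · have : x + x = 0 := by
        rw [← one_smul F x, ← add_smul, h11, zero_smul]
      simp [χ, this, hx0, f_self hf, h11]
    have hne : x + y ≠ 0 := by
      intro h; apply hxy
      rw [eq_neg_of_add_eq_zero_right h, ← neg_one_smul F x]
      rw [show (-1 : F) = 1 from neg_eq_of_add_eq_zero_left h11, one_smul]
    have hfxy : f x y = 1 := by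
      refine (h01 _).resolve_left fun h0 => ?_
      obtain ⟨z, hz, hz'⟩ := (hD.nondegenerate i x hx hx0).2
      have hli : LinearIndependent F ![x, y] := by
        rw [LinearIndependent.pair_iff' hx0]
        intro a ha
        rcases h01 a with rfl | rfl
        · exact hy0 (by rw [← ha, zero_smul])
        · exact hxy (by rw [← ha, one_smul])
      have hspan : Submodule.span F {x, y} = D i := by
        refine Submodule.eq_of_le_of_finrank_eq (Submodule.span_le.2 ?_) ?_
        · rintro w (rfl | rfl) <;> assumption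
        · rw [hdim i, ← Matrix.range_cons_cons_empty x y ![], finrank_span_eq_card hli]; simp
      rw [← hspan, Submodule.mem_span_pair] at hz
      obtain ⟨a, b, rfl⟩ := hz
      exact hz' (by rw [f_add_right hf, f_smul_right hf, f_smul_right hf, f_self hf, h0]; ring)
    simp [χ, hx0, hy0, hne, hfxy, h11]
  have hQadd : ∀ u v, Q (u + v) = Q u + Q v + f u v := by
    intro u v
    have e : u + v = ∑ i, (comp u i + comp v i) := by
      rw [Finset.sum_add_distrib, hcompsum, hcompsum]
    rw [e, hQ _ (fun i => (D i).add_mem (hcomp u i) (hcomp v i)),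
      Finset.sum_congr rfl (fun i _ => hχ i _ (hcomp u i) _ (hcomp v i)), Finset.sum_add_distrib,
      Finset.sum_add_distrib]
    congr 1
    conv_rhs => rw [← hcompsum v, ← toBil_apply hf.bilinear, map_sum]
    refine Finset.sum_congr rfl fun i _ => ?_
    rw [toBil_apply]
    conv_rhs => arg 1; rw [← hcompsum u]
    rw [hperp _ (hcomp u) i _ (hcomp v i)]
  have hQsmul : ∀ (a : F) v, Q (a • v) = a * Q v := by
    intro a v
    rcases h01 a with rfl | rfl
    · have := hQ (fun _ => 0) (fun i => (D i).zero_mem)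
      simp only [Finset.sum_const_zero] at this
      rw [zero_smul, zero_mul, this]; simp [χ]
    · rw [one_smul, one_mul]
  -- at least three members
  have ht : 3 ≤ t := by
    let Φ : ((i : Fin t) → D i) →ₗ[F] (Fin m ⊕ Fin m → F) :=
      ∑ i, (D i).subtype ∘ₗ LinearMap.proj i
    have hs : Function.Surjective Φ := fun v =>
      ⟨fun i => ⟨comp v i, hcomp v i⟩, by simpa [Φ] using hcompsum v⟩
    have h1 := LinearMap.finrank_le_finrank_of_injective (f := Φ.dualMap)
      (LinearMap.dualMap_injective_of_surjective hs)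
    rw [Subspace.dual_finrank_eq, Subspace.dual_finrank_eq, Module.finrank_pi,
      Module.finrank_pi_fintype, Finset.sum_congr rfl (fun i _ => hdim i), Fintype.card_sum, Fintype.card_fin] at h1
    simp at h1; omega
  choose z hz hz0 using hex0
  let i : Fin t := ⟨0, by omega⟩
  let j : Fin t := ⟨1, by omega⟩
  let l : Fin t := ⟨2, by omega⟩
  obtain ⟨x, hx, hxz⟩ := (hD.nondegenerate i (z i) (hz i) (hz0 i)).1
  have hx1 : f x (z i) = 1 := (h01 _).resolve_left hxz
  have hij : i ≠ j := by simp [i, j, Fin.ext_iff]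
  have hil : i ≠ l := by simp [i, l, Fin.ext_iff]
  have hjl : j ≠ l := by simp [j, l, Fin.ext_iff]
  have hQz : ∀ k, Q (z k) = 1 := by
    intro k
    have e : z k = ∑ p, (if p = k then z k else 0) := by simp
    rw [e, hQ _ (fun p => ?_)]
    · rw [Finset.sum_eq_single k (fun p _ hp => by simp [χ, hp]) (by simp)]; simp [χ, hz0]
    · split
      · subst p; exact hz k
      · exact (D p).zero_mem
  have hzz : ∀ a b, a ≠ b → f (z a) (z b) = 0 := fun a b hab => hD.orthogonal a b hab _ (hz a) _ (hz b)
  refine ⟨Cfsg.isometryGroup F Q ⊓ Cfsg.spGL m F, lt_of_le_of_ne (le_inf ?_ inf_le_right) ?_,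
    lt_of_le_of_ne inf_le_right ?_⟩
  · rintro g ⟨⟨σ, hσ⟩, hgf⟩ u -
    change Q (act g u) = Q u
    have hin : ∀ p, act g (comp u p) ∈ D (σ p) := fun p => by
      rw [← hσ p]; exact ⟨_, hcomp u p, rfl⟩
    have hin' : ∀ p, act g (comp u (σ.symm p)) ∈ D p := fun p => by simpa using hin (σ.symm p)
    conv_lhs => rw [← hcompsum u, map_sum, ← Equiv.sum_comp σ.symm, hQ _ hin']
    rw [Equiv.sum_comp σ.symm (fun p => χ (act g (comp u p)))]
    refine Finset.sum_congr rfl fun p _ => ?_
    simp only [χ, map_eq_zero_iff _ (act_injective g)]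
  · -- the reflection in a vector with three components
    intro heq
    set u := z i + z j + z l with hu
    have hQu : Q u = 1 := by
      rw [hu, hQadd, hQadd, f_add_left hf, hQz, hQz, hQz, hzz i j hij, hzz i l hil, hzz j l hjl]
      linear_combination h11
    have hmem : stv hf u 1 ∈ Cfsg.Geo.decompositionStabilizer D ⊓ Cfsg.spGL m F := by
      rw [heq]
      refine ⟨fun y _ => ?_, stv_mem hf u 1⟩
      change Q (act (stv hf u 1) y) = Q y
      rw [act_stv hf, hQadd, hQsmul, f_smul_right hf, hQu, one_mul]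
      rcases h01 (f y u) with h | h <;> rw [h]
      · ring
      · linear_combination h11
    obtain ⟨⟨σ, hσ⟩, -⟩ := hmem
    have h1 : act (stv hf u 1) x ∈ D (σ i) := by rw [← hσ i]; exact ⟨x, hx, rfl⟩
    rw [act_stv hf, hu, f_add_right hf, f_add_right hf, hx1, hD.orthogonal i j hij x hx _ (hz j),
      hD.orthogonal i l hil x hx _ (hz l), add_zero, add_zero, one_mul, one_smul] at h1
    obtain ⟨k, hki, hk, hkj⟩ : ∃ k, k ≠ i ∧ σ i ≠ k ∧ (k = j ∨ k = l) := by
      by_cases h : σ i = j
      · exact ⟨l, hil.symm, h ▸ hjl, Or.inr rfl⟩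
      · exact ⟨j, hij.symm, h, Or.inl rfl⟩
    obtain ⟨w, hw, hw'⟩ := (hD.nondegenerate k (z k) (hz k) (hz0 k)).2
    apply hw'
    have := hD.orthogonal (σ i) k hk _ h1 w hw
    rw [f_add_left hf, f_add_left hf, f_add_left hf, hD.orthogonal i k hki.symm x hx w hw,
      hD.orthogonal i k hki.symm _ (hz i) w hw] at this
    rcases hkj with rfl | rfl
    · simpa [hD.orthogonal l j hjl.symm _ (hz l) w hw] using this
    · simpa [hD.orthogonal j l hjl _ (hz j) w hw] using this
  · intro heq
    set u := z i + z j with hu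
    have hQu : Q u = 0 := by rw [hu, hQadd, hQz, hQz, hzz i j hij, h11, add_zero]
    have hmem := (inf_eq_right.1 heq) (stv_mem hf u 1 : stv hf u 1 ∈ Cfsg.spGL m F)
    have := hmem x x
    change Q (act (stv hf u 1) x) = Q x at this
    rw [act_stv hf, one_mul, hu, f_add_right hf, hx1, hD.orthogonal i j hij x hx _ (hz j), add_zero,
      one_smul, hQadd, ← hu, hQu, add_zero, hu, f_add_right hf, hx1,
      hD.orthogonal i j hij x hx _ (hz j), add_zero] at this
    exact one_ne_zero (by linear_combination this)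


end Cfsg.Agent.S5648
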