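import Cfsg.Statements.S5649
import Cfsg.Agent.Lib.MaxCl.SympRoot

set_option autoImplicit false
open Cfsg Cfsg.Agent.MaxCl

namespace Cfsg.Agent.S5649

/-- For a finite field F of odd order and m ≥ 7, let D be a decomposition of F^(2m) into two complementary subspaces of dimension m on each of which the standard alternating form vanishes identically. Then the elements of Sp_2m(F) preserving or interchanging the two subspaces form a maximal subgroup of Sp_2m(F). -/
theorem result {F : Type*} [Field F] [Fintype F] (m : ℕ) (hm : 7 ≤ m) (hodd : Odd (Fintype.card F)) (D : Fin 2 → Submodule F (Fin m ⊕ Fin m → F)) (hD : Cfsg.Geo.IsMDecomposition m D) (hts : ∀ i, Cfsg.Geo.IsTotallySingularFor (Cfsg.sympForm m F) (D i)) : Cfsg.Geo.IsMaximalIn (Cfsg.spGL m F) (Cfsg.Geo.decompositionStabilizer D ⊓ Cfsg.spGL m F) := by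
  have hf := sympForm_isSymplectic m F
  set f := Cfsg.sympForm m F
  have h2 : (2 : F) ≠ 0 := by
    intro h
    have hF2 : ringChar F = 2 := ringChar.eq_iff.2 (CharTwo.of_one_ne_zero_of_two_eq_zero one_ne_zero h)
    have := FiniteField.even_card_of_char_two hF2
    have := Nat.odd_iff.1 hodd
    omega
  have hdim := hD.finrank_eq
  have hc : IsCompl (D 0) (D 1) := by
    refine ⟨hD.indep.pairwiseDisjoint (by decide : (0 : Fin 2) ≠ 1), codisjoint_iff.2 ?_⟩
    rw [eq_top_iff, ← hD.iSup_eq_top, iSup_le_iff]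
    intro i; fin_cases i
    · exact le_sup_left
    · exact le_sup_right
  have hother : ∀ i : Fin 2, ∃ j, j ≠ i ∧ ∀ l, l = i ∨ l = j := by decide
  have hsplit : ∀ i j : Fin 2, j ≠ i → IsCompl (D i) (D j) := by
    intro i j hij
    fin_cases i <;> fin_cases j <;> first | exact absurd rfl hij | exact hc | exact hc.symm
  have hrep : ∀ (i j : Fin 2), j ≠ i → ∀ v, ∃ p ∈ D i, ∃ q ∈ D j, p + q = v := by
    intro i j hij v
    refine Submodule.mem_sup.1 ?_
    rw [(hsplit i j hij).sup_eq_top]; trivial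
  have hdisj : ∀ (i j : Fin 2), j ≠ i → ∀ x, x ∈ D i → x ∈ D j → x = 0 := fun i j hij x hi hj =>
    Submodule.disjoint_def.1 (hsplit i j hij).disjoint x hi hj
  have hex : ∀ i, ∃ x ∈ D i, x ≠ 0 := fun i => Submodule.exists_mem_ne_zero_of_ne_bot (by
    intro h; have := hdim i; rw [h, finrank_bot] at this; omega)
  -- a vector of `D j` with prescribed products against two vectors of `D i`
  have hdual : ∀ (i j : Fin 2), j ≠ i → ∀ a ∈ D i, ∀ p ∈ D i, p ∉ F ∙ a →
      ∃ c ∈ D j, f a c = 0 ∧ f p c = 1 := by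
    intro i j hij a ha p hp hpa
    obtain ⟨φ, h0, h1⟩ := exists_dual _ hpa
    obtain ⟨w, hw⟩ := exists_repr hf φ
    obtain ⟨u, hu, c, hc', rfl⟩ := hrep i j hij w
    refine ⟨c, hc', ?_, ?_⟩
    · have := hw a
      rw [h0 a (Submodule.mem_span_singleton_self a), f_add_right hf, hts i a ha u hu, zero_add] at this
      exact this.symm
    · have := hw p
      rw [h1, f_add_right hf, hts i p hp u hu, zero_add] at this
      exact this.symm
  have hindep : ∀ {a p : Fin m ⊕ Fin m → F}, a ≠ 0 → p ∉ F ∙ a → a ∉ F ∙ p := by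
    intro a p ha hp h
    obtain ⟨s, rfl⟩ := Submodule.mem_span_singleton.1 h
    have hs : s ≠ 0 := by rintro rfl; simp at ha
    exact hp (Submodule.mem_span_singleton.2 ⟨s⁻¹, inv_smul_smul₀ hs p⟩)
  have hmem : ∀ (g : GL (Fin m ⊕ Fin m) F) (σ : Equiv.Perm (Fin 2)),
      (∀ i, ∀ x ∈ D i, act g x ∈ D (σ i)) → g ∈ Cfsg.Geo.decompositionStabilizer D := fun g σ h =>
    ⟨σ, fun i => Submodule.eq_of_le_of_finrank_eq (Submodule.map_le_iff_le_comap.2 (h i))
      (by rw [toLin'_eq_act, finrank_map_act, hdim, hdim])⟩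
  -- strictness
  refine ⟨lt_of_le_of_ne inf_le_right ?_, ?_⟩
  · intro heq
    obtain ⟨u, hu, hu0⟩ := hex 0
    obtain ⟨x, hx⟩ := (hf.nondegenerate u hu0).1
    obtain ⟨p, hp, q, hq, rfl⟩ := hrep 0 1 (by decide) x
    rw [f_add_left hf, hts 0 p hp u hu, zero_add] at hx
    obtain ⟨σ, hσ⟩ := (inf_eq_right.1 heq) (stv_mem hf u 1 : stv hf u 1 ∈ Cfsg.spGL m F)
    have h1 : act (stv hf u 1) q ∈ D (σ 1) := by rw [← hσ 1]; exact ⟨q, hq, rfl⟩
    rw [act_stv hf, one_mul] at h1
    have hs : f q u • u ≠ 0 := smul_ne_zero hx hu0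
    have hq0 : q ≠ 0 := fun h => hx (by rw [h, f_zero_left hf])
    obtain ⟨j, -, hj⟩ := hother 0
    rcases (show σ 1 = 0 ∨ σ 1 = 1 from (by omega)) with h | h <;> rw [h] at h1
    · exact hq0 (hdisj 0 1 (by decide) q (((D 0).add_mem_iff_left ((D 0).smul_mem _ hu)).1 h1) hq)
    · exact hs (hdisj 0 1 (by decide) _ ((D 0).smul_mem _ hu) (((D 1).add_mem_iff_right hq).1 h1))
  intro M hM1 hM2
  by_cases hsub : M ≤ Cfsg.Geo.decompositionStabilizer D
  · exact Or.inl (le_antisymm (le_inf hsub hM2) hM1)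
  right
  obtain ⟨g, hgM, hg⟩ := SetLike.not_le_iff_exists.1 hsub
  have hgf : g ∈ isoGroup f := hM2 hgM
  have hrootH : ∀ (i j : Fin 2), j ≠ i → ∀ a ∈ D i, ∀ b ∈ D j, f a b = 0 → root hf a b ∈ M := by
    intro i j hij a ha b hb hab
    refine hM1 ⟨hmem _ 1 fun l z hz => ?_, root_mem hf a b⟩
    rw [act_root hf hab, Equiv.Perm.one_apply]
    have hl : l = i ∨ l = j := by omega
    rcases hl with rfl | rfl
    · rw [hts l z hz a ha, zero_smul, add_zero]; exact (D l).add_mem hz ((D l).smul_mem _ ha)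
    · rw [hts l z hz b hb, zero_smul, add_zero]; exact (D l).add_mem hz ((D l).smul_mem _ hb)
  -- one vector adapted
  have key : ∀ (i j : Fin 2), j ≠ i → ∀ y ∈ D i, y ≠ 0 → ∀ x, x ∉ D j → f x y = 0 → root hf x y ∈ M →
      ∃ c, c ≠ 0 ∧ stv hf y c ∈ M := by
    intro i j hij y hy hy0 x hx hxy hR
    obtain ⟨p, hp, q, hq, rfl⟩ := hrep i j hij x
    have hpy : f p y = 0 := hts i p hp y hy
    by_cases hdep : p ∈ F ∙ y
    · obtain ⟨a, rfl⟩ := Submodule.mem_span_singleton.1 hdep
      have ha : a ≠ 0 := by rintro rfl; exact hx (by simpa using hq)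
      have hqy : f q y = 0 := by rwa [f_add_left hf, hpy, zero_add] at hxy
      refine ⟨2 * a, mul_ne_zero h2 ha, ?_⟩
      have hY := hrootH i j hij y hy q hq (f_eq_zero_symm hf hqy)
      have e : root hf (a • y + q) y = root hf y q * stv hf y (2 * a) := by
        apply gl_ext; intro z
        rw [act_root hf hxy, act_mul, act_stv hf, act_root hf (f_eq_zero_symm hf hqy)]
        simp only [f_add_left hf, f_add_right hf, f_smul_left hf, f_smul_right hf, f_self hf,
          f_eq_zero_symm hf hqy]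
        match_scalars <;> ring
      rw [e] at hR
      exact (mul_mem_cancel_left hY).1 hR
    · obtain ⟨c, hc', hyc, hpc⟩ := hdual i j hij y hy p hp hdep
      have hh := hrootH i j hij y hy c hc' hyc
      have hmv1 : act (root hf y c) y = y := by
        rw [act_root hf hyc, f_self hf, hyc]; simp
      have hxc : f (p + q) c = 1 := by rw [f_add_left hf, hpc, hts j q hq c hc', add_zero]
      have hmv2 : act (root hf y c) (p + q) = p + q + y := by
        rw [act_root hf hyc, hxy, hxc]; simp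
      have hR' := M.mul_mem (M.mul_mem hh hR) (M.inv_mem hh)
      rw [conj_root hf (root_mem hf _ _), hmv1, hmv2] at hR'
      have e : root hf (p + q + y) y = root hf (p + q) y * stv hf y 2 := by
        apply gl_ext; intro z
        rw [act_root hf (by rw [f_add_left hf, hxy, f_self hf, add_zero]), act_mul, act_stv hf,
          act_root hf hxy]
        generalize p + q = x at hxy ⊢
        have h6 := f_eq_zero_symm hf hxy
        simp only [f_add_left hf, f_add_right hf, f_smul_left hf, f_self hf, h6, hxy]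
        match_scalars <;> ring
      rw [e] at hR'
      exact ⟨2, h2, (mul_mem_cancel_left hR).1 hR'⟩
  -- a transvection in `M`
  obtain ⟨i, y, c₀, hy, hy0, hc₀, hyM⟩ : ∃ (i : Fin 2) (y : Fin m ⊕ Fin m → F) (c : F),
      y ∈ D i ∧ y ≠ 0 ∧ c ≠ 0 ∧ stv hf y c ∈ M := by
    obtain ⟨x, y, hxy, hR, hx0, hy0, hna⟩ : ∃ x y, f x y = 0 ∧ root hf x y ∈ M ∧ x ≠ 0 ∧ y ≠ 0 ∧
        ∀ i j : Fin 2, j ≠ i → ¬ (x ∈ D i ∧ y ∈ D j) := by
      by_contra hno; push Not at hno
      have hin : ∀ i, ∀ a ∈ D i, ∃ l, act g a ∈ D l := by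
        intro i a ha
        rcases eq_or_ne a 0 with rfl | ha0
        · exact ⟨0, by simp⟩
        obtain ⟨j, hij, -⟩ := hother i
        obtain ⟨p, hp, hpa⟩ := SetLike.not_le_iff_exists.1 (show ¬ D i ≤ F ∙ a by
          intro hle
          have := Submodule.finrank_mono hle
          rw [finrank_span_singleton ha0, hdim] at this
          omega)
        obtain ⟨b, hb, hab, hpb⟩ := hdual i j hij a ha p hp hpa
        have hR := M.mul_mem (M.mul_mem hgM (hrootH i j hij a ha b hb hab)) (M.inv_mem hgM)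
        rw [conj_root hf hgf] at hR
        obtain ⟨l, l', -, h1, -⟩ := hno (act g a) (act g b) (by rw [mem_isoGroup.1 hgf]; exact hab) hR
          (fun h => ha0 (act_injective g (h.trans (map_zero _).symm)))
          (fun h => by
            have := act_injective g (h.trans (map_zero _).symm)
            rw [this, f_zero_right hf] at hpb; exact zero_ne_one hpb)
        exact ⟨l, h1⟩
      have hto : ∀ i, ∃ l, ∀ a ∈ D i, act g a ∈ D l := by
        intro i
        by_contra h; push Not at h
        obtain ⟨a, ha, ha'⟩ := h 0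
        obtain ⟨b, hb, hb'⟩ := h 1
        obtain ⟨l, hl⟩ := hin i (a + b) ((D i).add_mem ha hb)
        obtain ⟨la, hla⟩ := hin i a ha
        obtain ⟨lb, hlb⟩ := hin i b hb
        have ea : la = 1 := by
          by_contra hne; exact ha' ((show la = 0 by omega) ▸ hla)
        have eb : lb = 0 := by
          by_contra hne; exact hb' ((show lb = 1 by omega) ▸ hlb)
        subst ea eb
        rw [map_add] at hl
        rcases (show l = 0 ∨ l = 1 by omega) with rfl | rfl
        · exact ha' (((D 0).add_mem_iff_left hlb).1 hl)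
        · exact hb' (((D 1).add_mem_iff_right hla).1 hl)
      choose σ hσ using hto
      refine hg (hmem g (Equiv.ofBijective σ (Finite.injective_iff_bijective.1 ?_)) hσ)
      intro a b hab
      by_contra hne
      obtain ⟨u, hu, hu0⟩ := hex a
      have e2 : (D b).map (act g) = D (σ b) :=
        Submodule.eq_of_le_of_finrank_eq (Submodule.map_le_iff_le_comap.2 (hσ b))
          (by rw [finrank_map_act, hdim, hdim])
      have hgu : act g u ∈ (D b).map (act g) := by rw [e2, ← hab]; exact hσ a u hu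
      obtain ⟨w, hw, hwu⟩ := hgu
      rw [act_injective g hwu] at hw
      exact hu0 (hdisj a b (Ne.symm hne) u hu hw)
    by_cases hy' : ∃ i, y ∈ D i
    · obtain ⟨i, hi⟩ := hy'
      obtain ⟨j, hij, -⟩ := hother i
      obtain ⟨c, hc0, hcM⟩ := key i j hij y hi hy0 x (fun h => hna j i hij.symm ⟨h, hi⟩) hxy hR
      exact ⟨i, y, c, hi, hy0, hc0, hcM⟩
    by_cases hx' : ∃ i, x ∈ D i
    · obtain ⟨i, hi⟩ := hx'
      obtain ⟨j, hij, -⟩ := hother i
      rw [root_comm hf hxy] at hR
      obtain ⟨c, hc0, hcM⟩ := key i j hij x hi hx0 y (fun h => hna i j hij ⟨hi, h⟩)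
        (f_eq_zero_symm hf hxy) hR
      exact ⟨i, x, c, hi, hx0, hc0, hcM⟩
    push Not at hx' hy'
    obtain ⟨p, hp, q, hq, rfl⟩ := hrep 0 1 (by decide) x
    obtain ⟨r, hr, u, hu, rfl⟩ := hrep 0 1 (by decide) y
    have hp0 : p ≠ 0 := fun h => hx' 1 (by rw [h, zero_add]; exact hq)
    have hr0 : r ≠ 0 := fun h => hy' 1 (by rw [h, zero_add]; exact hu)
    obtain ⟨a, ha, haq, hau, hapr⟩ : ∃ a ∈ D 0, f a q = 0 ∧ f a u = 0 ∧ a ∉ Submodule.span F {p, r} := by
      by_contra hno; push Not at hno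
      let Φ := ((flin hf.bilinear q).prod (flin hf.bilinear u)).comp (D 0).subtype
      have h1 : (LinearMap.ker Φ).map (D 0).subtype ≤ Submodule.span F {p, r} := by
        rintro _ ⟨a, ha, rfl⟩
        have := LinearMap.mem_ker.1 ha
        exact hno _ a.2 (congrArg Prod.fst this) (congrArg Prod.snd this)
      have h2 := Submodule.finrank_mono h1
      rw [Submodule.finrank_map_subtype_eq] at h2
      have h3 := LinearMap.finrank_range_add_finrank_ker Φ
      have h4 := Submodule.finrank_le (LinearMap.range Φ)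
      rw [Module.finrank_prod, Module.finrank_self] at h4
      have h5 : Module.finrank F (Submodule.span F ({p, r} : Set (Fin m ⊕ Fin m → F))) ≤ 2 := by
        classical
        have := finrank_span_le_card (R := F) ({p, r} : Set (Fin m ⊕ Fin m → F))
        refine this.trans ?_
        simp only [Set.toFinset_insert, Set.toFinset_singleton]
        exact Finset.card_le_two
      rw [hdim] at h3
      omega
    have ha0 : a ≠ 0 := fun h => hapr (by rw [h]; exact Submodule.zero_mem _)
    have hpa : p ∉ F ∙ a := by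
      refine hindep hp0 fun h => hapr ?_
      exact Submodule.span_mono (Set.singleton_subset_iff.2 (Set.mem_insert p _)) h
    obtain ⟨b, hb, hab, hpb⟩ := hdual 0 1 (by decide) a ha p hp hpa
    have hxa : f (p + q) a = 0 := by
      rw [f_add_left hf, hts 0 p hp a ha, f_eq_zero_symm hf haq, add_zero]
    have hya : f (r + u) a = 0 := by
      rw [f_add_left hf, hts 0 r hr a ha, f_eq_zero_symm hf hau, add_zero]
    have hxb : f (p + q) b = 1 := by rw [f_add_left hf, hpb, hts 1 q hq b hb, add_zero]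
    obtain ⟨ρ, hρ⟩ : ∃ ρ, ρ = f (r + u) b := ⟨_, rfl⟩
    have hh := hrootH 0 1 (by decide) a ha b hb hab
    have hR' := M.mul_mem (M.mul_mem hh hR) (M.inv_mem hh)
    rw [conj_root hf (root_mem hf _ _), act_root hf hab, act_root hf hab, hxa, hya, hxb, ← hρ,
      zero_smul, add_zero, add_zero, one_smul] at hR'
    set z' := (r + u) + ρ • (p + q) + ρ • a with hz'
    have hax : f a (p + q) = 0 := f_eq_zero_symm hf hxa
    have hay : f a (r + u) = 0 := f_eq_zero_symm hf hya
    have haz : f a z' = 0 := by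
      simp only [hz', f_add_right hf, f_smul_right hf, f_self hf] at *
      rw [hax, hay]; ring
    have e : root hf (p + q + a) (r + u + ρ • a) = root hf (p + q) (r + u) * root hf a z' := by
      apply gl_ext; intro z
      rw [act_root hf (by
        rw [f_add_left hf (p + q) a, f_add_right hf (p + q) (r + u), f_add_right hf a (r + u),
          f_smul_right hf ρ (p + q), f_smul_right hf ρ a a, hxy, hxa, hay, f_self hf]; ring), act_mul, act_root hf haz, act_root hf hxy]
      generalize p + q = x at hax hxy hxa hz' ⊢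
      generalize r + u = y at hay hxy hya hz' ⊢
      have h6 := f_eq_zero_symm hf hxy
      simp only [hz', f_add_left hf, f_add_right hf, f_smul_left hf, f_smul_right hf, f_self hf,
        hax, hay, hxa, hya, hxy, h6]
      match_scalars <;> ring
    rw [e] at hR'
    have hR'' := (mul_mem_cancel_left hR).1 hR'
    rw [root_comm hf haz] at hR''
    have hz1 : z' ∉ D 1 := by
      intro h
      have h7 : r + ρ • p + ρ • a = 0 := by
        refine hdisj 0 1 (by decide) _ ((D 0).add_mem ((D 0).add_mem hr ((D 0).smul_mem _ hp))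
          ((D 0).smul_mem _ ha)) ?_
        have := (D 1).sub_mem h ((D 1).add_mem hu ((D 1).smul_mem ρ hq))
        convert this using 1
        rw [hz', smul_add]; abel
      rcases eq_or_ne ρ 0 with hρ0 | hρ0
      · exact hr0 (by simpa [hρ0] using h7)
      · apply hapr
        refine (Submodule.smul_mem_iff _ hρ0).1 ?_
        rw [show ρ • a = -r - ρ • p by linear_combination (norm := module) h7]
        exact Submodule.sub_mem _ (Submodule.neg_mem _ (Submodule.subset_span (by simp)))
          (Submodule.smul_mem _ _ (Submodule.subset_span (by simp)))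
    obtain ⟨c, hc0, hcM⟩ := key 0 1 (by decide) a ha ha0 z' hz1 (f_eq_zero_symm hf haz) hR''
    exact ⟨0, a, c, ha, ha0, hc0, hcM⟩
  obtain ⟨j, hij, hcov⟩ := hother i
  -- all of `D i`
  have hstep : ∀ u ∈ D i, ∀ w ∈ D i, u ≠ 0 → w ∉ F ∙ u → stv hf u c₀ ∈ M → stv hf w c₀ ∈ M := by
    intro u hu w hw hu0 hwu hM
    have hn : u ∉ F ∙ (w - u) := by
      intro h
      obtain ⟨s, hs⟩ := Submodule.mem_span_singleton.1 h
      have hs0 : s ≠ 0 := by rintro rfl; rw [zero_smul] at hs; exact hu0 hs.symm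
      apply hwu
      refine Submodule.mem_span_singleton.2 ⟨s⁻¹ + 1, ?_⟩
      have h8 : w - u = s⁻¹ • u := by rw [← inv_smul_smul₀ hs0 (w - u), hs]
      rw [add_smul, one_smul, ← h8, sub_add_cancel]
    obtain ⟨b, hb, hab, hub⟩ := hdual i j hij (w - u) ((D i).sub_mem hw hu) u hu hn
    have hh := hrootH i j hij _ ((D i).sub_mem hw hu) b hb hab
    have := M.mul_mem (M.mul_mem hh hM) (M.inv_mem hh)
    rwa [conj_stv hf (root_mem hf _ _), act_root hf hab, hts i u hu _ ((D i).sub_mem hw hu), hub,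
      zero_smul, add_zero, one_smul, add_sub_cancel] at this
  have hall : ∀ w ∈ D i, w ≠ 0 → stv hf w c₀ ∈ M := by
    intro w hw hw0
    by_cases h : w ∈ F ∙ y
    · obtain ⟨z, hz, hzy⟩ := SetLike.not_le_iff_exists.1 (show ¬ D i ≤ F ∙ y by
        intro hle
        have := Submodule.finrank_mono hle
        rw [finrank_span_singleton hy0, hdim] at this
        omega)
      have hz0 : z ≠ 0 := fun h => hzy (by rw [h]; exact Submodule.zero_mem _)
      refine hstep z hz w hw hz0 (fun hwz => ?_) (hstep y hy z hz hy0 hzy hyM)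
      obtain ⟨s, rfl⟩ := Submodule.mem_span_singleton.1 hwz
      have hs : s ≠ 0 := by rintro rfl; simp at hw0
      exact hzy ((Submodule.smul_mem_iff _ hs).1 h)
    · exact hstep y hy w hw hy0 h hyM
  have hfull : ∀ w ∈ D i, Full hf M w := by
    intro w hw c
    obtain ⟨a, b, hab⟩ : ∃ a b : F, a ^ 2 + b ^ 2 = c / c₀ := by
      obtain ⟨a, b, h⟩ := FiniteField.exists_root_sum_quadratic (f := (Polynomial.X : Polynomial F) ^ 2)
        (g := Polynomial.X ^ 2 - Polynomial.C (c / c₀)) (Polynomial.degree_X_pow 2)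
        (Polynomial.degree_X_pow_sub_C (by norm_num) _) (Nat.odd_iff.1 hodd)
      refine ⟨a, b, ?_⟩
      simp only [Polynomial.eval_pow, Polynomial.eval_X, Polynomial.eval_sub, Polynomial.eval_C] at h
      linear_combination h
    have hs : ∀ s : F, stv hf w (s ^ 2 * c₀) ∈ M := by
      intro s
      rw [← stv_smul]
      rcases eq_or_ne (s • w) 0 with h | h
      · rw [h]
        have : stv hf (0 : Fin m ⊕ Fin m → F) c₀ = 1 := by
          apply gl_ext; intro x; rw [act_stv hf, act_one]; simp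
        rw [this]; exact M.one_mem
      · exact hall _ ((D i).smul_mem s hw) h
    have := M.mul_mem (hs a) (hs b)
    rwa [stv_add, ← add_mul, hab, div_mul_cancel₀ _ hc₀] at this
  -- the exchange of the two subspaces
  obtain ⟨h, hhf, hhi, hhj⟩ : ∃ h ∈ isoGroup f, (∀ a ∈ D i, act h a ∈ D j) ∧ ∀ b ∈ D j, act h b ∈ D i := by
    have hcij := hsplit i j hij
    let π₀ : (Fin m ⊕ Fin m → F) →ₗ[F] D i := Submodule.linearProjOfIsCompl _ _ hcij
    let π₁ : (Fin m ⊕ Fin m → F) →ₗ[F] D j := Submodule.linearProjOfIsCompl _ _ hcij.symm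
    let φ : D i ≃ₗ[F] D j := LinearEquiv.ofFinrankEq _ _ (by rw [hdim, hdim])
    let R : (Fin m ⊕ Fin m → F) ≃ₗ[F] Module.Dual F (Fin m ⊕ Fin m → F) :=
      LinearEquiv.ofBijective (toBil hf.bilinear).flip ⟨flin_injective hf, fun ψ => by
        obtain ⟨w, hw⟩ := exists_repr hf ψ; exact ⟨w, LinearMap.ext fun x => (hw x).symm⟩⟩
    let P : (Fin m ⊕ Fin m → F) →ₗ[F] (Fin m ⊕ Fin m → F) :=
      (D i).subtype ∘ₗ φ.symm.toLinearMap ∘ₗ π₁
    let K : (Fin m ⊕ Fin m → F) →ₗ[F] (Fin m ⊕ Fin m → F) :=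
      R.symm.toLinearMap ∘ₗ P.dualMap ∘ₗ R.toLinearMap ∘ₗ (D j).subtype ∘ₗ π₁
    have hK : ∀ z v, f z (K v) = f (P z) (π₁ v : Fin m ⊕ Fin m → F) := by
      intro z v
      have : R (K v) = P.dualMap (R ((π₁ v : D j) : Fin m ⊕ Fin m → F)) := R.apply_symm_apply _
      exact LinearMap.congr_fun this z
    let L : (Fin m ⊕ Fin m → F) →ₗ[F] (Fin m ⊕ Fin m → F) :=
      (D j).subtype ∘ₗ φ.toLinearMap ∘ₗ π₀ + (D i).subtype ∘ₗ π₀ ∘ₗ K
    have hL : ∀ v, L v = ((φ (π₀ v) : D j) : Fin m ⊕ Fin m → F) + (π₀ (K v) : Fin m ⊕ Fin m → F) :=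
      fun v => rfl
    have hsp : ∀ v, (π₀ v : Fin m ⊕ Fin m → F) + (π₁ v : Fin m ⊕ Fin m → F) = v := by
      intro v
      obtain ⟨p, hp, q, hq, rfl⟩ := hrep i j hij v
      have e1 : π₀ (p + q) = ⟨p, hp⟩ := by
        have e0 : π₀ q = 0 := Submodule.linearProjOfIsCompl_apply_right' hcij hq
        rw [map_add, e0, add_zero]
        exact Submodule.linearProjOfIsCompl_apply_left hcij ⟨p, hp⟩
      have e2 : π₁ (p + q) = ⟨q, hq⟩ := by
        have e0 : π₁ p = 0 := Submodule.linearProjOfIsCompl_apply_right' hcij.symm hp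
        rw [map_add, e0, zero_add]
        exact Submodule.linearProjOfIsCompl_apply_left hcij.symm ⟨q, hq⟩
      rw [e1, e2]
    have hpair : ∀ (p : D i) v, f ((φ p : D j) : Fin m ⊕ Fin m → F) (π₀ (K v) : Fin m ⊕ Fin m → F)
        = f (p : Fin m ⊕ Fin m → F) (π₁ v : Fin m ⊕ Fin m → F) := by
      intro p v
      have h1 := hK ((φ p : D j) : Fin m ⊕ Fin m → F) v
      rw [← hsp (K v), f_add_right hf, hts j _ (φ p).2 _ (π₁ (K v)).2, add_zero] at h1
      rw [h1]
      congr 1
      have e3 : π₁ ((φ p : D j) : Fin m ⊕ Fin m → F) = φ p :=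
        Submodule.linearProjOfIsCompl_apply_left hcij.symm (φ p)
      simp only [P, LinearMap.comp_apply, LinearEquiv.coe_coe, Submodule.subtype_apply, e3,
        LinearEquiv.symm_apply_apply]
    have hiso : ∀ u v, f (L u) (L v) = f u v := by
      intro u v
      rw [hL, hL, f_add_left hf, f_add_right hf, f_add_right hf,
        hts j _ (φ (π₀ u)).2 _ (φ (π₀ v)).2, hts i _ (π₀ (K u)).2 _ (π₀ (K v)).2, hpair,
        f_skew hf (π₀ (K u) : Fin m ⊕ Fin m → F), hpair]
      conv_rhs => rw [← hsp u, ← hsp v, f_add_left hf, f_add_right hf, f_add_right hf,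
        hts i _ (π₀ u).2 _ (π₀ v).2, hts j _ (π₁ u).2 _ (π₁ v).2,
        f_skew hf (π₁ u : Fin m ⊕ Fin m → F)]
    have hinj : Function.Injective L := by
      intro u v huv
      apply flin_injective hf
      apply LinearMap.ext; intro z
      simp only [flin_apply]
      rw [← hiso z u, ← hiso z v, huv]
    obtain ⟨h, hh⟩ := exists_gl_of_injective L hinj
    refine ⟨h, mem_isoGroup.2 fun u v => by rw [hh, hh, hiso], fun a ha => ?_, fun b hb => ?_⟩
    · rw [hh, hL]
      have e2 : π₁ a = 0 := Submodule.linearProjOfIsCompl_apply_right' hcij.symm ha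
      have : K a = 0 := by simp [K, e2]
      rw [this, map_zero, Submodule.coe_zero, add_zero]
      exact (φ _).2
    · rw [hh, hL]
      have e1 : π₀ b = 0 := Submodule.linearProjOfIsCompl_apply_right' hcij hb
      rw [e1, map_zero, Submodule.coe_zero, zero_add]
      exact (π₀ _).2
  have hhM : h ∈ M := by
    refine hM1 ⟨hmem h (Equiv.swap i j) fun l z hz => ?_, hhf⟩
    rcases hcov l with rfl | rfl
    · rw [Equiv.swap_apply_left]; exact hhi z hz
    · rw [Equiv.swap_apply_right]; exact hhj z hz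
  have hfullj : ∀ w ∈ D j, Full hf M w := by
    intro w hw
    have hmap : (D i).map (act h) = D j :=
      Submodule.eq_of_le_of_finrank_eq (Submodule.map_le_iff_le_comap.2 hhi)
        (by rw [finrank_map_act, hdim, hdim])
    obtain ⟨a, ha, rfl⟩ : w ∈ (D i).map (act h) := hmap ▸ hw
    exact full_conj hf hhM hhf (hfull a ha)
  refine le_antisymm hM2 (isoGroup_le_of_full hf M fun v => ?_)
  obtain ⟨p, hp, q, hq, rfl⟩ := hrep i j hij v
  by_cases hpq : f p q = 0
  · rcases eq_or_ne p 0 with rfl | hp0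
    · rw [zero_add]; exact hfullj q hq
    obtain ⟨z, hz⟩ := (hf.nondegenerate p hp0).2
    obtain ⟨z₀, hz₀, z₁, hz₁, rfl⟩ := hrep i j hij z
    rw [f_add_right hf, hts i p hp z₀ hz₀, zero_add] at hz
    have h1 : Full hf M (p + z₁) := by
      simpa using full_add hf (hfullj z₁ hz₁) (hfull p hp) hz 1
    have h3 := full_add hf (hfullj (q - z₁) ((D j).sub_mem hq hz₁)) h1 (by
      rw [f_add_left hf, f_sub_right hf, hpq, hts j z₁ hz₁ _ ((D j).sub_mem hq hz₁), zero_sub, add_zero]
      exact neg_ne_zero.2 hz) 1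
    simpa using h3
  · simpa using full_add hf (hfullj q hq) (hfull p hp) hpq 1


end Cfsg.Agent.S5649
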