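import Cfsg.Statements.S5650
import Cfsg.Agent.Lib.MaxCl.SympSubfield

set_option autoImplicit false
open Cfsg Cfsg.Agent.MaxCl

namespace Cfsg.Agent.S5650

/-- For a finite field F, a subfield F₀ with |F| = |F₀| ^ r for a prime r, and m ≥ 7, let P be an invertible matrix and ζ a non-zero scalar such that ζ times the standard alternating form takes values in F₀ on the F₀-span of the columns of P. Then the elements of Sp_2m(F) lying in the subfield group of P (the conjugate by P of the product of GL_2m(F₀) with the scalars) form a maximal subgroup of Sp_2m(F). -/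
theorem result {F : Type*} [Field F] [Fintype F] (m : ℕ) (hm : 7 ≤ m) (F₀ : Subfield F) (r : ℕ) (hr : r.Prime) (hcard : Fintype.card F = Nat.card F₀ ^ r) (P : Matrix.GeneralLinearGroup (Fin m ⊕ Fin m) F) (ζ : F) (hζ : ζ ≠ 0) (hP : Cfsg.Geo.IsFormRationalStructure (Cfsg.sympForm m F) F₀ ζ P) : Cfsg.Geo.IsMaximalIn (Cfsg.spGL m F) (Cfsg.Geo.subfieldSubgroup F₀ P ⊓ Cfsg.spGL m F) := by
  have hf0 := sympForm_isSymplectic m F
  set f := Cfsg.sympForm m F with hfdef
  let h : (Fin m ⊕ Fin m → F) → (Fin m ⊕ Fin m → F) → F := fun u v => ζ * f u v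
  have hh : Cfsg.Geo.IsSymplecticForm h := by
    refine ⟨⟨fun x y v => ?_, fun c x v => ?_, fun v x y => ?_, fun c v x => ?_⟩, fun v w => ?_,
      fun v => ?_, fun v hv => ?_⟩
    · simp only [h, f_add_left hf0]; ring
    · simp only [h, f_smul_left hf0]; ring
    · simp only [h, f_add_right hf0]; ring
    · simp only [h, f_smul_right hf0]; ring
    · simp only [h, f_skew hf0 v w]; ring
    · simp only [h, f_self hf0, mul_zero]
    · obtain ⟨⟨x, hx⟩, ⟨y, hy⟩⟩ := hf0.nondegenerate v hv
      exact ⟨⟨x, mul_ne_zero hζ hx⟩, ⟨y, mul_ne_zero hζ hy⟩⟩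
  have e : isoGroup h = Cfsg.spGL m F := by
    ext g
    exact ⟨fun hg u v => mul_left_cancel₀ hζ (hg u v), fun hg u v => congrArg (ζ * ·) (hg u v)⟩
  rw [← e]
  refine subfield_maximal hh (by simp; omega) F₀ r hr hcard P ?_
  rintro _ ⟨u, hu, rfl⟩ _ ⟨v, hv, rfl⟩
  simp only [h, act_apply]
  exact hP u v hu hv


end Cfsg.Agent.S5650
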