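import Cfsg.Statements.S5652
import Cfsg.Agent.Lib.MaxCl.Symplectic

set_option autoImplicit false
open Cfsg

namespace Cfsg.Agent.S5652

open Cfsg.Agent.MaxCl

/-- For a finite field F of characteristic two and m ≥ 7, let Q be a non-degenerate quadratic form on F^(2m) whose polar form is the standard alternating form. Then the elements of Sp_2m(F) that are similarities of Q (they are exactly the isometries of Q) form a maximal subgroup of Sp_2m(F). -/
theorem result {F : Type*} [Field F] [Fintype F] (m : ℕ) (hm : 7 ≤ m) (heven : ¬ Odd (Fintype.card F)) (Q : (Fin m ⊕ Fin m → F) → F) (hQ : Cfsg.Geo.IsNondegenerateQuadraticForm Q) (hpol : ∀ u v, QuadraticMap.polar Q u v = Cfsg.sympForm m F u v) : Cfsg.Geo.IsMaximalIn (Cfsg.spGL m F) (Cfsg.Geo.quadSimilarityGroup Q ⊓ Cfsg.spGL m F) := by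
  have hf := sympForm_isSymplectic m F
  set f := Cfsg.sympForm m F
  have hchar : ringChar F = 2 := by
    by_contra h
    exact heven (Nat.odd_iff.2 (FiniteField.odd_card_of_char_ne_two h))
  haveI : CharP F 2 := hchar ▸ ringChar.charP F
  have hsq : ∀ a : F, ∃ s, a = s * s := FiniteField.isSquare_of_char_two hchar
  have hneg : ∀ a : F, -a = a := CharTwo.neg_eq
  have hQadd : ∀ x y, Q (x + y) = Q x + Q y + f x y := by
    intro x y; rw [← hpol]; simp [QuadraticMap.polar]
  have hQs : ∀ (a : F) x, Q (a • x) = a ^ 2 * Q x := hQ.smul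
  have hQ0 : Q 0 = 0 := by simpa using hQs 0 0
  let H := Cfsg.Geo.quadSimilarityGroup Q ⊓ Cfsg.spGL m F
  have hrefl : ∀ v, Q v ≠ 0 → stv hf v (1 / Q v) ∈ H := by
    intro v hv
    refine ⟨⟨1, fun x => ?_⟩, stv_mem hf _ _⟩
    simp only [← act_apply, act_stv hf, hQadd, hQs, f_smul_right hf, Units.val_one, one_mul]
    field_simp
    linear_combination (f x v) ^ 2 * CharTwo.two_eq_zero (R := F)
  have hne : ∃ x : Fin m ⊕ Fin m → F, x ≠ 0 := ⟨Pi.single (Sum.inl ⟨0, by omega⟩) 1, by simp⟩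
  -- a non-zero singular vector
  obtain ⟨w₀, hw₀, hw₀Q⟩ : ∃ w, w ≠ 0 ∧ Q w = 0 := by
    obtain ⟨x, hx⟩ := hne
    by_cases hxQ : Q x = 0
    · exact ⟨x, hx, hxQ⟩
    obtain ⟨y, hy, hyx⟩ : ∃ y, f y x = 0 ∧ y ∉ F ∙ x := by
      by_contra h; push Not at h
      have hle : LinearMap.ker (flin hf.bilinear x) ≤ F ∙ x := fun y hy =>
        h y (LinearMap.mem_ker.1 hy)
      have h1 := Submodule.finrank_mono hle
      rw [finrank_span_singleton hx] at h1
      have h2 := LinearMap.finrank_range_add_finrank_ker (flin hf.bilinear x)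
      have h3 : Module.finrank F (LinearMap.range (flin hf.bilinear x)) ≤ 1 := by
        simpa using Submodule.finrank_le (LinearMap.range (flin hf.bilinear x))
      simp only [Module.finrank_pi, Fintype.card_sum, Fintype.card_fin] at h2
      omega
    obtain ⟨a, ha⟩ := hsq (Q y / Q x)
    refine ⟨y + a • x, fun h => hyx ?_, ?_⟩
    · rw [eq_neg_of_add_eq_zero_left h]
      exact Submodule.neg_mem _ (Submodule.smul_mem _ _ (Submodule.mem_span_singleton_self _))
    · rw [hQadd, hQs, f_smul_right hf, hy, pow_two, ← ha, div_mul_cancel₀ _ hxQ, mul_zero, add_zero,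
        CharTwo.add_self_eq_zero]
  -- a singular vector not orthogonal to a given one
  have hsing : ∀ v, v ≠ 0 → ∃ u, Q u = 0 ∧ f v u ≠ 0 := by
    intro v hv
    by_cases hvw : f v w₀ = 0
    · obtain ⟨z, h1, h2⟩ := exists_f_ne_two hf hw₀ hv
      refine ⟨z + (-(Q z) / f z w₀) • w₀, ?_, ?_⟩
      · rw [hQadd, hQs, hw₀Q, f_smul_right hf, div_mul_cancel₀ _ h1]; ring
      · rw [f_add_right hf, f_smul_right hf, hvw, mul_zero, add_zero]; exact f_ne_symm hf h2
    · exact ⟨w₀, hw₀Q, hvw⟩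
  have hnot_lt : ¬ Cfsg.spGL m F ≤ Cfsg.Geo.quadSimilarityGroup Q := by
    intro hle
    obtain ⟨u, hu0, hu⟩ := hsing w₀ hw₀
    obtain ⟨c, hc⟩ := hle (stv_mem hf w₀ 1 : stv hf w₀ 1 ∈ Cfsg.spGL m F)
    have := hc u
    simp only [← act_apply, act_stv hf, hQadd, hQs, hw₀Q, f_smul_right hf, hu0, mul_zero,
      zero_add, one_mul] at this
    exact (mul_ne_zero (f_ne_symm hf hu) (f_ne_symm hf hu)) this
  refine ⟨lt_of_le_of_ne inf_le_right ?_, ?_⟩
  · intro heq; exact hnot_lt (inf_eq_right.1 heq)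
  intro M hM1 hM2
  by_cases hsub : M ≤ Cfsg.Geo.quadSimilarityGroup Q
  · exact Or.inl (le_antisymm (le_inf hsub hM2) hM1)
  right
  obtain ⟨g₀, hg₀M, hg₀⟩ := SetLike.not_le_iff_exists.1 hsub
  -- a transvection at a singular vector
  obtain ⟨w, c₀, hw, hwQ, hc₀, hwM⟩ : ∃ w c, w ≠ 0 ∧ Q w = 0 ∧ c ≠ 0 ∧ stv hf w c ∈ M := by
    obtain ⟨g, hgdef⟩ : ∃ g, g = g₀⁻¹ := ⟨_, rfl⟩
    have hgM : g ∈ M := hgdef ▸ M.inv_mem hg₀M
    have hgf : g ∈ isoGroup f := hM2 hgM
    by_cases hex : ∃ w, Q w = 0 ∧ Q (act g w) ≠ 0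
    · obtain ⟨w, hwQ, hgw⟩ := hex
      refine ⟨w, 1 / Q (act g w), fun h => hgw (by rw [h, map_zero, hQ0]), hwQ, one_div_ne_zero hgw, ?_⟩
      have := M.mul_mem (M.mul_mem (M.inv_mem hgM) (hM1 (hrefl _ hgw))) hgM
      have hc := conj_stv hf (inv_mem hgf) (act g w) (1 / Q (act g w))
      rw [inv_inv, act_inv_act] at hc
      rwa [hc] at this
    · push Not at hex
      exfalso
      apply hg₀
      rw [← inv_inv g₀]
      refine (Cfsg.Geo.quadSimilarityGroup Q).inv_mem ⟨1, fun v => ?_⟩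
      rw [Units.val_one, one_mul, ← act_apply, ← hgdef]
      rcases eq_or_ne v 0 with rfl | hv
      · simp
      obtain ⟨u, huQ, hvu⟩ := hsing v hv
      set a := Q v / f v u with ha
      have e : v = (v + a • u) + a • u := by
        rw [add_assoc, ← add_smul, CharTwo.add_self_eq_zero, zero_smul, add_zero]
      have e1 : Q (v + a • u) = 0 := by
        rw [hQadd, hQs, huQ, f_smul_right hf, ha, div_mul_cancel₀ _ hvu, mul_zero, add_zero,
          CharTwo.add_self_eq_zero]
      have e2 : Q (a • u) = 0 := by rw [hQs, huQ, mul_zero]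
      conv_rhs => rw [e, hQadd, e1, e2]
      conv_lhs => rw [e, map_add, hQadd, hex _ e1, hex _ e2, mem_isoGroup.1 hgf]
  -- all singular vectors
  have hfull_w : ∀ b, b ≠ 0 → Q b = 0 → Full hf M b := by
    have step : ∀ a b, f a b ≠ 0 → Q a = 0 → Q b = 0 → stv hf a c₀ ∈ M → stv hf b c₀ ∈ M := by
      intro a b hab haQ hbQ ha
      have hq : Q (a + b) = f a b := by rw [hQadd, haQ, hbQ]; ring
      have hmem := hrefl (a + b) (by rw [hq]; exact hab)
      have hmv : act (stv hf (a + b) (1 / Q (a + b))) a = b := by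
        rw [act_stv hf, hq, f_add_right hf, f_self hf, zero_add, one_div_mul_cancel hab, one_smul]
        ext i; simp only [Pi.add_apply]
        linear_combination a i * CharTwo.two_eq_zero (R := F)
      rw [← hmv, ← conj_stv hf (stv_mem hf _ _)]
      exact M.mul_mem (M.mul_mem (hM1 hmem) ha) (M.inv_mem (hM1 hmem))
    have all : ∀ b, b ≠ 0 → Q b = 0 → stv hf b c₀ ∈ M := by
      intro b hb hbQ
      obtain ⟨z, h1, h2⟩ := exists_f_ne_two hf hw hb
      set z' := z + (-(Q z) / f z w) • w with hz'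
      have hzQ : Q z' = 0 := by
        rw [hz', hQadd, hQs, hwQ, f_smul_right hf, div_mul_cancel₀ _ h1]; ring
      have hzw : f w z' ≠ 0 := by
        rw [hz', f_add_right hf, f_smul_right hf, f_self hf, mul_zero, add_zero]
        exact f_ne_symm hf h1
      by_cases hwb : f w b = 0
      · refine step z' b ?_ hzQ hbQ (step w z' hzw hwQ hzQ hwM)
        rw [hz', f_add_left hf, f_smul_left hf, hwb, mul_zero, add_zero]; exact h2
      · exact step w b hwb hwQ hbQ hwM
    intro b hb hbQ c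
    obtain ⟨s, hs⟩ := hsq (c / c₀)
    rcases eq_or_ne c 0 with rfl | hc
    · rw [stv_zero]; exact M.one_mem
    have hs0 : s ≠ 0 := by
      rintro rfl; exact div_ne_zero hc hc₀ (by simpa using hs)
    have := all (s • b) (smul_ne_zero hs0 hb) (by rw [hQs, hbQ, mul_zero])
    rwa [stv_smul, pow_two, ← hs, div_mul_cancel₀ _ hc₀] at this
  -- all vectors
  have hfull : ∀ v, Full hf M v := by
    intro v
    rcases eq_or_ne v 0 with rfl | hv
    · exact full_zero hf M
    intro c
    rcases eq_or_ne c 0 with rfl | hc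
    · rw [stv_zero]; exact M.one_mem
    obtain ⟨u, huQ, hvu⟩ := hsing v hv
    set d := (1 / c - Q v) / f v u with hd
    have hq : Q (v + d • u) = 1 / c := by
      rw [hQadd, hQs, huQ, f_smul_right hf, hd, div_mul_cancel₀ _ hvu]; ring
    have hmem := hM1 (hrefl (v + d • u) (by rw [hq]; exact one_div_ne_zero hc))
    rw [hq, one_div_one_div] at hmem
    have hu0 : u ≠ 0 := by rintro rfl; exact hvu (f_zero_right hf v)
    set h := stv hf u (-d / f v u) with hh
    have hmv : act h (v + d • u) = v := by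
      rw [hh, act_stv hf, f_add_left hf, f_smul_left hf, f_self hf, mul_zero, add_zero,
        div_mul_cancel₀ _ hvu, neg_smul, add_neg_cancel_right]
    rw [← hmv, hh, ← conj_stv hf (stv_mem hf _ _)]
    exact M.mul_mem (M.mul_mem (hfull_w u hu0 huQ _) hmem) (M.inv_mem (hfull_w u hu0 huQ _))
  exact le_antisymm hM2 (isoGroup_le_of_full hf M hfull)

end Cfsg.Agent.S5652
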