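import Cfsg.Statements.S5653
import Cfsg.Agent.Lib.MaxCl.UnitaryStab

set_option autoImplicit false
open Cfsg Cfsg.Agent.MaxCl Cfsg.Agent.MaxCl.Unit

namespace Cfsg.Agent.S5653

/-- Let F be the field with q² elements and n ≥ 13, and let SU_n(q) be the group of matrices of determinant one preserving the standard unitary form Σ u_i v_i^q on F^n (the intersection of the unitary group GU_n with the kernel of the determinant). The elements of SU_n(q) stabilising a non-zero subspace on which the form vanishes identically form a maximal subgroup of SU_n(q). -/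
theorem result {F : Type*} [Field F] [Fintype F] (n q : ℕ) (hF : Fintype.card F = q ^ 2) (hn : 13 ≤ n) (W : Submodule F (Fin n → F)) (hW0 : W ≠ ⊥) (hW : Cfsg.Geo.IsTotallySingularFor (Cfsg.hermForm n F q) W) : Cfsg.Geo.IsMaximalIn (Cfsg.GU n F q ⊓ Cfsg.Geo.specialLinear (Fin n) F) (Cfsg.Geo.subspaceStabilizer W ⊓ (Cfsg.GU n F q ⊓ Cfsg.Geo.specialLinear (Fin n) F)) := by
  classical
  obtain ⟨τ, -, hf⟩ := hermForm_isUnitary n q hF
  set f := Cfsg.hermForm n F q
  change Cfsg.Geo.IsMaximalIn (uiso f ⊓ _) (_ ⊓ (uiso f ⊓ _))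
  have hn6 : 6 ≤ Fintype.card (Fin n) := by rw [Fintype.card_fin]; omega
  obtain ⟨s, hs0, hs⟩ := exists_skew hf.ne_refl hf.involutive
  have hU0 : ∀ u c, f u u = 0 → c + τ c = 0 → utv hf u c ∈ uiso f ⊓ Cfsg.Geo.specialLinear (Fin n) F :=
    fun u c hu hc => ⟨utv_mem hf hu hc, det_ptv hf (by rw [smul_right hf, hu, mul_zero])⟩
  have hWW : W ≤ uperp hf W := fun x hx w hw => hW x hx w hw
  obtain ⟨w₀, hw₀, hw₀0⟩ : ∃ a ∈ W, a ≠ 0 := Submodule.exists_mem_ne_zero_of_ne_bot hW0
  refine ⟨lt_of_le_of_ne inf_le_right ?_, ?_⟩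
  · intro heq
    obtain ⟨z, hzz, hzw⟩ := exists_isotropic_ne hf (by omega) hw₀0
    have h1 := (mem_subspaceStabilizer.1 ((inf_eq_right.1 heq) (hU0 z s hzz hs)) w₀).1 hw₀
    rw [act_utv hf hzz, W.add_mem_iff_right hw₀, W.smul_mem_iff (mul_ne_zero hs0 (ne_symm hf hzw))] at h1
    exact hzw (hW z h1 w₀ hw₀)
  intro M hM1 hM2
  by_cases hsub : M ≤ Cfsg.Geo.subspaceStabilizer W
  · exact Or.inl (le_antisymm (le_inf hsub hM2) hM1)
  right
  obtain ⟨g, hgM, hg⟩ := SetLike.not_le_iff_exists.1 hsub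
  have hgf : g ∈ uiso f := (hM2 hgM).1
  have hRW : ∀ u ∈ uperp hf W, f u u = 0 → RootIn hf M u := by
    intro u hu huu
    refine ⟨huu, fun c hc => hM1 ⟨mem_subspaceStabilizer_of_le fun v hv => ?_, hU0 u c huu hc⟩⟩
    rw [act_utv hf huu, eq_zero_symm hf (hu v hv)]; simpa using hv
  obtain ⟨v₀, hv₀, hv₀W⟩ : ∃ v, RootIn hf M v ∧ v ∉ uperp hf W := by
    by_contra hno; push Not at hno
    apply hg
    have himg : ∀ u ∈ uperp hf W, f u u = 0 → act g u ∈ uperp hf W := fun u hu huu =>
      hno _ (rootIn_conj hf hgM hgf (hRW u hu huu))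
    refine mem_subspaceStabilizer_of_le fun w hw => ?_
    by_contra hgw
    obtain ⟨r, hr, hrdef⟩ : ∃ r, r ∈ uperp hf W ∧ r = act g w := ⟨_, himg w (hWW hw) (hW w hw w hw), rfl⟩
    rw [← hrdef] at hgw
    have hrr : f r r = 0 := by rw [hrdef, mem_uiso.1 hgf]; exact hW w hw w hw
    obtain ⟨r', hr', hrr'⟩ : ∃ r' ∈ uperp hf W, f r r' ≠ 0 := by
      by_contra h; push Not at h
      exact hgw (uperp_uperp hf W ▸ h)
    -- the isotropic vectors of the perp span it
    have hspan : ∀ p ∈ uperp hf W, act g p ∈ uperp hf W := by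
      have key : ∀ p ∈ uperp hf W, f p r ≠ 0 → act g p ∈ uperp hf W := by
        intro p hp hpr
        obtain ⟨e, he⟩ := exists_isotropic_shift hf hrr (show f ((f p r)⁻¹ • p) r = 1 by
          rw [smul_left hf, inv_mul_cancel₀ hpr])
        have h1 := himg _ (add_mem ((uperp hf W).smul_mem _ hp) ((uperp hf W).smul_mem e hr)) he
        rw [map_add, map_smul, map_smul,
          Submodule.add_mem_iff_left _ ((uperp hf W).smul_mem e (himg r hr hrr)),
          Submodule.smul_mem_iff _ (inv_ne_zero hpr)] at h1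
        exact h1
      intro p hp
      by_cases hpr : f p r = 0
      · have h1 := key (p + r') (add_mem hp hr') (by
          rw [add_left hf, hpr, zero_add]; exact ne_symm hf hrr')
        rw [map_add] at h1
        exact ((uperp hf W).add_mem_iff_left (key r' hr' (ne_symm hf hrr'))).1 h1
      · exact key p hp hpr
    have e : (uperp hf W).map (act g) = uperp hf W :=
      Submodule.eq_of_le_of_finrank_eq (Submodule.map_le_iff_le_comap.2 hspan) (finrank_map_act _ _)
    rw [map_uperp hf hgf] at e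
    have e' : W.map (act g) = W := by rw [← uperp_uperp hf (W.map (act g)), e, uperp_uperp]
    rw [hrdef] at hgw
    exact hgw (e' ▸ ⟨w, hw, rfl⟩)
  -- isotropic vectors not orthogonal to `a`
  have key : ∀ a ∈ W, f v₀ a ≠ 0 → ∀ x, f x x = 0 → f x a ≠ 0 → RootIn hf M x := by
    intro a ha h0 x hxx hxa
    obtain ⟨η, hη⟩ : ∃ η, η = f v₀ a := ⟨_, rfl⟩
    rw [← hη] at h0
    obtain ⟨k, hk⟩ : ∃ k, k = η / f x a := ⟨_, rfl⟩
    have hk0 : k ≠ 0 := hk ▸ div_ne_zero h0 hxa
    suffices H : RootIn hf M (k • x) by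
      have := rootIn_smul hf H k⁻¹
      rwa [inv_smul_smul₀ hk0] at this
    have haa : f a a = 0 := hW a ha a ha
    obtain ⟨b, hbdef⟩ : ∃ b, b = η⁻¹ • (k • x - v₀) := ⟨_, rfl⟩
    have hba : f b a = 0 := by
      rw [hbdef, smul_left hf, sub_left hf, smul_left hf, hk, div_mul_cancel₀ _ hxa, ← hη, sub_self, mul_zero]
    obtain ⟨e, he⟩ := exists_trace hf.involutive hf.ne_refl (-f b b) (by rw [map_neg, herm' hf])
    have h2 : f a (τ e • a - b) = 0 := by
      rw [sub_right hf, smul_right hf, haa, eq_zero_symm hf hba]; ring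
    obtain ⟨Y, hYdef⟩ : ∃ Y, Y = ptv hf b a * ptv hf a (τ e • a - b) := ⟨_, rfl⟩
    have hY : ∀ z, act Y z = z + f z a • b + (e * f z a - f z b) • a := by
      intro z
      rw [hYdef, act_mul, act_ptv hf h2, act_ptv hf hba, sub_right hf, smul_right hf, hf.involutive,
        add_left hf, smul_left hf, haa]
      module
    have hYf : Y ∈ uiso f := by
      rw [mem_uiso]
      intro u v
      simp only [hY, add_left hf, add_right hf, smul_left hf, smul_right hf, haa, hba, eq_zero_symm hf hba,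
        map_sub, map_mul, herm' hf]
      linear_combination (f u a * f a v) * he
    have hYM : Y ∈ M := by
      refine hM1 ⟨mem_subspaceStabilizer_of_le fun z hz => ?_, hYf, hYdef ▸ mul_mem (det_ptv hf hba) (det_ptv hf h2)⟩
      rw [hY, hW z hz a ha, zero_smul, add_zero]
      exact W.add_mem hz (W.smul_mem _ ha)
    have h1 := rootIn_conj hf hYM hYf hv₀
    obtain ⟨κ, hκ⟩ : ∃ κ, κ = e * η - f v₀ b := ⟨_, rfl⟩
    rw [hY, ← hη, ← hκ, hbdef, smul_inv_smul₀ h0, add_sub_cancel] at h1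
    have hy : f (k • x) a = η := by rw [smul_left hf, hk, div_mul_cancel₀ _ hxa]
    have hyy : f (k • x) (k • x) = 0 := by rw [smul_left hf, smul_right hf, hxx, mul_zero, mul_zero]
    have hya : f a (k • x) = τ η := by rw [← herm' hf, hy]
    have hiso := h1.1
    simp only [add_left hf, add_right hf, hyy] at hiso
    rw [smul_right hf κ (k • x) a, smul_left hf κ a (k • x), smul_left hf κ a (κ • a),
      smul_right hf κ a a, haa, hy, hya] at hiso
    obtain ⟨c, hcdef⟩ : ∃ c, c = -κ / η := ⟨_, rfl⟩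
    have hc : c + τ c = 0 := by
      have hτη : τ η ≠ 0 := (map_ne_zero τ).2 h0
      rw [hcdef, map_div₀, map_neg, div_add_div _ _ h0 hτη, div_eq_zero_iff]
      left; linear_combination -1 * hiso
    have h3 := rootIn_add hf (hRW a (hWW ha) haa) h1 hc
    have hfa : f (k • x + κ • a) a = η := by rw [add_left hf, hy, smul_left hf, haa, mul_zero, add_zero]
    rwa [hfa, hcdef, div_mul_cancel₀ _ h0, neg_smul, add_neg_cancel_right] at h3
  refine le_antisymm hM2 (su_le_of_utv hf hn6 M fun x c hx hc => ?_)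
  suffices h : RootIn hf M x from h.2 c hc
  by_cases hxW : x ∈ uperp hf W
  · exact hRW x hxW hx
  simp only [mem_uperp hf] at hxW hv₀W
  push Not at hxW hv₀W
  obtain ⟨a₁, ha₁, hxa⟩ := hxW
  obtain ⟨a₂, ha₂, hva⟩ := hv₀W
  by_cases h : f v₀ a₁ = 0
  · by_cases h' : f x a₂ = 0
    · refine key (a₁ + a₂) (W.add_mem ha₁ ha₂) ?_ x hx ?_
      · rw [add_right hf, h, zero_add]; exact hva
      · rw [add_right hf, h', add_zero]; exact hxa
    · exact key a₂ ha₂ hva x hx h'
  · exact key a₁ ha₁ h x hx hxa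


end Cfsg.Agent.S5653
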