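import Cfsg.Statements.S5654
import Cfsg.Agent.Lib.MaxCl.UnitaryStab

set_option autoImplicit false
open Cfsg Cfsg.Agent.MaxCl Cfsg.Agent.MaxCl.Unit

namespace Cfsg.Agent.S5654

/-- Let F be the field with q² elements and n ≥ 13. In SU_n(q) (determinant-one isometries of the standard unitary form on F^n) the stabiliser of a non-zero subspace W on which the form is non-degenerate and with 2 dim W < n is a maximal subgroup. -/
theorem result {F : Type*} [Field F] [Fintype F] (n q : ℕ) (hF : Fintype.card F = q ^ 2) (hn : 13 ≤ n) (W : Submodule F (Fin n → F)) (hW0 : W ≠ ⊥) (hW : Cfsg.Geo.IsNondegenerateOn (Cfsg.hermForm n F q) W) (hdim : 2 * Module.finrank F W < n) : Cfsg.Geo.IsMaximalIn (Cfsg.GU n F q ⊓ Cfsg.Geo.specialLinear (Fin n) F) (Cfsg.Geo.subspaceStabilizer W ⊓ (Cfsg.GU n F q ⊓ Cfsg.Geo.specialLinear (Fin n) F)) := by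
  classical
  obtain ⟨τ, -, hf⟩ := hermForm_isUnitary n q hF
  set f := Cfsg.hermForm n F q
  change Cfsg.Geo.IsMaximalIn (uiso f ⊓ _) (_ ⊓ (uiso f ⊓ _))
  have hn6 : 6 ≤ Fintype.card (Fin n) := by rw [Fintype.card_fin]; omega
  have hX := uperp_nondegenerate hf hW
  have hXd : 6 ≤ Module.finrank F (uperp hf W) := by
    have := finrank_uperp hf W; rw [Fintype.card_fin] at this; omega
  obtain ⟨s, hs0, hs⟩ := exists_skew hf.ne_refl hf.involutive
  have hU0 : ∀ u c, f u u = 0 → c + τ c = 0 → utv hf u c ∈ uiso f ⊓ Cfsg.Geo.specialLinear (Fin n) F :=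
    fun u c hu hc => ⟨utv_mem hf hu hc, det_ptv hf (by rw [smul_right hf, hu, mul_zero])⟩
  obtain ⟨a₀, ha₀, ha₀0⟩ : ∃ a ∈ W, a ≠ 0 := Submodule.exists_mem_ne_zero_of_ne_bot hW0
  obtain ⟨x₁, hx₁, hx₁0⟩ : ∃ x ∈ uperp hf W, x ≠ 0 := Submodule.exists_mem_ne_zero_of_ne_bot (by
    intro h; rw [h, finrank_bot] at hXd; omega)
  have hpart : ∀ (a : Fin n → F), ∃ b ∈ uperp hf W, b ≠ 0 ∧ f b b = -f a a := by
    intro a
    obtain ⟨b, hb, hb', hbb, -⟩ := exists_vector_one hf hX hXd hx₁ hx₁0 0 (-f a a)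
      (by rw [map_neg, herm' hf])
    exact ⟨b, hb, fun h => hb' (h ▸ Submodule.zero_mem _), hbb⟩
  refine ⟨lt_of_le_of_ne inf_le_right ?_, ?_⟩
  · intro heq
    obtain ⟨b, hb, hb0, hbb⟩ := hpart a₀
    have hiso : f (a₀ + b) (a₀ + b) = 0 := by
      rw [add_left hf, add_right hf, add_right hf, hb a₀ ha₀, eq_zero_symm hf (hb a₀ ha₀), hbb]; ring
    have hmem := (inf_eq_right.1 heq) (hU0 _ s hiso hs)
    obtain ⟨x, hx, hxa⟩ := (hW a₀ ha₀ ha₀0).1
    have h1 := (mem_subspaceStabilizer.1 hmem x).1 hx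
    have hfx : f x (a₀ + b) = f x a₀ := by
      rw [add_right hf, eq_zero_symm hf (hb x hx), add_zero]
    rw [act_utv hf hiso, hfx, W.add_mem_iff_right hx, W.smul_mem_iff (mul_ne_zero hs0 hxa),
      W.add_mem_iff_right ha₀] at h1
    exact hb0 (inf_uperp_of_nondegenerate hf hW h1 hb)
  intro M hM1 hM2
  by_cases hsub : M ≤ Cfsg.Geo.subspaceStabilizer W
  · exact Or.inl (le_antisymm (le_inf hsub hM2) hM1)
  right
  obtain ⟨g, hgM, hg⟩ := SetLike.not_le_iff_exists.1 hsub
  have hgf : g ∈ uiso f := (hM2 hgM).1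
  have hRW : ∀ u, f u u = 0 → (u ∈ W ∨ u ∈ uperp hf W) → RootIn hf M u := by
    intro u hu hmem
    refine ⟨hu, fun c hc => hM1 ⟨mem_subspaceStabilizer_of_le fun v hv => ?_, hU0 u c hu hc⟩⟩
    rw [act_utv hf hu]
    rcases hmem with h | h
    · exact W.add_mem hv (W.smul_mem _ h)
    · rw [eq_zero_symm hf (h v hv)]; simpa using hv
  have hXM : ∀ u ∈ uperp hf W, f u u = 0 → RootIn hf M u := fun u hu h => hRW u h (Or.inr hu)
  obtain ⟨a, ha, ha0, b, hb, hb0, hab⟩ : ∃ a ∈ W, a ≠ 0 ∧ ∃ b ∈ uperp hf W, b ≠ 0 ∧ RootIn hf M (a + b) := by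
    by_contra hno; push Not at hno
    have hside : ∀ u ∈ uperp hf W, f u u = 0 → act g u ∈ W ∨ act g u ∈ uperp hf W := by
      intro u hu huu
      have h := rootIn_conj hf hgM hgf (hXM u hu huu)
      obtain ⟨a, ha, b, hb, e⟩ := exists_decomp hf hW (act g u)
      rw [← e] at h ⊢
      rcases eq_or_ne a 0 with rfl | ha0
      · right; rw [zero_add]; exact hb
      rcases eq_or_ne b 0 with rfl | hb0
      · left; rw [add_zero]; exact ha
      exact absurd h (hno a ha ha0 b hb hb0)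
    -- isotropic vectors of the complement go to one side
    obtain ⟨u₀, hu₀, -, hu₀iso, -⟩ := exists_vector_one hf hX hXd hx₁ hx₁0 1 0 (map_zero _)
    have hpair : ∀ (Z Z' : Submodule F (Fin n → F)), (∀ z ∈ Z, ∀ z' ∈ Z', f z z' = 0) →
        (∀ u ∈ uperp hf W, f u u = 0 → act g u ∈ Z ∨ act g u ∈ Z') →
        ∀ u v, u ∈ uperp hf W → v ∈ uperp hf W → f v v = 0 → f u v ≠ 0 → act g u ∈ Z → act g v ∈ Z := by
      intro Z Z' hperp hs u v _ hv hvv huv hu
      refine (hs v hv hvv).resolve_right fun h => huv ?_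
      rw [← mem_uiso.1 hgf]; exact hperp _ hu _ h
    have hall : ∀ (Z Z' : Submodule F (Fin n → F)), (∀ z ∈ Z, ∀ z' ∈ Z', f z z' = 0) →
        (∀ u ∈ uperp hf W, f u u = 0 → act g u ∈ Z ∨ act g u ∈ Z') →
        ∀ z, z ∈ uperp hf W → z ≠ 0 → f z z = 0 → act g z ∈ Z →
        ∀ v ∈ uperp hf W, act g v ∈ Z := by
      intro Z Z' hperp hs z hz hz0 hzz hgz
      have hiso : ∀ v ∈ uperp hf W, f v v = 0 → act g v ∈ Z := by
        intro v hv hvv
        rcases eq_or_ne v 0 with rfl | hv0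
        · rw [map_zero]; exact Z.zero_mem
        by_cases hdep : v ∈ F ∙ z
        · obtain ⟨k, rfl⟩ := Submodule.mem_span_singleton.1 hdep
          rw [map_smul]; exact Z.smul_mem _ hgz
        obtain ⟨w, hw, hww, h1, h2⟩ := exists_vector_two hf hX hXd hz hv hz0 hdep 1 1 0 (map_zero _)
        refine hpair Z Z' hperp hs w v hw hv hvv (by rw [h2]; exact one_ne_zero)
          (hpair Z Z' hperp hs z w hz hw hww ?_ hgz)
        rw [← herm' hf, h1, map_one]; exact one_ne_zero
      intro v hv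
      rcases eq_or_ne v 0 with rfl | hv0
      · rw [map_zero]; exact Z.zero_mem
      obtain ⟨w, hw, -, hww, hwv⟩ := exists_vector_one hf hX hXd hv hv0 1 0 (map_zero _)
      obtain ⟨e, he⟩ := exists_isotropic_shift hf hww (show f v w = 1 by rw [← herm' hf, hwv, map_one])
      have h1 := hiso _ ((uperp hf W).add_mem hv ((uperp hf W).smul_mem e hw)) he
      rw [map_add, map_smul] at h1
      exact (Z.add_mem_iff_left (Z.smul_mem _ (hiso w hw hww))).1 h1
    obtain ⟨z, hz, hz', hzz, -⟩ := exists_vector_one hf hX hXd hx₁ hx₁0 0 0 (map_zero _)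
    have hz0 : z ≠ 0 := fun h => hz' (h ▸ Submodule.zero_mem _)
    rcases hside z hz hzz with h | h
    · have hle : (uperp hf W).map (act g) ≤ W := by
        rintro _ ⟨v, hv, rfl⟩
        exact hall W (uperp hf W) (fun z hz z' hz' => eq_zero_symm hf (hz' z hz)) hside z hz hz0 hzz h v hv
      have h1 := Submodule.finrank_mono hle
      rw [finrank_map_act] at h1
      have h2 := finrank_uperp hf W
      rw [Fintype.card_fin] at h2
      omega
    · have hle : (uperp hf W).map (act g) ≤ uperp hf W := by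
        rintro _ ⟨v, hv, rfl⟩
        exact hall (uperp hf W) W (fun z hz z' hz' => hz z' hz') (fun u hu h => (hside u hu h).symm)
          z hz hz0 hzz h v hv
      have e : (uperp hf W).map (act g) = uperp hf W :=
        Submodule.eq_of_le_of_finrank_eq hle (finrank_map_act _ _)
      rw [map_uperp hf hgf] at e
      have e' : W.map (act g) = W := by rw [← uperp_uperp hf (W.map (act g)), e, uperp_uperp]
      exact hg (mem_subspaceStabilizer_of_le fun v hv => e' ▸ ⟨v, hv, rfl⟩)
  -- components in `W` that occur with every partner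
  let E : (Fin n → F) → Prop := fun a => a ∈ W ∧
    ∀ b ∈ uperp hf W, b ≠ 0 → f b b = -f a a → RootIn hf M (a + b)
  have hnorm : ∀ p r, p ∈ W → r ∈ uperp hf W → f (p + r) (p + r) = f p p + f r r := by
    intro p r hp hr
    rw [add_left hf, add_right hf, add_right hf, hr p hp, eq_zero_symm hf (hr p hp)]; ring
  have hEone : ∀ p r, p ∈ W → r ∈ uperp hf W → r ≠ 0 → RootIn hf M (p + r) → E p := by
    intro p r hp hr hr0 h
    refine ⟨hp, fun b hb hb0 hbb => rootIn_move_in hf hX hXd hXM (le_uperp_uperp hf W hp) hr hr0 hb hb0 ?_ h⟩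
    rw [hbb]
    linear_combination -1 * (hnorm p r hp hr).symm.trans h.1
  have hEsmul : ∀ (p : Fin n → F) (k : F), E p → E (k • p) := by
    intro p k hp
    obtain ⟨r, hr, hr0, hrr⟩ := hpart p
    rcases eq_or_ne k 0 with rfl | hk
    · rw [zero_smul]
      refine ⟨W.zero_mem, fun b hb _ hbb => ?_⟩
      rw [zero_add]
      exact hXM b hb (by rw [hbb, zero_left hf, neg_zero])
    · have h := rootIn_smul hf (hp.2 r hr hr0 hrr) k
      rw [smul_add] at h
      exact hEone _ _ (W.smul_mem _ hp.1) ((uperp hf W).smul_mem _ hr) (smul_ne_zero hk hr0) h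
  have hEadd : ∀ p p', E p → E p' → E (p + p') := by
    intro p p' hp hp'
    obtain ⟨r, hr, hr0, hrr⟩ := hpart p
    obtain ⟨r', hr', hr'r, hr'r', hfr⟩ := exists_vector_one hf hX hXd hr hr0 (τ (s - f p p')) (-f p' p')
      (by rw [map_neg, herm' hf])
    have hr'0 : r' ≠ 0 := fun h => hr'r (h ▸ Submodule.zero_mem _)
    have h := rootIn_add hf (hp'.2 r' hr' hr'0 hr'r') (hp.2 r hr hr0 hrr) (c := s⁻¹) (by
      rw [map_inv₀, eq_neg_of_add_eq_zero_right hs, inv_neg, add_neg_cancel])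
    have hfs : f (p + r) (p' + r') = s := by
      rw [add_left hf, add_right hf, add_right hf, hr p' hp'.1, eq_zero_symm hf (hr' p hp.1),
        ← herm' hf r' r, hfr, hf.involutive]
      ring
    rw [hfs, inv_mul_cancel₀ hs0, one_smul, show p + r + (p' + r') = p + p' + (r + r') by abel] at h
    refine hEone _ _ (W.add_mem hp.1 hp'.1) ((uperp hf W).add_mem hr hr') ?_ h
    intro h0
    apply hr'r
    rw [eq_neg_of_add_eq_zero_right h0]
    exact Submodule.neg_mem _ (Submodule.mem_span_singleton_self r)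
  have hEiso : ∀ p u, E p → u ∈ W → f u u = 0 → f p u ≠ 0 → E u := by
    intro p u hp hu huu hpu
    obtain ⟨r, hr, hr0, hrr⟩ := hpart p
    have hfu : f (p + r) u = f p u := by rw [add_left hf, hr u hu, add_zero]
    have h := rootIn_add hf (hRW u huu (Or.inl hu)) (hp.2 r hr hr0 hrr) hs
    rw [hfu, show p + r + (s * f p u) • u = p + (s * f p u) • u + r by abel] at h
    have h1 := hEone _ _ (W.add_mem hp.1 (W.smul_mem _ hu)) hr hr0 h
    have hk : s * f p u ≠ 0 := mul_ne_zero hs0 hpu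
    have h2 := hEsmul _ (s * f p u)⁻¹ (hEadd _ _ h1 (hEsmul p (-1) hp))
    rwa [show p + (s * f p u) • u + (-1 : F) • p = (s * f p u) • u by module, inv_smul_smul₀ hk] at h2
  have hEa : E a := hEone a b ha hb hb0 hab
  have hEW : ∀ p ∈ W, E p := by
    intro p hp
    by_cases hdim1 : W ≤ F ∙ a
    · obtain ⟨k, rfl⟩ := Submodule.mem_span_singleton.1 (hdim1 hp)
      exact hEsmul _ _ hEa
    obtain ⟨a', ha', ha'a⟩ := SetLike.not_le_iff_exists.1 hdim1
    -- isotropic vectors of `W` not orthogonal to a given one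
    have hsep : ∀ w ∈ W, w ≠ 0 → ∃ u ∈ W, f u u = 0 ∧ f u w ≠ 0 := by
      intro w hw hw0
      by_cases hww : f w w = 0
      · obtain ⟨z, hz, hzw⟩ := (hW w hw hw0).1
        obtain ⟨e, he⟩ := exists_isotropic_shift hf hww (show f ((f z w)⁻¹ • z) w = 1 by
          rw [smul_left hf, inv_mul_cancel₀ hzw])
        refine ⟨_, W.add_mem (W.smul_mem _ hz) (W.smul_mem e hw), he, ?_⟩
        rw [add_left hf, smul_left hf, smul_left hf, inv_mul_cancel₀ hzw, hww, mul_zero, add_zero]
        exact one_ne_zero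
      obtain ⟨w', hw', hw'w, hw'0⟩ : ∃ w' ∈ W, f w' w = 0 ∧ w' ≠ 0 := by
        have hne : ∃ y ∈ W, y ∉ F ∙ w := by
          by_contra h; push Not at h
          obtain ⟨k, rfl⟩ := Submodule.mem_span_singleton.1 (h a ha)
          have hk : k ≠ 0 := by rintro rfl; simp at ha0
          obtain ⟨j, rfl⟩ := Submodule.mem_span_singleton.1 (h a' ha')
          exact ha'a (Submodule.mem_span_singleton.2 ⟨j / k, by rw [smul_smul, div_mul_cancel₀ _ hk]⟩)
        obtain ⟨y, hy, hyw⟩ := hne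
        refine ⟨y - (f y w / f w w) • w, W.sub_mem hy (W.smul_mem _ hw), ?_, fun h => hyw ?_⟩
        · rw [sub_left hf, smul_left hf, div_mul_cancel₀ _ hww, sub_self]
        · rw [sub_eq_zero.1 h]; exact Submodule.smul_mem _ _ (Submodule.mem_span_singleton_self w)
      by_cases hw'' : f w' w' = 0
      · obtain ⟨y, hy, hyw'⟩ := (hW w' hw' hw'0).1
        obtain ⟨z, hzdef⟩ : ∃ z, z = (f y w')⁻¹ • y + (1 - f ((f y w')⁻¹ • y) w) • ((f w w)⁻¹ • w) := ⟨_, rfl⟩
        have hz : z ∈ W := hzdef ▸ W.add_mem (W.smul_mem _ hy) (W.smul_mem _ (W.smul_mem _ hw))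
        have hz1 : f z w' = 1 := by
          simp only [hzdef, add_left hf, smul_left hf, eq_zero_symm hf hw'w, inv_mul_cancel₀ hyw']
          ring
        have hz2 : f z w = 1 := by
          rw [hzdef, add_left hf, smul_left hf (1 - _), smul_left hf (f w w)⁻¹, inv_mul_cancel₀ hww]; ring
        obtain ⟨e, he⟩ := exists_isotropic_shift hf hw'' hz1
        refine ⟨_, W.add_mem hz (W.smul_mem e hw'), he, ?_⟩
        rw [add_left hf, smul_left hf, hw'w, hz2, mul_zero, add_zero]; exact one_ne_zero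
      · obtain ⟨β, hβ⟩ := exists_scale hf hw'' (a := -f w w) (by rw [map_neg, herm' hf])
        refine ⟨w + β • w', W.add_mem hw (W.smul_mem β hw'), ?_, ?_⟩
        · simp only [add_left hf, add_right hf, hβ]
          rw [smul_left hf β w' w, smul_right hf β w w', hw'w, eq_zero_symm hf hw'w]
          ring
        · rw [add_left hf, smul_left hf, hw'w, mul_zero, add_zero]; exact hww
    obtain ⟨z, hz, hzz, hza⟩ := hsep a ha ha0
    have hEz : E z := hEiso a z hEa hz hzz (ne_symm hf hza)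
    have hz0 : z ≠ 0 := fun h => hza (by rw [h]; exact zero_left hf a)
    have hiso : ∀ u ∈ W, f u u = 0 → E u := by
      intro u hu huu
      rcases eq_or_ne u 0 with rfl | hu0
      · simpa using hEsmul a 0 hEa
      by_cases h : f z u = 0
      · obtain ⟨z₁, hz₁, i1, h1⟩ := hsep z hz hz0
        have hE1 := hEiso z z₁ hEz hz₁ i1 (ne_symm hf h1)
        by_cases h2 : f z₁ u = 0
        · obtain ⟨z₂, hz₂, i2, h3⟩ := hsep u hu hu0
          refine hEiso z₂ u ?_ hu huu h3
          by_cases h4 : f z z₂ = 0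
          · by_cases h5 : f z₁ z₂ = 0
            · have i3 : f (z₁ + z₂) (z₁ + z₂) = 0 := by
                rw [add_left hf, add_right hf, add_right hf, i1, i2, h5, eq_zero_symm hf h5]; ring
              have h6 : E (z₁ + z₂) := hEiso z _ hEz (W.add_mem hz₁ hz₂) i3 (by
                rw [add_right hf, h4, add_zero]; exact ne_symm hf h1)
              have := hEadd _ _ h6 (hEsmul z₁ (-1) hE1)
              rwa [show z₁ + z₂ + (-1 : F) • z₁ = z₂ by module] at this
            · exact hEiso z₁ z₂ hE1 hz₂ i2 h5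
          · exact hEiso z z₂ hEz hz₂ i2 h4
        · exact hEiso z₁ u hE1 hu huu h2
      · exact hEiso z u hEz hu huu h
    rcases eq_or_ne p 0 with rfl | hp0
    · simpa using hEsmul a 0 hEa
    obtain ⟨u, hu, huu, hup⟩ := hsep p hp hp0
    have hk : f ((f p u)⁻¹ • p) u = 1 := by rw [smul_left hf, inv_mul_cancel₀ (ne_symm hf hup)]
    obtain ⟨e, he⟩ := exists_isotropic_shift hf huu hk
    have h1 := hiso _ (W.add_mem (W.smul_mem _ hp) (W.smul_mem e hu)) he
    have h2 := hEadd _ _ h1 (hEsmul u (-e) (hiso u hu huu))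
    rw [neg_smul, add_neg_cancel_right] at h2
    have h3 := hEsmul _ (f p u) h2
    rwa [smul_inv_smul₀ (ne_symm hf hup)] at h3
  refine le_antisymm hM2 (su_le_of_utv hf hn6 M fun u c hu hc => ?_)
  obtain ⟨p, hp, r, hr, rfl⟩ := exists_decomp hf hW u
  suffices h : RootIn hf M (p + r) from h.2 c hc
  rcases eq_or_ne r 0 with rfl | hr0
  · rw [add_zero] at hu ⊢; exact hRW p hu (Or.inl hp)
  · exact (hEW p hp).2 r hr hr0 (by linear_combination (hnorm p r hp hr).symm.trans hu)


end Cfsg.Agent.S5654
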