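import Cfsg.Statements.S5655
import Cfsg.Agent.Lib.MaxCl.UnitaryDecompMax
-- import your own Cfsg.Agent.* helpers here

set_option autoImplicit false
open Cfsg Cfsg.Agent.MaxCl Cfsg.Agent.MaxCl.Unit

namespace Cfsg.Agent.S5655

/-- Let F be the field with q² elements and n ≥ 13. Let D be a decomposition of F^n into t ≥ 2 pairwise orthogonal subspaces of equal dimension k, each non-degenerate for the standard unitary form, spanning F^n. Unless k = 2 and q = 2, the elements of SU_n(q) permuting the members of D form a maximal subgroup of SU_n(q). -/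
theorem result {F : Type*} [Field F] [Fintype F] (n q : ℕ) (hF : Fintype.card F = q ^ 2) (hn : 13 ≤ n) {t : ℕ} (k : ℕ) (D : Fin t → Submodule F (Fin n → F)) (hD : Cfsg.Geo.IsNondegenerateMDecomposition (Cfsg.hermForm n F q) k D) (hex : ¬ (k = 2 ∧ q = 2)) : Cfsg.Geo.IsMaximalIn (Cfsg.GU n F q ⊓ Cfsg.Geo.specialLinear (Fin n) F) (Cfsg.Geo.decompositionStabilizer D ⊓ (Cfsg.GU n F q ⊓ Cfsg.Geo.specialLinear (Fin n) F)) := by
  obtain ⟨τ, hτ, hf⟩ := hermForm_isUnitary n q hF
  have hfe : Cfsg.hermForm n F q = herm (ι := Fin n) τ := by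
    funext x y
    simp only [Cfsg.hermForm, herm, hτ]
  rw [hfe] at hf hD
  have hGU : Cfsg.GU n F q = uiso (herm (ι := Fin n) τ) := by
    rw [← hfe]; rfl
  rw [hGU]
  exact unitary_decomposition_maximal ⟨hF, hτ⟩ (by omega) hf hD hex fun _ h => absurd h (by omega)

end Cfsg.Agent.S5655
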