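import Cfsg.Statements.S5656
import Cfsg.Agent.Lib.MaxCl.UnitaryStab
-- import your own Cfsg.Agent.* helpers here

set_option autoImplicit false
open Cfsg Cfsg.Agent.MaxCl Cfsg.Agent.MaxCl.Unit

namespace Cfsg.Agent.S5656

/-- Let F be the field with 4 elements (q = 2) and n ≥ 13. Let D be a decomposition of F^n into t pairwise orthogonal 2-dimensional subspaces, each non-degenerate for the standard unitary form Σ u_i v_i². Then the elements of SU_n(2) permuting the members of D form a subgroup that is not maximal: some subgroup lies strictly between it and SU_n(2). -/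
theorem result {F : Type*} [Field F] [Fintype F] (n : ℕ) (hF : Fintype.card F = 4) (hn : 13 ≤ n) {t : ℕ} (D : Fin t → Submodule F (Fin n → F)) (hD : Cfsg.Geo.IsNondegenerateMDecomposition (Cfsg.hermForm n F 2) 2 D) : ∃ K : Subgroup (Matrix.GeneralLinearGroup (Fin n) F), Cfsg.Geo.decompositionStabilizer D ⊓ (Cfsg.GU n F 2 ⊓ Cfsg.Geo.specialLinear (Fin n) F) < K ∧ K < (Cfsg.GU n F 2 ⊓ Cfsg.Geo.specialLinear (Fin n) F) := by
  classical
  obtain ⟨τ, hτ, hf⟩ := hermForm_isUnitary n 2 (show Fintype.card F = 2 ^ 2 by rw [hF]; norm_num)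
  set f := Cfsg.hermForm n F 2
  change ∃ K, _ ⊓ (uiso f ⊓ _) < K ∧ K < (uiso f ⊓ _)
  have hfix : ∀ a : F, τ a = a → a ≠ 0 → a = 1 := fun a h h0 => by
    rw [hτ, sq] at h
    exact (mul_eq_right₀ h0).1 h
  have hnorm : ∀ a : F, a ≠ 0 → a * τ a = 1 := by
    intro a ha
    rw [hτ]
    have := FiniteField.pow_card_sub_one_eq_one a ha
    rw [hF] at this
    rw [← this]; ring
  have h2 : (2 : F) = 0 := by
    have := FiniteField.cast_card_eq_zero F
    rw [hF] at this
    have e : ((4 : ℕ) : F) = 2 * 2 := by norm_num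
    rw [e] at this
    exact mul_self_eq_zero.1 this
  have hplane : ∀ i, ∃ p p', p ∈ D i ∧ p' ∈ D i ∧ f p p = 1 ∧ f p' p' = 1 ∧ f p p' = 0 := by
    intro i
    obtain ⟨p, hp, hp1⟩ : ∃ p ∈ D i, f p p ≠ 0 := by
      by_contra hno; push Not at hno
      obtain ⟨x, hx, hx0⟩ := Submodule.exists_mem_ne_zero_of_ne_bot (p := D i) (by
        intro h; have := hD.decomp.finrank_eq i; rw [h, finrank_bot] at this; omega)
      obtain ⟨y, hy, hxy⟩ := (hD.nondegenerate i x hx hx0).2
      obtain ⟨e, he⟩ := exists_trace_one hf.involutive hf.ne_refl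
      have key := hno _ ((D i).add_mem ((D i).smul_mem (e / f x y) hx) hy)
      rw [add_left hf, add_right hf, add_right hf, hno _ ((D i).smul_mem _ hx), hno y hy, zero_add, add_zero,
        smul_left hf, smul_right hf, ← herm' hf x y, ← map_mul, div_mul_cancel₀ _ hxy, he] at key
      exact one_ne_zero key
    obtain ⟨p', hp', hp'0, hpp⟩ : ∃ p' ∈ D i, p' ≠ 0 ∧ f p' p = 0 := by
      have h1 := Submodule.finrank_sup_add_finrank_inf_eq (D i) (LinearMap.ker (flinU hf p))
      have h2 := Submodule.finrank_le (D i ⊔ LinearMap.ker (flinU hf p))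
      have h3 := LinearMap.finrank_range_add_finrank_ker (flinU hf p)
      have h4 := Submodule.finrank_le (LinearMap.range (flinU hf p))
      have h5 := hD.decomp.finrank_eq i
      rw [Module.finrank_self] at h4
      obtain ⟨p', hp', h0⟩ := Submodule.exists_mem_ne_zero_of_ne_bot (p := D i ⊓ LinearMap.ker (flinU hf p))
        (fun h => by rw [h, finrank_bot] at h1; simp only [Module.finrank_fin_fun] at h2 h3; omega)
      exact ⟨p', hp'.1, h0, LinearMap.mem_ker.1 hp'.2⟩
    have hnd : f p' p' ≠ 0 := by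
      intro h
      obtain ⟨x, hx, hxp⟩ := (hD.nondegenerate i p' hp' hp'0).1
      have hind : p' ∉ F ∙ p := by
        intro hm
        obtain ⟨a, rfl⟩ := Submodule.mem_span_singleton.1 hm
        rw [smul_left hf] at hpp
        exact hp'0 (by rw [(mul_eq_zero.1 hpp).resolve_right hp1, zero_smul])
      have hp0 : p ≠ 0 := fun e => hp1 (by rw [e, zero_left hf])
      have hle : F ∙ p ⊔ F ∙ p' ≤ D i :=
        sup_le ((Submodule.span_singleton_le_iff_mem _ _).2 hp) ((Submodule.span_singleton_le_iff_mem _ _).2 hp')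
      have hspan := Submodule.eq_of_le_of_finrank_eq hle (by
        rw [Submodule.finrank_sup_span_singleton hind, finrank_span_singleton hp0, hD.decomp.finrank_eq i])
      rw [← hspan] at hx
      obtain ⟨u, hu, w, hw, rfl⟩ := Submodule.mem_sup.1 hx
      obtain ⟨a, rfl⟩ := Submodule.mem_span_singleton.1 hu
      obtain ⟨b, rfl⟩ := Submodule.mem_span_singleton.1 hw
      rw [add_left hf, smul_left hf, smul_left hf, h, eq_zero_symm hf hpp, mul_zero, mul_zero, add_zero] at hxp
      exact hxp rfl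
    exact ⟨p, p', hp, hp', hfix _ (herm' hf p p) hp1, hfix _ (herm' hf p' p') hnd, eq_zero_symm hf hpp⟩
  choose p p' hp hp' hpp hpp' hpq using hplane
  obtain ⟨pt, hpt⟩ : ∃ pt : Fin t × Fin 2 → (Fin n → F), pt = fun k => if k.2 = 0 then p k.1 else p' k.1 := ⟨_, rfl⟩
  have hptD : ∀ k, pt k ∈ D k.1 := fun k => by rw [hpt]; dsimp only; split; exacts [hp _, hp' _]
  have hpt1 : ∀ k, f (pt k) (pt k) = 1 := fun k => by rw [hpt]; dsimp only; split; exacts [hpp _, hpp' _]
  have hpt0 : ∀ k l, k ≠ l → f (pt k) (pt l) = 0 := by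
    intro k l hkl
    by_cases h : k.1 = l.1
    · have hne : k.2 ≠ l.2 := fun e => hkl (Prod.ext h e)
      obtain ⟨k1, k2⟩ := k
      obtain ⟨l1, l2⟩ := l
      simp only at h hne
      subst h
      rw [hpt]
      fin_cases k2 <;> fin_cases l2
      · exact absurd rfl hne
      · exact hpq _
      · exact eq_zero_symm hf (hpq _)
      · exact absurd rfl hne
    · exact hD.orthogonal _ _ h _ (hptD k) _ (hptD l)
  have hli : LinearIndependent F pt := by
    rw [Fintype.linearIndependent_iff]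
    intro c hc k
    have := congrArg (flinU hf (pt k)) hc
    rw [map_sum, map_zero, Finset.sum_eq_single k] at this
    · simpa [map_smul, flinU_apply, hpt1] using this
    · intro l _ hl; simp [map_smul, flinU_apply, hpt0 l k hl]
    · simp
  have hcoord : ∀ i x, x ∈ D i → ∃ a b : F, x = a • p i + b • p' i := by
    intro i x hx
    have hp0 : p i ≠ 0 := fun e => by simpa [e, zero_left hf] using hpp i
    have hind : p' i ∉ F ∙ p i := fun hm => by
      obtain ⟨a, ha⟩ := Submodule.mem_span_singleton.1 hm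
      have := hpq i
      rw [← ha, smul_right hf, hpp, mul_one] at this
      rw [(map_eq_zero τ).1 this, zero_smul] at ha
      exact zero_ne_one (α := F) (by rw [← hpp' i, ← ha, zero_left hf])
    have hle : F ∙ p i ⊔ F ∙ p' i ≤ D i :=
      sup_le ((Submodule.span_singleton_le_iff_mem _ _).2 (hp i)) ((Submodule.span_singleton_le_iff_mem _ _).2 (hp' i))
    have hspan := Submodule.eq_of_le_of_finrank_eq hle (by
      rw [Submodule.finrank_sup_span_singleton hind, finrank_span_singleton hp0, hD.decomp.finrank_eq i])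
    rw [← hspan] at hx
    obtain ⟨u, hu, w, hw, rfl⟩ := Submodule.mem_sup.1 hx
    obtain ⟨a, rfl⟩ := Submodule.mem_span_singleton.1 hu
    obtain ⟨b, rfl⟩ := Submodule.mem_span_singleton.1 hw
    exact ⟨a, b, rfl⟩
  have haniso : ∀ i x, x ∈ D i → f x x ≠ 0 → ∃ k : Fin t × Fin 2, k.1 = i ∧ x ∈ F ∙ pt k := by
    intro i x hx hxx
    obtain ⟨a, b, rfl⟩ := hcoord i x hx
    by_cases ha : a = 0
    · exact ⟨(i, 1), rfl, by rw [ha, zero_smul, zero_add, hpt]; exact Submodule.smul_mem _ _ (by simp)⟩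
    by_cases hb : b = 0
    · exact ⟨(i, 0), rfl, by rw [hb, zero_smul, add_zero, hpt]; exact Submodule.smul_mem _ _ (by simp)⟩
    exfalso; apply hxx
    simp only [add_left hf, add_right hf, smul_left hf, smul_right hf, hpp, hpp', hpq, eq_zero_symm hf (hpq i)]
    simp only [mul_one, mul_zero, add_zero, zero_add]
    rw [hnorm a ha, hnorm b hb, one_add_one_eq_two, h2]
  have ht7 : 7 ≤ t := by
    have hint : DirectSum.IsInternal D :=
      DirectSum.isInternal_submodule_of_iSupIndep_of_iSup_eq_top hD.decomp.indep hD.decomp.iSup_eq_top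
    have B := hint.collectedBasis fun i => Module.finBasisOfFinrankEq F (D i) (hD.decomp.finrank_eq i)
    have := Module.finrank_eq_card_basis B
    rw [Module.finrank_fin_fun, Fintype.card_sigma] at this
    simp at this
    omega
  -- the frame
  let E : Fin (t * 2) → Submodule F (Fin n → F) := fun k => F ∙ pt (finProdFinEquiv.symm k)
  have hE : ∀ g : GL (Fin n) F, (∀ k, ∃ l, act g (pt k) ∈ F ∙ pt l) → g ∈ Cfsg.Geo.decompositionStabilizer E := by
    intro g hg
    choose σ hσ using hg
    have hne : ∀ k, pt k ≠ 0 := fun k => hli.ne_zero k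
    have hinj : Function.Injective σ := by
      intro a b hab
      by_contra hne'
      obtain ⟨x, hx⟩ := Submodule.mem_span_singleton.1 (hσ a)
      obtain ⟨y, hy⟩ := Submodule.mem_span_singleton.1 (hσ b)
      have h0 : act g (y • pt a - x • pt b) = 0 := by
        rw [map_sub, map_smul, map_smul, ← hx, ← hy, hab, smul_smul, smul_smul, mul_comm, sub_self]
      have h1 := congrArg (flinU hf (pt a)) (act_injective g (h0.trans (map_zero _).symm))
      simp [flinU_apply, sub_left hf, smul_left hf, hpt1, hpt0 b a (Ne.symm hne'), zero_left hf] at h1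
      rw [h1, zero_smul] at hy
      exact hne b (act_injective g (hy.symm.trans (map_zero _).symm))
    let π : Equiv.Perm (Fin t × Fin 2) := Equiv.ofBijective σ (Finite.injective_iff_bijective.1 hinj)
    refine ⟨(finProdFinEquiv.symm.trans π).trans finProdFinEquiv, fun k => ?_⟩
    refine Submodule.eq_of_le_of_finrank_eq (Submodule.map_le_iff_le_comap.2 ((Submodule.span_singleton_le_iff_mem _ _).2 ?_)) ?_
    · rw [Submodule.mem_comap, toLin'_eq_act]
      simp only [E, Equiv.trans_apply, Equiv.symm_apply_apply]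
      exact hσ _
    · rw [toLin'_eq_act, finrank_map_act, finrank_span_singleton (hne _), finrank_span_singleton (hne _)]
  refine ⟨Cfsg.Geo.decompositionStabilizer E ⊓ (uiso f ⊓ Cfsg.Geo.specialLinear (Fin n) F),
    lt_of_le_not_ge ?_ ?_, lt_of_le_not_ge inf_le_right ?_⟩
  · rintro g ⟨hg, hgu⟩
    refine ⟨hE g fun k => ?_, hgu⟩
    obtain ⟨σ, hσ⟩ := hg
    have h1 : act g (pt k) ∈ D (σ k.1) := by rw [← hσ k.1]; exact ⟨_, hptD k, rfl⟩
    obtain ⟨l, -, hl⟩ := haniso _ _ h1 (by rw [mem_uiso.1 hgu.1, hpt1]; exact one_ne_zero)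
    exact ⟨l, hl⟩
  all_goals intro hle
  · -- exchanging points of two planes
    let a : Fin t × Fin 2 := (⟨0, by omega⟩, 0)
    let b : Fin t × Fin 2 := (⟨1, by omega⟩, 0)
    have hab : a ≠ b := by simp [a, b, Fin.ext_iff]
    obtain ⟨u, hu⟩ : ∃ u, u = pt a + pt b := ⟨_, rfl⟩
    have huu : f u u = 0 := by
      simp only [hu, add_left hf, add_right hf, hpt1, hpt0 _ _ hab, hpt0 _ _ hab.symm, add_zero, zero_add]
      rw [one_add_one_eq_two, h2]
    have hc : (1 : F) + τ 1 = 0 := by rw [map_one, one_add_one_eq_two, h2]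
    have hx : ∀ x, act (utv hf u 1) x = x + f x u • u := fun x => by rw [act_utv hf huu, one_mul]
    have hmem : utv hf u 1 ∈ Cfsg.Geo.decompositionStabilizer E := by
      refine hE _ fun k => ?_
      rw [hx]
      by_cases hka : k = a
      · refine ⟨b, ?_⟩
        subst hka
        rw [hu, add_right hf, hpt1, hpt0 _ _ hab, add_zero, one_smul,
          show pt a + (pt a + pt b) = (2 : F) • pt a + pt b by module, h2, zero_smul, zero_add]
        exact Submodule.mem_span_singleton_self _
      by_cases hkb : k = b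
      · refine ⟨a, ?_⟩
        subst hkb
        rw [hu, add_right hf, hpt1, hpt0 _ _ hka, zero_add, one_smul,
          show pt b + (pt a + pt b) = (2 : F) • pt b + pt a by module, h2, zero_smul, zero_add]
        exact Submodule.mem_span_singleton_self _
      · exact ⟨k, by rw [hu, add_right hf, hpt0 _ _ hka, hpt0 _ _ hkb, add_zero, zero_smul, add_zero]
                     exact Submodule.mem_span_singleton_self _⟩
    obtain ⟨⟨σ, hσ⟩, -⟩ := hle ⟨hmem, utv_mem hf huu hc, det_ptv hf (by rw [smul_right hf, huu, mul_zero])⟩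
    -- a plane is not mapped into a plane
    let a' : Fin t × Fin 2 := (⟨0, by omega⟩, 1)
    have ha' : a' ≠ a := by simp [a, a']
    have ha'b : a' ≠ b := by simp [b, a', Fin.ext_iff]
    have h1 : pt b ∈ D (σ a.1) := by
      rw [← hσ a.1]
      refine ⟨pt a, hptD a, ?_⟩
      rw [toLin'_eq_act, hx, hu, add_right hf, hpt1, hpt0 _ _ hab, add_zero, one_smul,
        show pt a + (pt a + pt b) = (2 : F) • pt a + pt b by module, h2, zero_smul, zero_add]
    have h2' : pt a' ∈ D (σ a.1) := by
      rw [← hσ a.1]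
      refine ⟨pt a', hptD a', ?_⟩
      rw [toLin'_eq_act, hx, hu, add_right hf, hpt0 _ _ ha', hpt0 _ _ ha'b, add_zero, zero_smul, add_zero]
    have key : ∀ k, pt k ∈ D (σ a.1) → k.1 = σ a.1 := fun k hk => by
      by_contra hne
      exact one_ne_zero (α := F) ((hpt1 k).symm.trans (hD.orthogonal _ _ hne _ (hptD k) _ hk))
    have := (key b h1).trans (key a' h2').symm
    simp [b, a', Fin.ext_iff] at this
  · -- a transvection leaving the frame
    let k₀ : Fin t × Fin 2 := (⟨0, by omega⟩, 0)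
    let k₁ : Fin t × Fin 2 := (⟨1, by omega⟩, 0)
    let k₂ : Fin t × Fin 2 := (⟨2, by omega⟩, 0)
    let k₃ : Fin t × Fin 2 := (⟨3, by omega⟩, 0)
    have d01 : k₀ ≠ k₁ := by simp [k₀, k₁, Fin.ext_iff]
    have d02 : k₀ ≠ k₂ := by simp [k₀, k₂, Fin.ext_iff]
    have d03 : k₀ ≠ k₃ := by simp [k₀, k₃, Fin.ext_iff]
    have d12 : k₁ ≠ k₂ := by simp [k₁, k₂, Fin.ext_iff]
    have d13 : k₁ ≠ k₃ := by simp [k₁, k₃, Fin.ext_iff]
    have d23 : k₂ ≠ k₃ := by simp [k₂, k₃, Fin.ext_iff]
    obtain ⟨u, hu⟩ : ∃ u, u = pt k₀ + pt k₁ + pt k₂ + pt k₃ := ⟨_, rfl⟩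
    have huu : f u u = 0 := by
      simp only [hu, add_left hf, add_right hf, hpt1, hpt0 _ _ d01, hpt0 _ _ d01.symm, hpt0 _ _ d02, hpt0 _ _ d02.symm,
        hpt0 _ _ d03, hpt0 _ _ d03.symm, hpt0 _ _ d12, hpt0 _ _ d12.symm, hpt0 _ _ d13, hpt0 _ _ d13.symm,
        hpt0 _ _ d23, hpt0 _ _ d23.symm]
      linear_combination 2 * h2
    have hc : (1 : F) + τ 1 = 0 := by rw [map_one, one_add_one_eq_two, h2]
    obtain ⟨⟨σ, hσ⟩, -⟩ := hle ⟨utv_mem hf huu hc, det_ptv hf (by rw [smul_right hf, huu, mul_zero])⟩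
    have h1 : act (utv hf u 1) (pt k₀) ∈ E (σ (finProdFinEquiv k₀)) := by
      rw [← hσ (finProdFinEquiv k₀)]
      refine ⟨pt k₀, ?_, rfl⟩
      simp only [E, Equiv.symm_apply_apply, SetLike.mem_coe]
      exact Submodule.mem_span_singleton_self _
    obtain ⟨c, hc⟩ := Submodule.mem_span_singleton.1 h1
    rw [act_utv hf huu, one_mul] at hc
    have hku : f (pt k₀) u = 1 := by
      simp [hu, add_right hf, hpt1, hpt0 _ _ d01, hpt0 _ _ d02, hpt0 _ _ d03]
    rw [hku, one_smul] at hc
    have e1 := congrArg (flinU hf (pt k₁)) hc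
    have e2 := congrArg (flinU hf (pt k₂)) hc
    simp only [flinU_apply, map_smul, map_add, hu, add_left hf, hpt1, hpt0 _ _ d01, hpt0 _ _ d02, hpt0 _ _ d12,
      hpt0 _ _ d12.symm, hpt0 _ _ d13.symm, hpt0 _ _ d23.symm, smul_eq_mul, add_zero, zero_add] at e1 e2
    generalize finProdFinEquiv.symm (σ (finProdFinEquiv k₀)) = l at e1 e2
    by_cases hl : l = k₁
    · subst hl; rw [hpt0 _ _ d12, mul_zero] at e2; exact zero_ne_one e2
    · rw [hpt0 _ _ hl, mul_zero] at e1; exact zero_ne_one e1

end Cfsg.Agent.S5656
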