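import Cfsg.Statements.S5657
import Cfsg.Agent.Lib.MaxCl.UnitaryRoot
-- import your own Cfsg.Agent.* helpers here

set_option autoImplicit false
open Cfsg Cfsg.Agent.MaxCl Cfsg.Agent.MaxCl.Unit

namespace Cfsg.Agent.S5657

set_option maxHeartbeats 1600000

/-- Let F be the field with q² elements and n = 2k ≥ 13. Let D be a decomposition of F^n into two complementary subspaces of dimension k on each of which the standard unitary form vanishes identically. Then the elements of SU_n(q) preserving or interchanging the two subspaces form a maximal subgroup of SU_n(q). -/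
theorem result {F : Type*} [Field F] [Fintype F] (n q : ℕ) (hF : Fintype.card F = q ^ 2) (hn : 13 ≤ n) (k : ℕ) (hk : 2 * k = n) (D : Fin 2 → Submodule F (Fin n → F)) (hD : Cfsg.Geo.IsMDecomposition k D) (hts : ∀ i, Cfsg.Geo.IsTotallySingularFor (Cfsg.hermForm n F q) (D i)) : Cfsg.Geo.IsMaximalIn (Cfsg.GU n F q ⊓ Cfsg.Geo.specialLinear (Fin n) F) (Cfsg.Geo.decompositionStabilizer D ⊓ (Cfsg.GU n F q ⊓ Cfsg.Geo.specialLinear (Fin n) F)) := by
  classical
  obtain ⟨τ, hτ, hf⟩ := hermForm_isUnitary n q hF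
  set f := Cfsg.hermForm n F q
  change Cfsg.Geo.IsMaximalIn (uiso f ⊓ _) (_ ⊓ (uiso f ⊓ _))
  have hn6 : 6 ≤ Fintype.card (Fin n) := by rw [Fintype.card_fin]; omega
  obtain ⟨ζ, hζ0, hζ⟩ := exists_skew hf.ne_refl hf.involutive
  have hdim := hD.finrank_eq
  have hU0 : ∀ u c, f u u = 0 → c + τ c = 0 → utv hf u c ∈ uiso f ⊓ Cfsg.Geo.specialLinear (Fin n) F :=
    fun u c hu hc => ⟨utv_mem hf hu hc, det_ptv hf (by rw [smul_right hf, hu, mul_zero])⟩
  have hc : IsCompl (D 0) (D 1) := by
    refine ⟨hD.indep.pairwiseDisjoint (by decide : (0 : Fin 2) ≠ 1), codisjoint_iff.2 ?_⟩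
    rw [eq_top_iff, ← hD.iSup_eq_top, iSup_le_iff]
    intro i; fin_cases i
    · exact le_sup_left
    · exact le_sup_right
  have hother : ∀ i : Fin 2, ∃ j, j ≠ i ∧ ∀ l, l = i ∨ l = j := by decide
  have hsplit : ∀ i j : Fin 2, j ≠ i → IsCompl (D i) (D j) := by
    intro i j hij
    fin_cases i <;> fin_cases j <;> first | exact absurd rfl hij | exact hc | exact hc.symm
  have hrep : ∀ (i j : Fin 2), j ≠ i → ∀ v, ∃ p ∈ D i, ∃ q ∈ D j, p + q = v := by
    intro i j hij v
    refine Submodule.mem_sup.1 ?_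
    rw [(hsplit i j hij).sup_eq_top]; trivial
  have hdisj : ∀ (i j : Fin 2), j ≠ i → ∀ x, x ∈ D i → x ∈ D j → x = 0 := fun i j hij x hi hj =>
    Submodule.disjoint_def.1 (hsplit i j hij).disjoint x hi hj
  have hex : ∀ i, ∃ x ∈ D i, x ≠ 0 := fun i => Submodule.exists_mem_ne_zero_of_ne_bot (by
    intro h; have := hdim i; rw [h, finrank_bot] at this; omega)
  -- representing functionals on one member inside the other
  have hrepr : ∀ (i j : Fin 2), j ≠ i → ∀ φ : (Fin n → F) →ₗ[F] F, ∃ c ∈ D j, ∀ a ∈ D i, φ a = f a c := by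
    intro i j hij φ
    obtain ⟨w, hw⟩ := exists_repr hf φ
    obtain ⟨u, hu, c, hc', rfl⟩ := hrep i j hij w
    exact ⟨c, hc', fun a ha => by rw [hw a, add_right hf, hts i a ha u hu, zero_add]⟩
  have hdual : ∀ (i j : Fin 2), j ≠ i → ∀ a ∈ D i, ∀ p ∈ D i, p ∉ F ∙ a →
      ∃ c ∈ D j, f a c = 0 ∧ f p c = 1 := by
    intro i j hij a ha p hp hpa
    obtain ⟨φ, h0, h1⟩ := exists_dual _ hpa
    obtain ⟨c, hc', hc⟩ := hrepr i j hij φ
    exact ⟨c, hc', (hc a ha).symm.trans (h0 a (Submodule.mem_span_singleton_self a)),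
      (hc p hp).symm.trans h1⟩
  have hindep : ∀ {a p : Fin n → F}, a ≠ 0 → p ∉ F ∙ a → a ∉ F ∙ p := by
    intro a p ha hp h
    obtain ⟨s, rfl⟩ := Submodule.mem_span_singleton.1 h
    have hs : s ≠ 0 := by rintro rfl; simp at ha
    exact hp (Submodule.mem_span_singleton.2 ⟨s⁻¹, inv_smul_smul₀ hs p⟩)
  have hmem : ∀ (g : GL (Fin n) F) (σ : Equiv.Perm (Fin 2)),
      (∀ i, ∀ x ∈ D i, act g x ∈ D (σ i)) → g ∈ Cfsg.Geo.decompositionStabilizer D := fun g σ h =>
    ⟨σ, fun i => Submodule.eq_of_le_of_finrank_eq (Submodule.map_le_iff_le_comap.2 (h i))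
      (by rw [toLin'_eq_act, finrank_map_act, hdim, hdim])⟩
  -- strictness
  refine ⟨lt_of_le_of_ne inf_le_right ?_, ?_⟩
  · intro heq
    obtain ⟨u, hu, hu0⟩ := hex 0
    obtain ⟨x, hx⟩ := (hf.nondegenerate u hu0).1
    obtain ⟨p, hp, w, hw, rfl⟩ := hrep 0 1 (by decide) x
    rw [add_left hf, hts 0 p hp u hu, zero_add] at hx
    obtain ⟨σ, hσ⟩ := (inf_eq_right.1 heq) (hU0 u ζ (hts 0 u hu u hu) hζ)
    have h1 : act (utv hf u ζ) w ∈ D (σ 1) := by rw [← hσ 1]; exact ⟨w, hw, rfl⟩
    rw [act_utv hf (hts 0 u hu u hu)] at h1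
    have hs : (ζ * f w u) • u ≠ 0 := smul_ne_zero (mul_ne_zero hζ0 hx) hu0
    have hw0 : w ≠ 0 := fun h => hx (by rw [h, zero_left hf])
    rcases (show σ 1 = 0 ∨ σ 1 = 1 from (by omega)) with h | h <;> rw [h] at h1
    · exact hw0 (hdisj 0 1 (by decide) w (((D 0).add_mem_iff_left ((D 0).smul_mem _ hu)).1 h1) hw)
    · exact hs (hdisj 0 1 (by decide) _ ((D 0).smul_mem _ hu) (((D 1).add_mem_iff_right hw).1 h1))
  intro M hM1 hM2
  by_cases hsub : M ≤ Cfsg.Geo.decompositionStabilizer D
  · exact Or.inl (le_antisymm (le_inf hsub hM2) hM1)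
  right
  obtain ⟨g, hgM, hg⟩ := SetLike.not_le_iff_exists.1 hsub
  have hgf : g ∈ uiso f := (hM2 hgM).1
  have hconj : ∀ {h u : GL (Fin n) F}, h ∈ M → u ∈ M → h * u * h⁻¹ ∈ M := fun hh hu =>
    M.mul_mem (M.mul_mem hh hu) (M.inv_mem hh)
  have hrootH : ∀ (i j : Fin 2), j ≠ i → ∀ a ∈ D i, ∀ b ∈ D j, f a b = 0 → uroot hf a b ∈ M := by
    intro i j hij a ha b hb hab
    have haa := hts i a ha a ha
    have hbb := hts j b hb b hb
    refine hM1 ⟨hmem _ 1 fun l z hz => ?_, uroot_mem hf haa hbb hab⟩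
    rw [act_uroot hf haa hbb hab, Equiv.Perm.one_apply]
    have hl : l = i ∨ l = j := by omega
    rcases hl with rfl | rfl
    · rw [hts l z hz a ha, zero_smul, sub_zero]; exact (D l).add_mem hz ((D l).smul_mem _ ha)
    · rw [hts l z hz b hb, zero_smul, add_zero]; exact (D l).sub_mem hz ((D l).smul_mem _ hb)
  have hskew : ∀ c, c + τ c = 0 → ∃ μ, μ - τ μ = c := by
    intro c hc
    obtain ⟨e, he⟩ := exists_trace_one hf.involutive hf.ne_refl
    refine ⟨c * e, ?_⟩
    rw [map_mul, eq_neg_of_add_eq_zero_right hc]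
    linear_combination c * he
  -- a root group from one adapted root element
  have key : ∀ (i j : Fin 2), j ≠ i → ∀ y ∈ D i, ∀ p ∈ D i, p ∉ F ∙ y → ∀ u ∈ D j,
      f (p + u) (p + u) = 0 → f (p + u) y = 0 → uroot hf (p + u) y ∈ M → RootIn hf M y := by
    intro i j hij y hy p hp hpy u hu hxx hxy hR
    have hyy := hts i y hy y hy
    refine ⟨hyy, fun c hc => ?_⟩
    obtain ⟨μ, rfl⟩ := hskew c hc
    obtain ⟨b, hb, hyb, hpb⟩ := hdual i j hij y hy p hp hpy
    have hyb' : f y (τ μ • b) = 0 := by rw [smul_right hf, hyb, mul_zero]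
    have hbb : f (τ μ • b) (τ μ • b) = 0 := hts j _ ((D j).smul_mem _ hb) _ ((D j).smul_mem _ hb)
    have hh := hrootH i j hij y hy _ ((D j).smul_mem (τ μ) hb) hyb'
    have hxb : f (p + u) b = 1 := by rw [add_left hf, hpb, hts j u hu b hb, add_zero]
    have hmv1 : act (uroot hf y (τ μ • b)) y = y := by
      rw [act_uroot hf hyy hbb hyb', hyy, hyb', zero_smul, zero_smul, add_zero, sub_zero]
    have hmv2 : act (uroot hf y (τ μ • b)) (p + u) = p + u + μ • y := by
      rw [act_uroot hf hyy hbb hyb', hxy, smul_right hf, hxb, hf.involutive, mul_one, zero_smul, sub_zero]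
    have hR' := hconj hh hR
    rw [conj_uroot hf (uroot_mem hf hyy hbb hyb').1 hxy, hmv1, hmv2] at hR'
    have e : uroot hf (p + u + μ • y) y = uroot hf (p + u) y * utv hf y (μ - τ μ) := by
      generalize p + u = x at hxx hxy hR hR' hxb hmv2
      have hyx := eq_zero_symm hf hxy
      apply gl_ext; intro z
      rw [act_uroot hf (by
        simp only [add_left hf, add_right hf, smul_left hf, smul_right hf, hxx, hxy, hyx, hyy]; ring) hyy
        (by rw [add_left hf, smul_left hf, hxy, hyy]; ring), act_mul, act_utv hf hyy,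
        act_uroot hf hxx hyy hxy]
      simp only [add_left hf, add_right hf, smul_left hf, smul_right hf, hxy, hyx, hyy]
      match_scalars <;> ring
    rw [e] at hR'
    exact (mul_mem_cancel_left hR).1 hR'
  have key2 : ∀ (i j : Fin 2), j ≠ i → ∀ y ∈ D i, y ≠ 0 → ∀ α : F, α ≠ 0 → ∀ u ∈ D j,
      f (α • y + u) y = 0 → (∀ s : F, uroot hf (α • y + u) (s • y) ∈ M) → RootIn hf M y := by
    intro i j hij y hy hy0 α hα u hu hxy hR
    have hyy := hts i y hy y hy
    have huu := hts j u hu u hu
    have huy : f u y = 0 := by rwa [add_left hf, smul_left hf, hyy, mul_zero, zero_add] at hxy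
    refine ⟨hyy, fun c hc => ?_⟩
    obtain ⟨μ, rfl⟩ := hskew c hc
    obtain ⟨s, hs⟩ : ∃ s, s = τ (μ / α) := ⟨_, rfl⟩
    have hsa : τ s * α = μ := by rw [hs, hf.involutive, div_mul_cancel₀ _ hα]
    have hus : f u (s • y) = 0 := by rw [smul_right hf, huy, mul_zero]
    have hyu := eq_zero_symm hf huy
    have e : uroot hf (α • y + u) (s • y) = uroot hf u (s • y) * utv hf y (μ - τ μ) := by
      apply gl_ext; intro z
      rw [act_uroot hf (by
          simp only [add_left hf, add_right hf, smul_left hf, smul_right hf, hyy, huu, huy, hyu]; ring)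
        (by rw [smul_left hf, smul_right hf, hyy]; ring)
        (by rw [add_left hf, smul_left hf, smul_right hf, smul_right hf, hyy, huy]; ring),
        act_mul, act_utv hf hyy, act_uroot hf huu (by rw [smul_left hf, smul_right hf, hyy]; ring) hus,
        ← hsa, map_mul, hf.involutive]
      simp only [add_left hf, add_right hf, smul_left hf, smul_right hf, hyy, hyu]
      match_scalars <;> ring
    have h1 := hR s
    rw [e] at h1
    exact (mul_mem_cancel_left (hrootH j i hij.symm u hu _ ((D i).smul_mem s hy) hus)).1 h1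
  have keyD : ∀ (i j : Fin 2), j ≠ i → ∀ y ∈ D i, y ≠ 0 → ∀ x, x ∉ D j → f x x = 0 → f x y = 0 →
      (∀ s : F, uroot hf x (s • y) ∈ M) → RootIn hf M y := by
    intro i j hij y hy hy0 x hx hxx hxy hR
    obtain ⟨p, hp, u, hu, rfl⟩ := hrep i j hij x
    by_cases hdep : p ∈ F ∙ y
    · obtain ⟨a, rfl⟩ := Submodule.mem_span_singleton.1 hdep
      have ha : a ≠ 0 := by rintro rfl; exact hx (by simpa using hu)
      exact key2 i j hij y hy hy0 a ha u hu hxy hR
    · exact key i j hij y hy p hp hdep u hu hxx hxy (by simpa using hR 1)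
  -- a root group in a member
  obtain ⟨i, y, hy, hy0, hyM⟩ : ∃ (i : Fin 2) (y : Fin n → F), y ∈ D i ∧ y ≠ 0 ∧ RootIn hf M y := by
    obtain ⟨x, y, hxx, hyy, hxy, hR, hx0, hy0, hna⟩ : ∃ x y, f x x = 0 ∧ f y y = 0 ∧ f x y = 0 ∧
        (∀ s : F, uroot hf x (s • y) ∈ M) ∧ x ≠ 0 ∧ y ≠ 0 ∧ ∀ i j : Fin 2, j ≠ i → ¬ (x ∈ D i ∧ y ∈ D j) := by
      by_contra hno; push Not at hno
      have hin : ∀ i, ∀ a ∈ D i, ∃ l, act g a ∈ D l := by
        intro i a ha
        rcases eq_or_ne a 0 with rfl | ha0
        · exact ⟨0, by simp⟩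
        obtain ⟨j, hij, -⟩ := hother i
        obtain ⟨p, hp, hpa⟩ := SetLike.not_le_iff_exists.1 (show ¬ D i ≤ F ∙ a by
          intro hle
          have := Submodule.finrank_mono hle
          rw [finrank_span_singleton ha0, hdim] at this
          omega)
        obtain ⟨b, hb, hab, hpb⟩ := hdual i j hij a ha p hp hpa
        obtain ⟨l, l', -, h1, -⟩ := hno (act g a) (act g b)
          (by rw [mem_uiso.1 hgf]; exact hts i a ha a ha) (by rw [mem_uiso.1 hgf]; exact hts j b hb b hb)
          (by rw [mem_uiso.1 hgf]; exact hab)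
          (fun s => by
            have h := hconj hgM (hrootH i j hij a ha _ ((D j).smul_mem s hb) (by
              rw [smul_right hf, hab, mul_zero]))
            rwa [conj_uroot hf hgf (by rw [smul_right hf, hab, mul_zero]), map_smul] at h)
          (fun h => ha0 (act_injective g (h.trans (map_zero _).symm)))
          (fun h => by
            have := act_injective g (h.trans (map_zero _).symm)
            rw [this, zero_right hf] at hpb; exact zero_ne_one hpb)
        exact ⟨l, h1⟩
      have hto : ∀ i, ∃ l, ∀ a ∈ D i, act g a ∈ D l := by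
        intro i
        by_contra h; push Not at h
        obtain ⟨a, ha, ha'⟩ := h 0
        obtain ⟨b, hb, hb'⟩ := h 1
        obtain ⟨l, hl⟩ := hin i (a + b) ((D i).add_mem ha hb)
        obtain ⟨la, hla⟩ := hin i a ha
        obtain ⟨lb, hlb⟩ := hin i b hb
        have ea : la = 1 := by
          by_contra hne; exact ha' ((show la = 0 by omega) ▸ hla)
        have eb : lb = 0 := by
          by_contra hne; exact hb' ((show lb = 1 by omega) ▸ hlb)
        subst ea eb
        rw [map_add] at hl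
        rcases (show l = 0 ∨ l = 1 by omega) with rfl | rfl
        · exact ha' (((D 0).add_mem_iff_left hlb).1 hl)
        · exact hb' (((D 1).add_mem_iff_right hla).1 hl)
      choose σ hσ using hto
      refine hg (hmem g (Equiv.ofBijective σ (Finite.injective_iff_bijective.1 ?_)) hσ)
      intro a b hab
      by_contra hne
      obtain ⟨u, hu, hu0⟩ := hex a
      have e2 : (D b).map (act g) = D (σ b) :=
        Submodule.eq_of_le_of_finrank_eq (Submodule.map_le_iff_le_comap.2 (hσ b))
          (by rw [finrank_map_act, hdim, hdim])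
      have hgu : act g u ∈ (D b).map (act g) := by rw [e2, ← hab]; exact hσ a u hu
      obtain ⟨w, hw, hwu⟩ := hgu
      rw [act_injective g hwu] at hw
      exact hu0 (hdisj a b (Ne.symm hne) u hu hw)
    by_cases hy' : ∃ i, y ∈ D i
    · obtain ⟨i, hi⟩ := hy'
      obtain ⟨j, hij, -⟩ := hother i
      exact ⟨i, y, hi, hy0, keyD i j hij y hi hy0 x (fun h => hna j i hij.symm ⟨h, hi⟩) hxx hxy hR⟩
    by_cases hx' : ∃ i, x ∈ D i
    · obtain ⟨i, hi⟩ := hx'
      obtain ⟨j, hij, -⟩ := hother i
      refine ⟨i, x, hi, hx0, keyD i j hij x hi hx0 y (fun h => hna i j hij ⟨hi, h⟩) hyy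
        (eq_zero_symm hf hxy) fun s => ?_⟩
      have h := hR (-τ s)
      rwa [neg_smul, ← smul_neg, ← uroot_smul hf hxx (by rw [neg_left' hf, neg_right' hf, hyy]; simp)
        (by rw [neg_right' hf, hxy, neg_zero]), ← uroot_swap hf hyy
        (by rw [smul_left hf, smul_right hf, hxx]; ring)
        (by rw [smul_right hf, eq_zero_symm hf hxy, mul_zero])] at h
    push Not at hx' hy'
    obtain ⟨p, hp, v, hv, rfl⟩ := hrep 0 1 (by decide) x
    obtain ⟨r, hr, u, hu, rfl⟩ := hrep 0 1 (by decide) y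
    have hp0 : p ≠ 0 := fun h => hx' 1 (by rw [h, zero_add]; exact hv)
    have hr0 : r ≠ 0 := fun h => hy' 1 (by rw [h, zero_add]; exact hu)
    obtain ⟨a, ha, hav, hau, hapr⟩ : ∃ a ∈ D 0, f a v = 0 ∧ f a u = 0 ∧ a ∉ Submodule.span F {p, r} := by
      by_contra hno; push Not at hno
      let Φ := ((flinU hf v).prod (flinU hf u)).comp (D 0).subtype
      have h1 : (LinearMap.ker Φ).map (D 0).subtype ≤ Submodule.span F {p, r} := by
        rintro _ ⟨a, ha, rfl⟩
        have := LinearMap.mem_ker.1 ha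
        exact hno _ a.2 (congrArg Prod.fst this) (congrArg Prod.snd this)
      have h2 := Submodule.finrank_mono h1
      rw [Submodule.finrank_map_subtype_eq] at h2
      have h3 := LinearMap.finrank_range_add_finrank_ker Φ
      have h4 := Submodule.finrank_le (LinearMap.range Φ)
      rw [Module.finrank_prod, Module.finrank_self] at h4
      have h5 : Module.finrank F (Submodule.span F ({p, r} : Set (Fin n → F))) ≤ 2 := by
        refine (finrank_span_le_card (R := F) ({p, r} : Set (Fin n → F))).trans ?_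
        simp only [Set.toFinset_insert, Set.toFinset_singleton]
        exact Finset.card_le_two
      rw [hdim] at h3
      omega
    have ha0 : a ≠ 0 := fun h => hapr (by rw [h]; exact Submodule.zero_mem _)
    have hpa : p ∉ F ∙ a := by
      refine hindep hp0 fun h => hapr ?_
      exact Submodule.span_mono (Set.singleton_subset_iff.2 (Set.mem_insert p _)) h
    have hra : r ∉ F ∙ a := by
      refine hindep hr0 fun h => hapr ?_
      exact Submodule.span_mono (Set.singleton_subset_iff.2 (Set.mem_insert_of_mem p (Set.mem_singleton r))) h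
    obtain ⟨b, hb, hab, hpb⟩ := hdual 0 1 (by decide) a ha p hp hpa
    have haa := hts 0 a ha a ha
    have hbb := hts 1 b hb b hb
    obtain ⟨ρ, hρ⟩ : ∃ ρ, ρ = f r b := ⟨_, rfl⟩
    obtain ⟨s, hs, hsρ⟩ : ∃ s : F, s ≠ 0 ∧ (ρ ≠ 0 → s * ρ - τ (s * ρ) ≠ 0) := by
      rcases eq_or_ne ρ 0 with h | h
      · exact ⟨1, one_ne_zero, fun h' => absurd h h'⟩
      · obtain ⟨μ, hμ⟩ := exists_moved hf.ne_refl
        have hμ0 : μ ≠ 0 := by rintro rfl; exact hμ (map_zero _)
        exact ⟨μ / ρ, div_ne_zero hμ0 h, fun _ => by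
          rw [div_mul_cancel₀ _ h]; exact sub_ne_zero.2 (Ne.symm hμ)⟩
    obtain ⟨γ, hγ⟩ : ∃ γ, γ = s * ρ := ⟨_, rfl⟩
    have hxa : f (p + v) a = 0 := by
      rw [add_left hf, hts 0 p hp a ha, eq_zero_symm hf hav, add_zero]
    have hya : f (r + u) a = 0 := by
      rw [add_left hf, hts 0 r hr a ha, eq_zero_symm hf hau, add_zero]
    have hxb : f (p + v) b = 1 := by rw [add_left hf, hpb, hts 1 v hv b hb, add_zero]
    have hyb : f (r + u) b = ρ := by rw [add_left hf, ← hρ, hts 1 u hu b hb, add_zero]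
    have hxw : f (p + v) (s • (r + u)) = 0 := by rw [smul_right hf, hxy, mul_zero]
    have hh := hrootH 0 1 (by decide) a ha b hb hab
    have hR' := hconj hh (hR s)
    have hwb : f (s • (r + u)) b = γ := by rw [smul_left hf, hyb, hγ]
    have hwa : f (s • (r + u)) a = 0 := by rw [smul_left hf, hya, mul_zero]
    rw [conj_uroot hf (uroot_mem hf haa hbb hab).1 hxw, act_uroot hf haa hbb hab, act_uroot hf haa hbb hab,
      hxb, hxa, hwb, hwa, zero_smul, sub_zero, sub_zero, one_smul] at hR'
    obtain ⟨W, hW⟩ : ∃ W, W = s • (r + u) - τ γ • (p + v) + γ • a := ⟨_, rfl⟩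
    have hww : f (s • (r + u)) (s • (r + u)) = 0 := by rw [smul_left hf, smul_right hf, hyy]; ring
    have hWW : f W W = 0 ∧ f a W = 0 ∧ uroot hf (p + v + a) (s • (r + u) + γ • a) =
        uroot hf (p + v) (s • (r + u)) * uroot hf a W := by
      generalize p + v = x at hxa hxw hxx hW ⊢
      generalize s • (r + u) = w at hwa hxw hww hW ⊢
      have hax := eq_zero_symm hf hxa
      have haw := eq_zero_symm hf hwa
      have hwx := eq_zero_symm hf hxw
      have h1 : f W W = 0 := by
        simp only [hW, add_left hf, add_right hf, sub_left hf, sub_right hf, smul_left hf, smul_right hf,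
          hxx, hxw, hxa, hax, haw, hwa, hwx, haa, hww]
        ring
      have h2 : f a W = 0 := by
        simp only [hW, add_right hf, sub_right hf, smul_right hf, hax, haw, haa]; ring
      refine ⟨h1, h2, ?_⟩
      apply gl_ext; intro z
      rw [act_uroot hf (by simp only [add_left hf, add_right hf, hxx, hax, hxa, haa]; ring)
        (by simp only [add_left hf, add_right hf, smul_left hf, smul_right hf, hww, hwa, haw, haa]; ring)
        (by simp only [add_left hf, add_right hf, smul_right hf, hxw, hxa, haw, haa]; ring),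
        act_mul, act_uroot hf hxx hww hxw, act_uroot hf haa h1 h2]
      simp only [hW, add_left hf, add_right hf, sub_left hf, sub_right hf, smul_left hf, smul_right hf,
        hf.involutive, hxx, hxw, hxa, hax, haw, hwa, hwx, haa, hww]
      match_scalars <;> ring
    obtain ⟨hWW, haW, e⟩ := hWW
    rw [e] at hR'
    have hR'' := (mul_mem_cancel_left (hR s)).1 hR'
    rw [uroot_swap hf haa hWW haW] at hR''
    obtain ⟨P, hPdef⟩ : ∃ P, P = s • r - τ γ • p + γ • a := ⟨_, rfl⟩
    have hWdec : W = P + (s • u - τ γ • v) := by rw [hW, hPdef]; module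
    have hP : P ∈ D 0 := hPdef ▸ (D 0).add_mem ((D 0).sub_mem ((D 0).smul_mem _ hr) ((D 0).smul_mem _ hp))
      ((D 0).smul_mem _ ha)
    have hPa : P ∉ F ∙ (-a) := by
      intro h
      obtain ⟨l, hl⟩ := Submodule.mem_span_singleton.1 h
      have hP2 : f P b = 0 := by rw [← hl, smul_left hf, neg_left' hf, hab, neg_zero, mul_zero]
      rw [hPdef, add_left hf, sub_left hf, smul_left hf, smul_left hf, smul_left hf, hpb, hab, ← hρ, ← hγ]
        at hP2
      have hγγ : γ - τ γ = 0 := by linear_combination hP2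
      by_cases hρ0 : ρ = 0
      · rw [hγ, hρ0, mul_zero] at hPdef
        simp only [map_zero, zero_smul, sub_zero, add_zero] at hPdef
        apply hra
        refine ((F ∙ a).smul_mem_iff hs).1 ?_
        rw [← hPdef, ← hl, smul_neg, ← neg_smul]
        exact Submodule.smul_mem _ _ (Submodule.mem_span_singleton_self a)
      · exact hsρ hρ0 (hγ ▸ hγγ)
    refine ⟨0, -a, (D 0).neg_mem ha, neg_ne_zero.2 ha0, key 0 1 (by decide) (-a) ((D 0).neg_mem ha) P hP hPa
      _ ((D 1).sub_mem ((D 1).smul_mem s hu) ((D 1).smul_mem (τ γ) hv)) ?_ ?_ ?_⟩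
    · rw [← hWdec]; exact hWW
    · rw [← hWdec, neg_right' hf, eq_zero_symm hf haW, neg_zero]
    · rw [← hWdec]; exact hR''
  obtain ⟨j, hij, hcov⟩ := hother i
  -- all of `D i`
  have hstep : ∀ u ∈ D i, ∀ w ∈ D i, u ≠ 0 → w ∉ F ∙ u → RootIn hf M u → RootIn hf M w := by
    intro u hu w hw hu0 hwu hM
    have hd : w - u ∈ D i := (D i).sub_mem hw hu
    have hn : u ∉ F ∙ (w - u) := by
      intro h
      obtain ⟨s, hs⟩ := Submodule.mem_span_singleton.1 h
      have hs0 : s ≠ 0 := by rintro rfl; rw [zero_smul] at hs; exact hu0 hs.symm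
      apply hwu
      refine Submodule.mem_span_singleton.2 ⟨s⁻¹ + 1, ?_⟩
      have h8 : w - u = s⁻¹ • u := by rw [← inv_smul_smul₀ hs0 (w - u), hs]
      rw [add_smul, one_smul, ← h8, sub_add_cancel]
    obtain ⟨b, hb, hab, hub⟩ := hdual i j hij (w - u) hd u hu hn
    have hh := hrootH i j hij _ hd b hb hab
    have hdd := hts i _ hd _ hd
    have hbb := hts j b hb b hb
    have := rootIn_conj hf hh (uroot_mem hf hdd hbb hab).1 hM
    rwa [act_uroot hf hdd hbb hab, hts i u hu _ hd, hub, zero_smul, sub_zero, one_smul, add_sub_cancel] at this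
  have hR0 : RootIn hf M (0 : Fin n → F) := by simpa using rootIn_smul hf hyM 0
  have hall : ∀ w ∈ D i, RootIn hf M w := by
    intro w hw
    rcases eq_or_ne w 0 with rfl | hw0
    · exact hR0
    by_cases h : w ∈ F ∙ y
    · obtain ⟨z, hz, hzy⟩ := SetLike.not_le_iff_exists.1 (show ¬ D i ≤ F ∙ y by
        intro hle
        have := Submodule.finrank_mono hle
        rw [finrank_span_singleton hy0, hdim] at this
        omega)
      have hz0 : z ≠ 0 := fun h => hzy (by rw [h]; exact Submodule.zero_mem _)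
      refine hstep z hz w hw hz0 (fun hwz => ?_) (hstep y hy z hz hy0 hzy hyM)
      obtain ⟨s, rfl⟩ := Submodule.mem_span_singleton.1 hwz
      have hs : s ≠ 0 := by rintro rfl; simp at hw0
      exact hzy ((Submodule.smul_mem_iff _ hs).1 h)
    · exact hstep y hy w hw hy0 h hyM
  -- the exchange of the two subspaces
  obtain ⟨h, hhf, hhi, hhj⟩ : ∃ h ∈ uiso f ⊓ Cfsg.Geo.specialLinear (Fin n) F,
      (∀ a ∈ D i, act h a ∈ D j) ∧ ∀ b ∈ D j, act h b ∈ D i := by
    let B := Module.finBasis F (D i)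
    have hw : ∀ l, ∃ w ∈ D j, ∀ m, f (B m : Fin n → F) w = if m = l then 1 else 0 := by
      intro l
      obtain ⟨φ, hφ⟩ := (B.coord l).exists_extend
      obtain ⟨w, hw, hwφ⟩ := hrepr i j hij φ
      refine ⟨w, hw, fun m => ?_⟩
      rw [← hwφ _ (B m).2, show φ (B m : Fin n → F) = B.coord l (B m) from LinearMap.congr_fun hφ (B m)]
      simp [Finsupp.single_apply]
    choose w hwj hwB using hw
    have hwB' : ∀ m l, f (w l) (B m : Fin n → F) = if m = l then 1 else 0 := by
      intro m l
      rw [← herm' hf, hwB]; split <;> simp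
    have hspan : ∀ x ∈ D j, x = ∑ l, f x (B l : Fin n → F) • w l := by
      intro x hx
      by_contra hne
      obtain ⟨d, hd⟩ : ∃ d, d = x - ∑ l, f x (B l : Fin n → F) • w l := ⟨_, rfl⟩
      have hd0 : d ≠ 0 := hd ▸ sub_ne_zero.2 hne
      have hdj : d ∈ D j := hd ▸ (D j).sub_mem hx ((D j).sum_mem fun l _ => (D j).smul_mem _ (hwj l))
      have hker : ∀ a ∈ D i, f a d = 0 := by
        have h1 : ∀ m, f d (B m : Fin n → F) = 0 := by
          intro m
          rw [hd, ← flinU_apply hf, map_sub, map_sum]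
          simp [flinU_apply, hwB']
        intro a ha
        have e : a = ∑ m, B.repr ⟨a, ha⟩ m • (B m : Fin n → F) := by
          simpa only [map_sum, map_smul, Submodule.subtype_apply] using (congrArg (D i).subtype (B.sum_repr ⟨a, ha⟩)).symm
        rw [e, ← flinU_apply hf, map_sum]
        exact Finset.sum_eq_zero fun m _ => by rw [map_smul, flinU_apply, eq_zero_symm hf (h1 m), smul_zero]
      obtain ⟨z, hz⟩ := (hf.nondegenerate d hd0).1
      obtain ⟨a, ha, b, hb, rfl⟩ := hrep i j hij z
      exact hz (by rw [add_left hf, hker a ha, hts j b hb d hdj, add_zero])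
    have hBB : ∀ l m, f (B l : Fin n → F) (B m : Fin n → F) = 0 := fun l m => hts i _ (B l).2 _ (B m).2
    have hww : ∀ l m, f (w l) (w m) = 0 := fun l m => hts j _ (hwj l) _ (hwj m)
    have hζ' : (-ζ⁻¹) + τ (-ζ⁻¹) = 0 := by
      rw [map_neg, map_inv₀, eq_neg_of_add_eq_zero_right hζ, inv_neg]; ring
    have ind : ∀ s : Finset (Fin (Module.finrank F (D i))), ∃ h ∈ uiso f ⊓ Cfsg.Geo.specialLinear (Fin n) F,
        ∀ l, (l ∈ s → act h (B l : Fin n → F) = (-ζ⁻¹) • w l ∧ act h (w l) = ζ • (B l : Fin n → F)) ∧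
          (l ∉ s → act h (B l : Fin n → F) = (B l : Fin n → F) ∧ act h (w l) = w l) := by
      intro s
      induction s using Finset.induction_on with
      | empty => exact ⟨1, one_mem _, fun l => ⟨fun h => absurd h (Finset.notMem_empty l),
          fun _ => by simp [act_one]⟩⟩
      | insert a s has ih =>
        obtain ⟨h, hh, hl⟩ := ih
        obtain ⟨T, hT⟩ : ∃ T, T = utv hf (B a : Fin n → F) ζ * utv hf (w a) (-ζ⁻¹) *
            utv hf (B a : Fin n → F) ζ := ⟨_, rfl⟩
        have hTmem : T ∈ uiso f ⊓ Cfsg.Geo.specialLinear (Fin n) F := hT ▸ mul_mem (mul_mem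
          (hU0 _ _ (hBB a a) hζ) (hU0 _ _ (hww a a) hζ')) (hU0 _ _ (hBB a a) hζ)
        have hTB : act T (B a : Fin n → F) = (-ζ⁻¹) • w a := by
          simp only [hT, act_mul, act_utv hf (hBB a a), act_utv hf (hww a a), add_left hf, smul_left hf,
            hBB, hwB, hwB', if_true]
          match_scalars <;> field_simp <;> ring
        have hTw : act T (w a) = ζ • (B a : Fin n → F) := by
          simp only [hT, act_mul, act_utv hf (hBB a a), act_utv hf (hww a a), add_left hf, smul_left hf,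
            hBB, hww, hwB, hwB', if_true]
          match_scalars <;> field_simp <;> ring
        have hTfix : ∀ l, l ≠ a → act T (B l : Fin n → F) = (B l : Fin n → F) ∧ act T (w l) = w l := by
          intro l hla
          constructor <;>
          · simp only [hT, act_mul, act_utv hf (hBB a a), act_utv hf (hww a a), hBB, hww, hwB, hwB',
              if_neg hla, if_neg (Ne.symm hla), mul_zero, zero_smul, add_zero]
        refine ⟨T * h, mul_mem hTmem hh, fun l => ⟨fun hm => ?_, fun hm => ?_⟩⟩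
        · rcases Finset.mem_insert.1 hm with rfl | hm
          · rw [act_mul, act_mul, ((hl l).2 has).1, ((hl l).2 has).2]; exact ⟨hTB, hTw⟩
          · have hla : l ≠ a := fun e => has (e ▸ hm)
            rw [act_mul, act_mul, ((hl l).1 hm).1, ((hl l).1 hm).2, map_smul, map_smul, (hTfix l hla).1,
              (hTfix l hla).2]
            exact ⟨rfl, rfl⟩
        · rw [Finset.mem_insert, not_or] at hm
          rw [act_mul, act_mul, ((hl l).2 hm.2).1, ((hl l).2 hm.2).2]
          exact hTfix l hm.1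
    obtain ⟨h, hh, hl⟩ := ind Finset.univ
    refine ⟨h, hh, fun a ha => ?_, fun b hb => ?_⟩
    · have e : a = ∑ m, B.repr ⟨a, ha⟩ m • (B m : Fin n → F) := by
        simpa only [map_sum, map_smul, Submodule.subtype_apply] using (congrArg (D i).subtype (B.sum_repr ⟨a, ha⟩)).symm
      rw [e, map_sum]
      exact (D j).sum_mem fun m _ => by
        rw [map_smul, ((hl m).1 (Finset.mem_univ m)).1]; exact (D j).smul_mem _ ((D j).smul_mem _ (hwj m))
    · rw [hspan b hb, map_sum]
      exact (D i).sum_mem fun m _ => by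
        rw [map_smul, ((hl m).1 (Finset.mem_univ m)).2]; exact (D i).smul_mem _ ((D i).smul_mem _ (B m).2)
  have hhM : h ∈ M := by
    refine hM1 ⟨hmem h (Equiv.swap i j) fun l z hz => ?_, hhf⟩
    rcases hcov l with rfl | rfl
    · rw [Equiv.swap_apply_left]; exact hhi z hz
    · rw [Equiv.swap_apply_right]; exact hhj z hz
  have hfullj : ∀ w ∈ D j, RootIn hf M w := by
    intro w hw
    have hmap : (D i).map (act h) = D j :=
      Submodule.eq_of_le_of_finrank_eq (Submodule.map_le_iff_le_comap.2 hhi)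
        (by rw [finrank_map_act, hdim, hdim])
    obtain ⟨a, ha, rfl⟩ : w ∈ (D i).map (act h) := hmap ▸ hw
    exact rootIn_conj hf hhM hhf.1 (hall a ha)
  refine le_antisymm hM2 (su_le_of_utv hf hn6 M fun v c hv hc => ?_)
  suffices h : RootIn hf M v from h.2 c hc
  obtain ⟨p, hp, w, hw, rfl⟩ := hrep i j hij v
  have hpw : f p w + τ (f p w) = 0 := by
    rw [herm' hf]
    rwa [add_left hf, add_right hf, add_right hf, hts i p hp p hp, hts j w hw w hw, zero_add, add_zero] at hv
  -- adding a vector of `D j` along a skew product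
  have hadd : ∀ x z, RootIn hf M x → z ∈ D j → f x z ≠ 0 → f x z + τ (f x z) = 0 → RootIn hf M (x + z) := by
    intro x z hx hz hne hsk
    have := rootIn_add hf (hfullj z hz) hx (c := (f x z)⁻¹) (by
      rw [map_inv₀, eq_neg_of_add_eq_zero_right hsk, inv_neg, add_neg_cancel])
    rwa [inv_mul_cancel₀ hne, one_smul] at this
  by_cases h0 : f p w = 0
  · rcases eq_or_ne p 0 with rfl | hp0
    · rw [zero_add]; exact hfullj w hw
    obtain ⟨φ, -, hφ⟩ := exists_dual (⊥ : Submodule F (Fin n → F)) (by simpa using hp0)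
    obtain ⟨z, hz, hzφ⟩ := hrepr i j hij (ζ • φ)
    have hpz : f p z = ζ := by rw [← hzφ p hp, LinearMap.smul_apply, hφ, smul_eq_mul, mul_one]
    have h1 := hadd p z (hall p hp) hz (by rw [hpz]; exact hζ0) (by rw [hpz]; exact hζ)
    have e : f (p + z) (w - z) = -ζ := by
      rw [add_left hf, sub_right hf, sub_right hf, h0, hpz, hts j z hz w hw, hts j z hz z hz]; ring
    have h2 := hadd (p + z) (w - z) h1 ((D j).sub_mem hw hz) (by rw [e]; exact neg_ne_zero.2 hζ0)
      (by rw [e, map_neg]; linear_combination -hζ)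
    convert h2 using 1; abel
  · exact hadd p w (hall p hp) hw h0 hpw

end Cfsg.Agent.S5657
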