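import Cfsg.Statements.S5658
import Cfsg.Agent.Lib.MaxCl.UnitarySubfield
import Cfsg.Agent.Lib.MaxCl.UnitaryGen
-- import your own Cfsg.Agent.* helpers here

set_option autoImplicit false
open Cfsg

namespace Cfsg.Agent.S5658

/-- Let F be the field with q² elements, n ≥ 13, and F₀ a subfield with |F| = |F₀| ^ r for an odd prime r. Let P be an invertible matrix such that the standard unitary form takes values in F₀ on the F₀-span of the columns of P. Then the elements of SU_n(q) lying in the subfield group of P (the conjugate by P of the product of GL_n(F₀) with the scalars) form a maximal subgroup of SU_n(q). -/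
theorem result {F : Type*} [Field F] [Fintype F] (n q : ℕ) (hF : Fintype.card F = q ^ 2) (hn : 13 ≤ n) (F₀ : Subfield F) (r : ℕ) (hr : r.Prime) (hro : Odd r) (hcard : Fintype.card F = Nat.card F₀ ^ r) (P : Matrix.GeneralLinearGroup (Fin n) F) (hP : Cfsg.Geo.IsFormRationalStructure (Cfsg.hermForm n F q) F₀ 1 P) : Cfsg.Geo.IsMaximalIn (Cfsg.GU n F q ⊓ Cfsg.Geo.specialLinear (Fin n) F) (Cfsg.Geo.subfieldSubgroup F₀ P ⊓ (Cfsg.GU n F q ⊓ Cfsg.Geo.specialLinear (Fin n) F)) := by
  classical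
  obtain ⟨τ, hτ, hf⟩ := Cfsg.Agent.MaxCl.Unit.hermForm_isUnitary n q hF
  change Cfsg.Geo.IsMaximalIn (Cfsg.Agent.MaxCl.Unit.uiso (Cfsg.hermForm n F q) ⊓ _)
    (_ ⊓ (Cfsg.Agent.MaxCl.Unit.uiso (Cfsg.hermForm n F q) ⊓ _))
  refine Cfsg.Agent.MaxCl.USub.subfield_maximal hf (by rw [Fintype.card_fin]; omega) F₀ P ?_ ?_ ?_ hr hro
    (by rw [Nat.card_eq_fintype_card, hcard])
  · rintro _ ⟨u, hu, rfl⟩ _ ⟨v, hv, rfl⟩
    have := hP u v hu hv
    rwa [one_mul, ← Cfsg.Agent.MaxCl.act_apply, ← Cfsg.Agent.MaxCl.act_apply] at this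
  · intro a ha
    rw [hτ]
    exact pow_mem ha q
  · by_contra hno
    push Not at hno
    haveI : Fintype F₀ := Fintype.ofFinite _
    obtain ⟨p, hp⟩ := CharP.exists F
    haveI : CharP F₀ p := (RingHom.charP_iff (F₀.subtype) Subtype.val_injective p).2 hp
    obtain ⟨a, hpp, ha⟩ := FiniteField.card F₀ p
    obtain ⟨k, -, hk⟩ := FiniteField.card F p
    -- every element of `F₀` is fixed, so its order is at most `q`
    have hq2 : 2 ≤ q := by
      rcases Nat.lt_or_ge q 2 with h | h
      · have := Fintype.one_lt_card (α := F)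
        rw [hF] at this
        interval_cases q <;> simp at this
      · exact h
    have hfix : ∀ x : F₀, x ^ q = x := fun x => Subtype.ext (by
      rw [SubmonoidClass.coe_pow, ← hτ]; exact hno _ x.2)
    obtain ⟨g, hg⟩ := IsCyclic.exists_generator (α := F₀ˣ)
    have hg1 : g ^ (q - 1) = 1 := by
      have : g ^ q = g := Units.ext (hfix g)
      rw [← mul_left_inj g, ← pow_succ, Nat.sub_add_cancel (by omega), this, one_mul]
    have hdvd := orderOf_dvd_of_pow_eq_one hg1
    rw [orderOf_eq_card_of_forall_mem_zpowers hg, Nat.card_units, Nat.card_eq_fintype_card, ha] at hdvd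
    have hpa : (p : ℕ) ^ (k : ℕ) = p ^ ((a : ℕ) * r) := by
      rw [← hk, hcard, Nat.card_eq_fintype_card, ha, pow_mul]
    have hka := Nat.pow_right_injective hpp.two_le hpa
    obtain ⟨j, -, hj⟩ := (Nat.dvd_prime_pow hpp).1 (hk ▸ hF ▸ dvd_pow_self q two_ne_zero)
    have hkj : (k : ℕ) = j * 2 := Nat.pow_right_injective hpp.two_le (show (p : ℕ) ^ (k : ℕ) = p ^ (j * 2) by
      rw [← hk, hF, hj, pow_mul])
    rw [hj] at hdvd
    have haj : (a : ℕ) ∣ j := by
      have h1 := Nat.pow_sub_one_gcd_pow_sub_one p (a : ℕ) j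
      rw [Nat.gcd_eq_left hdvd] at h1
      have h2 : p ^ (a : ℕ) = p ^ Nat.gcd a j := by
        have := Nat.one_le_pow (a : ℕ) p hpp.pos
        have := Nat.one_le_pow (Nat.gcd (a : ℕ) j) p hpp.pos
        omega
      rw [Nat.pow_right_injective hpp.two_le h2]
      exact Nat.gcd_dvd_right _ _
    obtain ⟨m, hm⟩ := haj
    have hr2 : r = m * 2 := Nat.eq_of_mul_eq_mul_left a.pos (by rw [← hka, hkj, hm]; ring)
    exact (Nat.not_even_iff_odd.2 hro) ⟨m, by omega⟩

end Cfsg.Agent.S5658
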