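import Cfsg.Statements.S5659
import Cfsg.Agent.Lib.MaxCl.UnitaryOrthSubfield
-- import your own Cfsg.Agent.* helpers here

set_option autoImplicit false
open Cfsg

namespace Cfsg.Agent.S5659

/-- Let F be the field with q² elements, q odd, n ≥ 13, and F₀ the subfield with q elements. Let P be an invertible matrix such that the standard unitary form takes values in F₀ on the F₀-span of the columns of P (so it restricts to a non-degenerate symmetric bilinear form there). Then the elements of SU_n(q) lying in the subfield group of P form a maximal subgroup of SU_n(q). -/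
theorem result {F : Type*} [Field F] [Fintype F] (n q : ℕ) (hF : Fintype.card F = q ^ 2) (hn : 13 ≤ n) (hodd : Odd q) (F₀ : Subfield F) (hcard : Fintype.card F = Nat.card F₀ ^ 2) (P : Matrix.GeneralLinearGroup (Fin n) F) (hP : Cfsg.Geo.IsFormRationalStructure (Cfsg.hermForm n F q) F₀ 1 P) : Cfsg.Geo.IsMaximalIn (Cfsg.GU n F q ⊓ Cfsg.Geo.specialLinear (Fin n) F) (Cfsg.Geo.subfieldSubgroup F₀ P ⊓ (Cfsg.GU n F q ⊓ Cfsg.Geo.specialLinear (Fin n) F)) := by
  classical
  obtain ⟨τ, hτ, hf⟩ := Cfsg.Agent.MaxCl.Unit.hermForm_isUnitary n q hF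
  change Cfsg.Geo.IsMaximalIn (Cfsg.Agent.MaxCl.Unit.uiso (Cfsg.hermForm n F q) ⊓ _)
    (_ ⊓ (Cfsg.Agent.MaxCl.Unit.uiso (Cfsg.hermForm n F q) ⊓ _))
  haveI : Fintype F₀ := Fintype.ofFinite _
  have hq : Fintype.card F₀ = q := by
    rw [hF, Nat.card_eq_fintype_card (α := F₀)] at hcard
    exact ((pow_left_inj₀ (Nat.zero_le _) (Nat.zero_le _) (two_ne_zero)).1 hcard).symm
  have hq1 : 1 < q := hq ▸ Fintype.one_lt_card
  have hfix : ∀ a : F, a ∈ F₀ ↔ τ a = a := by
    intro a
    constructor
    · intro ha
      rw [hτ, ← hq]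
      exact congrArg Subtype.val (FiniteField.pow_card (⟨a, ha⟩ : F₀))
    · intro ha
      let p : Polynomial F := Polynomial.X ^ q - Polynomial.X
      have hne : p ≠ 0 := FiniteField.X_pow_card_sub_X_ne_zero F hq1
      have hroot : ∀ x : F, τ x = x → x ∈ p.roots.toFinset := by
        intro x hx
        rw [Multiset.mem_toFinset, Polynomial.mem_roots hne]
        simp [p, ← hτ, hx]
      have hsub : (Finset.univ.image fun x : F₀ => (x : F)) = p.roots.toFinset := by
        refine Finset.eq_of_subset_of_card_le (fun x hx => ?_) ?_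
        · obtain ⟨y, -, rfl⟩ := Finset.mem_image.1 hx
          apply hroot
          rw [hτ, ← hq]
          exact congrArg Subtype.val (FiniteField.pow_card y)
        · rw [Finset.card_image_of_injective _ Subtype.val_injective, Finset.card_univ, hq]
          refine ((Multiset.toFinset_card_le _).trans (Polynomial.card_roots' p)).trans ?_
          simp only [p]; rw [FiniteField.X_pow_card_sub_X_natDegree_eq F hq1]
      have := hroot a ha
      rw [← hsub] at this
      obtain ⟨y, -, rfl⟩ := Finset.mem_image.1 this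
      exact y.2
  refine Cfsg.Agent.MaxCl.UOrth.orth_maximal hf (by rw [Fintype.card_fin]; omega) F₀ P ?_ hfix ?_
  · rintro _ ⟨u, hu, rfl⟩ _ ⟨v, hv, rfl⟩
    have := hP u v hu hv
    rwa [one_mul, ← Cfsg.Agent.MaxCl.act_apply, ← Cfsg.Agent.MaxCl.act_apply] at this
  · refine Ring.two_ne_zero fun hc => ?_
    have h0 := FiniteField.even_card_iff_char_two.1 hc
    obtain ⟨k, hk⟩ := hodd
    rw [hF, hk, pow_two] at h0
    simp [Nat.add_mod, Nat.mul_mod] at h0

end Cfsg.Agent.S5659
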