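import Cfsg.Statements.S5660
import Cfsg.Agent.Lib.MaxCl.UnitaryStab
import Cfsg.Agent.Lib.MaxCl.SympSubfield

set_option autoImplicit false
open Cfsg Cfsg.Agent.MaxCl Cfsg.Agent.MaxCl.Unit

namespace Cfsg.Agent.S5660

/-- Let F be the field with q² elements, n ≥ 13 even, and F₀ the subfield with q elements. Let ζ be a non-zero element with ζ + ζ^q = 0 and P an invertible matrix such that ζ times the standard unitary form takes values in F₀ on the F₀-span of the columns of P and the form vanishes on every pair (u, u) of that span (so ζ times the form restricts to a non-degenerate alternating form there). Then the elements of SU_n(q) lying in the subfield group of P form a maximal subgroup of SU_n(q). -/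
theorem result {F : Type*} [Field F] [Fintype F] (n q : ℕ) (hF : Fintype.card F = q ^ 2) (hn : 13 ≤ n) (heven : Even n) (F₀ : Subfield F) (hcard : Fintype.card F = Nat.card F₀ ^ 2) (ζ : F) (hζ0 : ζ ≠ 0) (hζ : ζ + ζ ^ q = 0) (P : Matrix.GeneralLinearGroup (Fin n) F) (hP : Cfsg.Geo.IsFormRationalStructure (Cfsg.hermForm n F q) F₀ ζ P) (halt : ∀ u : Fin n → F, (∀ i, u i ∈ F₀) → Cfsg.hermForm n F q (Matrix.mulVec (P : Matrix (Fin n) (Fin n) F) u) (Matrix.mulVec (P : Matrix (Fin n) (Fin n) F) u) = 0) : Cfsg.Geo.IsMaximalIn (Cfsg.GU n F q ⊓ Cfsg.Geo.specialLinear (Fin n) F) (Cfsg.Geo.subfieldSubgroup F₀ P ⊓ (Cfsg.GU n F q ⊓ Cfsg.Geo.specialLinear (Fin n) F)) := by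
  classical
  obtain ⟨τ, hτ, hf⟩ := hermForm_isUnitary n q hF
  set f := Cfsg.hermForm n F q
  change Cfsg.Geo.IsMaximalIn (uiso f ⊓ _) (_ ⊓ (uiso f ⊓ _))
  haveI : Fintype F₀ := Fintype.ofFinite _
  have hn6 : 6 ≤ Fintype.card (Fin n) := by rw [Fintype.card_fin]; omega
  have hsk : ζ + τ ζ = 0 := by rw [hτ]; exact hζ
  have hτζ : τ ζ = -ζ := eq_neg_of_add_eq_zero_right hsk
  have hq : Fintype.card F₀ = q := by
    rw [hF, Nat.card_eq_fintype_card (α := F₀)] at hcard
    exact ((pow_left_inj₀ (Nat.zero_le _) (Nat.zero_le _) (two_ne_zero)).1 hcard).symm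
  have hfix₁ : ∀ a ∈ F₀, τ a = a := by
    intro a ha
    rw [hτ, ← hq]
    exact congrArg Subtype.val (FiniteField.pow_card (⟨a, ha⟩ : F₀))
  have hfix₂ : ∀ a : F, τ a = a → a ∈ F₀ := by
    intro a ha
    have hq1 : 1 < q := hq ▸ Fintype.one_lt_card
    let p : Polynomial F := Polynomial.X ^ q - Polynomial.X
    have hne : p ≠ 0 := FiniteField.X_pow_card_sub_X_ne_zero F hq1
    have hroot : ∀ x : F, τ x = x → x ∈ p.roots.toFinset := by
      intro x hx
      rw [Multiset.mem_toFinset, Polynomial.mem_roots hne]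
      simp [p, ← hτ, hx]
    have hsub : (Finset.univ.image fun x : F₀ => (x : F)) = p.roots.toFinset := by
      refine Finset.eq_of_subset_of_card_le (fun x hx => ?_) ?_
      · obtain ⟨y, -, rfl⟩ := Finset.mem_image.1 hx
        exact hroot _ (hfix₁ _ y.2)
      · rw [Finset.card_image_of_injective _ Subtype.val_injective, Finset.card_univ, hq]
        refine ((Multiset.toFinset_card_le _).trans (Polynomial.card_roots' p)).trans ?_
        simp only [p]; rw [FiniteField.X_pow_card_sub_X_natDegree_eq F hq1]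
    have := hroot a ha
    rw [← hsub] at this
    obtain ⟨y, -, rfl⟩ := Finset.mem_image.1 this
    exact y.2
  obtain ⟨θ, hθ⟩ := exists_moved hf.ne_refl
  have hθd : θ - τ θ ≠ 0 := sub_ne_zero.2 (Ne.symm hθ)
  -- rational vectors
  let E : (Fin n → F₀) → (Fin n → F) := fun u => act P fun i => (u i : F)
  have hEadd : ∀ u v, E (u + v) = E u + E v := fun u v => by simp only [E, ← map_add]; rfl
  have hEsub : ∀ u v, E (u - v) = E u - E v := fun u v => by simp only [E, ← map_sub]; rfl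
  have hEsmul : ∀ (c : F₀) u, E (c • u) = (c : F) • E u := fun c u => by simp only [E, ← map_smul]; rfl
  have hE0 : E 0 = 0 := by simpa using hEsmul 0 0
  have hEinj : ∀ u, E u = 0 → u = 0 := fun u h => by
    have h' := act_injective P (h.trans (map_zero _).symm)
    funext i; exact Subtype.ext (congrFun h' i)
  have hEL : ∀ u, E u ∈ ratVec F₀ P := fun u => ⟨_, fun i => (u i).2, rfl⟩
  have hLE : ∀ x ∈ ratVec F₀ P, ∃ u, E u = x := by
    rintro _ ⟨u, hu, rfl⟩; exact ⟨fun i => ⟨u i, hu i⟩, rfl⟩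
  have hEdec : ∀ v, ∃ x y, v = E x + θ • E y := by
    intro v
    obtain ⟨b, hb⟩ : ∃ b : Fin n → F, b = fun i => (act P⁻¹ v i - τ (act P⁻¹ v i)) / (θ - τ θ) := ⟨_, rfl⟩
    have hb' : ∀ i, τ (b i) = b i := fun i => by
      rw [hb]; simp only [map_div₀, map_sub, hf.involutive]
      rw [div_eq_div_iff (sub_ne_zero.2 hθ) hθd]; ring
    have ha' : ∀ i, τ (act P⁻¹ v i - θ * b i) = act P⁻¹ v i - θ * b i := by
      intro i
      have e : b i * (θ - τ θ) = act P⁻¹ v i - τ (act P⁻¹ v i) := by rw [hb]; exact div_mul_cancel₀ _ hθd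
      rw [map_sub, map_mul, hb' i]
      linear_combination e
    refine ⟨fun i => ⟨_, hfix₂ _ (ha' i)⟩, fun i => ⟨_, hfix₂ _ (hb' i)⟩, ?_⟩
    simp only [E]
    rw [← map_smul, ← map_add]
    conv_lhs => rw [← act_act_inv P v]
    congr 1; funext i; simp
  have hmemh : ∀ u v, ζ * f (E u) (E v) ∈ F₀ := fun u v => by
    simp only [E, act_apply]; exact hP _ _ (fun i => (u i).2) (fun i => (v i).2)
  let h₀ : (Fin n → F₀) → (Fin n → F₀) → F₀ := fun u v => ⟨ζ * f (E u) (E v), hmemh u v⟩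
  have hh₀ : ∀ u v, (h₀ u v : F) = ζ * f (E u) (E v) := fun u v => rfl
  have hEself : ∀ u, f (E u) (E u) = 0 := fun u => by
    simp only [E, act_apply]; exact halt _ (fun i => (u i).2)
  have hskew : ∀ u v, f (E v) (E u) = -f (E u) (E v) := by
    intro u v
    have := hEself (u + v)
    rw [hEadd, add_left hf, add_right hf, add_right hf, hEself, hEself] at this
    linear_combination this
  have hh : Cfsg.Geo.IsSymplecticForm h₀ := by
    refine ⟨⟨fun x y v => ?_, fun c x v => ?_, fun v x y => ?_, fun c v x => ?_⟩, fun v w => ?_,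
      fun v => ?_, fun v hv => ?_⟩
    · apply Subtype.ext; simp only [Subfield.coe_add, hh₀, hEadd, add_left hf]; ring
    · apply Subtype.ext; simp only [Subfield.coe_mul, hh₀, hEsmul, smul_left hf]; ring
    · apply Subtype.ext; simp only [Subfield.coe_add, hh₀, hEadd, add_right hf]; ring
    · apply Subtype.ext
      simp only [Subfield.coe_mul, hh₀, hEsmul, smul_right hf, hfix₁ _ c.2]; ring
    · apply Subtype.ext; simp only [Subfield.coe_neg, hh₀, hskew w v]; ring
    · apply Subtype.ext; simp only [hh₀, hEself, mul_zero, Subfield.coe_zero]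
    · have key : ∃ x, h₀ x v ≠ 0 := by
        by_contra hno; push Not at hno
        apply hv; apply hEinj
        by_contra hne
        obtain ⟨z, hz⟩ := (hf.nondegenerate _ hne).1
        obtain ⟨a, b, rfl⟩ := hEdec z
        have e1 : ∀ u, f (E u) (E v) = 0 := fun u =>
          (mul_eq_zero.1 (congrArg Subtype.val (hno u) : ζ * f (E u) (E v) = 0)).resolve_left hζ0
        exact hz (by rw [add_left hf, smul_left hf, e1, e1]; ring)
      obtain ⟨x, hx⟩ := key
      exact ⟨⟨x, hx⟩, ⟨x, fun h => hx (Subtype.ext (by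
        have : ζ * f (E v) (E x) = 0 := congrArg Subtype.val h
        simp only [hh₀, hskew v x, Subfield.coe_zero]; linear_combination -this))⟩⟩
  have hfh : ∀ u v, f (E u) (E v) = (h₀ u v : F) / ζ := fun u v => by
    rw [hh₀, mul_div_cancel_left₀ _ hζ0]
  -- transvections at rational vectors
  have hcskew : ∀ c, c + τ c = 0 → c / ζ ∈ F₀ := fun c hc => hfix₂ _ (by
    rw [map_div₀, eq_neg_of_add_eq_zero_right hc, hτζ, neg_div_neg_eq])
  have hU0 : ∀ u c, f u u = 0 → c + τ c = 0 → utv hf u c ∈ uiso f ⊓ Cfsg.Geo.specialLinear (Fin n) F :=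
    fun u c hu hc => ⟨utv_mem hf hu hc, det_ptv hf (by rw [smul_right hf, hu, mul_zero])⟩
  have hH : ∀ l c, c + τ c = 0 → utv hf (E l) c ∈ Cfsg.Geo.subfieldSubgroup F₀ P := by
    intro l c hc
    refine mem_subfieldSubgroup F₀ P one_ne_zero fun x hx => ?_
    obtain ⟨u, rfl⟩ := hLE x hx
    rw [inv_one, one_smul, act_utv hf (hEself l), hfh, ← mul_div_assoc, mul_div_right_comm]
    exact (ratVec F₀ P).add_mem (hEL u) (ratVec_smul (F₀.mul_mem (hcskew c hc) (h₀ u l).2) (hEL l))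
  -- duals
  have hdual : ∀ a b : Fin n → F₀, b ∉ F₀ ∙ a → ∃ c, h₀ b c = 1 ∧ h₀ a c = 0 := by
    intro a b hb
    obtain ⟨φ, h0, h1⟩ := exists_dual _ hb
    obtain ⟨c, hc⟩ := Cfsg.Agent.MaxCl.exists_repr hh φ
    exact ⟨c, (hc b).symm.trans h1, (hc a).symm.trans (h0 a (Submodule.mem_span_singleton_self a))⟩
  have hscal : ∀ (u : Fin n → F₀) (s : F), u ≠ 0 → s • E u ∈ ratVec F₀ P → s ∈ F₀ := by
    intro u s hu hmem
    obtain ⟨w, hw⟩ := hLE _ hmem
    obtain ⟨c, hc, -⟩ := hdual 0 u (by simpa [Submodule.mem_span_singleton] using hu)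
    have e1 : (h₀ w c : F) = s * (h₀ u c : F) := by
      rw [hh₀, hh₀, hw, smul_left hf]; ring
    rw [hc, Subfield.coe_one, mul_one] at e1
    exact e1 ▸ (h₀ w c).2
  have hperp : ∀ a b : Fin n → F₀, ∃ z, h₀ z a = 0 ∧ h₀ z b = 0 ∧ z ∉ Submodule.span F₀ {a, b} := by
    intro a b
    have hle : ¬ LinearMap.ker (flin hh.bilinear a) ⊓ LinearMap.ker (flin hh.bilinear b) ≤ Submodule.span F₀ {a, b} := by
      intro hle
      have h1 := Submodule.finrank_mono hle
      have h2 : Module.finrank F₀ (Submodule.span F₀ ({a, b} : Set (Fin n → F₀))) ≤ 2 := by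
        refine (finrank_span_le_card ({a, b} : Set (Fin n → F₀))).trans ?_
        simp only [Set.toFinset_insert, Set.toFinset_singleton]
        exact Finset.card_le_two
      have h3 := LinearMap.finrank_range_add_finrank_ker (flin hh.bilinear a)
      have h4 := LinearMap.finrank_range_add_finrank_ker (flin hh.bilinear b)
      have h5 := Submodule.finrank_sup_add_finrank_inf_eq (LinearMap.ker (flin hh.bilinear a)) (LinearMap.ker (flin hh.bilinear b))
      have h6 := Submodule.finrank_le (LinearMap.ker (flin hh.bilinear a) ⊔ LinearMap.ker (flin hh.bilinear b))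
      have h7 := Submodule.finrank_le (LinearMap.range (flin hh.bilinear a))
      have h8 := Submodule.finrank_le (LinearMap.range (flin hh.bilinear b))
      simp only [Module.finrank_self, Module.finrank_fin_fun] at h3 h4 h6 h7 h8
      omega
    obtain ⟨z, hz, hz'⟩ := SetLike.not_le_iff_exists.1 hle
    exact ⟨z, LinearMap.mem_ker.1 hz.1, LinearMap.mem_ker.1 hz.2, hz'⟩
  have hiso : ∀ x y, f (E x + θ • E y) (E x + θ • E y) = (τ θ - θ) * f (E x) (E y) := by
    intro x y
    simp only [add_left hf, add_right hf, smul_left hf, smul_right hf, hEself, hskew x y]; ring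
  refine ⟨lt_of_le_of_ne inf_le_right ?_, ?_⟩
  · intro heq
    obtain ⟨x, hx⟩ : ∃ x : Fin n → F₀, x ≠ 0 := ⟨Pi.single ⟨0, by omega⟩ 1, by simp⟩
    obtain ⟨y, hyx, -, hy⟩ := hperp x 0
    have hy' : y ∉ F₀ ∙ x := fun h => hy (Submodule.span_mono (by simp) h)
    have hy0 : y ≠ 0 := fun h => hy' (h ▸ Submodule.zero_mem _)
    have hxy : f (E x) (E y) = 0 := by rw [hfh, f_eq_zero_symm hh hyx]; simp
    have hv : f (E x + θ • E y) (E x + θ • E y) = 0 := by rw [hiso, hxy, mul_zero]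
    obtain ⟨γ, hγ⟩ := exists_of_mem_subfieldSubgroup F₀ P ((inf_eq_right.1 heq) (hU0 _ ζ hv hsk))
    obtain ⟨w, hw, e⟩ := hγ _ (hEL x)
    rw [act_utv hf hv, add_right hf, smul_right hf, hEself, hxy, mul_zero, add_zero, mul_zero, zero_smul,
      add_zero] at e
    have hγ0 : γ ≠ 0 := fun h => hx (hEinj x (by rw [e, h, zero_smul]))
    have hγF : γ ∈ F₀ := by
      have := hscal x γ⁻¹ hx (by rw [e, inv_smul_smul₀ hγ0]; exact hw)
      simpa using F₀.inv_mem this
    obtain ⟨z, hzx, hzy⟩ := hdual y x (fun h => by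
      obtain ⟨a, ha⟩ := Submodule.mem_span_singleton.1 h
      have ha0 : a ≠ 0 := by rintro rfl; exact hx (by rw [← ha, zero_smul])
      exact hy' (Submodule.mem_span_singleton.2 ⟨a⁻¹, by rw [← ha, inv_smul_smul₀ ha0]⟩))
    obtain ⟨w', hw', e'⟩ := hγ _ (hEL z)
    rw [act_utv hf hv, add_right hf, smul_right hf, hskew x z, hskew y z, hfh, hfh, hzx, hzy] at e'
    simp only [Subfield.coe_one, Subfield.coe_zero, zero_div, neg_zero, mul_zero, add_zero] at e'
    rw [show ζ * -(1 / ζ) = -1 by field_simp] at e'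
    have hmem : θ • E y ∈ ratVec F₀ P := by
      have hv' : θ • E y = (E z - E x) - γ • w' := by rw [← e']; module
      rw [hv']
      exact (ratVec F₀ P).sub_mem ((ratVec F₀ P).sub_mem (hEL z) (hEL x)) (ratVec_smul hγF hw')
    exact hθ (hfix₁ θ (hscal y θ hy0 hmem))
  intro M hM1 hM2
  by_cases hsub : M ≤ Cfsg.Geo.subfieldSubgroup F₀ P
  · exact Or.inl (le_antisymm (le_inf hsub hM2) hM1)
  right
  obtain ⟨g, hgM, hg⟩ := SetLike.not_le_iff_exists.1 hsub
  have hgf : g ∈ uiso f := (hM2 hgM).1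
  have hRE : ∀ l, RootIn hf M (E l) := fun l =>
    ⟨hEself l, fun c hc => hM1 ⟨hH l c hc, hU0 _ c (hEself l) hc⟩⟩
  -- an irrational root centre
  obtain ⟨x₀, y₀, hxy₀, hy₀⟩ : ∃ x y, RootIn hf M (E x + θ • E y) ∧ y ∉ F₀ ∙ x ∧ x ≠ 0 := by
    by_contra hno; push Not at hno
    apply hg
    have hpts : ∀ u, ∃ (s : F) (w : Fin n → F₀), act g (E u) = s • E w := by
      intro u
      have hR := rootIn_conj hf hgM hgf (hRE u)
      obtain ⟨x, y, e⟩ := hEdec (act g (E u))
      rw [e] at hR ⊢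
      by_cases hdep : y ∈ F₀ ∙ x
      · obtain ⟨a, rfl⟩ := Submodule.mem_span_singleton.1 hdep
        exact ⟨1 + θ * (a : F), x, by rw [hEsmul]; module⟩
      · rcases eq_or_ne x 0 with rfl | hx
        · exact ⟨θ, y, by rw [hE0, zero_add]⟩
        · exact absurd (hno x y hR hdep) hx
    choose s w hsw using hpts
    have hne : ∀ u, u ≠ 0 → s u ≠ 0 ∧ w u ≠ 0 := by
      intro u hu
      have h1 : act g (E u) ≠ 0 := fun h => hu (hEinj u (act_injective g (h.trans (map_zero _).symm)))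
      rw [hsw] at h1
      exact ⟨left_ne_zero_of_smul h1, fun h => h1 (by rw [h, hE0, smul_zero])⟩
    obtain ⟨u₀, hu₀⟩ : ∃ u : Fin n → F₀, u ≠ 0 := ⟨Pi.single ⟨0, by omega⟩ 1, by simp⟩
    obtain ⟨hs1, hw1⟩ := hne u₀ hu₀
    refine mem_subfieldSubgroup F₀ P hs1 fun x hx => ?_
    obtain ⟨u, rfl⟩ := hLE x hx
    suffices h : ∃ e ∈ F₀, ∃ z, act g (E u) = (s u₀ * e) • E z by
      obtain ⟨e, he, z, h⟩ := h
      rw [h, smul_smul, ← mul_assoc, inv_mul_cancel₀ hs1, one_mul]
      exact ratVec_smul he (hEL z)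
    by_cases hdep : u ∈ F₀ ∙ u₀
    · obtain ⟨a, rfl⟩ := Submodule.mem_span_singleton.1 hdep
      exact ⟨(a : F), a.2, w u₀, by rw [hEsmul, map_smul, hsw, smul_smul, mul_comm]⟩
    have hu : u ≠ 0 := fun h => hdep (h ▸ Submodule.zero_mem _)
    have hind : w u ∉ F₀ ∙ w u₀ := by
      intro h
      obtain ⟨a, ha⟩ := Submodule.mem_span_singleton.1 h
      have e1 : E u = (s u * (a : F) / s u₀) • E u₀ := by
        apply act_injective g
        rw [map_smul, hsw, hsw, ← ha, hEsmul, smul_smul, smul_smul]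
        congr 1; field_simp
      have hmem := hscal u₀ _ hu₀ (e1 ▸ hEL u)
      apply hdep
      refine Submodule.mem_span_singleton.2 ⟨⟨_, hmem⟩, ?_⟩
      have : E ((⟨_, hmem⟩ : F₀) • u₀ - u) = 0 := by rw [hEsub, hEsmul, ← e1, sub_self]
      exact sub_eq_zero.1 (hEinj _ this)
    have hind' : w u₀ ∉ F₀ ∙ w u := by
      intro h
      obtain ⟨a, ha⟩ := Submodule.mem_span_singleton.1 h
      have ha0 : a ≠ 0 := by rintro rfl; exact hw1 (by rw [← ha, zero_smul])
      exact hind (Submodule.mem_span_singleton.2 ⟨a⁻¹, by rw [← ha, inv_smul_smul₀ ha0]⟩)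
    obtain ⟨c, c1, c0⟩ := hdual (w u₀) (w u) hind
    obtain ⟨c', c1', c0'⟩ := hdual (w u) (w u₀) hind'
    have h3 := hsw (u + u₀)
    rw [hEadd, map_add, hsw, hsw] at h3
    have k : ∀ d, s u * (h₀ (w u) d : F) + s u₀ * (h₀ (w u₀) d : F) = s (u + u₀) * (h₀ (w (u + u₀)) d : F) := by
      intro d
      have := congrArg (fun v => ζ * f v (E d)) h3
      simp only [add_left hf, smul_left hf] at this
      simp only [hh₀]; linear_combination this
    have k1 := k c
    have k2 := k c'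
    rw [c1, c0] at k1
    rw [c1', c0'] at k2
    simp only [Subfield.coe_one, Subfield.coe_zero, mul_one, mul_zero, add_zero, zero_add] at k1 k2
    refine ⟨s u / s u₀, ?_, w u, by rw [mul_div_cancel₀ _ hs1, hsw]⟩
    have h0 : s (u + u₀) ≠ 0 := fun h => hs1 (by rw [k2, h, zero_mul])
    rw [k1, k2, mul_div_mul_left _ _ h0]
    exact F₀.div_mem (h₀ _ c).2 (h₀ _ c').2
  obtain ⟨hy₀, hx₀⟩ := hy₀
  have horth : ∀ x y, f (E x + θ • E y) (E x + θ • E y) = 0 → h₀ x y = 0 := by
    intro x y h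
    rw [hiso, mul_eq_zero] at h
    apply Subtype.ext
    rw [hh₀, h.resolve_left (sub_ne_zero.2 hθ), mul_zero, Subfield.coe_zero]
  let R : (Fin n → F₀) → (Fin n → F₀) → Prop := fun x y => RootIn hf M (E x + θ • E y)
  have hmove : ∀ x y l (k : F₀), R x y → R (act (stv hh l k) x) (act (stv hh l k) y) := by
    intro x y l k hR
    have hc : (k : F) * ζ + τ ((k : F) * ζ) = 0 := by rw [map_mul, hfix₁ _ k.2]; linear_combination (k : F) * hsk
    have := rootIn_conj hf ((hRE l).2 _ hc) (utv_mem hf (hEself l) hc) hR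
    have e : ∀ z, act (utv hf (E l) ((k : F) * ζ)) (E z) = E (act (stv hh l k) z) := by
      intro z
      rw [act_utv hf (hEself l), act_stv hh, hEadd, hEsmul]
      simp [hh₀, mul_assoc]
    rwa [map_add, map_smul, e, e] at this
  have hfixed : ∀ x l k, h₀ x l = 0 → act (stv hh l k) x = x := fun x l k h => by
    rw [act_stv hh, h, mul_zero, zero_smul, add_zero]
  have hmv : ∀ y y', h₀ y y' ≠ 0 → act (stv hh (y' - y) (1 / h₀ y y')) y = y' := fun y y' h => by
    rw [act_stv hh, f_sub_right hh, f_self hh, sub_zero, one_div_mul_cancel h, one_smul, add_sub_cancel]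
  have hinter : ∀ x a b : Fin n → F₀, x ≠ 0 → a ∉ F₀ ∙ x → b ∉ F₀ ∙ x →
      ∃ z, h₀ x z = 0 ∧ h₀ a z ≠ 0 ∧ h₀ z b ≠ 0 := by
    intro x a b _ ha hb
    obtain ⟨z₁, a1, x1⟩ := hdual x a ha
    obtain ⟨z₂, b2, x2⟩ := hdual x b hb
    by_cases h1 : h₀ b z₁ = 0
    · by_cases h2 : h₀ a z₂ = 0
      · refine ⟨z₁ + z₂, by rw [f_add_right hh, x1, x2, add_zero], ?_, ?_⟩
        · rw [f_add_right hh, a1, h2, add_zero]; exact one_ne_zero
        · apply f_ne_symm hh; rw [f_add_right hh, h1, b2, zero_add]; exact one_ne_zero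
      · exact ⟨z₂, x2, h2, f_ne_symm hh (by rw [b2]; exact one_ne_zero)⟩
    · exact ⟨z₁, x1, by rw [a1]; exact one_ne_zero, f_ne_symm hh h1⟩
  have hsnd : ∀ x y y', x ≠ 0 → R x y → y ∉ F₀ ∙ x → y' ∉ F₀ ∙ x → h₀ x y' = 0 → R x y' := by
    intro x y y' hx hR hy hy' hxy'
    have hxy := horth x y hR.1
    obtain ⟨z, hxz, hyz, hzy'⟩ := hinter x y y' hx hy hy'
    have step : ∀ a b, R x a → h₀ x a = 0 → h₀ x b = 0 → h₀ a b ≠ 0 → R x b := by
      intro a b hRa ha hb hab
      have := hmove x a (b - a) (1 / h₀ a b) hRa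
      rwa [hfixed x _ _ (by rw [f_sub_right hh, hb, ha, sub_zero]), hmv a b hab] at this
    exact step z y' (step y z hR hxy hxz hyz) hxz hxy' hzy'
  have hfst : ∀ x x' y, y ≠ 0 → R x y → x ∉ F₀ ∙ y → x' ∉ F₀ ∙ y → h₀ y x' = 0 → R x' y := by
    intro x x' y hy hR hx hx' hyx'
    have hyx := f_eq_zero_symm hh (horth x y hR.1)
    obtain ⟨z, hyz, hxz, hzx'⟩ := hinter y x x' hy hx hx'
    have step : ∀ a b, R a y → h₀ y a = 0 → h₀ y b = 0 → h₀ a b ≠ 0 → R b y := by
      intro a b hRa ha hb hab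
      have := hmove a y (b - a) (1 / h₀ a b) hRa
      rwa [hfixed y _ _ (by rw [f_sub_right hh, hb, ha, sub_zero]), hmv a b hab] at this
    exact step z x' (step x z hR hyx hyz hxz) hyz hyx' hzx'
  have hflip : ∀ {a b : Fin n → F₀}, a ≠ 0 → b ∉ F₀ ∙ a → a ∉ F₀ ∙ b := by
    intro a b ha hb h
    obtain ⟨k, hk⟩ := Submodule.mem_span_singleton.1 h
    have hk0 : k ≠ 0 := by rintro rfl; exact ha (by rw [← hk, zero_smul])
    exact hb (Submodule.mem_span_singleton.2 ⟨k⁻¹, by rw [← hk, inv_smul_smul₀ hk0]⟩)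
  refine le_antisymm hM2 (su_le_of_utv hf hn6 M fun v c hv hc => ?_)
  suffices h : RootIn hf M v from h.2 c hc
  obtain ⟨x, y, rfl⟩ := hEdec v
  by_cases hdep : y ∈ F₀ ∙ x
  · obtain ⟨a, rfl⟩ := Submodule.mem_span_singleton.1 hdep
    have := rootIn_smul hf (hRE x) (1 + θ * (a : F))
    rwa [show E x + θ • E (a • x) = (1 + θ * (a : F)) • E x by rw [hEsmul]; module]
  rcases eq_or_ne x 0 with rfl | hx
  · rw [hE0, zero_add]; exact rootIn_smul hf (hRE y) θ
  obtain ⟨z, hz0, hzx, hz⟩ := hperp x₀ x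
  have hz₁ : z ∉ F₀ ∙ x₀ := fun h => hz (Submodule.span_mono (by simp) h)
  have hz₂ : z ∉ F₀ ∙ x := fun h => hz (Submodule.span_mono (by simp) h)
  have hzne : z ≠ 0 := fun h => hz₁ (h ▸ Submodule.zero_mem _)
  exact hsnd x z y hx (hfst x₀ x z hzne (hsnd x₀ y₀ z hx₀ hxy₀ hy₀ hz₁ (f_eq_zero_symm hh hz0))
    (hflip hx₀ hz₁) (hflip hx hz₂) hzx) hz₂ hdep (horth x y hv)


end Cfsg.Agent.S5660
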