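import Cfsg.Statements.S5664
import Cfsg.Agent.Lib.MaxCl.SympExtField
import Cfsg.Agent.Lib.MaxCl.FieldSubalgebra

set_option autoImplicit false
set_option synthInstance.maxHeartbeats 200000
set_option maxHeartbeats 800000
open Cfsg
open scoped Matrix

namespace Cfsg.Agent.S5664

/-- For a finite field F and m ≥ 7, let K be a subfield of the algebra of 2m × 2m matrices over F containing the scalars, of prime degree r over F, whose elements k are self-adjoint for the standard alternating form f on F^(2m) (f(k u, v) = f(u, k v)) and satisfy f(k v, v) = 0 for all v. Then the elements of Sp_2m(F) normalising K form a maximal subgroup of Sp_2m(F). -/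
theorem result {F : Type*} [Field F] [Fintype F] (m : ℕ) (hm : 7 ≤ m) (r : ℕ) (hr : r.Prime) (K : Subalgebra F (Matrix (Fin m ⊕ Fin m) (Fin m ⊕ Fin m) F)) (hK : Cfsg.Geo.IsFieldSubalgebra r K) (hsa : Cfsg.Geo.IsSelfAdjointFor (Cfsg.sympForm m F) K) (halt : ∀ k ∈ K, ∀ v : (Fin m ⊕ Fin m → F), Cfsg.sympForm m F (Matrix.mulVec k v) v = 0) : Cfsg.Geo.IsMaximalIn (Cfsg.spGL m F) (Cfsg.Geo.subalgebraNormalizer K ⊓ Cfsg.spGL m F) := by
  classical
  have hf := MaxCl.sympForm_isSymplectic m F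
  set f := Cfsg.sympForm m F
  haveI : Nonempty (Fin m ⊕ Fin m) := ⟨Sum.inl ⟨0, by omega⟩⟩
  have hfield : IsField K :=
    { exists_pair_ne := ⟨0, 1, fun h => zero_ne_one (α := Matrix (Fin m ⊕ Fin m) (Fin m ⊕ Fin m) F)
        (congrArg Subtype.val h)⟩
      mul_comm := fun a b => Subtype.ext (hK.comm a.1 a.2 b.1 b.2)
      mul_inv_cancel := fun {a} ha => by
        obtain ⟨y, hy, hxy⟩ := hK.inv a.1 a.2 (fun h => ha (Subtype.ext h))
        exact ⟨⟨y, hy⟩, Subtype.ext hxy⟩ }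
  letI : Field K := hfield.toField
  letI : Module K (Fin m ⊕ Fin m → F) :=
    { smul := fun a v => (a : Matrix (Fin m ⊕ Fin m) (Fin m ⊕ Fin m) F) *ᵥ v
      one_smul := fun v => Matrix.one_mulVec v
      mul_smul := fun a b v => (Matrix.mulVec_mulVec v _ _).symm
      smul_zero := fun a => Matrix.mulVec_zero _
      smul_add := fun a v w => Matrix.mulVec_add _ v w
      add_smul := fun a b v => Matrix.add_mulVec _ _ v
      zero_smul := fun v => Matrix.zero_mulVec v }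
  have hsmul : ∀ (a : K) (v : Fin m ⊕ Fin m → F), a • v = (a : Matrix (Fin m ⊕ Fin m) (Fin m ⊕ Fin m) F) *ᵥ v :=
    fun a v => rfl
  haveI : IsScalarTower F K (Fin m ⊕ Fin m → F) := ⟨fun c a v => by
    rw [hsmul, hsmul]
    exact Matrix.smul_mulVec c _ v⟩
  haveI : Module.Finite F K := Module.finite_of_finrank_pos (hK.finrank_eq ▸ hr.pos)
  haveI : Finite K := Module.finite_of_finite F
  have hr' : (Module.finrank F K).Prime := hK.finrank_eq.symm ▸ hr
  have hdim := Module.finrank_mul_finrank F K (Fin m ⊕ Fin m → F)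
  rw [Module.finrank_fintype_fun_eq_card, hK.finrank_eq, Fintype.card_sum, Fintype.card_fin] at hdim
  obtain ⟨d, hd⟩ : ∃ d, d = Module.finrank K (Fin m ⊕ Fin m → F) := ⟨_, rfl⟩
  rw [← hd] at hdim
  have hm2 : 2 ≤ d := by
    by_contra h
    rcases Nat.eq_zero_or_pos d with h0 | h0
    · rw [h0, mul_zero] at hdim; omega
    · rw [show d = 1 by omega, mul_one] at hdim
      rcases hr.eq_one_or_self_of_dvd 2 ⟨m, by omega⟩ with h2 | h2 <;> omega
  have hbig : Module.finrank F K = 2 → 3 ≤ Module.finrank K (Fin m ⊕ Fin m → F) := fun h => by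
    rw [← hd]
    rw [hK.finrank_eq] at h
    rw [h] at hdim
    omega
  obtain ⟨Φ, hΦ⟩ := MaxCl.SpExt.exists_kform (K := K) hf (fun k x y => hsa k.1 k.2 x y)
    fun k x => halt k.1 k.2 x
  have hsemi : ∀ g : GL (Fin m ⊕ Fin m) F, g ∈ Cfsg.Geo.subalgebraNormalizer K ↔ MaxCl.ExtF.IsSemi K g :=
    fun g => MaxCl.ExtF.mem_normalizer_iff K g
  refine ⟨lt_of_le_of_ne inf_le_right fun heq => ?_, fun M hHM hMS => ?_⟩
  · obtain ⟨a, ha⟩ := exists_ne (0 : Fin m ⊕ Fin m → F)
    obtain ⟨k, hk⟩ := MaxCl.ExtF.exists_not_scalar (F := F) hr'.one_lt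
    obtain ⟨x, hx, hxk⟩ : ∃ x, f x a = 0 ∧ f x (k • a) ≠ 0 := by
      obtain ⟨y₀, hy₀⟩ := (hf.nondegenerate a ha).1
      have hne : k • a - (f y₀ (k • a) / f y₀ a) • a ≠ 0 := by
        rw [← algebraMap_smul K (f y₀ (k • a) / f y₀ a) a, ← sub_smul, Ne, smul_eq_zero, sub_eq_zero]
        exact fun h => h.elim (fun h => hk _ h.symm) ha
      obtain ⟨y, hy⟩ := (hf.nondegenerate _ hne).1
      refine ⟨y - (f y a / f y₀ a) • y₀, ?_, fun h => hy ?_⟩
      · rw [MaxCl.f_sub_left hf, MaxCl.f_smul_left hf, div_mul_cancel₀ _ hy₀, sub_self]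
      · rw [MaxCl.f_sub_left hf, MaxCl.f_smul_left hf] at h
        rw [MaxCl.f_sub_right hf, MaxCl.f_smul_right hf, ← h]
        ring
    obtain ⟨k', hk'⟩ := (hsemi _).1 ((inf_eq_right.1 heq) (MaxCl.stv_mem hf a 1)) k
    have h1 := hk' x
    rw [MaxCl.act_stv hf, MaxCl.act_stv hf, hx, mul_zero, zero_smul, add_zero, one_mul,
      MaxCl.SpExt.adjoint hΦ] at h1
    have hc : ∃ c : K, c • x = a := by
      refine ⟨(algebraMap F K (f x (k • a)))⁻¹ * (k' - k), ?_⟩
      rw [mul_smul, sub_smul, ← h1, add_sub_cancel_left, ← algebraMap_smul K (f x (k • a)) a,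
        inv_smul_smul₀ ((map_ne_zero _).2 hxk)]
    obtain ⟨c, hc⟩ := hc
    refine hxk ?_
    rw [← hc, smul_smul, ← one_smul K x]
    simpa using MaxCl.SpExt.f_line hΦ x 1 (k * c)
  · by_cases hsub : M ≤ Cfsg.Geo.subalgebraNormalizer K
    · exact Or.inl (le_antisymm (le_inf hsub hMS) hHM)
    obtain ⟨g, hgM, hg⟩ := SetLike.not_le_iff_exists.1 hsub
    refine Or.inr (le_antisymm hMS (MaxCl.SpExt.iso_le hΦ hf (fun u hu hul => hHM ⟨?_, hu⟩) hMS hr'
      (hd ▸ hm2) hbig hgM fun h => hg ((hsemi g).2 h)))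
    exact (hsemi u).2 fun k => ⟨k, hul k⟩

end Cfsg.Agent.S5664
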