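import Cfsg.Statements.S5665
import Cfsg.Agent.Lib.MaxCl.SympUnitaryCore
-- import your own Cfsg.Agent.* helpers here

set_option autoImplicit false
open Cfsg
open scoped Matrix

namespace Cfsg.Agent.S5665

/-- For a finite field F of odd order and m ≥ 7, let K be a subfield of the algebra of 2m × 2m matrices over F containing the scalars, of degree 2 over F, that is closed under adjoints for the standard alternating form on F^(2m) but whose elements are not all self-adjoint (so the adjoint map induces the automorphism of order two of K). Then the elements of Sp_2m(F) normalising K form a maximal subgroup of Sp_2m(F). -/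
theorem result {F : Type*} [Field F] [Fintype F] (m : ℕ) (hm : 7 ≤ m) (hodd : Odd (Fintype.card F)) (K : Subalgebra F (Matrix (Fin m ⊕ Fin m) (Fin m ⊕ Fin m) F)) (hK : Cfsg.Geo.IsFieldSubalgebra 2 K) (hac : Cfsg.Geo.IsAdjointClosedFor (Cfsg.sympForm m F) K) (hnsa : ¬ Cfsg.Geo.IsSelfAdjointFor (Cfsg.sympForm m F) K) : Cfsg.Geo.IsMaximalIn (Cfsg.spGL m F) (Cfsg.Geo.subalgebraNormalizer K ⊓ Cfsg.spGL m F) := by
  classical
  have hf := MaxCl.sympForm_isSymplectic m F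
  set f := Cfsg.sympForm m F
  have hn : 14 ≤ Fintype.card (Fin m ⊕ Fin m) := by simp; omega
  have h2 : (2 : F) ≠ 0 := by
    intro h
    have hF2 : ringChar F = 2 := ringChar.eq_iff.2 (CharTwo.of_one_ne_zero_of_two_eq_zero one_ne_zero h)
    have := FiniteField.even_card_of_char_two hF2
    have := Nat.odd_iff.1 hodd
    omega
  haveI : Nonempty (Fin m ⊕ Fin m) := ⟨Sum.inl ⟨0, by omega⟩⟩
  obtain ⟨k, hk, u₁, v₁, huv⟩ : ∃ k ∈ K, ∃ u v, f (k *ᵥ u) v ≠ f u (k *ᵥ v) := by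
    simp only [Cfsg.Geo.IsSelfAdjointFor, not_forall] at hnsa
    obtain ⟨k, hk, u, v, h⟩ := hnsa
    exact ⟨k, hk, u, v, h⟩
  obtain ⟨k', hk', hadj⟩ := hac k hk
  obtain ⟨j, hjdef⟩ : ∃ j, j = k - k' := ⟨_, rfl⟩
  have hjK : j ∈ K := hjdef ▸ K.sub_mem hk hk'
  have hadj' : ∀ u v, f (k' *ᵥ u) v = f u (k *ᵥ v) := fun u v => by
    rw [MaxCl.f_skew hf, ← hadj, MaxCl.f_skew hf u]
  have hjadj : ∀ u v, f (j *ᵥ u) v = -f u (j *ᵥ v) := fun u v => by
    rw [hjdef, Matrix.sub_mulVec, Matrix.sub_mulVec, MaxCl.f_sub_left hf, MaxCl.f_sub_right hf, hadj, hadj']; ring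
  have hjne : ∀ u : Fin m ⊕ Fin m → F, ∀ a : F, ¬ ∀ x, j *ᵥ x = a • x := by
    intro _ a h
    apply huv
    have hkk : ∀ x, k *ᵥ x = a • x + k' *ᵥ x := fun x => by
      rw [← h x, hjdef, Matrix.sub_mulVec, sub_add_cancel]
    have hb : ∀ x y, a * f x y = 0 := fun x y => by
      have e := hjadj x y
      rw [h, h, MaxCl.f_smul_left hf, MaxCl.f_smul_right hf] at e
      exact (mul_eq_zero.1 (by linear_combination e : (2 : F) * (a * f x y) = 0)).resolve_left h2
    rw [hkk u₁, MaxCl.f_add_left hf, MaxCl.f_smul_left hf, hb, zero_add, hadj']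
  have hindep : ∀ a b : F, a • (1 : Matrix (Fin m ⊕ Fin m) (Fin m ⊕ Fin m) F) + b • j = 0 → a = 0 ∧ b = 0 := by
    intro a b h
    rcases eq_or_ne b 0 with rfl | hb
    · rw [zero_smul, add_zero, smul_eq_zero] at h
      exact ⟨h.resolve_right one_ne_zero, rfl⟩
    · exfalso
      refine hjne u₁ (-(b⁻¹ * a)) fun x => ?_
      have : j = (-(b⁻¹ * a)) • (1 : Matrix (Fin m ⊕ Fin m) (Fin m ⊕ Fin m) F) := by
        rw [neg_smul, ← smul_smul, ← smul_neg, ← eq_neg_of_add_eq_zero_right h, inv_smul_smul₀ hb]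
      rw [this, Matrix.smul_mulVec, Matrix.one_mulVec]
  have hone : (1 : Matrix (Fin m ⊕ Fin m) (Fin m ⊕ Fin m) F) ∈ K := K.one_mem
  have hK2 : ∀ x, x ∈ K → ∃ a b : F, x = a • (1 : Matrix (Fin m ⊕ Fin m) (Fin m ⊕ Fin m) F) + b • j := by
    intro x hx
    have hle : Submodule.span F (Set.range ![(1 : Matrix (Fin m ⊕ Fin m) (Fin m ⊕ Fin m) F), j]) ≤ Subalgebra.toSubmodule K := by
      rw [Submodule.span_le]; rintro _ ⟨i, rfl⟩; fin_cases i <;> assumption
    have hli : LinearIndependent F ![(1 : Matrix (Fin m ⊕ Fin m) (Fin m ⊕ Fin m) F), j] := LinearIndependent.pair_iff.2 hindep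
    have e := Submodule.eq_of_le_of_finrank_le hle (by
      rw [finrank_span_eq_card hli, Fintype.card_fin]; exact hK.finrank_eq.le)
    have hx' : x ∈ Submodule.span F (Set.range ![(1 : Matrix (Fin m ⊕ Fin m) (Fin m ⊕ Fin m) F), j]) := e ▸ hx
    rw [Submodule.mem_span_range_iff_exists_fun] at hx'
    obtain ⟨c, hc⟩ := hx'
    exact ⟨c 0, c 1, by simpa [Fin.sum_univ_two] using hc.symm⟩
  have hmemK : ∀ a b : F, a • (1 : Matrix (Fin m ⊕ Fin m) (Fin m ⊕ Fin m) F) + b • j ∈ K := fun a b =>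
    K.add_mem (K.smul_mem hone a) (K.smul_mem hjK b)
  obtain ⟨δ, b₀, hδb⟩ := hK2 _ (K.mul_mem hjK hjK)
  have hb₀ : b₀ = 0 := by
    by_contra hb
    apply hjne u₁ 0
    intro x
    rw [zero_smul]
    have e : ∀ y, f (j *ᵥ x) y = 0 := by
      intro y
      have h1 : f ((j * j) *ᵥ x) y = f x ((j * j) *ᵥ y) := by
        rw [← Matrix.mulVec_mulVec, ← Matrix.mulVec_mulVec, hjadj, hjadj, neg_neg]
      simp only [hδb, Matrix.add_mulVec, Matrix.smul_mulVec, Matrix.one_mulVec, MaxCl.f_add_left hf,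
        MaxCl.f_add_right hf, MaxCl.f_smul_left hf, MaxCl.f_smul_right hf] at h1
      rw [show f x (j *ᵥ y) = -f (j *ᵥ x) y by rw [hjadj, neg_neg]] at h1
      exact (mul_eq_zero.1 (by linear_combination h1 : ((2 : F) * b₀) * f (j *ᵥ x) y = 0)).resolve_left
        (mul_ne_zero h2 hb)
    by_contra hx
    obtain ⟨y, hy⟩ := (hf.nondegenerate _ hx).2
    exact hy (e y)
  subst hb₀
  rw [zero_smul, add_zero] at hδb
  obtain ⟨J, hJdef⟩ : ∃ J, J = Matrix.toLin' j := ⟨_, rfl⟩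
  have hJx : ∀ x, J x = j *ᵥ x := fun x => by rw [hJdef, Matrix.toLin'_apply]
  have hJ : MaxCl.SpU.IsAntiStr f J δ := by
    refine ⟨fun x y => by rw [hJx, hJx, hjadj], fun x => by
      rw [hJx, hJx, Matrix.mulVec_mulVec, hδb, Matrix.smul_mulVec, Matrix.one_mulVec], fun a ha => ?_, h2⟩
    have hprod : (j - a • (1 : Matrix (Fin m ⊕ Fin m) (Fin m ⊕ Fin m) F)) * (j + a • (1 : Matrix (Fin m ⊕ Fin m) (Fin m ⊕ Fin m) F)) = 0 := by
      rw [sub_mul, mul_add, mul_add, Matrix.mul_smul, Matrix.smul_mul, Matrix.smul_mul, one_mul, mul_one, Matrix.mul_smul,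
        smul_smul, hδb, ← ha, mul_one]
      abel
    have hz : j - a • (1 : Matrix (Fin m ⊕ Fin m) (Fin m ⊕ Fin m) F) ≠ 0 := fun e => one_ne_zero (hindep (-a) 1 (by rw [← e]; module)).2
    obtain ⟨w, hw, hzw⟩ := hK.inv _ (K.sub_mem hjK (K.smul_mem hone a)) hz
    rw [hK.comm _ (K.sub_mem hjK (K.smul_mem hone a)) _ hw] at hzw
    have h0 : j + a • (1 : Matrix (Fin m ⊕ Fin m) (Fin m ⊕ Fin m) F) = 0 := by
      have h := congrArg (· * (j + a • (1 : Matrix (Fin m ⊕ Fin m) (Fin m ⊕ Fin m) F))) hzw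
      simp only [mul_assoc, hprod, mul_zero, one_mul] at h
      exact h.symm
    exact one_ne_zero (hindep a 1 (by rw [← h0]; module)).2
  -- elements normalising
  have hnorm : ∀ (g : Matrix.GeneralLinearGroup (Fin m ⊕ Fin m) F) (s : F), s * s = 1 →
      (∀ x, MaxCl.act g (J x) = s • J (MaxCl.act g x)) → g ∈ Cfsg.Geo.subalgebraNormalizer K := by
    intro g s hs hg x
    have hgj : (g : Matrix (Fin m ⊕ Fin m) (Fin m ⊕ Fin m) F) * j = s • (j * (g : Matrix (Fin m ⊕ Fin m) (Fin m ⊕ Fin m) F)) := by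
      apply Matrix.toLin'.injective
      apply LinearMap.ext; intro y
      rw [map_smul, Matrix.toLin'_mul, Matrix.toLin'_mul, LinearMap.smul_apply, LinearMap.comp_apply,
        LinearMap.comp_apply, MaxCl.toLin'_eq_act, ← hJdef]
      exact hg y
    have hgg : (g : Matrix (Fin m ⊕ Fin m) (Fin m ⊕ Fin m) F) * ((g⁻¹ : Matrix.GeneralLinearGroup (Fin m ⊕ Fin m) F) : Matrix (Fin m ⊕ Fin m) (Fin m ⊕ Fin m) F) = 1 := by
      rw [← Units.val_mul, mul_inv_cancel, Units.val_one]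
    have hgg' : ((g⁻¹ : Matrix.GeneralLinearGroup (Fin m ⊕ Fin m) F) : Matrix (Fin m ⊕ Fin m) (Fin m ⊕ Fin m) F) * (g : Matrix (Fin m ⊕ Fin m) (Fin m ⊕ Fin m) F) = 1 := by
      rw [← Units.val_mul, inv_mul_cancel, Units.val_one]
    have hgi : ((g⁻¹ : Matrix.GeneralLinearGroup (Fin m ⊕ Fin m) F) : Matrix (Fin m ⊕ Fin m) (Fin m ⊕ Fin m) F) * j * (g : Matrix (Fin m ⊕ Fin m) (Fin m ⊕ Fin m) F) = s • j := by
      calc _ = ((g⁻¹ : Matrix.GeneralLinearGroup (Fin m ⊕ Fin m) F) : Matrix (Fin m ⊕ Fin m) (Fin m ⊕ Fin m) F) * ((s * s) • (j * (g : Matrix (Fin m ⊕ Fin m) (Fin m ⊕ Fin m) F))) := by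
            rw [hs, one_smul, mul_assoc]
        _ = s • j := by
            rw [← smul_smul, ← hgj, Matrix.mul_smul, ← mul_assoc, hgg', one_mul]
    constructor
    · intro hx
      obtain ⟨p, r, rfl⟩ := hK2 x hx
      rw [mul_add, add_mul, Matrix.mul_smul, Matrix.mul_smul, mul_one, Matrix.smul_mul, Matrix.smul_mul, hgg, hgj,
        Matrix.smul_mul, mul_assoc, hgg, mul_one, smul_smul]
      exact hmemK _ _
    · intro hx
      obtain ⟨p, r, hpr⟩ := hK2 _ hx
      have : x = ((g⁻¹ : Matrix.GeneralLinearGroup (Fin m ⊕ Fin m) F) : Matrix (Fin m ⊕ Fin m) (Fin m ⊕ Fin m) F) *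
          (p • (1 : Matrix (Fin m ⊕ Fin m) (Fin m ⊕ Fin m) F) + r • j) * (g : Matrix (Fin m ⊕ Fin m) (Fin m ⊕ Fin m) F) := by
        rw [← hpr, ← mul_assoc, ← mul_assoc, hgg', one_mul, mul_assoc, hgg', mul_one]
      rw [this, mul_add, add_mul, Matrix.mul_smul, Matrix.mul_smul, mul_one, Matrix.smul_mul, Matrix.smul_mul, hgg',
        hgi, smul_smul]
      exact hmemK _ _
  change Cfsg.Geo.IsMaximalIn (MaxCl.isoGroup f) (_ ⊓ MaxCl.isoGroup f)
  refine ⟨lt_of_le_of_ne inf_le_right ?_, ?_⟩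
  · intro heq
    obtain ⟨u, -, hu0, -⟩ := MaxCl.Orth.exists_singular (MaxCl.SpU.hq hf J) (D := (⊤ : Submodule F _)) (by
      rw [finrank_top, Module.finrank_pi]; omega)
    obtain ⟨x, hx, hx0⟩ := Submodule.exists_mem_ne_zero_of_ne_bot (p := MaxCl.perp hf (MaxCl.SpU.jl J u))
      (fun e => by
        have := MaxCl.finrank_perp hf (MaxCl.SpU.jl J u)
        have := MaxCl.SpU.finrank_jl_le (J := J) u
        rw [e, finrank_bot] at *
        omega)
    rw [MaxCl.mem_perp hf] at hx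
    have hxu := hx u (MaxCl.SpU.self_mem_jl u)
    have hxJu : f (J x) u = 0 := by rw [hJ.adj, hx _ (MaxCl.SpU.map_mem_jl u), neg_zero]
    set t := MaxCl.stv hf u 1
    have ht : t ∈ Cfsg.Geo.subalgebraNormalizer K := (inf_eq_right.1 heq) (MaxCl.stv_mem hf u 1)
    obtain ⟨p, r, hpr⟩ := hK2 _ ((ht j).1 hjK)
    have key : ∀ y, MaxCl.act t (J (MaxCl.act t⁻¹ y)) = p • y + r • J y := by
      intro y
      have := congrArg (fun z : Matrix (Fin m ⊕ Fin m) (Fin m ⊕ Fin m) F => z *ᵥ y) hpr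
      simpa [← Matrix.mulVec_mulVec, MaxCl.act_apply, hJx, Matrix.add_mulVec, Matrix.smul_mulVec] using this
    have hti : MaxCl.act t⁻¹ x = x := by
      apply MaxCl.act_injective t
      rw [MaxCl.act_act_inv, MaxCl.act_stv hf, hxu]; simp
    have h1 := key x
    rw [hti, MaxCl.act_stv hf, hxJu, mul_zero, zero_smul, add_zero] at h1
    obtain ⟨hp, hr⟩ := MaxCl.SpU.comb_eq_zero hJ (y := x) (a := p) (b := r - 1)
      (by linear_combination (norm := module) -h1) hx0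
    rw [sub_eq_zero] at hr
    obtain ⟨y, hy⟩ := (hf.nondegenerate u hu0).1
    have h3 := key (MaxCl.act t y)
    rw [MaxCl.act_inv_act, hp, hr, MaxCl.act_stv hf, MaxCl.act_stv hf, map_add, map_smul, one_mul, one_mul] at h3
    refine hy (MaxCl.SpU.comb_eq_zero hJ (y := u) (a := -f (J y) u) (b := f y u)
      (by linear_combination (norm := module) -h3) hu0).2
  intro M hM1 hM2
  by_cases hsub : M ≤ Cfsg.Geo.subalgebraNormalizer K
  · exact Or.inl (le_antisymm (le_inf hsub hM2) hM1)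
  right
  obtain ⟨g, hgM, hg⟩ := SetLike.not_le_iff_exists.1 hsub
  have hY : ∀ a c, MaxCl.SpU.hq hf J a = 0 → MaxCl.SpU.yv hf J δ a c ∈ M := fun a c ha =>
    hM1 ⟨hnorm _ 1 (one_mul 1) (fun x => by rw [one_smul]; exact MaxCl.SpU.map_yv hf hJ ha c x),
      MaxCl.SpU.yv_mem_iso hf a c⟩
  have hconj : ∀ s : F, s * s = 1 → MaxCl.SpU.cj J g ≠ s • J := by
    intro s hs h
    refine hg (hnorm g s hs fun x => ?_)
    have h1 := congrArg (MaxCl.act g) (LinearMap.congr_fun h x)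
    rw [MaxCl.SpU.cj_apply, MaxCl.act_act_inv, LinearMap.smul_apply, map_smul] at h1
    rw [h1, smul_smul, hs, one_smul]
  obtain ⟨g', hg', a, ha⟩ := MaxCl.SpU.exists_good hf hJ hn hM2 hY hgM
    (by simpa using hconj 1 (one_mul 1)) (fun h => hconj (-1) (by ring) (by rw [h]; exact (neg_one_smul F J).symm))
  obtain ⟨e, he0, he, hFe⟩ := MaxCl.SpU.exists_full_of_good hf hJ hn hM2 hY hg' ha
  refine le_antisymm hM2 (MaxCl.isoGroup_le_of_full hf M
    (MaxCl.SpU.full_of_one hf hJ hn hY (fun α β hαβ => ?_) he0 he hFe))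
  obtain ⟨S, hS⟩ := MaxCl.exists_gl_of_injective (α • LinearMap.id + β • J) (by
    rw [← LinearMap.ker_eq_bot, Submodule.eq_bot_iff]
    intro x hx
    by_contra hx0
    obtain ⟨h1, h3⟩ := MaxCl.SpU.comb_eq_zero hJ (a := α) (b := β) (y := x) (by simpa using hx) hx0
    rw [h1, h3] at hαβ
    simp at hαβ)
  have hS' : ∀ x, MaxCl.act S x = α • x + β • J x := fun x => by rw [hS]; simp
  have hSf : S ∈ MaxCl.isoGroup f := by
    rw [MaxCl.mem_isoGroup]
    intro x y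
    rw [hS', hS', MaxCl.f_add_left hf, MaxCl.f_add_right hf, MaxCl.f_add_right hf, MaxCl.f_smul_left hf,
      MaxCl.f_smul_left hf, MaxCl.f_smul_left hf, MaxCl.f_smul_left hf, MaxCl.f_smul_right hf, MaxCl.f_smul_right hf,
      MaxCl.f_smul_right hf, MaxCl.f_smul_right hf, MaxCl.SpU.f_map_map hf hJ, hJ.adj]
    linear_combination f x y * hαβ
  refine ⟨S, hM1 ⟨hnorm S 1 (one_mul 1) fun x => ?_, hSf⟩, hSf, hS'⟩
  rw [one_smul, hS', hS', map_add, map_smul, map_smul]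

end Cfsg.Agent.S5665
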