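import Cfsg.Statements.S5666
import Cfsg.Agent.Lib.MaxCl.SympOrthTensorList
import Cfsg.Agent.Lib.MaxCl.SympTensorTwoMax
import Cfsg.Agent.Lib.Forms.SympTwo
-- import your own Cfsg.Agent.* helpers here

set_option autoImplicit false
open Cfsg

namespace Cfsg.Agent.S5666

/-- For a finite field F of odd order q and m ≥ 7, suppose the standard alternating form on F^(2m) is similar, through a change of basis P and a bijection of index sets e, to the tensor product of a non-degenerate symplectic form f₁ on F^(n₁) and a non-degenerate symmetric bilinear form f₂ on F^(n₂) with n₂ ≥ 3. Unless q = 3 and n₂ = 3, the elements of Sp_2m(F) in the stabiliser of this tensor decomposition (the conjugate by P of the Kronecker-product subgroup transported along e) form a maximal subgroup of Sp_2m(F). -/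
theorem result {F : Type*} [Field F] [Fintype F] (m : ℕ) (hm : 7 ≤ m) (hodd : Odd (Fintype.card F)) (n₁ n₂ : ℕ) (hn₂ : 3 ≤ n₂) (hex : ¬ (Fintype.card F = 3 ∧ n₂ = 3)) (e : (Fin m ⊕ Fin m) ≃ Fin n₁ × Fin n₂) (P : Matrix.GeneralLinearGroup (Fin m ⊕ Fin m) F) (f₁ : (Fin n₁ → F) → (Fin n₁ → F) → F) (f₂ : (Fin n₂ → F) → (Fin n₂ → F) → F) (hf₁ : Cfsg.Geo.IsSymplecticForm f₁) (hf₂ : Cfsg.Geo.IsSymmetricForm f₂) (hT : Cfsg.Geo.IsTensorFormStructure id (Cfsg.sympForm m F) f₁ f₂ e P) : Cfsg.Geo.IsMaximalIn (Cfsg.spGL m F) (Cfsg.Geo.tensorProductSubgroup n₁ n₂ e P ⊓ Cfsg.spGL m F) := by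
  classical
  have hm2 : m + m = n₁ * n₂ := by simpa using Fintype.card_congr e
  have heven : Even n₁ := by
    have := Cfsg.Agent.Forms.SympTwo.even_finrank_of_isAlt (β := Cfsg.Agent.MaxCl.toBil hf₁.bilinear)
      (fun x => hf₁.alternating x) (fun x hx => by
        by_contra hx0
        obtain ⟨y, hy⟩ := (hf₁.nondegenerate x hx0).2
        exact hy (hx y))
    rwa [Module.finrank_fin_fun] at this
  obtain ⟨a, ha⟩ := heven
  by_cases h2 : n₁ = 2
  · subst h2
    exact Cfsg.Agent.MaxCl.sp_tensor_two_maximal m n₂ (Or.inr (by omega)) (Or.inr (by omega)) hodd e P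
      f₁ f₂ hf₁ hf₂ hT
  · have h0 : n₁ ≠ 0 := fun h => by rw [h, zero_mul] at hm2; omega
    exact Cfsg.Agent.MaxCl.sp_tensor_orth_maximal (by omega) hn₂ hex hodd e P f₁ f₂ hf₁ hf₂ hT

end Cfsg.Agent.S5666
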