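import Cfsg.Statements.S5667
import Cfsg.Agent.Lib.Forms.TensorWreath
import Cfsg.Agent.Lib.Forms.Classify
-- import your own Cfsg.Agent.* helpers here

set_option autoImplicit false
set_option maxHeartbeats 800000
open Cfsg

open scoped Matrix Kronecker

namespace Cfsg.Agent.S5667

/-- Over the field with 3 elements and for m ≥ 7, suppose the standard alternating form on F^(2m) is similar, through P and e, to the tensor product of a non-degenerate symplectic form f₁ on F^(n₁) and a non-degenerate symmetric bilinear form f₂ on F^3. Then the elements of Sp_2m(3) in the stabiliser of this tensor decomposition form a subgroup that is not maximal: some subgroup lies strictly between it and Sp_2m(3). -/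
theorem result {F : Type*} [Field F] [Fintype F] (m : ℕ) (hm : 7 ≤ m) (hq : Fintype.card F = 3) (n₁ : ℕ) (e : (Fin m ⊕ Fin m) ≃ Fin n₁ × Fin 3) (P : Matrix.GeneralLinearGroup (Fin m ⊕ Fin m) F) (f₁ : (Fin n₁ → F) → (Fin n₁ → F) → F) (f₂ : (Fin 3 → F) → (Fin 3 → F) → F) (hf₁ : Cfsg.Geo.IsSymplecticForm f₁) (hf₂ : Cfsg.Geo.IsSymmetricForm f₂) (hT : Cfsg.Geo.IsTensorFormStructure id (Cfsg.sympForm m F) f₁ f₂ e P) : ∃ K : Subgroup (Matrix.GeneralLinearGroup (Fin m ⊕ Fin m) F), Cfsg.Geo.tensorProductSubgroup n₁ 3 e P ⊓ Cfsg.spGL m F < K ∧ K < Cfsg.spGL m F := by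
  classical
  obtain ⟨c, hc, hT⟩ := hT
  have h3 : (3 : F) = 0 := by
    have h := FiniteField.cast_card_eq_zero F
    rw [hq] at h
    exact_mod_cast h
  have h2 : (2 : F) ≠ 0 := fun h => one_ne_zero (show (1 : F) = 0 by linear_combination h3 - h)
  have hall : ∀ x : F, x = 0 ∨ x = 1 ∨ x = -1 := fun x => by
    by_cases hx : x = 0
    · exact Or.inl hx
    · have h := FiniteField.pow_card_sub_one_eq_one x hx
      rw [hq] at h
      exact Or.inr (sq_eq_one_iff.1 h)
  have hns : ¬ IsSquare (-1 : F) := fun h =>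
    FiniteField.isSquare_neg_one_iff.1 h (by rw [hq])
  have hadd : ∀ x y v, sympForm m F (x + y) v = sympForm m F x v + sympForm m F y v := fun x y v => by
    simp [sympForm, add_dotProduct]
  have hsmul : ∀ (c : F) x v, sympForm m F (c • x) v = c * sympForm m F x v := fun c x v => by
    simp [sympForm, smul_dotProduct]
  have hskew : ∀ x y, sympForm m F x y = -(RingHom.id F) (sympForm m F y x) := fun x y => by
    rw [RingHom.id_apply, Forms.sympForm_eq_sum, Forms.sympForm_eq_sum, ← Finset.sum_neg_distrib]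
    exact Finset.sum_congr rfl fun i _ => by ring
  have halt : ∀ x, sympForm m F x x = 0 := fun x => by
    rw [Forms.sympForm_eq_sum]
    exact Finset.sum_eq_zero fun i _ => by ring
  let B : LinearMap.BilinForm F (Fin 3 → F) := LinearMap.mk₂ F f₂ hf₂.bilinear.add_left
    (fun k x y => hf₂.bilinear.smul_left k x y) hf₂.bilinear.add_right (fun k x y => hf₂.bilinear.smul_right k x y)
  obtain ⟨ec, c₂, hc₂, hec⟩ := Forms.exists_symm_coords h2 (B := B) hf₂.symm (fun x hx => by
    by_contra hx0
    obtain ⟨y, hy⟩ := (hf₂.nondegenerate x hx0).2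
    exact hy (hx y)) (Module.finrank_fin_fun F) hns
  obtain ⟨M, μ, hμ, hMinj, hM⟩ : ∃ (M : Fin 3 → Fin 3 → F) (μ : F), μ ≠ 0 ∧ LinearIndependent F M ∧
      ∀ i l, ∑ s, (if s = Fin.last 2 then c₂ else 1) * (M i s * M l s) = if i = l then μ else 0 := by
    rcases hc₂ with rfl | rfl
    · refine ⟨fun i => Pi.single i 1, 1, one_ne_zero, Pi.linearIndependent_single_one (Fin 3) F, fun i l => ?_⟩
      fin_cases i <;> fin_cases l <;> simp [Fin.sum_univ_three, Fin.last]
    · refine ⟨![![1, 1, 0], ![1, -1, 0], ![0, 0, 1]], -1, neg_ne_zero.2 one_ne_zero, ?_, fun i l => ?_⟩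
      · rw [Fintype.linearIndependent_iff]
        intro g hg
        have e0 := congrFun hg 0
        have e1 := congrFun hg 1
        have e2 := congrFun hg 2
        simp [Fin.sum_univ_three] at e0 e1 e2
        intro i
        fin_cases i
        · exact (mul_eq_zero.1 (show (2 : F) * g 0 = 0 by linear_combination e0 + e1)).resolve_left h2
        · exact (mul_eq_zero.1 (show (2 : F) * g 1 = 0 by linear_combination e0 - e1)).resolve_left h2
        · exact e2
      · fin_cases i <;> fin_cases l <;> simp [Fin.sum_univ_three, Fin.last] <;> linear_combination h3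
  have hli : LinearIndependent F fun i => ec.symm (M i) :=
    hMinj.map' ec.symm.toLinearMap ec.symm.ker
  let w : Module.Basis (Fin 3) F (Fin 3 → F) :=
    basisOfLinearIndependentOfCardEqFinrank hli (by simp)
  have hw : ∀ i l, f₂ (w i) (w l) = if i = l then μ else 0 := fun i l => by
    have e : ∀ j, w j = ec.symm (M j) := fun j => congrFun (coe_basisOfLinearIndependentOfCardEqFinrank hli _) j
    show B (w i) (w l) = _
    rw [hec, e, e, LinearEquiv.apply_symm_apply, LinearEquiv.apply_symm_apply]
    exact hM i l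
  obtain ⟨Ψ, hΨ, hH⟩ := Forms.exists_tensor_blocks (k := 3) three_pos (RingHom.id F) (sympForm m F) c e P _ _
    (fun x y => hT x y) w μ
    (fun i l => by
      rw [Forms.formOfGram_gramMatrix (RingHom.id F) f₂ hf₂.bilinear.add_left hf₂.bilinear.smul_left
        (fun x y => hf₂.symm y x), hw])
    (Cfsg.Geo.tensorProductSubgroup n₁ 3 e P ⊓ Cfsg.spGL m F) (fun g hg => Forms.tensor_mem_pure hg.1)
  have hcard : 2 * m = n₁ * 3 := by simpa [two_mul] using Fintype.card_congr e
  refine Forms.tensor_lt_wreath (by norm_num) (RingHom.id F) (sympForm m F) hadd hsmul hskew ?_ Ψ hΨ ?_ _ _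
    inf_le_right ?_ ?_ hH ?_
  · intro v hv
    have h : ∃ x, sympForm m F v x ≠ 0 := by
      by_contra! h
      exact hv ((Forms.sympB_nondegenerate m).1 v fun x => by rw [Forms.sympB_apply]; exact h x)
    obtain ⟨x, hx⟩ := h
    exact ⟨⟨x, fun h0 => hx (by rw [hskew, h0]; simp)⟩, ⟨x, hx⟩⟩
  · exact ⟨Pi.single ⟨0, by omega⟩ 1, by simp, halt _⟩
  · exact fun g hg => hg
  · intro v hv
    obtain ⟨g, -, hg, hf⟩ := Forms.exists_transvection (RingHom.id F) (sympForm m F) hadd hsmul hskew hv
    exact ⟨g, hf, hg⟩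
  · intro b s hs h j
    have hbb : bᵀ * b = s • (1 : Matrix (Fin 3) (Fin 3) F) := by
      ext i l
      rw [Matrix.mul_apply, Matrix.smul_apply, Matrix.one_apply, smul_eq_mul, mul_ite, mul_one, mul_zero]
      exact h i l
    have hs1 : s = 1 := by
      rcases hall s with h0 | h1 | h1
      · exact absurd h0 hs
      · exact h1
      · exfalso
        have hd := congrArg Matrix.det hbb
        rw [Matrix.det_mul, Matrix.det_transpose, Matrix.det_smul, Matrix.det_one, h1, mul_one,
          Fintype.card_fin] at hd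
        exact hns ⟨b.det, by linear_combination -hd⟩
    have hj := h j j
    rw [if_pos rfl, hs1, Fin.sum_univ_three] at hj
    simp only [RingHom.id_apply] at hj
    have hsq : ∀ x : F, x ≠ 0 → x * x = 1 := fun x hx => by
      rcases (hall x).resolve_left hx with h | h <;> simp [h]
    by_cases h0 : b 0 j = 0 <;> by_cases h1 : b 1 j = 0 <;> by_cases h2' : b 2 j = 0
    · simp [h0, h1, h2'] at hj
    · exact ⟨2, fun i hi => by fin_cases i <;> first | exact h0 | exact h1 | exact h2' | exact absurd rfl hi⟩
    · exact ⟨1, fun i hi => by fin_cases i <;> first | exact h0 | exact h1 | exact h2' | exact absurd rfl hi⟩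
    · simp [h0, hsq _ h1, hsq _ h2'] at hj
    · exact ⟨0, fun i hi => by fin_cases i <;> first | exact h0 | exact h1 | exact h2' | exact absurd rfl hi⟩
    · simp [h1, hsq _ h0, hsq _ h2'] at hj
    · simp [h2', hsq _ h0, hsq _ h1] at hj
    · rw [hsq _ h0, hsq _ h1, hsq _ h2'] at hj
      exact absurd hj (fun hj => one_ne_zero (show (1 : F) = 0 by linear_combination h3 - hj))

end Cfsg.Agent.S5667
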