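import Cfsg.Statements.S5668
import Cfsg.Agent.Lib.MaxCl.PowerTransport
import Cfsg.Agent.Lib.MaxCl.PowerRig

set_option autoImplicit false
open Cfsg
open scoped Matrix

namespace Cfsg.Agent.S5668

/-- For a finite field F of odd order q and m ≥ 7, suppose the standard alternating form on F^(2m) is similar, through a change of basis P and a bijection of index sets e, to the t-fold tensor power of a non-degenerate symplectic form f₁ on F^k, with t odd, t ≥ 3 and (q, k) ≠ (3, 2). Then the elements of Sp_2m(F) in the stabiliser of this decomposition (the conjugate by P of the standard tensor-wreath subgroup transported along e) form a maximal subgroup of Sp_2m(F). -/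
theorem result {F : Type*} [Field F] [Fintype F] (m : ℕ) (hm : 7 ≤ m) (hodd : Odd (Fintype.card F)) (k t : ℕ) (ht : Odd t) (ht3 : 3 ≤ t) (hex : ¬ (Fintype.card F = 3 ∧ k = 2)) (e : (Fin m ⊕ Fin m) ≃ (Fin t → Fin k)) (P : Matrix.GeneralLinearGroup (Fin m ⊕ Fin m) F) (f₁ : (Fin k → F) → (Fin k → F) → F) (hf₁ : Cfsg.Geo.IsSymplecticForm f₁) (hT : Cfsg.Geo.IsTensorPowerFormStructure id (Cfsg.sympForm m F) f₁ e P) : Cfsg.Geo.IsMaximalIn (Cfsg.spGL m F) (Cfsg.Geo.tensorWreathSubgroup k t e P ⊓ Cfsg.spGL m F) := by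
  classical
  obtain ⟨c, hc, hform⟩ := MaxCl.Pow.power_form e P hT
  set G := Cfsg.Geo.gramMatrix f₁ with hGdef
  have hG : MaxCl.Pow.Alt G := MaxCl.Pow.gram_alt hf₁
  have h2 : (2 : F) ≠ 0 := fun h => by
    haveI : CharP F 2 := CharTwo.of_one_ne_zero_of_two_eq_zero one_ne_zero h
    exact Nat.not_even_iff_odd.2 hodd (even_iff_two_dvd.2
      ((prime_dvd_char_iff_dvd_card 2).1 (by rw [ringChar.eq F 2])))
  let E := Cfsg.Agent.Aschbacher.coordGL e P
  have hiff : ∀ g, E g ∈ Cfsg.spGL m F ↔ g ∈ MaxCl.Pow.iso (MaxCl.Pow.GG G (Fin t)) := by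
    intro g
    rw [MaxCl.Pow.mem_iso_fm]
    constructor
    · intro h x y
      have h1 := h (MaxCl.Pow.coordLin e P x) (MaxCl.Pow.coordLin e P y)
      change Cfsg.sympForm m F ((E g).val *ᵥ _) ((E g).val *ᵥ _) = _ at h1
      rw [MaxCl.Pow.coordLin_act, MaxCl.Pow.coordLin_act, hform, hform] at h1
      exact mul_left_cancel₀ hc h1
    · intro h u v
      obtain ⟨x, rfl⟩ := MaxCl.Pow.coordLin_surjective e P u
      obtain ⟨y, rfl⟩ := MaxCl.Pow.coordLin_surjective e P v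
      show Cfsg.sympForm m F ((E g).val *ᵥ _) ((E g).val *ᵥ _) = _
      rw [MaxCl.Pow.coordLin_act, MaxCl.Pow.coordLin_act, hform, hform, h]
  have hcard : Fintype.card (Fin m ⊕ Fin m) = k ^ t := by
    rw [Fintype.card_congr e, Fintype.card_fun, Fintype.card_fin, Fintype.card_fin]
  have hk0 : 0 < k := by
    rcases Nat.eq_zero_or_pos k with rfl | h
    · rw [Fintype.card_sum, Fintype.card_fin, zero_pow (by omega)] at hcard; omega
    · exact h
  haveI : Nonempty (Fin k) := ⟨⟨0, hk0⟩⟩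
  haveI : Nonempty (Fin t) := ⟨⟨0, by omega⟩⟩
  have ht' : Odd (Fintype.card (Fin t)) := by rwa [Fintype.card_fin]
  have h24 : 4 ≤ Fintype.card (Fin k) ∨ Fintype.card (Fin k) = 2 ∧ 5 ≤ Nat.card F := by
    obtain ⟨f, hf⟩ := MaxCl.Pow.exists_partner hG (a := fun _ => 1)
      (Function.ne_iff.2 ⟨⟨0, hk0⟩, one_ne_zero⟩)
    have h1 := MaxCl.Pow.two_le_card hG hf
    have h3 := MaxCl.Pow.card_ne_three hG h2
    rw [Fintype.card_fin] at h1 h3 ⊢
    rw [Nat.card_eq_fintype_card]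
    rcases eq_or_ne k 2 with rfl | hk2
    · have h4 : 1 < Fintype.card F := Fintype.one_lt_card
      obtain ⟨r, hr⟩ := hodd
      have : Fintype.card F ≠ 3 := fun h => hex ⟨h, rfl⟩
      exact Or.inr ⟨rfl, by omega⟩
    · exact Or.inl (by omega)
  refine ⟨lt_of_le_of_ne inf_le_right fun heq => ?_, fun M hHM hMS => ?_⟩
  · obtain ⟨g, hg, hgW⟩ := MaxCl.Pow.exists_not_wr_sp (κ := Fin t) hG h2 ht' (by rw [Fintype.card_fin]; omega)
    exact hgW ((MaxCl.Pow.wreath_iff e P g).1 (inf_eq_right.1 heq ((hiff g).2 hg)))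
  · rcases MaxCl.Pow.sp_cases (M := M.comap E.toMonoidHom) hG h2 ht'
      (MaxCl.Pow.le_Wr hG (Or.inl h2) h24) (fun g hg => (hiff g).1 (hMS hg))
      (fun g hg => hHM ⟨(MaxCl.Pow.wreath_iff e P g).2 hg.1, (hiff g).2 hg.2⟩) with h | h
    · refine Or.inl (le_antisymm (fun x hx => ⟨?_, hMS hx⟩) hHM)
      obtain ⟨g, rfl⟩ := E.surjective x
      exact (MaxCl.Pow.wreath_iff e P g).2 (h hx)
    · refine Or.inr (le_antisymm hMS fun x hx => ?_)
      obtain ⟨g, rfl⟩ := E.surjective x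
      exact h ((hiff g).1 hx)

end Cfsg.Agent.S5668
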