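import Cfsg.Statements.S5670
import Cfsg.Agent.Lib.MaxCl.UnitaryTensorSpread
import Cfsg.Agent.Lib.Forms.TensorWreath

set_option autoImplicit false
open Cfsg

namespace Cfsg.Agent.S5670

/-- Let F be the field with q² elements and n = n₁ n₂ ≥ 13 with 2 ≤ n₁ < n₂ and (n₁, q) ≠ (2, 2). Suppose the standard unitary form on F^n is similar, through a change of basis P and a bijection of index sets e, to the tensor product of non-degenerate unitary forms f₁ on F^(n₁) and f₂ on F^(n₂) (forms linear in the first argument with f_i(v, w) = f_i(w, v)^q). Then the elements of SU_n(q) in the stabiliser of this tensor decomposition form a maximal subgroup of SU_n(q). -/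
theorem result {F : Type*} [Field F] [Fintype F] (n q : ℕ) (hF : Fintype.card F = q ^ 2) (hn : 13 ≤ n) (n₁ n₂ : ℕ) (h1 : 2 ≤ n₁) (h12 : n₁ < n₂) (hex : ¬ (n₁ = 2 ∧ q = 2)) (e : Fin n ≃ Fin n₁ × Fin n₂) (P : Matrix.GeneralLinearGroup (Fin n) F) (f₁ : (Fin n₁ → F) → (Fin n₁ → F) → F) (f₂ : (Fin n₂ → F) → (Fin n₂ → F) → F) (hf₁ : Cfsg.Geo.IsUnitaryFormPow q f₁) (hf₂ : Cfsg.Geo.IsUnitaryFormPow q f₂) (hT : Cfsg.Geo.IsTensorFormStructure (fun x : F => x ^ q) (Cfsg.hermForm n F q) f₁ f₂ e P) : Cfsg.Geo.IsMaximalIn (Cfsg.GU n F q ⊓ Cfsg.Geo.specialLinear (Fin n) F) (Cfsg.Geo.tensorProductSubgroup n₁ n₂ e P ⊓ (Cfsg.GU n F q ⊓ Cfsg.Geo.specialLinear (Fin n) F)) := by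
  classical
  obtain ⟨τ, hτ, hU⟩ := Cfsg.Agent.MaxCl.Unit.hermForm_isUnitary (F := F) n q hF
  have mk : ∀ {m : ℕ} {h : (Fin m → F) → (Fin m → F) → F}, Cfsg.Geo.IsUnitaryFormPow q h →
      Cfsg.Geo.IsUnitaryForm τ h := fun {m h} hh =>
    ⟨hU.ne_refl, hU.involutive, hh.add_left, hh.smul_left, fun v w => by rw [hτ]; exact hh.herm v w,
      hh.nondegenerate⟩
  obtain ⟨c, hc, hform⟩ := hT
  let T : Cfsg.Agent.MaxCl.Tens.TSys (Fin n) F n₁ n₂ := ⟨e, P⟩
  have hn12 : n = n₁ * n₂ := by simpa using Fintype.card_congr e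
  have hn₂5 : 5 ≤ n₂ := by
    by_contra h
    have h' : n₁ ≤ 3 := by omega
    have := Nat.mul_le_mul h' (show n₂ ≤ 4 by omega)
    omega
  have hpt : ∀ u v u' v', Cfsg.hermForm n F q (Cfsg.Agent.MaxCl.Tens.pt T u v)
      (Cfsg.Agent.MaxCl.Tens.pt T u' v') = c * (f₁ u u' * f₂ v v') := by
    intro u v u' v'
    have hσ : (fun x : F => x ^ q) = ⇑(τ : F →+* F) := funext fun x => (hτ x).symm
    have h := hform (fun p => u p.1 * v p.2) (fun p => u' p.1 * v' p.2)
    rw [hσ] at h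
    refine h.trans ?_
    congr 1
    have hk := Cfsg.Agent.Forms.formOfGram_kronecker (k := 1) (τ : F →+* F) (Cfsg.Geo.gramMatrix f₁)
      (Cfsg.Geo.gramMatrix f₂) (fun _ => u) (fun _ => u') (fun _ => v) (fun _ => v')
    simp only [Fin.sum_univ_one] at hk
    rw [hk, Cfsg.Agent.Forms.formOfGram_gramMatrix (τ : F →+* F) f₁ hf₁.add_left hf₁.smul_left
        (fun x y => (mk hf₁).herm y x),
      Cfsg.Agent.Forms.formOfGram_gramMatrix (τ : F →+* F) f₂ hf₂.add_left hf₂.smul_left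
        (fun x y => (mk hf₂).herm y x)]
  have hex' : ¬ (n₁ = 2 ∧ ∀ x : F, τ x = x → x = 0 ∨ x = 1) := by
    rintro ⟨h2, hfix⟩
    refine hex ⟨h2, ?_⟩
    have hcube : ∀ x : F, x ≠ 0 → x * τ x = 1 := fun x hx =>
      (hfix _ (by rw [map_mul, hU.involutive, mul_comm])).resolve_left (mul_ne_zero hx ((map_ne_zero τ).2 hx))
    have hq2 : 2 ≤ q := by
      have := Fintype.one_lt_card (α := F)
      rw [hF] at this
      by_contra h
      push Not at h
      interval_cases q <;> simp at this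
    set p : Polynomial F := Polynomial.X ^ (q + 1) - 1 with hp
    have hp0 : p ≠ 0 := by
      rw [hp]
      intro h
      have := congrArg (Polynomial.eval 0) h
      simp at this
    have hroots : Finset.univ.erase 0 ⊆ p.roots.toFinset := fun x hx => by
      rw [Multiset.mem_toFinset, Polynomial.mem_roots hp0]
      simp only [hp, Polynomial.IsRoot, Polynomial.eval_sub, Polynomial.eval_pow, Polynomial.eval_X, Polynomial.eval_mul,
        Polynomial.eval_one, pow_succ']
      rw [← hτ, hcube x (Finset.ne_of_mem_erase hx), sub_self]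
    have h1 := (Finset.card_le_card hroots).trans ((Multiset.toFinset_card_le _).trans (Polynomial.card_roots' p))
    have h2' : p.natDegree ≤ q + 1 := by
      rw [hp]
      exact (Polynomial.natDegree_sub_le _ _).trans (by simp)
    rw [Finset.card_erase_of_mem (Finset.mem_univ _), Finset.card_univ, hF] at h1
    have h4 : q ^ 2 ≤ q + 2 := by omega
    nlinarith
  have mkC : ∀ M : Subgroup (Matrix.GeneralLinearGroup (Fin n) F),
      M ≤ Cfsg.GU n F q ⊓ Cfsg.Geo.specialLinear (Fin n) F →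
      Cfsg.Geo.tensorProductSubgroup n₁ n₂ e P ⊓ (Cfsg.GU n F q ⊓ Cfsg.Geo.specialLinear (Fin n) F) ≤ M →
      Cfsg.Agent.MaxCl.Tens.UCtx T τ (Cfsg.hermForm n F q) f₁ f₂ c M := fun M hle hge =>
    { hU := hU, h₁ := mk hf₁, h₂ := mk hf₂, c_ne := hc, form := hpt, two_le := h1, lt := h12,
      three := by omega, big := by rw [Fintype.card_fin]; omega, le := hle,
      ge := fun a b hab => hge ⟨Cfsg.Agent.MaxCl.Tens.gl_mem T a b, hab⟩ }
  have C₀ := mkC (Cfsg.GU n F q ⊓ Cfsg.Geo.specialLinear (Fin n) F) le_rfl inf_le_right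
  refine ⟨lt_of_le_not_ge inf_le_right fun h => Cfsg.Agent.MaxCl.Tens.not_le_tensor C₀ (h.trans inf_le_left),
    fun M hge hle => ?_⟩
  rcases Cfsg.Agent.MaxCl.Tens.eq_or_le_tensor (mkC M hle hge) (Or.inl hn₂5) hex' with h | h
  · exact Or.inr h
  · exact Or.inl (le_antisymm (le_inf h hle) hge)

end Cfsg.Agent.S5670
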