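import Cfsg.Statements.S5671
import Cfsg.Agent.Lib.Forms.TensorWreath
import Cfsg.Agent.Lib.Forms.Classify
-- import your own Cfsg.Agent.* helpers here

set_option autoImplicit false
set_option maxHeartbeats 800000
open Cfsg

open scoped Matrix Kronecker

namespace Cfsg.Agent.S5671

/-- Let F be the field with 4 elements (q = 2) and n = 2 n₂ ≥ 13. Suppose the standard unitary form Σ u_i v_i² on F^n is similar, through P and e, to the tensor product of non-degenerate unitary forms f₁ on F^2 and f₂ on F^(n₂). Then the elements of SU_n(2) in the stabiliser of this tensor decomposition form a subgroup that is not maximal: some subgroup lies strictly between it and SU_n(2). -/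
theorem result {F : Type*} [Field F] [Fintype F] (n : ℕ) (hF : Fintype.card F = 4) (hn : 13 ≤ n) (n₂ : ℕ) (e : Fin n ≃ Fin 2 × Fin n₂) (P : Matrix.GeneralLinearGroup (Fin n) F) (f₁ : (Fin 2 → F) → (Fin 2 → F) → F) (f₂ : (Fin n₂ → F) → (Fin n₂ → F) → F) (hf₁ : Cfsg.Geo.IsUnitaryFormPow 2 f₁) (hf₂ : Cfsg.Geo.IsUnitaryFormPow 2 f₂) (hT : Cfsg.Geo.IsTensorFormStructure (fun x : F => x ^ 2) (Cfsg.hermForm n F 2) f₁ f₂ e P) : ∃ K : Subgroup (Matrix.GeneralLinearGroup (Fin n) F), Cfsg.Geo.tensorProductSubgroup 2 n₂ e P ⊓ (Cfsg.GU n F 2 ⊓ Cfsg.Geo.specialLinear (Fin n) F) < K ∧ K < (Cfsg.GU n F 2 ⊓ Cfsg.Geo.specialLinear (Fin n) F) := by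
  classical
  have hF2 : Fintype.card F = 2 ^ 2 := by rw [hF]; norm_num
  obtain ⟨c, hc, hT⟩ := hT
  set σ := Forms.qEnd hF2
  have h2 : (2 : F) = 0 := by
    have h := FiniteField.cast_card_eq_zero F
    rw [hF] at h
    have : (2 : F) * 2 = 0 := by push_cast at h; linear_combination h
    exact mul_self_eq_zero.1 this
  have hneg : ∀ x : F, -x = x := fun x => neg_eq_of_add_eq_zero_left (by linear_combination x * h2)
  have hadd : ∀ x y v, hermForm n F 2 (x + y) v = hermForm n F 2 x v + hermForm n F 2 y v := fun x y v => by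
    simp [hermForm, add_mul, Finset.sum_add_distrib]
  have hsmul : ∀ (c : F) x v, hermForm n F 2 (c • x) v = c * hermForm n F 2 x v := fun c x v => by
    simp [hermForm, Finset.mul_sum, mul_assoc]
  have hskew : ∀ x y, hermForm n F 2 x y = -σ (hermForm n F 2 y x) := fun x y => by
    rw [hneg, Forms.hermForm_swap hF2]
  let B : (Fin 2 → F) →ₛₗ[σ] (Fin 2 → F) →ₗ[F] F :=
    LinearMap.mk₂'ₛₗ σ (RingHom.id F) (fun x y => f₁ y x)
      (fun x x' y => by
        show f₁ y (x + x') = f₁ y x + f₁ y x'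
        rw [hf₁.herm, hf₁.add_left, hf₁.herm y x, hf₁.herm y x']
        exact map_add σ _ _)
      (fun k x y => by
        show f₁ y (k • x) = σ k * f₁ y x
        rw [hf₁.herm, hf₁.smul_left, hf₁.herm y x]
        exact map_mul σ _ _)
      (fun x y y' => hf₁.add_left y y' x) (fun k x y => hf₁.smul_left k y x)
  obtain ⟨ec, hec⟩ := Forms.exists_herm_coords hF2 (B := B) (fun x y => (hf₁.herm x y).symm) (fun x hx => by
    by_contra hx0
    obtain ⟨y, hy⟩ := (hf₁.nondegenerate x hx0).1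
    exact hy (hx y))
  let w : Module.Basis (Fin 2) F (Fin 2 → F) :=
    (Pi.basisFun F (Fin 2)).map
      (ec.trans (LinearEquiv.funCongrLeft F F (finCongr (Module.finrank_fin_fun F).symm))).symm
  have hw : ∀ i l, f₁ (w i) (w l) = if i = l then 1 else 0 := fun i l => by
    show B (w l) (w i) = _
    rw [hec, hermForm, ← (finCongr (Module.finrank_fin_fun F (n := 2)).symm).sum_comp]
    have h : ∀ j s, ec (w j) (finCongr (Module.finrank_fin_fun F (n := 2)).symm s) = (Pi.single j 1 : Fin 2 → F) s :=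
      fun j s => congrFun ((ec.trans (LinearEquiv.funCongrLeft F F
        (finCongr (Module.finrank_fin_fun F).symm))).apply_symm_apply _ |>.trans (Pi.basisFun_apply F (Fin 2) j)) s
    simp only [h, Fin.sum_univ_two]
    fin_cases i <;> fin_cases l <;> simp
  let e' : Fin n ≃ Fin n₂ × Fin 2 := e.trans (Equiv.prodComm _ _)
  have hT' : ∀ x y, hermForm n F 2 (P.val *ᵥ (x ∘ e')) (P.val *ᵥ (y ∘ e'))
      = c * Geo.formOfGram σ (Geo.gramMatrix f₂ ⊗ₖ Geo.gramMatrix f₁) x y := by
    intro x y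
    refine (hT (x ∘ Prod.swap) (y ∘ Prod.swap)).trans (congrArg (c * ·) ?_)
    refine Fintype.sum_equiv (Equiv.prodComm _ _) _ _ fun p => ?_
    refine Fintype.sum_equiv (Equiv.prodComm _ _) _ _ fun r => ?_
    simp [Matrix.kroneckerMap_apply, mul_comm, σ, Forms.qEnd_apply]
  set I := Cfsg.GU n F 2 ⊓ Cfsg.Geo.specialLinear (Fin n) F
  obtain ⟨Ψ, hΨ, hH⟩ := Forms.exists_tensor_blocks (k := 2) two_pos σ (hermForm n F 2) c e' P _ _ hT' w 1
    (fun i l => by rw [Forms.formOfGram_gramMatrix σ f₁ hf₁.add_left hf₁.smul_left (fun x y => hf₁.herm y x), hw])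
    (Cfsg.Geo.tensorProductSubgroup 2 n₂ e P ⊓ I) (fun g hg => by
      obtain ⟨a, b, hab⟩ := Forms.tensor_mem_pure hg.1
      refine ⟨b, a, fun y v => ?_⟩
      have hp : ∀ (s : Fin n₂ → F) t, Forms.pureVec e' s t = Forms.pureVec e t s := fun s t =>
        funext fun i => mul_comm _ _
      rw [hp, hp, hab])
  have hcard : n = 2 * n₂ := by simpa using Fintype.card_congr e
  refine Forms.tensor_lt_wreath le_rfl σ (hermForm n F 2) hadd hsmul hskew ?_ Ψ hΨ ?_ I _ inf_le_right ?_ ?_ hH ?_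
  · intro v hv
    obtain ⟨i, hi⟩ := Function.ne_iff.1 hv
    refine ⟨⟨Pi.single i 1, ?_⟩, ⟨Pi.single i 1, ?_⟩⟩ <;>
      rw [hermForm, Fintype.sum_eq_single i (fun j hj => by simp [hj])] <;> simpa using hi
  · set z : Fin 2 := ⟨0, by omega⟩ with hz
    let φ : (Fin n₂ → F) → (Fin n₂ → F) → F :=
      fun x y => hermForm n F 2 (Ψ (Pi.single z x)) (Ψ (Pi.single z y))
    show ∃ u, u ≠ 0 ∧ φ u u = 0
    have hφ1 : ∀ x, φ x x ≠ 0 → φ x x = 1 := fun x hx => by
      have h : σ (φ x x) = φ x x := Forms.hermForm_swap hF2 _ _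
      rw [Forms.qEnd_apply, sq] at h
      exact mul_left_cancel₀ hx (h.trans (mul_one _).symm)
    obtain ⟨u₁, hu₁⟩ : ∃ u : Fin n₂ → F, u ≠ 0 := ⟨Pi.single ⟨0, by omega⟩ 1, by simp⟩
    by_cases h1 : φ u₁ u₁ = 0
    · exact ⟨u₁, hu₁, h1⟩
    let L : (Fin n₂ → F) →ₗ[F] F :=
      ⟨⟨fun x => φ x u₁, fun x y => by simp only [φ, Pi.single_add, map_add, hadd]⟩,
        fun k x => by simp only [φ, Pi.single_smul, map_smul, hsmul, RingHom.id_apply, smul_eq_mul]⟩
    obtain ⟨u₂, hu₂, hu₂0⟩ := (Submodule.ne_bot_iff _).1 (LinearMap.ker_ne_bot_of_finrank_lt (f := L) (by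
      rw [Module.finrank_fin_fun, Module.finrank_self]; omega))
    by_cases h2' : φ u₂ u₂ = 0
    · exact ⟨u₂, hu₂0, h2'⟩
    have h12 : φ u₁ u₂ = 0 := by
      have h : φ u₁ u₂ = σ (φ u₂ u₁) := (Forms.hermForm_swap hF2 _ _).symm
      rw [h, show φ u₂ u₁ = 0 from hu₂, map_zero]
    refine ⟨u₁ + u₂, fun h => h1 ?_, ?_⟩
    · rw [eq_neg_of_add_eq_zero_left h]
      have hh : L (-u₂) = 0 := by rw [map_neg, show L u₂ = 0 from hu₂, neg_zero]
      rw [eq_neg_of_add_eq_zero_left h] at h12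
      have h3 : φ u₁ u₁ = L u₁ := rfl
      rw [eq_neg_of_add_eq_zero_left h] at h3
      rw [h3]; exact hh
    · have e1 : ∀ x y v, φ (x + y) v = φ x v + φ y v := fun x y v => by
        simp only [φ, Pi.single_add, map_add, hadd]
      have e2 : ∀ x y v, φ v (x + y) = φ v x + φ v y := fun x y v => by
        simp only [φ]
        rw [hskew, Pi.single_add, map_add, hadd, map_add, neg_add, ← hskew, ← hskew]
      rw [e1, e2, e2, h12, show φ u₂ u₁ = 0 from hu₂, hφ1 _ h1, hφ1 _ h2']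
      linear_combination h2
  · exact fun g hg => hg.1
  · intro v hv
    obtain ⟨g, hdet, hg, hf⟩ := Forms.exists_transvection σ (hermForm n F 2) hadd hsmul hskew hv
    exact ⟨g, ⟨hf, Units.ext hdet⟩, hg⟩
  · intro b s hs h j
    have hj := h j j
    rw [if_pos rfl, Fin.sum_univ_two] at hj
    have hn1 : ∀ x : F, x ≠ 0 → x * σ x = 1 := fun x hx => by
      rw [Forms.qEnd_apply, ← pow_succ']
      have := FiniteField.pow_card_sub_one_eq_one x hx
      rwa [hF] at this
    by_cases h0 : b 0 j = 0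
    · refine ⟨1, fun i hi => ?_⟩
      fin_cases i
      · exact h0
      · simp at hi
    by_cases h1 : b 1 j = 0
    · refine ⟨0, fun i hi => ?_⟩
      fin_cases i
      · simp at hi
      · exact h1
    rw [hn1 _ h0, hn1 _ h1] at hj
    exact absurd (hj.symm.trans (by linear_combination h2)) hs

end Cfsg.Agent.S5671
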