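import Cfsg.Statements.S5672
import Cfsg.Agent.Lib.TPow.Main
import Cfsg.Agent.Lib.MaxCl.UnitarySmall

set_option autoImplicit false
open Cfsg

namespace Cfsg.Agent.S5672

/-- Let F be the field with q² elements and n = k^t ≥ 13 with k ≥ 3, t ≥ 2 and (q, k) ≠ (2, 3). Suppose the standard unitary form on F^n is similar, through a change of basis P and a bijection of index sets e, to the t-fold tensor power of a non-degenerate unitary form f₁ on F^k. Then the elements of SU_n(q) in the stabiliser of this decomposition (the conjugate by P of the standard tensor-wreath subgroup transported along e) form a maximal subgroup of SU_n(q). -/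
theorem result {F : Type*} [Field F] [Fintype F] (n q : ℕ) (hF : Fintype.card F = q ^ 2) (hn : 13 ≤ n) (k t : ℕ) (hk : 3 ≤ k) (ht : 2 ≤ t) (hex : ¬ (q = 2 ∧ k = 3)) (e : Fin n ≃ (Fin t → Fin k)) (P : Matrix.GeneralLinearGroup (Fin n) F) (f₁ : (Fin k → F) → (Fin k → F) → F) (hf₁ : Cfsg.Geo.IsUnitaryFormPow q f₁) (hT : Cfsg.Geo.IsTensorPowerFormStructure (fun x : F => x ^ q) (Cfsg.hermForm n F q) f₁ e P) : Cfsg.Geo.IsMaximalIn (Cfsg.GU n F q ⊓ Cfsg.Geo.specialLinear (Fin n) F) (Cfsg.Geo.tensorWreathSubgroup k t e P ⊓ (Cfsg.GU n F q ⊓ Cfsg.Geo.specialLinear (Fin n) F)) := by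
  classical
  obtain ⟨τ, hτ, hU⟩ := Cfsg.Agent.MaxCl.Unit.hermForm_isUnitary (F := F) n q hF
  have hfo : Cfsg.Geo.IsUnitaryForm τ f₁ :=
    ⟨hU.ne_refl, hU.involutive, hf₁.add_left, hf₁.smul_left, fun v w => by rw [hτ]; exact hf₁.herm v w,
      hf₁.nondegenerate⟩
  obtain ⟨c, hc, hform⟩ := hT
  obtain ⟨t, rfl⟩ : ∃ t', t = t' + 1 + 1 := ⟨t - 2, by omega⟩
  let X : Cfsg.Agent.TPow.PS (Fin n) F k (t + 1 + 1) := ⟨e, P⟩
  have hpv : ∀ xs ys, Cfsg.hermForm n F q (Cfsg.Agent.TPow.pv X xs) (Cfsg.Agent.TPow.pv X ys) =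
      c * ∏ i, f₁ (xs i) (ys i) := by
    intro xs ys
    refine (hform (fun a => ∏ i, xs i (a i)) (fun a => ∏ i, ys i (a i))).trans ?_
    congr 1
    have hf : ∀ u v, f₁ u v = ∑ a, ∑ b, u a * Cfsg.Geo.gramMatrix f₁ a b * τ (v b) := fun u v =>
      (Cfsg.Agent.Forms.formOfGram_gramMatrix (τ : F →+* F) f₁ hfo.add_left hfo.smul_left
        (fun x y => hfo.herm y x) u v).symm
    simp only [← hτ, map_prod, ← Finset.prod_mul_distrib, hf, Fintype.prod_sum]
  have hfix : k = 3 → ∃ x : F, τ x = x ∧ x ≠ 0 ∧ x ≠ 1 := by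
    intro hk3
    by_contra hfix
    push Not at hfix
    refine hex ⟨?_, hk3⟩
    have hcube : ∀ x : F, x ≠ 0 → x * τ x = 1 := fun x hx =>
      hfix _ (by rw [map_mul, hU.involutive, mul_comm]) (mul_ne_zero hx ((map_ne_zero τ).2 hx))
    have hq2 : 2 ≤ q := by
      have := Fintype.one_lt_card (α := F)
      rw [hF] at this
      by_contra h
      push Not at h
      interval_cases q <;> simp at this
    set p : Polynomial F := Polynomial.X ^ (q + 1) - 1 with hp
    have hp0 : p ≠ 0 := by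
      rw [hp]
      intro h
      have := congrArg (Polynomial.eval 0) h
      simp at this
    have hroots : Finset.univ.erase 0 ⊆ p.roots.toFinset := fun x hx => by
      rw [Multiset.mem_toFinset, Polynomial.mem_roots hp0]
      simp only [hp, Polynomial.IsRoot, Polynomial.eval_sub, Polynomial.eval_pow, Polynomial.eval_X,
        Polynomial.eval_mul,
        Polynomial.eval_one, pow_succ']
      rw [← hτ, hcube x (Finset.ne_of_mem_erase hx), sub_self]
    have h1 := (Finset.card_le_card hroots).trans ((Multiset.toFinset_card_le _).trans (Polynomial.card_roots' p))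
    have h2' : p.natDegree ≤ q + 1 := by
      rw [hp]
      exact (Polynomial.natDegree_sub_le _ _).trans (by simp)
    rw [Finset.card_erase_of_mem (Finset.mem_univ _), Finset.card_univ, hF] at h1
    have h4 : q ^ 2 ≤ q + 2 := by omega
    nlinarith
  have PC : Cfsg.Agent.TPow.PF X τ (Cfsg.hermForm n F q) f₁ c :=
    { hU := hU, h₀ := hfo, c_ne := hc, form := hpv, three := hk, hex := hfix }
  refine ⟨lt_of_le_not_ge inf_le_right fun h => Cfsg.Agent.TPow.not_su_le_W PC (h.trans inf_le_left),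
    fun M hge hle => ?_⟩
  rcases Cfsg.Agent.TPow.le_W_or_su_le PC hle hge with h | h
  · exact Or.inl (le_antisymm (le_inf h hle) hge)
  · exact Or.inr (le_antisymm hle h)

end Cfsg.Agent.S5672
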