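import Cfsg.Statements.S5677
import Cfsg.Agent.Lib.MaxCl.OrthBlocksTransfer
-- import your own Cfsg.Agent.* helpers here

set_option autoImplicit false
open Cfsg

namespace Cfsg.Agent.S5677

/-- Let F be a finite field of odd order q, m ≥ 6, Q the standard quadratic form on F^(2m+1) and Ω the commutator subgroup of its isometry group. Let D be a decomposition of F^(2m+1) into t ≥ 2 pairwise orthogonal, pairwise Q-isometric subspaces of equal dimension k > 1 on which the polar form is non-degenerate. Unless q = 3 and k = 3, the elements of Ω permuting the members of D form a maximal subgroup of Ω. -/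
theorem result {F : Type*} [Field F] [Fintype F] (hodd : Odd (Fintype.card F)) (m : ℕ) (hm : 6 ≤ m) {t : ℕ} (k : ℕ) (hk : 1 < k) (D : Fin t → Submodule F (Unit ⊕ (Fin m ⊕ Fin m) → F)) (hD : Cfsg.Geo.IsOrthogonalMDecomposition (Cfsg.quadFormOdd m F) k D) (hex : ¬ (Fintype.card F = 3 ∧ k = 3)) : Cfsg.Geo.IsMaximalIn (Cfsg.Geo.omegaGL (Cfsg.quadFormOdd m F)) (Cfsg.Geo.decompositionStabilizer D ⊓ Cfsg.Geo.omegaGL (Cfsg.quadFormOdd m F)) := by
  obtain ⟨q, hq, hnd⟩ := MaxCl.Orth.exists_form_odd hodd m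
  rw [← hq] at hD ⊢
  have hcard := MaxCl.Orth.card_eq_mul hD
  rw [MaxCl.Orth.card_odd_index] at hcard
  have hk2 : k % 2 = 1 := by
    have : Odd (t * k) := by rw [← hcard]; exact odd_two_mul_add_one m
    exact Nat.odd_iff.1 (Nat.odd_mul.1 this).2
  have h2 : (2 : F) ≠ 0 := Ring.two_ne_zero fun hc => by
    have := FiniteField.even_card_iff_char_two.1 hc
    have := Nat.odd_iff.1 hodd
    omega
  refine MaxCl.Orth.BigBlocks.maximal ⟨hD, hnd, by rw [MaxCl.Orth.card_odd_index]; omega,
    by omega, fun h3 => ⟨h2, ?_⟩,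
    fun h4 => absurd hk2 (by omega)⟩
  have := Fintype.one_lt_card (α := F)
  have := Nat.odd_iff.1 hodd
  have : Fintype.card F ≠ 3 := fun h => hex ⟨h, h3⟩
  omega

end Cfsg.Agent.S5677
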