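import Cfsg.Statements.S5684
import Cfsg.Agent.Lib.MaxCl.TOrthWrap

set_option autoImplicit false
open Cfsg

namespace Cfsg.Agent.S5684

/-- Let F be a finite field of odd order q, m ≥ 6, Q the standard quadratic form on F^(2m+1) and Ω the commutator subgroup of its isometry group. Suppose the polar form of Q is similar, through a change of basis P and a bijection of index sets e, to the t-fold tensor power (t ≥ 2) of a non-degenerate symmetric bilinear form f₁ on F^k with k ≥ 3 and (q, k) ≠ (3, 3). Then the elements of Ω in the stabiliser of this decomposition form a maximal subgroup of Ω. -/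
theorem result {F : Type*} [Field F] [Fintype F] (hodd : Odd (Fintype.card F)) (m : ℕ) (hm : 6 ≤ m) (k t : ℕ) (hk : 3 ≤ k) (ht : 2 ≤ t) (hex : ¬ (Fintype.card F = 3 ∧ k = 3)) (e : (Unit ⊕ (Fin m ⊕ Fin m)) ≃ (Fin t → Fin k)) (P : Matrix.GeneralLinearGroup (Unit ⊕ (Fin m ⊕ Fin m)) F) (f₁ : (Fin k → F) → (Fin k → F) → F) (hf₁ : Cfsg.Geo.IsSymmetricForm f₁) (hT : Cfsg.Geo.IsTensorPowerFormStructure id (QuadraticMap.polar (Cfsg.quadFormOdd m F)) f₁ e P) : Cfsg.Geo.IsMaximalIn (Cfsg.Geo.omegaGL (Cfsg.quadFormOdd m F)) (Cfsg.Geo.tensorWreathSubgroup k t e P ⊓ Cfsg.Geo.omegaGL (Cfsg.quadFormOdd m F)) := by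
  have h2 : (2 : F) ≠ 0 := Ring.two_ne_zero fun h =>
    (Nat.not_even_iff_odd.2 hodd) (Nat.even_iff.2 ((FiniteField.even_card_iff_char_two).1 h))
  have hcard : 2 * m + 1 = k ^ t := by
    have := Fintype.card_congr e
    simp only [Fintype.card_sum, Fintype.card_unit, Fintype.card_fin, Fintype.card_fun] at this
    omega
  have hko : Odd k := Nat.Odd.of_mul_left (n := k ^ (t - 1)) (by
    rw [← pow_succ', Nat.sub_add_cancel (by omega : 1 ≤ t), ← hcard]; exact ⟨m, rfl⟩)
  have hh : Cfsg.Agent.MaxCl.TOrth.Hyp k F :=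
    { h2 := h2
      odd := hko
      three := hk
      big := by
        rw [Nat.card_eq_fintype_card]
        have h1 := Fintype.one_lt_card (α := F)
        obtain ⟨r, hr⟩ := hodd
        obtain ⟨l, hl⟩ := hko
        by_contra hc
        push Not at hc
        exact hex ⟨by omega, by omega⟩ }
  have hQ : ⇑(Cfsg.Agent.Forms.quadOdd m F) = Cfsg.quadFormOdd m F :=
    funext fun v => Cfsg.Agent.Forms.quadOdd_apply v
  rw [← hQ] at hT ⊢
  exact Cfsg.Agent.MaxCl.TOrth.maximal_of_structure hh ht _ e P f₁ hf₁ hT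

end Cfsg.Agent.S5684
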