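import Cfsg.Statements.S5697
import Cfsg.Agent.Lib.MaxCl.OrthSingularPair
-- import your own Cfsg.Agent.* helpers here

set_option autoImplicit false
open Cfsg

namespace Cfsg.Agent.S5697

/-- Let F be a finite field with q elements, n ≥ 13 even, Q a non-degenerate quadratic form on F^n of plus type (some subspace of dimension n/2 is totally singular), and Ω the commutator subgroup of the isometry group of Q, viewed inside GL_n(F). Suppose n/2 is even and let D be a decomposition of F^n into two complementary subspaces of dimension n/2 on each of which Q vanishes. Then the elements of Ω preserving or interchanging the two subspaces form a maximal subgroup of Ω. -/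
theorem result {F : Type*} [Field F] [Fintype F] {n : ℕ} (hn : 13 ≤ n) (heven : Even n) (Q : (Fin n → F) → F) (hQ : Cfsg.Geo.IsNondegenerateQuadraticForm Q) (hplus : Cfsg.Geo.IsPlusTypeOn Q ⊤) (k : ℕ) (hk : 2 * k = n) (hke : Even k) (D : Fin 2 → Submodule F (Fin n → F)) (hD : Cfsg.Geo.IsMDecomposition k D) (hts : ∀ i, Cfsg.Geo.IsTotallySingularQuad Q (D i)) : Cfsg.Geo.IsMaximalIn (Cfsg.Geo.omegaGL Q) (Cfsg.Geo.decompositionStabilizer D ⊓ Cfsg.Geo.omegaGL Q) := by
  obtain ⟨q, rfl, hnd⟩ := MaxCl.Orth.exists_form hQ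
  have hdisj : Disjoint (D 1) (D 0) := (hD.indep 1).mono_right (le_iSup₂_of_le 0 (by decide) le_rfl)
  refine MaxCl.Orth.singular_pair_maximal hnd (X := D 0) (Y := D 1)
    ⟨hts 0, hts 1, hD.finrank_eq 0, hD.finrank_eq 1, fun z h0 h1 => Submodule.disjoint_def.1 hdisj z h1 h0,
      fun z => ?_, by rw [Fintype.card_fin]; omega⟩ (by omega) hke D rfl rfl
  have h : (⊤ : Submodule F (Fin n → F)) ≤ D 0 ⊔ D 1 := hD.iSup_eq_top ▸ iSup_le fun i => by
    fin_cases i <;> [exact le_sup_left; exact le_sup_right]
  obtain ⟨a, ha, b, hb, e⟩ := Submodule.mem_sup.1 (h (Submodule.mem_top (x := z)))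
  exact ⟨a, ha, b, hb, e.symm⟩

end Cfsg.Agent.S5697
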