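import Cfsg.Statements.S5699
import Cfsg.Agent.Lib.MaxCl.OrthNondeg
-- import your own Cfsg.Agent.* helpers here

set_option autoImplicit false
open Cfsg

namespace Cfsg.Agent.S5699

/-- Let F be a finite field with q elements, n ≥ 13 even, Q a non-degenerate quadratic form on F^n (of either type), and Ω the commutator subgroup of the isometry group of Q, viewed inside GL_n(F). Let D be a decomposition of F^n into two orthogonal subspaces of odd dimension n/2 on which the polar form is non-degenerate and which are not Q-isometric to each other. Then the elements of Ω permuting (necessarily fixing) the two subspaces form a maximal subgroup of Ω. -/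
theorem result {F : Type*} [Field F] [Fintype F] {n : ℕ} (hn : 13 ≤ n) (heven : Even n) (Q : (Fin n → F) → F) (hQ : Cfsg.Geo.IsNondegenerateQuadraticForm Q) (k : ℕ) (hk : 2 * k = n) (hko : Odd k) (D : Fin 2 → Submodule F (Fin n → F)) (hD : Cfsg.Geo.IsNondegenerateMDecomposition (QuadraticMap.polar Q) k D) (hni : ¬ Cfsg.Geo.AreIsometricFor Q (D 0) (D 1)) : Cfsg.Geo.IsMaximalIn (Cfsg.Geo.omegaGL Q) (Cfsg.Geo.decompositionStabilizer D ⊓ Cfsg.Geo.omegaGL Q) := by
  obtain ⟨q, rfl, hnd⟩ := MaxCl.Orth.exists_form hQ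
  have hW0 := MaxCl.Orth.nonDeg_of_isNondegenerateOn (hD.nondegenerate 0)
  have hd : ∀ i, Module.finrank F (D i) = k := hD.decomp.finrank_eq
  have h1 : D 1 = MaxCl.Orth.perp q (D 0) := by
    refine Submodule.eq_of_le_of_finrank_eq (fun x hx w hw => hD.orthogonal 0 1 (by decide) w hw x hx) ?_
    rw [hd, MaxCl.Orth.finrank_perp hnd, hd, Fintype.card_fin]; omega
  have hne : ∀ g ∈ isometryGroup F q, (D 0).map (MaxCl.act g) ≠ D 1 := fun g hg h =>
    hni ⟨(Submodule.equivMapOfInjective (MaxCl.act g) (MaxCl.act_injective g) (D 0)).trans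
      (LinearEquiv.ofEq _ _ h), fun w => by
        show q (MaxCl.act g (w : Fin n → F)) = q (w : Fin n → F)
        exact MaxCl.Orth.Q_act hg _⟩
  have heq : Cfsg.Geo.decompositionStabilizer D ⊓ Cfsg.Geo.omegaGL ⇑q =
      Cfsg.Geo.subspaceStabilizer (D 0) ⊓ Cfsg.Geo.omegaGL ⇑q := by
    ext g
    constructor
    · rintro ⟨⟨σ, hσ⟩, hg⟩
      refine ⟨MaxCl.mem_subspaceStabilizer_of_le fun x hx => ?_, hg⟩
      have h0 : σ 0 = 0 := by
        by_contra h
        have e : σ 0 = 1 := (Fin.exists_fin_two.1 ⟨σ 0, rfl⟩ : σ 0 = 0 ∨ σ 0 = 1).resolve_left h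
        exact hne g (MaxCl.Orth.omega_le_iso hg) ((hσ 0).trans (by rw [e]))
      have := (hσ 0).le ⟨x, hx, rfl⟩
      rwa [h0] at this
    · rintro ⟨hg0, hg⟩
      have hg1 := ((MaxCl.Orth.stab_inf_omega_perp hnd hW0).ge ⟨hg0, hg⟩).1
      rw [← h1] at hg1
      refine ⟨⟨1, fun i => ?_⟩, hg⟩
      rw [Equiv.Perm.one_apply]
      refine Submodule.eq_of_le_of_finrank_eq ?_ (MaxCl.finrank_map_act g _)
      rintro _ ⟨x, hx, rfl⟩
      fin_cases i
      · exact (MaxCl.mem_subspaceStabilizer.1 hg0 x).1 hx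
      · exact (MaxCl.mem_subspaceStabilizer.1 hg1 x).1 hx
  rw [heq]
  refine MaxCl.Orth.nondeg_maximal_any hnd hW0 (by rw [Fintype.card_fin]; omega) (fun h => ?_) (fun h => ?_) ?_
    (fun _ g hg => h1 ▸ hne g hg)
  · have := hd 0; rw [h, finrank_bot] at this; omega
  · have := hd 0; rw [h, finrank_top, Module.finrank_fin_fun] at this; omega
  · rintro ⟨-, U, hU, -, -, rfl | rfl⟩
    · rw [hd] at hU; omega
    · rw [← h1, hd] at hU; omega

end Cfsg.Agent.S5699
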