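import Cfsg.Statements.S5701
import Cfsg.Agent.Lib.MaxCl.OrthExtMax
import Cfsg.Agent.Lib.MaxCl.FieldSubalgebra

set_option autoImplicit false
set_option synthInstance.maxHeartbeats 200000
set_option maxHeartbeats 800000
open Cfsg
open scoped Matrix

namespace Cfsg.Agent.S5701

/-- Let F be a finite field with q elements, n ≥ 13 even, Q a non-degenerate quadratic form on F^n (of either type), and Ω the commutator subgroup of the isometry group of Q, viewed inside GL_n(F). Suppose q is odd. Let K be a subfield of the algebra of n × n matrices over F containing the scalars, of prime degree r over F with n/r ≥ 3, whose elements are self-adjoint for the polar form of Q. Then the elements of Ω normalising K form a maximal subgroup of Ω. -/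
theorem result {F : Type*} [Field F] [Fintype F] {n : ℕ} (hn : 13 ≤ n) (heven : Even n) (Q : (Fin n → F) → F) (hQ : Cfsg.Geo.IsNondegenerateQuadraticForm Q) (hodd : Odd (Fintype.card F)) (r : ℕ) (hr : r.Prime) (hnr : 3 * r ≤ n) (K : Subalgebra F (Matrix (Fin n) (Fin n) F)) (hK : Cfsg.Geo.IsFieldSubalgebra r K) (hsa : Cfsg.Geo.IsSelfAdjointFor (QuadraticMap.polar Q) K) : Cfsg.Geo.IsMaximalIn (Cfsg.Geo.omegaGL Q) (Cfsg.Geo.subalgebraNormalizer K ⊓ Cfsg.Geo.omegaGL Q) := by
  classical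
  obtain ⟨q, rfl, hnd⟩ := MaxCl.Orth.exists_form hQ
  haveI : Nonempty (Fin n) := ⟨⟨0, by omega⟩⟩
  have hfield : IsField K :=
    { exists_pair_ne := ⟨0, 1, fun h => zero_ne_one (α := Matrix (Fin n) (Fin n) F) (congrArg Subtype.val h)⟩
      mul_comm := fun a b => Subtype.ext (hK.comm a.1 a.2 b.1 b.2)
      mul_inv_cancel := fun {a} ha => by
        obtain ⟨y, hy, hxy⟩ := hK.inv a.1 a.2 (fun h => ha (Subtype.ext h))
        exact ⟨⟨y, hy⟩, Subtype.ext hxy⟩ }
  letI : Field K := hfield.toField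
  letI : Module K (Fin n → F) :=
    { smul := fun a v => (a : Matrix (Fin n) (Fin n) F) *ᵥ v
      one_smul := fun v => Matrix.one_mulVec v
      mul_smul := fun a b v => (Matrix.mulVec_mulVec v _ _).symm
      smul_zero := fun a => Matrix.mulVec_zero _
      smul_add := fun a v w => Matrix.mulVec_add _ v w
      add_smul := fun a b v => Matrix.add_mulVec _ _ v
      zero_smul := fun v => Matrix.zero_mulVec v }
  have hsmul : ∀ (a : K) (v : Fin n → F), a • v = (a : Matrix (Fin n) (Fin n) F) *ᵥ v := fun a v => rfl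
  haveI : IsScalarTower F K (Fin n → F) := ⟨fun c a v => by
    rw [hsmul, hsmul]
    exact Matrix.smul_mulVec c _ v⟩
  haveI : Module.Finite F K := Module.finite_of_finrank_pos (hK.finrank_eq ▸ hr.pos)
  have hr' : (Module.finrank F K).Prime := hK.finrank_eq.symm ▸ hr
  have hdim := Module.finrank_mul_finrank F K (Fin n → F)
  rw [Module.finrank_fintype_fun_eq_card, hK.finrank_eq, Fintype.card_fin] at hdim
  obtain ⟨d, hd⟩ : ∃ d, d = Module.finrank K (Fin n → F) := ⟨_, rfl⟩
  rw [← hd] at hdim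
  have hd3 : 3 ≤ d := Nat.le_of_mul_le_mul_left (by rw [mul_comm r 3, hdim]; exact hnr) hr.pos
  have hd4 : 4 ≤ d := by
    by_contra h
    obtain ⟨k, hk⟩ := heven
    rw [show d = 3 by omega] at hdim
    rcases hr.eq_two_or_odd with h2 | h2 <;> omega
  have hbig : Module.finrank F K = 2 → 5 ≤ Module.finrank K (Fin n → F) := fun h => by
    rw [← hd]
    rw [hK.finrank_eq] at h
    rw [h] at hdim
    omega
  have h2 : (2 : F) ≠ 0 := Ring.two_ne_zero fun hc => by
    obtain ⟨k, hk⟩ := hodd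
    have := FiniteField.even_card_iff_char_two.1 hc
    omega
  have h5 : 5 ≤ Fintype.card (Fin n) := by rw [Fintype.card_fin]; omega
  obtain ⟨Φ, htr, hsym⟩ := MaxCl.OExt.exists_kform (K := K) (Q := q) fun k x y => hsa k.1 k.2 x y
  have hsemi : ∀ g : GL (Fin n) F, g ∈ Cfsg.Geo.subalgebraNormalizer K ↔ MaxCl.ExtF.IsSemi K g :=
    fun g => MaxCl.ExtF.mem_normalizer_iff K g
  have hamb : ∀ M : Subgroup (GL (Fin n) F), Cfsg.Geo.subalgebraNormalizer K ⊓ Cfsg.Geo.omegaGL q ≤ M →
      M ≤ Cfsg.Geo.omegaGL q → MaxCl.OExt.Amb q Φ M := fun M h1 hle =>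
    ⟨htr, hsym, hnd, h2, h5, fun g hg hl => h1 ⟨(hsemi g).2 fun k => ⟨k, hl k⟩, hg⟩, hle⟩
  refine ⟨lt_of_le_of_ne inf_le_right fun heq => ?_, fun M hHM hMS => ?_⟩
  · obtain ⟨g, hg, hns⟩ := MaxCl.OExt.exists_not_semi (hamb _ le_rfl inf_le_right) hr' (hd ▸ hd3)
    exact hns ((hsemi g).1 (inf_eq_right.1 heq hg))
  · by_cases hsub : M ≤ Cfsg.Geo.subalgebraNormalizer K
    · exact Or.inl (le_antisymm (le_inf hsub hMS) hHM)
    obtain ⟨g, hgM, hg⟩ := SetLike.not_le_iff_exists.1 hsub
    exact Or.inr (le_antisymm hMS (MaxCl.OExt.omega_le (hamb M hHM hMS) hr' (hd ▸ hd4) hbig hgM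
      fun h => hg ((hsemi g).2 h)))

end Cfsg.Agent.S5701
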