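import Cfsg.Statements.S5702
import Cfsg.Agent.Lib.MaxCl.OrthSubfieldMax
-- import your own Cfsg.Agent.* helpers here

set_option autoImplicit false
open Cfsg

namespace Cfsg.Agent.S5702

/-- Let F be a finite field with q elements, n ≥ 13 even, Q a non-degenerate quadratic form on F^n (of either type), and Ω the commutator subgroup of the isometry group of Q, viewed inside GL_n(F). Let F₀ be a subfield with |F| = |F₀| ^ r for a prime r, ζ a non-zero scalar and P an invertible matrix such that ζ·Q takes values in F₀ on the F₀-span of the columns of P. Then the elements of Ω lying in the subfield group of P (the conjugate by P of the product of GL_n(F₀) with the scalars) form a maximal subgroup of Ω. -/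
theorem result {F : Type*} [Field F] [Fintype F] {n : ℕ} (hn : 13 ≤ n) (heven : Even n) (Q : (Fin n → F) → F) (hQ : Cfsg.Geo.IsNondegenerateQuadraticForm Q) (F₀ : Subfield F) (r : ℕ) (hr : r.Prime) (hcard : Fintype.card F = Nat.card F₀ ^ r) (P : Matrix.GeneralLinearGroup (Fin n) F) (ζ : F) (hζ : ζ ≠ 0) (hP : Cfsg.Geo.IsQuadFormRationalStructure (fun v : Fin n → F => ζ * Q v) F₀ P) : Cfsg.Geo.IsMaximalIn (Cfsg.Geo.omegaGL Q) (Cfsg.Geo.subfieldSubgroup F₀ P ⊓ Cfsg.Geo.omegaGL Q) := by
  obtain ⟨q, hq', hnd⟩ := MaxCl.Orth.exists_form hQ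
  subst hq'
  have hiso : isometryGroup F (⇑(ζ • q)) = isometryGroup F ⇑q := by
    ext g
    simp only [MaxCl.Orth.mem_iso, QuadraticMap.smul_apply, smul_eq_mul, mul_right_inj' hζ]
  have hnd' : (QuadraticMap.polarBilin (ζ • q)).Nondegenerate := by
    have key : ∀ x y, QuadraticMap.polar (⇑(ζ • q)) x y = ζ * QuadraticMap.polar (⇑q) x y := fun x y => by
      simp only [QuadraticMap.polar, QuadraticMap.smul_apply, smul_eq_mul]; ring
    refine ⟨fun x hx => hnd.1 x fun y => ?_, fun y hy => hnd.2 y fun x => ?_⟩
    · have := hx y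
      rw [QuadraticMap.polarBilin_apply_apply, key] at this
      exact (mul_eq_zero.1 this).resolve_left hζ
    · have := hy x
      rw [QuadraticMap.polarBilin_apply_apply, key] at this
      exact (mul_eq_zero.1 this).resolve_left hζ
  rw [← MaxCl.Orth.omega_congr q hiso]
  refine MaxCl.Orth.orth_subfield_maximal (Q := ζ • q) ?_ hnd' (by rw [Fintype.card_fin]; omega) hr
    (by rw [Nat.card_eq_fintype_card (α := F)]; exact hcard)
  rintro _ ⟨u, hu, rfl⟩
  rw [MaxCl.act_apply, QuadraticMap.smul_apply, smul_eq_mul]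
  exact hP u hu

end Cfsg.Agent.S5702
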