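import Cfsg.Statements.S5704
import Cfsg.Agent.Lib.MaxCl.SympTensorCent
import Cfsg.Agent.Lib.MaxCl.OrthParabolic
import Cfsg.Agent.Lib.MaxCl.OrthTensor
import Cfsg.Agent.Lib.Forms.SympTwo
-- import your own Cfsg.Agent.* helpers here

set_option autoImplicit false
open Cfsg

namespace Cfsg.Agent.S5704

/-- Let F be a finite field with q elements, n ≥ 13 even, Q a non-degenerate quadratic form on F^n of plus type (some subspace of dimension n/2 is totally singular), and Ω the commutator subgroup of the isometry group of Q, viewed inside GL_n(F). Suppose that, through a change of basis P and a bijection of index sets e, the polar form of Q is similar to the tensor product of non-degenerate symplectic forms f₁ on F^(n₁) and f₂ on F^(n₂) with n₁ < n₂, and Q vanishes on the images of all pure tensors. Unless q = 2 and n₁ = 2, the elements of Ω in the stabiliser of this tensor decomposition form a maximal subgroup of Ω. -/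
theorem result {F : Type*} [Field F] [Fintype F] {n : ℕ} (hn : 13 ≤ n) (heven : Even n) (Q : (Fin n → F) → F) (hQ : Cfsg.Geo.IsNondegenerateQuadraticForm Q) (hplus : Cfsg.Geo.IsPlusTypeOn Q ⊤) (n₁ n₂ : ℕ) (h12 : n₁ < n₂) (hex : ¬ (Fintype.card F = 2 ∧ n₁ = 2)) (e : (Fin n) ≃ Fin n₁ × Fin n₂) (P : Matrix.GeneralLinearGroup (Fin n) F) (f₁ : (Fin n₁ → F) → (Fin n₁ → F) → F) (f₂ : (Fin n₂ → F) → (Fin n₂ → F) → F) (hf₁ : Cfsg.Geo.IsSymplecticForm f₁) (hf₂ : Cfsg.Geo.IsSymplecticForm f₂) (hT : Cfsg.Geo.IsTensorFormStructure id (QuadraticMap.polar Q) f₁ f₂ e P) (hpure : (∀ (x₁ : Fin n₁ → F) (x₂ : Fin n₂ → F), Q (Matrix.mulVec (P : Matrix (Fin n) (Fin n) F) ((fun a : Fin n₁ × Fin n₂ => x₁ a.1 * x₂ a.2) ∘ e)) = 0)) : Cfsg.Geo.IsMaximalIn (Cfsg.Geo.omegaGL Q) (Cfsg.Geo.tensorProductSubgroup n₁ n₂ e P ⊓ Cfsg.Geo.omegaGL Q) := by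
  classical
  obtain ⟨q, rfl, hQn⟩ := Cfsg.Agent.MaxCl.Orth.exists_form hQ
  obtain ⟨c, hc, hform⟩ := hT
  let T : Cfsg.Agent.MaxCl.Tens.TSys (Fin n) F n₁ n₂ := ⟨e, P⟩
  have hn12 : n = n₁ * n₂ := by simpa using Fintype.card_congr e
  have heven' : ∀ {m : ℕ} {h : (Fin m → F) → (Fin m → F) → F}, Cfsg.Geo.IsSymplecticForm h → Even m :=
    fun {m h} hh => by
      have := Cfsg.Agent.Forms.SympTwo.even_finrank_of_isAlt (β := Cfsg.Agent.MaxCl.toBil hh.bilinear)
        (fun x => hh.alternating x) (fun x hx => by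
          by_contra hx0
          obtain ⟨y, hy⟩ := (hh.nondegenerate x hx0).2
          exact hy (hx y))
      rwa [Module.finrank_fin_fun] at this
  obtain ⟨a, ha⟩ := heven' hf₁
  obtain ⟨b, hb⟩ := heven' hf₂
  have hn₁ : 2 ≤ n₁ := by
    by_contra h
    have : n₁ = 0 := by omega
    rw [this, zero_mul] at hn12; omega
  have hn₂ : 6 ≤ n₂ := by
    by_contra h
    have h1 : n₁ ≤ 2 := by omega
    have := Nat.mul_le_mul h1 (show n₂ ≤ 4 by omega)
    omega
  have hpt : ∀ u v u' v', QuadraticMap.polar (⇑q) (Cfsg.Agent.MaxCl.Tens.pt T u v)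
      (Cfsg.Agent.MaxCl.Tens.pt T u' v') = c * (f₁ u u' * f₂ v v') := by
    intro u v u' v'
    refine (hform (fun p => u p.1 * v p.2) (fun p => u' p.1 * v' p.2)).trans ?_
    congr 1
    exact Cfsg.Agent.MaxCl.Orth.formOfGram_pure2 hf₁.bilinear hf₂.bilinear u u' v v'
  have mkC : ∀ M : Subgroup (Matrix.GeneralLinearGroup (Fin n) F), M ≤ Cfsg.Geo.omegaGL ⇑q →
      Cfsg.Geo.tensorProductSubgroup n₁ n₂ e P ⊓ Cfsg.Geo.omegaGL ⇑q ≤ M →
      Cfsg.Agent.MaxCl.TensSp.SCtx T q f₁ f₂ c M := fun M hle hge =>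
    { hQ := hQn, five := by simp; omega, h₁ := hf₁, h₂ := hf₂, c_ne := hc, sing := hpure, form := hpt
      two_le := hn₁, four_le := fun _ => by omega, lt := h12, six := hn₂
      hex := fun ⟨h2, h01⟩ => hex ⟨by
        refine le_antisymm ?_ Fintype.one_lt_card
        have h : (Finset.univ : Finset F) ⊆ {0, 1} := fun x _ => by
          rcases h01 x with rfl | rfl <;> simp
        exact (Finset.card_le_card h).trans Finset.card_le_two, h2⟩
      le := hle
      ge := fun a b hab => hge ⟨Cfsg.Agent.MaxCl.Tens.gl_mem T a b, hab⟩ }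
  have C₀ := mkC _ le_rfl inf_le_right
  refine ⟨lt_of_le_not_ge inf_le_right fun h =>
    Cfsg.Agent.MaxCl.TensSp.not_le_tensor C₀ (h.trans inf_le_left), fun M hge hle => ?_⟩
  rcases Cfsg.Agent.MaxCl.TensSp.eq_or_le_tensor (mkC M hle hge) with h | h
  · exact Or.inr h
  · exact Or.inl (le_antisymm (le_inf h hle) hge)

end Cfsg.Agent.S5704
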