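import Cfsg.Statements.S5706
import Cfsg.Agent.Lib.MaxCl.PowerTransport
import Cfsg.Agent.Lib.MaxCl.PowerRig

set_option autoImplicit false
open Cfsg
open scoped Matrix

namespace Cfsg.Agent.S5706

/-- Let F be a finite field with q elements, n ≥ 13 even, Q a non-degenerate quadratic form on F^n of plus type (some subspace of dimension n/2 is totally singular), and Ω the commutator subgroup of the isometry group of Q, viewed inside GL_n(F). Suppose that, through a change of basis P and a bijection of index sets e, the polar form of Q is similar to the t-fold tensor power (t ≥ 2) of a non-degenerate symplectic form f₁ on F^k, that Q vanishes on the images of all pure tensors, that t is even if q is odd, that (q, k) is neither (2, 2) nor (3, 2), and that k ≥ 6 if q is even. Then the elements of Ω in the stabiliser of this decomposition form a maximal subgroup of Ω. -/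
theorem result {F : Type*} [Field F] [Fintype F] {n : ℕ} (hn : 13 ≤ n) (heven : Even n) (Q : (Fin n → F) → F) (hQ : Cfsg.Geo.IsNondegenerateQuadraticForm Q) (hplus : Cfsg.Geo.IsPlusTypeOn Q ⊤) (k t : ℕ) (ht : 2 ≤ t) (hqt : Odd (Fintype.card F) → Even t) (hex1 : ¬ (Fintype.card F = 2 ∧ k = 2)) (hex2 : ¬ (Fintype.card F = 3 ∧ k = 2)) (hex3 : ¬ Odd (Fintype.card F) → 6 ≤ k) (e : (Fin n) ≃ (Fin t → Fin k)) (P : Matrix.GeneralLinearGroup (Fin n) F) (f₁ : (Fin k → F) → (Fin k → F) → F) (hf₁ : Cfsg.Geo.IsSymplecticForm f₁) (hT : Cfsg.Geo.IsTensorPowerFormStructure id (QuadraticMap.polar Q) f₁ e P) (hpure : (∀ xs : Fin t → (Fin k → F), Q (Matrix.mulVec (P : Matrix (Fin n) (Fin n) F) ((fun a : Fin t → Fin k => ∏ i, xs i (a i)) ∘ e)) = 0)) : Cfsg.Geo.IsMaximalIn (Cfsg.Geo.omegaGL Q) (Cfsg.Geo.tensorWreathSubgroup k t e P ⊓ Cfsg.Geo.omegaGL Q) := by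
  classical
  obtain ⟨Qf, rfl, hnd⟩ := MaxCl.Orth.exists_form hQ
  obtain ⟨c, hc, hform⟩ := MaxCl.Pow.power_form e P hT
  set G := Cfsg.Geo.gramMatrix f₁ with hGdef
  have hG : MaxCl.Pow.Alt G := MaxCl.Pow.gram_alt hf₁
  let L := MaxCl.Pow.coordLin e P
  let Q' : QuadraticForm F ((Fin t → Fin k) → F) := c⁻¹ • Qf.comp L
  have hQ' : ∀ x, Q' x = c⁻¹ * Qf (L x) := fun x => rfl
  have hB : ∀ x y, QuadraticMap.polar Q' x y = MaxCl.Pow.fm (MaxCl.Pow.GG G (Fin t)) x y := fun x y => by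
    have h := hform x y
    simp only [QuadraticMap.polar, hQ', map_add] at h ⊢
    rw [← mul_sub, ← mul_sub, h, inv_mul_cancel_left₀ hc]
  have hp : ∀ x, Q' (MaxCl.Pow.pv x) = 0 := fun x => by
    rw [hQ']
    exact mul_eq_zero_of_right _ (hpure x)
  let E := Cfsg.Agent.Aschbacher.coordGL e P
  have hiso : ∀ g, E g ∈ isometryGroup F (⇑Qf) ↔ g ∈ isometryGroup F (⇑Q') := by
    intro g
    rw [MaxCl.Orth.mem_iso, MaxCl.Orth.mem_iso]
    constructor
    · intro h x
      have h1 := h (L x)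
      rw [MaxCl.act_apply, MaxCl.Pow.coordLin_act] at h1
      rw [hQ', hQ', MaxCl.act_apply, h1]
    · intro h x
      obtain ⟨x, rfl⟩ := MaxCl.Pow.coordLin_surjective e P x
      have h1 := h x
      rw [hQ', hQ', MaxCl.act_apply] at h1
      rw [MaxCl.act_apply, MaxCl.Pow.coordLin_act]
      exact mul_left_cancel₀ (inv_ne_zero hc) h1
  have hmap : (Cfsg.Geo.omegaGL ⇑Q').map E.toMonoidHom = Cfsg.Geo.omegaGL ⇑Qf := by
    rw [MaxCl.Pow.omegaGL_eq_commutator, MaxCl.Pow.omegaGL_eq_commutator, Subgroup.map_commutator]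
    have he : (isometryGroup F (⇑Q')).map E.toMonoidHom = isometryGroup F (⇑Qf) := by
      ext x
      obtain ⟨g, rfl⟩ := E.surjective x
      rw [Subgroup.mem_map_equiv, MulEquiv.symm_apply_apply, hiso]
    rw [he]
  have hom : ∀ g, E g ∈ Cfsg.Geo.omegaGL ⇑Qf ↔ g ∈ Cfsg.Geo.omegaGL ⇑Q' := fun g => by
    rw [← hmap, Subgroup.mem_map_equiv, MulEquiv.symm_apply_apply]
  have hcard : 13 ≤ Fintype.card (Fin k) ^ Fintype.card (Fin t) := by
    have := Fintype.card_congr e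
    rw [Fintype.card_fun, Fintype.card_fin] at this
    rwa [← this]
  have hk0 : 0 < k := by
    rcases Nat.eq_zero_or_pos k with rfl | h
    · rw [Fintype.card_fin, Fintype.card_fin, zero_pow (by omega)] at hcard; omega
    · exact h
  haveI : Nonempty (Fin k) := ⟨⟨0, hk0⟩⟩
  haveI : Nonempty (Fin t) := ⟨⟨0, by omega⟩⟩
  have h1F : 1 < Fintype.card F := Fintype.one_lt_card
  have hpar : ((2 : F) = 0 ∧ ¬ Odd (Fintype.card F)) ∨ ((2 : F) ≠ 0 ∧ Odd (Fintype.card F)) := by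
    by_cases h2 : (2 : F) = 0
    · haveI : CharP F 2 := CharTwo.of_one_ne_zero_of_two_eq_zero one_ne_zero h2
      exact Or.inl ⟨h2, Nat.not_odd_iff_even.2 (even_iff_two_dvd.2
        ((prime_dvd_char_iff_dvd_card 2).1 (by rw [ringChar.eq F 2])))⟩
    · exact Or.inr ⟨h2, Nat.odd_iff.2 (FiniteField.odd_card_of_char_ne_two fun h => h2 (by
        haveI := ringChar.of_eq h
        exact CharTwo.two_eq_zero))⟩
  obtain ⟨f, hf⟩ := MaxCl.Pow.exists_partner hG (a := fun _ => 1)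
    (Function.ne_iff.2 ⟨⟨0, hk0⟩, one_ne_zero⟩)
  have hk2 := MaxCl.Pow.two_le_card hG hf
  rw [Fintype.card_fin] at hk2
  have hk : ((2 : F) ≠ 0 ∧ Even t ∧ (4 ≤ k ∨ (k = 2 ∧ 5 ≤ Fintype.card F))) ∨ ((2 : F) = 0 ∧ 6 ≤ k) := by
    rcases hpar with ⟨h2, hev⟩ | ⟨h2, hodd⟩
    · exact Or.inr ⟨h2, hex3 hev⟩
    · refine Or.inl ⟨h2, hqt hodd, ?_⟩
      have h3 := MaxCl.Pow.card_ne_three hG h2
      rw [Fintype.card_fin] at h3
      rcases eq_or_ne k 2 with rfl | hne
      · obtain ⟨r, hr⟩ := hodd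
        have : Fintype.card F ≠ 3 := fun h => hex2 ⟨h, rfl⟩
        exact Or.inr ⟨rfl, by omega⟩
      · exact Or.inl (by omega)
  have hcase : ((2 : F) ≠ 0 ∧ Even (Fintype.card (Fin t))) ∨ ((2 : F) = 0 ∧ 6 ≤ Fintype.card (Fin k)) := by
    rw [Fintype.card_fin, Fintype.card_fin]
    exact hk.imp (fun h => ⟨h.1, h.2.1⟩) id
  have hgen : (3 ≤ Fintype.card (Fin k) ∧ ((2 : F) ≠ 0 ∨ 5 ≤ Fintype.card (Fin k))) ∨
      ∃ l : F, l ≠ 0 ∧ l * l ≠ 1 := by
    rw [Fintype.card_fin]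
    rcases hk with ⟨h2, -, h4 | ⟨-, h5⟩⟩ | ⟨-, h6⟩
    · exact Or.inl ⟨by omega, Or.inl h2⟩
    · right
      by_contra! hc'
      have hsub : (Finset.univ : Finset F) ⊆ {0, 1, -1} := fun l _ => by
        by_cases hl : l = 0
        · simp [hl]
        · rcases mul_self_eq_one_iff.1 (hc' l hl) with h | h <;> simp [h]
      have := (Finset.card_le_card hsub).trans Finset.card_le_three
      rw [Finset.card_univ] at this
      omega
    · exact Or.inl ⟨by omega, Or.inr (by omega)⟩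
  refine ⟨lt_of_le_of_ne inf_le_right fun heq => ?_, fun M hHM hMS => ?_⟩
  · obtain ⟨g, hg, hgW⟩ := MaxCl.Pow.exists_not_wr_omega hG hB hp hcard (by rw [Fintype.card_fin]; omega)
    exact hgW ((MaxCl.Pow.wreath_iff e P g).1 (inf_eq_right.1 heq ((hom g).2 hg)))
  · have hWr : ∀ {N : Subgroup (Matrix.GeneralLinearGroup (Fin t → Fin k) F)}, MaxCl.Pow.Over G N →
        N ≤ MaxCl.Pow.Wr F (Fin t) (Fin k) := fun {N} hN => MaxCl.Pow.le_Wr hG
      (hk.imp (fun h => h.1) fun h => by rw [Fintype.card_fin]; omega)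
      (by
        rw [Fintype.card_fin, Nat.card_eq_fintype_card]
        rcases hk with ⟨-, -, h⟩ | ⟨-, h⟩
        · exact h
        · exact Or.inl (by omega)) hN
    rcases MaxCl.Pow.omega_cases (M := M.comap E.toMonoidHom) hG hB hp hcard hcase hgen hWr
      (fun g hg => (hom g).1 (hMS hg))
      (fun g hg => hHM ⟨(MaxCl.Pow.wreath_iff e P g).2 hg.1, (hom g).2 hg.2⟩) with h | h
    · refine Or.inl (le_antisymm (fun x hx => ⟨?_, hMS hx⟩) hHM)
      obtain ⟨g, rfl⟩ := E.surjective x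
      exact (MaxCl.Pow.wreath_iff e P g).2 (h hx)
    · refine Or.inr (le_antisymm hMS fun x hx => ?_)
      obtain ⟨g, rfl⟩ := E.surjective x
      exact h ((hom g).1 hx)

end Cfsg.Agent.S5706
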