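import Cfsg.Statements.S5707
import Cfsg.Agent.Lib.MaxCl.OrthSpinCases

set_option autoImplicit false
open Cfsg
open scoped Matrix

namespace Cfsg.Agent.S5707

/-- Let F be a finite field with q elements, n ≥ 13 even, Q a non-degenerate quadratic form on F^n of plus type (some subspace of dimension n/2 is totally singular), and Ω the commutator subgroup of the isometry group of Q, viewed inside GL_n(F). Suppose q is even and that, through P and e, the polar form of Q is similar to the t-fold tensor power (t ≥ 2) of a non-degenerate symplectic form f₁ on F^k with k ≤ 4 and (q, k) ≠ (2, 2), Q vanishing on the images of all pure tensors. Then the elements of Ω in the stabiliser of this decomposition form a subgroup that is not maximal: some subgroup lies strictly between it and Ω. -/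
theorem result {F : Type*} [Field F] [Fintype F] {n : ℕ} (hn : 13 ≤ n) (heven : Even n) (Q : (Fin n → F) → F) (hQ : Cfsg.Geo.IsNondegenerateQuadraticForm Q) (hplus : Cfsg.Geo.IsPlusTypeOn Q ⊤) (hchar : ¬ Odd (Fintype.card F)) (k t : ℕ) (ht : 2 ≤ t) (hk : k ≤ 4) (hex1 : ¬ (Fintype.card F = 2 ∧ k = 2)) (e : (Fin n) ≃ (Fin t → Fin k)) (P : Matrix.GeneralLinearGroup (Fin n) F) (f₁ : (Fin k → F) → (Fin k → F) → F) (hf₁ : Cfsg.Geo.IsSymplecticForm f₁) (hT : Cfsg.Geo.IsTensorPowerFormStructure id (QuadraticMap.polar Q) f₁ e P) (hpure : (∀ xs : Fin t → (Fin k → F), Q (Matrix.mulVec (P : Matrix (Fin n) (Fin n) F) ((fun a : Fin t → Fin k => ∏ i, xs i (a i)) ∘ e)) = 0)) : ∃ K : Subgroup (Matrix.GeneralLinearGroup (Fin n) F), Cfsg.Geo.tensorWreathSubgroup k t e P ⊓ Cfsg.Geo.omegaGL Q < K ∧ K < Cfsg.Geo.omegaGL Q := by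
  have h2 : (2 : F) = 0 := by
    obtain ⟨p, hp⟩ := CharP.exists F
    obtain ⟨⟨a, ha⟩, hp', hcard⟩ := FiniteField.card F p
    have : p = 2 := by
      by_contra hne
      exact hchar (hcard ▸ ((hp'.eq_two_or_odd').resolve_left hne).pow)
    subst this
    exact CharTwo.two_eq_zero
  obtain ⟨Qf, rfl, hnd⟩ := MaxCl.Orth.exists_form hQ
  set G := Cfsg.Geo.gramMatrix f₁ with hG
  have gen : ∀ x y : Fin k → F, f₁ x y = x ⬝ᵥ (G *ᵥ y) := by
    intro x y
    let L : (Fin k → F) →ₗ[F] (Fin k → F) →ₗ[F] F :=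
      LinearMap.mk₂ F f₁ hf₁.bilinear.add_left (fun c a b => by rw [hf₁.bilinear.smul_left, smul_eq_mul])
        hf₁.bilinear.add_right (fun c a b => by rw [hf₁.bilinear.smul_right, smul_eq_mul])
    show L x y = _
    conv_lhs => rw [pi_eq_sum_univ' x, pi_eq_sum_univ' y]
    simp only [map_sum, map_smul, LinearMap.sum_apply, LinearMap.smul_apply, smul_eq_mul, dotProduct,
      Matrix.mulVec, Finset.mul_sum]
    rw [Finset.sum_comm]
    refine Finset.sum_congr rfl fun i _ => Finset.sum_congr rfl fun j _ => ?_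
    show y j * (x i * f₁ _ _) = x i * (f₁ _ _ * y j)
    ring
  have halt : MaxCl.Spin.Alt G := fun v => by rw [← gen]; exact hf₁.alternating v
  have hGs : Gᵀ = G := Matrix.ext fun a b => by
    show f₁ _ _ = f₁ _ _
    rw [hf₁.skew]
    linear_combination -f₁ (Pi.single a 1) (Pi.single b 1) * h2
  have hker : ∀ v : Fin k → F, G *ᵥ v = 0 → v = 0 := fun v hv => by
    by_contra hne
    obtain ⟨y, hy⟩ := (hf₁.nondegenerate v hne).1
    apply hy
    first
    | (rw [gen, hv, dotProduct_zero]; done)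
    | (rw [hf₁.skew, gen, hv, dotProduct_zero, neg_zero]; done)
  have hdet : IsUnit G.det := isUnit_iff_ne_zero.2 fun h0 => by
    obtain ⟨v, hv0, hv⟩ := Matrix.exists_mulVec_eq_zero_iff.2 h0
    exact hv0 (hker v hv)
  obtain ⟨c₀, hc₀, hT⟩ := hT
  have hT' : ∀ x y : (Fin t → Fin k) → F, QuadraticMap.polar (⇑Qf) ((P : Matrix (Fin n) (Fin n) F) *ᵥ (x ∘ e))
      ((P : Matrix (Fin n) (Fin n) F) *ᵥ (y ∘ e)) =
        c₀ * (x ⬝ᵥ (Aschbacher.pureMat (fun _ : Fin t => G) *ᵥ y)) := fun x y => by
    rw [hT]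
    simp only [dotProduct, Matrix.mulVec, Finset.mul_sum, Aschbacher.pureMat_apply, id]
    refine Finset.sum_congr rfl fun a _ => Finset.sum_congr rfl fun b _ => ?_
    ring
  have hn' : n = k ^ t := by
    have := Fintype.card_congr e
    simpa using this
  interval_cases k
  · rw [zero_pow (by omega)] at hn'; omega
  · rw [one_pow] at hn'; omega
  · refine MaxCl.Spin.between_two h2 hnd ?_ e P halt hGs hdet hc₀ hT' hpure
    by_contra hlt
    have : 2 ^ t ≤ 2 ^ 3 := Nat.pow_le_pow_right (by omega) (by omega)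
    omega
  · exfalso
    have d0 := halt.diag 0
    have d1 := halt.diag 1
    have d2 := halt.diag 2
    have s01 : G 1 0 = G 0 1 := congrFun (congrFun hGs 0) 1
    have s02 : G 2 0 = G 0 2 := congrFun (congrFun hGs 0) 2
    have s12 : G 2 1 = G 1 2 := congrFun (congrFun hGs 1) 2
    refine hdet.ne_zero ?_
    rw [Matrix.det_fin_three, d0, d1, d2, s01, s02, s12]
    linear_combination (G 0 1 * G 1 2 * G 0 2) * h2
  · exact MaxCl.Spin.between_four h2 hnd ht e P halt hGs hdet hc₀ hT' hpure

end Cfsg.Agent.S5707
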