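import Cfsg.Statements.S5709
import Cfsg.Agent.Lib.MaxCl.OrthTensorMinus
import Cfsg.Agent.Lib.MaxCl.OrthParabolic

set_option autoImplicit false
open Cfsg

namespace Cfsg.Agent.S5709

/-- Let F be a finite field with q elements, n ≥ 13 even, Q a non-degenerate quadratic form on F^n of minus type (no subspace of dimension n/2 is totally singular), and Ω the commutator subgroup of the isometry group of Q, viewed inside GL_n(F). Suppose q is odd and that, through a change of basis P and a bijection of index sets e, the polar form of Q is similar to the tensor product of non-degenerate symmetric bilinear forms f₁ on F^(n₁), n₁ odd and at least 3, and f₂ on F^(n₂), n₂ even and at least 4 with no totally isotropic subspace of dimension n₂/2 (minus type). Unless q = 3 and n₁ = 3, the elements of Ω in the stabiliser of this tensor decomposition form a maximal subgroup of Ω. -/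
theorem result {F : Type*} [Field F] [Fintype F] {n : ℕ} (hn : 13 ≤ n) (heven : Even n) (Q : (Fin n → F) → F) (hQ : Cfsg.Geo.IsNondegenerateQuadraticForm Q) (hminus : ¬ Cfsg.Geo.IsPlusTypeOn Q ⊤) (hodd : Odd (Fintype.card F)) (n₁ n₂ : ℕ) (h1 : 3 ≤ n₁) (h1o : Odd n₁) (h2 : 4 ≤ n₂) (h2e : Even n₂) (hex : ¬ (Fintype.card F = 3 ∧ n₁ = 3)) (e : (Fin n) ≃ Fin n₁ × Fin n₂) (P : Matrix.GeneralLinearGroup (Fin n) F) (f₁ : (Fin n₁ → F) → (Fin n₁ → F) → F) (f₂ : (Fin n₂ → F) → (Fin n₂ → F) → F) (hf₁ : Cfsg.Geo.IsSymmetricForm f₁) (hf₂ : Cfsg.Geo.IsSymmetricForm f₂) (hf₂m : ¬ Cfsg.Geo.IsPlusTypeOn (fun v : Fin n₂ → F => f₂ v v) ⊤) (hT : Cfsg.Geo.IsTensorFormStructure id (QuadraticMap.polar Q) f₁ f₂ e P) : Cfsg.Geo.IsMaximalIn (Cfsg.Geo.omegaGL Q) (Cfsg.Geo.tensorProductSubgroup n₁ n₂ e P ⊓ Cfsg.Geo.omegaGL Q) := by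
  obtain ⟨q, rfl, hnd⟩ := MaxCl.Orth.exists_form hQ
  have two : (2 : F) ≠ 0 := Ring.two_ne_zero fun hc => by
    obtain ⟨k, hk⟩ := hodd
    have := FiniteField.even_card_iff_char_two.1 hc
    omega
  obtain ⟨q₁, q₂, h₁, h₂, hq₂, form⟩ :=
    MaxCl.OTens.exists_factor_forms two (⟨e, P⟩ : MaxCl.Tens.TSys _ F n₁ n₂) hf₁ hf₂ hT
  have hcard : 13 ≤ n₁ * n₂ := by
    have := Fintype.card_congr e
    rw [Fintype.card_prod, Fintype.card_fin, Fintype.card_fin, Fintype.card_fin] at this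
    omega
  refine MaxCl.OTens.isMaximalIn_minus (T := ⟨e, P⟩) two hnd h₁ h₂ form h1 h2 h1o h2e hcard ?_ hex
  intro h4 a b ha hb hab ha0
  by_contra hb'
  refine hf₂m ⟨Submodule.span F (Set.range ![a, b]), le_top, fun w hw => ?_, ?_⟩
  · obtain ⟨i, j, rfl⟩ := MaxCl.Orth.mem_span_pair_iff_range.1 hw
    have h0 := hq₂ (i • a + j • b)
    rw [MaxCl.Orth.Q_add q₂, MaxCl.Orth.Q_smul q₂, MaxCl.Orth.Q_smul q₂, MaxCl.Orth.B_smul_left q₂,
      MaxCl.Orth.B_smul_right q₂, ha, hb, hab, mul_zero, mul_zero, mul_zero, mul_zero, add_zero, zero_add,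
      eq_comm, mul_eq_zero] at h0
    exact h0.resolve_left (inv_ne_zero two)
  · have hli : LinearIndependent F ![a, b] := (LinearIndependent.pair_iff' ha0).2 fun k hk =>
      hb' (Submodule.mem_span_singleton.2 ⟨k, hk⟩)
    rw [finrank_span_eq_card hli, finrank_top, Module.finrank_fin_fun, Fintype.card_fin, h4]

end Cfsg.Agent.S5709
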