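import Cfsg.Statements.S5713
import Cfsg.Agent.Lib.Perm.Distinguishing
import Cfsg.Agent.S3681
-- import your own Cfsg.Agent.* helpers here

set_option autoImplicit false
open Cfsg

namespace Cfsg.Agent.S5713

/-- A classification-free minimal-degree bound. Let G be a finite group acting faithfully and primitively on a finite set Ω with n elements, and suppose that the image of G in the symmetric group on Ω does not contain the alternating group on Ω. Then every non-identity element of G moves at least (√n − 1)/2 points of Ω, that is, it fixes at most n − (√n − 1)/2 points. -/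
theorem result {G Ω : Type*} [Group G] [Finite G] [MulAction G Ω] [FaithfulSMul G Ω] [Fintype Ω] [DecidableEq Ω]
    (hprim : MulAction.IsPreprimitive G Ω)
    (hA : ¬ alternatingGroup Ω ≤ (MulAction.toPermHom G Ω).range)
    (g : G) (hg : g ≠ 1) :
    (Real.sqrt (Fintype.card Ω) - 1) / 2 ≤ (Fintype.card Ω : ℝ) - Nat.card (MulAction.fixedBy Ω g) := by
  classical
  set n := Fintype.card Ω with hn
  set S := Finset.univ.filter fun z : Ω => g • z ≠ z with hS
  set m := S.card with hm
  have hfix : (n : ℝ) - Nat.card (MulAction.fixedBy Ω g) = m := by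
    have h := Finset.card_filter_add_card_filter_not (s := (Finset.univ : Finset Ω))
      (fun z => g • z = z)
    rw [Finset.card_univ, ← hn] at h
    have h' : Nat.card (MulAction.fixedBy Ω g) =
        (Finset.univ.filter fun z : Ω => g • z = z).card := by
      rw [Nat.card_eq_fintype_card, ← Fintype.card_subtype]
      rfl
    have h2 : ((n : ℕ) : ℝ) = (Nat.card (MulAction.fixedBy Ω g) : ℝ) + m := by
      rw [h', hm, hS]
      exact_mod_cast h.symm
    rw [h2]; ring
  rw [hfix]
  suffices key : n ≤ (2 * m + 1) ^ 2 by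
    have h1 : Real.sqrt n ≤ 2 * m + 1 := by
      rw [Real.sqrt_le_left (by positivity)]
      exact_mod_cast key
    linarith
  haveI := hprim
  obtain ⟨a, ha⟩ : ∃ a : Ω, g • a ≠ a := by
    by_contra h
    simp only [not_exists, not_not] at h
    exact hg (Cfsg.Agent.Perm.eq_one_of_forall_smul_eq h)
  by_cases h2 : ∀ z x y : Ω, x ≠ z → y ≠ z → Cfsg.Agent.Perm.SameFrom G z x y
  swap
  · exact Cfsg.Agent.Perm.card_le_of_distCount_le (Ne.symm ha)
      (by refine (Cfsg.Agent.Perm.distCount_le_moved g a).trans (le_of_eq ?_); rw [hm, hS]; congr 1; ext; simp) h2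
  -- doubly transitive case
  by_contra hlt
  haveI : Fintype G := Fintype.ofFinite G
  have haS : a ∈ S := by simp [hS, ha]
  set S' := S.erase a with hS'
  have hS'c : S'.card + 1 = m := by rw [hS', Finset.card_erase_of_mem haS]; have := Finset.card_pos.2 ⟨a, haS⟩; omega
  set H := Finset.univ.filter fun k : G => k • a = a with hH
  have hHpos : 0 < H.card := Finset.card_pos.2 ⟨1, by simp [hH]⟩
  -- the number of elements of `H` mapping `b` to `c`
  have hfib : ∀ b c : Ω, b ≠ a → c ≠ a →
      (n - 1) * (H.filter fun k => k • b = c).card = H.card := by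
    intro b c hb hc
    have hun : ∀ k ∈ H, k • b ∈ Finset.univ.erase a := by
      intro k hk
      simp only [hH, Finset.mem_filter, Finset.mem_univ, true_and] at hk
      simp only [Finset.mem_erase, Finset.mem_univ, and_true]
      exact fun e => hb (MulAction.injective k (e.trans hk.symm))
    rw [Finset.card_eq_sum_card_fiberwise hun, Finset.sum_congr rfl fun c' hc' => ?_,
      Finset.sum_const, smul_eq_mul, Finset.card_erase_of_mem (Finset.mem_univ a), Finset.card_univ]
    obtain ⟨k₀, hk0, hk1⟩ := h2 a c' c (Finset.mem_erase.1 hc').1 hc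
    refine Finset.card_equiv (Equiv.mulLeft k₀) fun k => ?_
    simp only [hH, Finset.mem_filter, Finset.mem_univ, true_and, Equiv.coe_mulLeft, mul_smul]
    constructor
    · rintro ⟨h, h'⟩; exact ⟨by rw [h, hk0], by rw [h', hk1]⟩
    · rintro ⟨h, h'⟩
      exact ⟨MulAction.injective k₀ (h.trans hk0.symm), MulAction.injective k₀ (h'.trans hk1.symm)⟩
  obtain ⟨k, hk, hkS⟩ : ∃ k ∈ H, ∀ b ∈ S', k • b ∉ S' := by
    by_contra hall
    simp only [not_exists, not_and, not_forall, not_not] at hall
    have h1 : H.card ≤ ∑ b ∈ S', ∑ c ∈ S', (H.filter fun k => k • b = c).card := by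
      have : H ⊆ S'.biUnion fun b => S'.biUnion fun c => H.filter fun k => k • b = c := by
        intro k hk
        obtain ⟨b, hb, hkb⟩ := hall k hk
        exact Finset.mem_biUnion.2 ⟨b, hb, Finset.mem_biUnion.2 ⟨_, hkb, Finset.mem_filter.2 ⟨hk, rfl⟩⟩⟩
      exact (Finset.card_le_card this).trans (Finset.card_biUnion_le.trans
        (Finset.sum_le_sum fun b _ => Finset.card_biUnion_le))
    have h2' : (n - 1) * (∑ b ∈ S', ∑ c ∈ S', (H.filter fun k => k • b = c).card) =
        S'.card * S'.card * H.card := by
      simp only [Finset.mul_sum]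
      rw [Finset.sum_congr rfl fun b hb => Finset.sum_congr rfl fun c hc =>
        hfib b c (Finset.mem_erase.1 hb).1 (Finset.mem_erase.1 hc).1]
      simp [mul_assoc, hS']
    have h3 := Nat.mul_le_mul_left (n - 1) h1
    rw [h2'] at h3
    have h4 := Nat.le_of_mul_le_mul_right h3 hHpos
    have : (2 * m + 1) ^ 2 < n := not_le.1 hlt
    have : n - 1 + 1 = n := by omega
    nlinarith
  have hka : k • a = a := by simpa [hH] using hk
  let P : Subgroup (Equiv.Perm Ω) := (MulAction.toPermHom G Ω).range
  have hthree : (MulAction.toPermHom G Ω g * MulAction.toPermHom G Ω (k * g * k⁻¹) *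
      (MulAction.toPermHom G Ω g)⁻¹ * (MulAction.toPermHom G Ω (k * g * k⁻¹))⁻¹).IsThreeCycle := by
    refine Cfsg.Agent.S3681.commutator_isThreeCycle _ _ a ha ?_ fun t ht => ?_
    · show (k * g * k⁻¹) • a ≠ a
      rw [mul_smul, mul_smul, inv_smul_eq_iff.2 hka.symm]
      intro e
      exact ha (MulAction.injective k (e.trans hka.symm))
    · by_cases htg : g • t = t
      · exact Or.inl htg
      right
      show (k * g * k⁻¹) • t = t
      rw [mul_smul, mul_smul, ← eq_inv_smul_iff]
      by_contra h
      have htS : t ∈ S' := by simp [hS', hS, ht, htg]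
      have hbS : k⁻¹ • t ∈ S' := by
        simp only [hS', hS, Finset.mem_erase, Finset.mem_filter, Finset.mem_univ, true_and]
        exact ⟨fun e => ht (by rw [← smul_inv_smul k t, e, hka]), h⟩
      exact hkS _ hbS (by rw [smul_inv_smul]; exact htS)
  refine hA (Equiv.Perm.alternatingGroup_le_of_isPreprimitive_of_isThreeCycle_mem (G := P) ?_
    hthree ?_)
  · let φ : G → P := fun x => ⟨MulAction.toPermHom G Ω x, x, rfl⟩
    let f : Ω →ₑ[φ] Ω := ⟨id, fun _ _ => rfl⟩
    exact MulAction.IsPreprimitive.of_surjective (f := f) Function.surjective_id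
  · exact mul_mem (mul_mem (mul_mem ⟨g, rfl⟩ ⟨_, rfl⟩) (inv_mem ⟨g, rfl⟩)) (inv_mem ⟨_, rfl⟩)

end Cfsg.Agent.S5713
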