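import Cfsg.Statements.S5722
import Cfsg.Agent.Lib.CompLen.Faithful
-- import your own Cfsg.Agent.* helpers here

set_option autoImplicit false
open Cfsg

namespace Cfsg.Agent.S5722

/-- If a finite group G acts faithfully on a finite set with n points and r orbits, then the composition length of G is at most 4(n − r)/3. Here the composition length is expressed through chains: the conclusion bounds the length l of every chain of subgroups 1 = H₀ < H₁ < ⋯ < H_l = G in which each term is normal in the next (the longest such chains are exactly the composition series). -/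
theorem result {G Ω : Type*} [Group G] [Finite G] [MulAction G Ω] [FaithfulSMul G Ω] [Fintype Ω]
    (l : ℕ) (H : Fin (l + 1) → Subgroup G) (h0 : H 0 = ⊥) (hl : H (Fin.last l) = ⊤)
    (hchain : ∀ i : Fin l, H i.castSucc < H i.succ ∧ ((H i.castSucc).subgroupOf (H i.succ)).Normal) :
    3 * l ≤ 4 * (Fintype.card Ω - Nat.card (Quotient (MulAction.orbitRel G Ω))) := by
  classical
  haveI : Finite Ω := inferInstance
  set H' : ℕ → Subgroup G := fun i => if h : i < l + 1 then H ⟨i, h⟩ else ⊤ with hH'
  have hcast : ∀ (i : ℕ) (hi : i < l), H' i = H (Fin.castSucc ⟨i, hi⟩) ∧ H' (i + 1) = H (Fin.succ ⟨i, hi⟩) :=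
    fun i hi => ⟨dif_pos (by omega), dif_pos (by omega)⟩
  have hser : Cfsg.Agent.CompLen.IsSeries H' l := by
    refine ⟨(dif_pos (Nat.lt_succ_self l)).trans hl, fun i hi => ?_, fun i hi x hx y hy => ?_⟩
    · rw [(hcast i hi).1, (hcast i hi).2]
      exact (hchain ⟨i, hi⟩).1.le
    · rw [(hcast i hi).1] at hy ⊢
      rw [(hcast i hi).2] at hx
      have hn := (hchain ⟨i, hi⟩).2
      have := hn.conj_mem (⟨y, (hchain ⟨i, hi⟩).1.le hy⟩ : H (Fin.succ ⟨i, hi⟩))
        (Subgroup.mem_subgroupOf.2 hy) ⟨x, hx⟩
      exact Subgroup.mem_subgroupOf.1 this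
  have hsteps : Cfsg.Agent.CompLen.steps H' l = l := by
    rw [Cfsg.Agent.CompLen.steps, Finset.filter_true_of_mem, Finset.card_range]
    intro i hi
    rw [(hcast i (Finset.mem_range.1 hi)).1, (hcast i (Finset.mem_range.1 hi)).2]
    exact (hchain ⟨i, Finset.mem_range.1 hi⟩).1.ne
  have := Cfsg.Agent.CompLen.lb_faithful (G := G) (α := Ω) H' l hser
  rw [hsteps, Nat.card_eq_fintype_card (α := Ω)] at this
  exact this

end Cfsg.Agent.S5722
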