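import Cfsg.Statements.S5726
import Cfsg.Agent.Lib.Perm.DerangeSylow
-- import your own Cfsg.Agent.* helpers here

set_option autoImplicit false
open Cfsg

namespace Cfsg.Agent.S5726

/-- If a finite group acts faithfully and transitively on a set with p^k elements, p a prime and k ≥ 1, then some element of order p fixes no point. -/
theorem result {G Ω : Type*} [Group G] [Finite G] [MulAction G Ω] [FaithfulSMul G Ω] [Fintype Ω] (htr : MulAction.IsPretransitive G Ω)
    (p k : ℕ) (hp : p.Prime) (hk : 1 ≤ k) (hΩ : Fintype.card Ω = p ^ k) :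
    ∃ g : G, orderOf g = p ∧ ∀ ω : Ω, g • ω ≠ ω := by
  classical
  haveI : Fact p.Prime := ⟨hp⟩
  let P : Sylow p G := default
  haveI : Nontrivial Ω := by
    rw [← Fintype.one_lt_card_iff_nontrivial, hΩ]
    exact Nat.one_lt_pow (by omega) hp.one_lt
  have htrP : MulAction.IsPretransitive P Ω := by
    obtain ⟨ω⟩ := (inferInstance : Nonempty Ω)
    rw [MulAction.isPretransitive_iff_orbit_eq_univ ω]
    apply Set.eq_of_subset_of_ncard_le (Set.subset_univ _) _ Set.finite_univ
    rw [Set.ncard_univ, Nat.card_eq_fintype_card, hΩ]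
    exact Nat.le_of_dvd (Set.ncard_pos (Set.toFinite _) |>.2 (MulAction.nonempty_orbit ω))
      (Cfsg.Agent.Perm.pow_dvd_card_sylowOrbit htr P k (by rw [Nat.card_eq_fintype_card, hΩ]) ω)
  obtain ⟨g, hg, hfix⟩ := Cfsg.Agent.Perm.exists_derangement_of_isPGroup P.isPGroup' htrP
  exact ⟨g, by rwa [Subgroup.orderOf_coe], hfix⟩

end Cfsg.Agent.S5726
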