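import Cfsg.Statements.S5727
import Cfsg.Agent.Lib.Perm.DerangeSylow
-- import your own Cfsg.Agent.* helpers here

set_option autoImplicit false
open Cfsg

namespace Cfsg.Agent.S5727

/-- If a finite group acts faithfully and transitively on a set with m·p elements, where p is a prime and 1 ≤ m ≤ p, then some element of order p fixes no point. -/
theorem result {G Ω : Type*} [Group G] [Finite G] [MulAction G Ω] [FaithfulSMul G Ω] [Fintype Ω] (htr : MulAction.IsPretransitive G Ω)
    (p m : ℕ) (hp : p.Prime) (hm : 1 ≤ m) (hmp : m ≤ p) (hΩ : Fintype.card Ω = m * p) :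
    ∃ g : G, orderOf g = p ∧ ∀ ω : Ω, g • ω ≠ ω := by
  classical
  haveI : Fact p.Prime := ⟨hp⟩
  let P : Sylow p G := default
  have hn : 1 < m * p := lt_of_lt_of_le hp.one_lt (Nat.le_mul_of_pos_left p hm)
  haveI : Nontrivial Ω := by rw [← Fintype.one_lt_card_iff_nontrivial, hΩ]; exact hn
  by_cases hcase : MulAction.IsPretransitive P Ω
  · obtain ⟨g, hg, hfix⟩ := Cfsg.Agent.Perm.exists_derangement_of_isPGroup P.isPGroup' hcase
    exact ⟨g, by rwa [Subgroup.orderOf_coe], hfix⟩
  have hdvd1 : ∀ ω : Ω, p ∣ Nat.card (MulAction.orbit P ω) := fun ω => by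
    have := Cfsg.Agent.Perm.pow_dvd_card_sylowOrbit htr P 1
      (by rw [pow_one, Nat.card_eq_fintype_card, hΩ]; exact dvd_mul_left p m) ω
    rwa [pow_one] at this
  have hlt : ∀ ω : Ω, Nat.card (MulAction.orbit P ω) < m * p := by
    intro ω
    by_contra hle
    apply hcase
    rw [MulAction.isPretransitive_iff_orbit_eq_univ ω]
    apply Set.eq_of_subset_of_ncard_le (Set.subset_univ _) _ Set.finite_univ
    rw [Set.ncard_univ, Nat.card_eq_fintype_card, hΩ]
    exact not_lt.1 hle
  have hp2 : ∀ ω : Ω, Nat.card (MulAction.orbit P ω) = p := by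
    intro ω
    obtain ⟨j, hj⟩ := P.isPGroup'.card_orbit ω
    have h1 := hdvd1 ω
    have h2 := hlt ω
    rw [hj] at h1 h2 ⊢
    rcases j with _ | _ | j
    · simp only [pow_zero, Nat.dvd_one] at h1; exact absurd h1 hp.ne_one
    · simp
    · exfalso
      have : p ^ 2 ≤ p ^ (j + 1 + 1) := Nat.pow_le_pow_right hp.pos (by omega)
      have : m * p ≤ p * p := Nat.mul_le_mul_right p hmp
      rw [sq] at *
      omega
  have hm' : m < p := by
    rcases eq_or_lt_of_le hmp with h | h
    · obtain ⟨ω⟩ := (inferInstance : Nonempty Ω)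
      have h2 := Cfsg.Agent.Perm.pow_dvd_card_sylowOrbit htr P 2
        (by rw [Nat.card_eq_fintype_card, hΩ, h, sq]) ω
      rw [hp2 ω] at h2
      have := Nat.le_of_dvd hp.pos h2
      have := hp.one_lt
      nlinarith
    · exact h
  have hnorm : ∀ ω : Ω, (MulAction.stabilizer P ω).Normal := by
    intro ω
    apply Subgroup.normal_of_index_eq_minFac_card
    rw [MulAction.index_stabilizer, ← Nat.card_coe_set_eq, hp2 ω]
    obtain ⟨a, ha⟩ := IsPGroup.iff_card.1 P.isPGroup'
    have ha0 : a ≠ 0 := by
      rintro rfl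
      have h1 := Subgroup.index_dvd_card (MulAction.stabilizer P ω)
      rw [MulAction.index_stabilizer, ← Nat.card_coe_set_eq] at h1
      have := (hdvd1 ω).trans h1
      rw [pow_zero] at ha
      exact hp.ne_one (Nat.dvd_one.1 (ha ▸ this))
    rw [ha, Nat.pow_minFac ha0, hp.minFac_eq]
  -- some element has no fixed point
  haveI := Fintype.ofFinite P
  obtain ⟨g, hg⟩ : ∃ g : P, ∀ ω : Ω, g • ω ≠ ω := by
    by_contra hcon
    simp only [ne_eq, not_exists, not_forall, not_not] at hcon
    have hge : ∀ g : P, p ≤ Fintype.card (MulAction.fixedBy Ω g) := by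
      intro g
      obtain ⟨ω, hω⟩ := hcon g
      refine le_of_eq_of_le (hp2 ω).symm ?_
      rw [← Nat.card_eq_fintype_card]
      refine Nat.card_mono (Set.toFinite _) ?_
      rintro x ⟨k, rfl⟩
      have hk : k⁻¹ * g * k ∈ MulAction.stabilizer P ω := by
        have := (hnorm ω).conj_mem g hω k⁻¹
        rwa [inv_inv] at this
      rw [MulAction.mem_stabilizer_iff, ← smul_smul, ← smul_smul, inv_smul_eq_iff] at hk
      exact hk
    have hB := MulAction.sum_card_fixedBy_eq_card_orbits_mul_card_group P Ω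
    have hq : Fintype.card (Quotient (MulAction.orbitRel P Ω)) * p = m * p := by
      rw [← hΩ, Fintype.card_congr (MulAction.selfEquivSigmaOrbits P Ω), Fintype.card_sigma]
      have : ∀ q : MulAction.orbitRel.Quotient P Ω,
          Fintype.card (MulAction.orbit P q.out) = p := fun q => by
        rw [← Nat.card_eq_fintype_card]; exact hp2 _
      rw [Finset.sum_congr rfl fun q _ => this q]
      simp
    rw [Nat.eq_of_mul_eq_mul_right hp.pos hq] at hB
    have : Fintype.card P * p ≤ m * Fintype.card P := by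
      rw [← hB]
      calc Fintype.card P * p = ∑ _g : P, p := by simp
        _ ≤ _ := Finset.sum_le_sum fun g _ => hge g
    have hpos : 0 < Fintype.card P := Fintype.card_pos
    nlinarith
  refine ⟨g, ?_, hg⟩
  rw [Subgroup.orderOf_coe]
  refine orderOf_eq_prime ?_ fun h => ?_
  · apply FaithfulSMul.eq_of_smul_eq_smul (α := Ω)
    intro ω
    rw [one_smul]
    haveI := hnorm ω
    have := Subgroup.pow_index_mem (MulAction.stabilizer P ω) g
    rwa [MulAction.index_stabilizer, ← Nat.card_coe_set_eq, hp2 ω] at this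
  · obtain ⟨ω⟩ := (inferInstance : Nonempty Ω)
    exact hg ω (by rw [h, one_smul])

end Cfsg.Agent.S5727
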