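import Cfsg.Statements.S5728
-- import your own Cfsg.Agent.* helpers here

set_option autoImplicit false
open Cfsg

namespace Cfsg.Agent.S5728

/-- An elusive transitive action. Let p = 2^s − 1 be a prime and let F be the field with p² elements. Inside the group of affine maps x ↦ a·x + b of F (a ≠ 0), consider the subgroup of maps with both coefficients in the prime field. Then every element of prime order of the affine group is conjugate, within the affine group, to an element of that subgroup; equivalently, in the transitive action of the affine group on the cosets of that subgroup (of degree p(p + 1)) every element of prime order fixes a point. -/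
theorem result (p s : ℕ) [Fact p.Prime] (hs : p = 2 ^ s - 1)
    (g : Equiv.Perm (GaloisField p 2)) (hg : g ∈ Cfsg.affineGroup (GaloisField p 2)) (hord : (orderOf g).Prime) :
    ∃ x ∈ Cfsg.affineGroup (GaloisField p 2), ∃ a b : ZMod p, a ≠ 0 ∧
      ∀ y : GaloisField p 2, (x * g * x⁻¹) y = algebraMap (ZMod p) (GaloisField p 2) a * y + algebraMap (ZMod p) (GaloisField p 2) b := by
  classical
  obtain ⟨a, b, hab⟩ := hg
  haveI : Fintype (GaloisField p 2) := Fintype.ofFinite _
  have hp : p.Prime := Fact.out
  have hgne : g ≠ 1 := fun h => by rw [h, orderOf_one] at hord; exact Nat.not_prime_one hord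
  by_cases ha : (a : GaloisField p 2) = 1
  · have hb : b ≠ 0 := fun hb => hgne (Equiv.ext fun y => by simp [hab, ha, hb])
    refine ⟨Equiv.mulLeft₀ b⁻¹ (inv_ne_zero hb), ⟨(Units.mk0 b hb)⁻¹, 0, fun y => by simp⟩, 1, 1,
      one_ne_zero, fun y => ?_⟩
    simp [hab, ha, mul_add, inv_mul_cancel₀ hb, Equiv.Perm.mul_apply, Equiv.Perm.inv_def,
      Equiv.mulLeft₀]
    field_simp
  · set t := b / (1 - (a : GaloisField p 2)) with ht
    have h1 : (1 - (a : GaloisField p 2)) ≠ 0 := sub_ne_zero.2 (Ne.symm ha)
    have hfix : (a : GaloisField p 2) * t + b = t := by rw [ht]; field_simp; ring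
    -- powers of g
    have hpow : ∀ (m : ℕ) (y : GaloisField p 2), (g ^ m) y = (a : GaloisField p 2) ^ m * (y - t) + t := by
      intro m
      induction m with
      | zero => intro y; simp
      | succ m ih =>
        intro y
        rw [pow_succ', Equiv.Perm.mul_apply, ih, hab]
        linear_combination hfix
    have har : orderOf (a : GaloisField p 2) = orderOf g := by
      refine ((Nat.dvd_prime hord).1 (orderOf_dvd_of_pow_eq_one ?_)).resolve_left ?_
      · have := hpow (orderOf g) (t + 1)
        rw [pow_orderOf_eq_one] at this
        simp only [Equiv.Perm.one_apply, add_sub_cancel_left, mul_one] at this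
        linear_combination -this
      · rw [orderOf_eq_one_iff]; exact ha
    have hr : orderOf g ∣ p ^ 2 - 1 := by
      rw [← har]
      apply orderOf_dvd_of_pow_eq_one
      have hc : Fintype.card (GaloisField p 2) = p ^ 2 := by
        rw [← Nat.card_eq_fintype_card]; exact GaloisField.card p 2 two_ne_zero
      rw [← hc]
      exact FiniteField.pow_card_sub_one_eq_one _ a.ne_zero
    have hr' : orderOf g ∣ p - 1 := by
      have hsq : p ^ 2 - 1 = (p + 1) * (p - 1) := by rw [← Nat.sq_sub_sq, one_pow]
      have hp1 : p + 1 = 2 ^ s := by have := Nat.one_le_two_pow (n := s); have := hp.pos; omega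
      rw [hsq, hp1] at hr
      rcases (Nat.Prime.dvd_mul hord).1 hr with h | h
      · rw [(Nat.prime_dvd_prime_iff_eq hord Nat.prime_two).1 (hord.dvd_of_dvd_pow h)]
        have : p ≠ 2 := fun h2 => by
          rw [h2] at hp1
          rcases s with _ | _ | s <;> simp [pow_succ] at hp1
          omega
        have := hp.eq_two_or_odd.resolve_left this
        omega
      · exact h
    have hap : (a : GaloisField p 2) ^ p = a := by
      have : (a : GaloisField p 2) ^ (p - 1) = 1 := orderOf_dvd_iff_pow_eq_one.1 (har ▸ hr')
      calc (a : GaloisField p 2) ^ p = (a : GaloisField p 2) ^ (p - 1 + 1) := by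
            rw [Nat.sub_add_cancel hp.one_le]
        _ = _ := by rw [pow_succ, this, one_mul]
    obtain ⟨c, hc⟩ : ∃ c : ZMod p, algebraMap (ZMod p) (GaloisField p 2) c = a := by
      have := (Subfield.mem_bot_iff_pow_eq_self (GaloisField p 2) p).2 hap
      have hle : (⊥ : Subfield (GaloisField p 2)) ≤
          (algebraMap (ZMod p) (GaloisField p 2)).fieldRange := bot_le
      exact hle this
    refine ⟨Equiv.addRight (-t), ⟨1, -t, fun y => by simp⟩, c, 0, ?_, fun y => ?_⟩
    · intro h
      rw [h, map_zero] at hc
      exact a.ne_zero hc.symm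
    · simp [hab, hc, Equiv.Perm.mul_apply, Equiv.Perm.inv_def]
      linear_combination hfix

end Cfsg.Agent.S5728
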