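import Cfsg.Statements.S5729
-- import your own Cfsg.Agent.* helpers here

set_option autoImplicit false
open Cfsg

namespace Cfsg.Agent.S5729


theorem sum_card_fixedBy_nat (G X : Type*) [Group G] [Fintype G] [MulAction G X] [Finite X] :
    ∑ g : G, Nat.card (MulAction.fixedBy X g) =
      Nat.card (MulAction.orbitRel.Quotient G X) * Nat.card G := by
  classical
  haveI := Fintype.ofFinite X
  haveI := Fintype.ofFinite (MulAction.orbitRel.Quotient G X)
  haveI : Fintype (Quotient (MulAction.orbitRel G X)) := Fintype.ofFinite _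
  simp only [Nat.card_eq_fintype_card]
  exact MulAction.sum_card_fixedBy_eq_card_orbits_mul_card_group G X

theorem sum_fix (G Ω : Type*) [Group G] [Fintype G] [MulAction G Ω] [Finite Ω] [Nonempty Ω]
    (htr : MulAction.IsPretransitive G Ω) :
    ∑ g : G, Nat.card (MulAction.fixedBy Ω g) = Nat.card G := by
  rw [sum_card_fixedBy_nat]
  haveI : Subsingleton (MulAction.orbitRel.Quotient G Ω) :=
    MulAction.pretransitive_iff_subsingleton_quotient G Ω |>.1 htr
  haveI : Nonempty (MulAction.orbitRel.Quotient G Ω) := Nonempty.map (Quotient.mk _) inferInstance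
  rw [Nat.card_of_subsingleton (Classical.arbitrary _), one_mul]

theorem sum_fix_sq (G Ω : Type*) [Group G] [Fintype G] [MulAction G Ω] [Finite Ω]
    {a b : Ω} (hab : a ≠ b) :
    2 * Nat.card G ≤ ∑ g : G, Nat.card (MulAction.fixedBy Ω g) ^ 2 := by
  have h : ∀ g : G, Nat.card (MulAction.fixedBy Ω g) ^ 2
      = Nat.card (MulAction.fixedBy (Ω × Ω) g) := by
    intro g
    rw [sq, ← Nat.card_prod]
    refine Nat.card_congr ⟨fun x => ⟨(x.1.1, x.2.1), Prod.ext x.1.2 x.2.2⟩,
      fun x => (⟨x.1.1, congrArg Prod.fst x.2⟩, ⟨x.1.2, congrArg Prod.snd x.2⟩), ?_, ?_⟩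
    · intro x; rfl
    · intro x; rfl
  simp only [h]
  rw [sum_card_fixedBy_nat]
  apply Nat.mul_le_mul_right
  haveI : Nontrivial (MulAction.orbitRel.Quotient G (Ω × Ω)) := by
    refine ⟨Quotient.mk _ (a, a), Quotient.mk _ (a, b), fun hh => ?_⟩
    obtain ⟨g, hg⟩ := Quotient.exact hh
    have h1 := congrArg Prod.fst hg
    have h2 := congrArg Prod.snd hg
    simp only [Prod.smul_mk] at h1 h2
    exact hab (MulAction.injective g (h1.trans h2.symm))
  exact Finite.one_lt_card

/-- Let a finite group G act faithfully and transitively on a set with n ≥ 3 points. Then either G is a Frobenius permutation group (Frobenius as a permutation group: transitive, some non-identity element fixes a point, and no non-identity element fixes two points) of order n(n − 1) and exactly |G|/n of its elements are derangements (fix no point), or the number of derangements is greater than |G|/n. -/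
theorem result {G Ω : Type*} [Group G] [Finite G] [MulAction G Ω] [FaithfulSMul G Ω] [Fintype Ω] (htr : MulAction.IsPretransitive G Ω) (hn : 3 ≤ Fintype.card Ω) :
    ((MulAction.IsPretransitive G Ω ∧ (∃ g : G, g ≠ 1 ∧ ∃ ω : Ω, g • ω = ω) ∧ ∀ g : G, g ≠ 1 → Nat.card (MulAction.fixedBy Ω g) ≤ 1) ∧ Nat.card G = Fintype.card Ω * (Fintype.card Ω - 1) ∧ Fintype.card Ω * Nat.card {g : G // ∀ ω : Ω, g • ω ≠ ω} = Nat.card G) ∨
    Nat.card G < Fintype.card Ω * Nat.card {g : G // ∀ ω : Ω, g • ω ≠ ω} := by
  classical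
  haveI := Fintype.ofFinite G
  haveI : Nonempty Ω := Fintype.card_pos_iff.1 (by omega)
  obtain ⟨a, b, hab⟩ := Fintype.one_lt_card_iff.1 (show 1 < Fintype.card Ω by omega)
  set n := Fintype.card Ω with hn'
  set f : G → ℕ := fun g => Nat.card (MulAction.fixedBy Ω g) with hf
  have hfle : ∀ g, f g ≤ n := fun g => by
    rw [hn', ← Nat.card_eq_fintype_card]; exact Finite.card_subtype_le _
  have hf0 : ∀ g, f g = 0 ↔ ∀ ω : Ω, g • ω ≠ ω := by
    intro g
    simp only [hf, Nat.card_eq_zero, isEmpty_subtype, MulAction.mem_fixedBy, ne_eq]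
    exact ⟨fun h => h.resolve_right (not_infinite_iff_finite.2 inferInstance), Or.inl⟩
  have hone : f 1 = n := by
    simp [hf, hn', MulAction.fixedBy]
  have hfn : ∀ g, f g = n → g = 1 := by
    intro g hg
    apply FaithfulSMul.eq_of_smul_eq_smul (M := G) (α := Ω)
    intro ω
    rw [one_smul]
    have : MulAction.fixedBy Ω g = Set.univ := by
      apply Set.eq_univ_of_univ_subset
      intro x _
      by_contra hx
      have : f g < n := by
        rw [hn', ← Nat.card_eq_fintype_card]
        exact Finite.card_subtype_lt hx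
      omega
    exact (Set.eq_univ_iff_forall.1 this ω)
  have h1 : (∑ g : G, (f g : ℤ)) = Nat.card G := by exact_mod_cast sum_fix G Ω htr
  have h2 : 2 * (Nat.card G : ℤ) ≤ ∑ g : G, (f g : ℤ) ^ 2 := by exact_mod_cast sum_fix_sq G Ω hab
  have hc : (Nat.card G : ℤ) = ∑ _g : G, (1 : ℤ) := by simp
  have hD : (Nat.card {g : G // ∀ ω : Ω, g • ω ≠ ω} : ℤ) = ∑ g : G, if f g = 0 then 1 else 0 := by
    rw [Finset.sum_boole, Nat.card_eq_fintype_card, Fintype.card_subtype]
    norm_cast
    congr 1
    ext g
    simp [hf0]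
  set D := Nat.card {g : G // ∀ ω : Ω, g • ω ≠ ω} with hDdef
  set S : ℤ := ∑ g : G, (if f g = 0 then 0 else ((f g : ℤ) - 1) * ((n : ℤ) - f g)) with hS
  have hterm : ∀ g, 0 ≤ (if f g = 0 then 0 else ((f g : ℤ) - 1) * ((n : ℤ) - f g)) := by
    intro g
    split
    · exact le_rfl
    · have := hfle g
      exact mul_nonneg (by omega) (by omega)
  have hS0 : 0 ≤ S := Finset.sum_nonneg fun g _ => hterm g
  have hkey : (n : ℤ) * D - S = (∑ g : G, (f g : ℤ) ^ 2) - Nat.card G := by
    have : (n : ℤ) * D - S = ∑ g : G, ((f g : ℤ) ^ 2 - ((n : ℤ) + 1) * f g + n * 1) := by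
      rw [hD, hS, Finset.mul_sum, ← Finset.sum_sub_distrib]
      refine Finset.sum_congr rfl fun g _ => ?_
      split
      · simp_all
      · ring
    rw [this, Finset.sum_add_distrib, Finset.sum_sub_distrib, ← Finset.mul_sum, ← Finset.mul_sum,
      h1, ← hc]
    ring
  by_cases hlt : Nat.card G < n * D
  · exact Or.inr hlt
  left
  have hle : (n : ℤ) * D ≤ Nat.card G := by exact_mod_cast not_lt.1 hlt
  have hSz : S = 0 := by linarith
  have hval : ∀ g, g ≠ 1 → f g ≤ 1 := by
    intro g hg
    have := (Finset.sum_eq_zero_iff_of_nonneg (fun g _ => hterm g)).1 hSz g (Finset.mem_univ g)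
    by_cases h0 : f g = 0
    · omega
    · rw [if_neg h0, mul_eq_zero] at this
      have : f g ≠ n := fun h => hg (hfn g h)
      omega
  have heq : (n : ℤ) * D = Nat.card G := by linarith
  have hsq : ∑ g : G, (f g : ℤ) ^ 2 = 2 * Nat.card G := by linarith
  have hcard : (Nat.card G : ℤ) = n * ((n : ℤ) - 1) := by
    have : ∑ g : G, ((f g : ℤ) ^ 2 - f g) = (n : ℤ) ^ 2 - n := by
      rw [Finset.sum_eq_single (1 : G)]
      · rw [hone]
      · intro g _ hg
        have := hval g hg
        interval_cases (f g) <;> simp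
      · simp
    rw [Finset.sum_sub_distrib, hsq, h1] at this
    linarith
  refine ⟨⟨htr, ?_, fun g hg => hval g hg⟩, ?_, by exact_mod_cast heq⟩
  · by_contra hcon
    simp only [not_exists, not_and] at hcon
    have : ∑ g : G, (f g : ℤ) = n := by
      rw [Finset.sum_eq_single (1 : G)]
      · rw [hone]
      · intro g _ hg
        exact_mod_cast (hf0 g).2 (hcon g hg)
      · simp
    rw [h1, hcard] at this
    have : (n : ℤ) ≥ 3 := by exact_mod_cast hn
    nlinarith
  · have : ((n - 1 : ℕ) : ℤ) = (n : ℤ) - 1 := by omega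
    exact_mod_cast (by rw [hcard, this] : (Nat.card G : ℤ) = (n : ℤ) * ((n - 1 : ℕ) : ℤ))

end Cfsg.Agent.S5729
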