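import Cfsg.Statements.S5737
import Cfsg.Agent.Lib.Sz.BinaryClassify
import Cfsg.Agent.Lib.Sz.Lie
-- import your own Cfsg.Agent.* helpers here

set_option autoImplicit false
open Cfsg

namespace Cfsg.Agent.S5737

theorem center_map_subtype {G G' : Type*} [Group G] [Group G'] (e : G ≃* G') (P : Subgroup G) :
    (Subgroup.center ↥(P.map e.toMonoidHom)).map (P.map e.toMonoidHom).subtype =
      ((Subgroup.center ↥P).map P.subtype).map e.toMonoidHom := by
  ext x
  constructor
  · rintro ⟨⟨_, y, hy, rfl⟩, hc, rfl⟩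
    refine ⟨y, ⟨⟨y, hy⟩, Subgroup.mem_center_iff.2 fun w => Subtype.ext (e.injective ?_), rfl⟩, rfl⟩
    have h : e w.1 * e y = e y * e w.1 :=
      congrArg Subtype.val (Subgroup.mem_center_iff.1 hc ⟨e w.1, w.1, w.2, rfl⟩)
    show e (w.1 * y) = e (y * w.1)
    rw [map_mul, map_mul, h]
  · rintro ⟨_, ⟨⟨y, hy⟩, hc, rfl⟩, rfl⟩
    refine ⟨⟨e y, y, hy, rfl⟩, Subgroup.mem_center_iff.2 ?_, rfl⟩
    rintro ⟨_, w, hw, rfl⟩
    have h : w * y = y * w := congrArg Subtype.val (Subgroup.mem_center_iff.1 hc ⟨w, hw⟩)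
    apply Subtype.ext
    show e w * e y = e y * e w
    rw [← map_mul, ← map_mul, h]

/-- Let G = Sz(q) be a Suzuki group, q = 2^(2a+1) with a ≥ 1 (realised inside Sp₄ over the field with q elements), and let H be a proper subgroup of G. Then the action of G on the cosets of H is binary if and only if H is trivial or H is the centre of a Sylow 2-subgroup of G. Here an action is binary (relational complexity 2) when, for every n ≥ 2 and all n-tuples I, J of points, if for every pair of positions some group element carries the corresponding pair of entries of I to those of J, then a single group element carries I to J. -/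
theorem result {F : Type*} [Field F] [Fintype F] (a : ℕ) (ha : 1 ≤ a) (hF : Fintype.card F = 2 ^ (2 * a + 1))
    (H : Subgroup (Cfsg.Lie.Sz F (2 ^ (a + 1)))) (hH : H ≠ ⊤) :
    (∀ (n : ℕ) (I J : Fin n → (Cfsg.Lie.Sz F (2 ^ (a + 1))) ⧸ H), 2 ≤ n →
        (∀ i j : Fin n, i ≠ j → ∃ g : (Cfsg.Lie.Sz F (2 ^ (a + 1))), g • I i = J i ∧ g • I j = J j) → ∃ g : (Cfsg.Lie.Sz F (2 ^ (a + 1))), ∀ i, g • I i = J i) ↔
      (H = ⊥ ∨ ∃ P : Sylow 2 (Cfsg.Lie.Sz F (2 ^ (a + 1))), H = (Subgroup.center (P : Subgroup (Cfsg.Lie.Sz F (2 ^ (a + 1))))).map (P : Subgroup (Cfsg.Lie.Sz F (2 ^ (a + 1)))).subtype) := by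
  let e := SZ.szEquiv ha hF
  set H₀ := H.map e.symm.toMonoidHom with hH₀
  have hmap : H₀.map e.toMonoidHom = H := by
    rw [hH₀, Subgroup.map_map]
    ext x
    simp
  have hne : H₀ ≠ ⊤ := fun h => hH (by
    rw [← hmap, h]
    exact Subgroup.map_top_of_surjective _ e.surjective)
  show SZ.BinaryCoset H ↔ _
  constructor
  · intro hbin
    rcases (SZ.binaryCoset_iff ha hF hne).1 (hbin.map_equiv e.symm) with h | h
    · left; rw [← hmap, h, Subgroup.map_bot]
    · obtain ⟨P, hP⟩ := (SZ.mem_iff_conj_center ha hF H₀).1 h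
      right
      refine ⟨P.mapSurjective (f := e.toMonoidHom) e.surjective, ?_⟩
      rw [← hmap, hP, ← center_map_subtype e (P : Subgroup _)]
      rfl
  · rintro (rfl | ⟨P, rfl⟩)
    · exact SZ.binary_bot
    · rw [← hmap]
      refine SZ.BinaryCoset.map_equiv e ((SZ.binaryCoset_iff ha hF hne).2
        (Or.inr ((SZ.mem_iff_conj_center ha hF H₀).2
          ⟨P.mapSurjective (f := e.symm.toMonoidHom) e.symm.surjective, ?_⟩)))
      rw [hH₀, ← center_map_subtype e.symm (P : Subgroup _)]
      rfl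

end Cfsg.Agent.S5737
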