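import Cfsg.Statements.S5738
-- import your own Cfsg.Agent.* helpers here

set_option autoImplicit false
open Cfsg

namespace Cfsg.Agent.S5738


section helpers
variable (F K : Type*) [Field F] [Field K] [Algebra F K]

/-- multiplication as a unit of the endomorphism ring -/
noncomputable def mulUnit : Kˣ →* (Module.End F K)ˣ :=
  Units.map ((Algebra.lmul F K : K →ₐ[F] Module.End F K) : K →* Module.End F K)

theorem mulUnit_apply (c : Kˣ) (x : K) : ((mulUnit F K c : (Module.End F K)ˣ) : Module.End F K) x = c * x := rfl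

/-- the semilinear element `m_b ∘ σ` -/
noncomputable def semi (b : Kˣ) (σ : K ≃ₐ[F] K) : (Module.End F K)ˣ :=
  mulUnit F K b *
    ⟨σ.toLinearMap, σ.symm.toLinearMap, LinearMap.ext fun x => σ.apply_symm_apply x,
      LinearMap.ext fun x => σ.symm_apply_apply x⟩

theorem semi_apply (b : Kˣ) (σ : K ≃ₐ[F] K) (x : K) :
    ((semi F K b σ : (Module.End F K)ˣ) : Module.End F K) x = b * σ x := rfl

theorem semi_inj {b b' : Kˣ} {σ σ' : K ≃ₐ[F] K} (h : semi F K b σ = semi F K b' σ') :
    b = b' ∧ σ = σ' := by
  have hh : ∀ x, (b : K) * σ x = b' * σ' x := fun x => by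
    rw [← semi_apply, h, semi_apply]
  have hb : (b : K) = b' := by simpa using hh 1
  refine ⟨Units.ext hb, AlgEquiv.ext fun x => mul_left_cancel₀ b.ne_zero ?_⟩
  rw [hh x, hb]

variable [Finite K]

theorem conj_range_eq {g : (Module.End F K)ˣ}
    (hg : ∀ c : Kˣ, ∃ d : Kˣ, g * mulUnit F K c = mulUnit F K d * g) :
    ∃ (b : Kˣ) (σ : K ≃ₐ[F] K), semi F K b σ = g := by
  have hinj : Function.Injective (g : Module.End F K) := fun x y h => by
    have h' := congrArg ((g⁻¹ : (Module.End F K)ˣ) : Module.End F K) h
    rwa [← Module.End.mul_apply, ← Module.End.mul_apply, ← Units.val_mul, inv_mul_cancel] at h'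
  set b := (g : Module.End F K) 1 with hb
  have hb0 : b ≠ 0 := fun h => one_ne_zero (hinj (h.trans (map_zero (g : Module.End F K)).symm))
  have key : ∀ c x : K, b * (g : Module.End F K) (c * x) = (g : Module.End F K) c * (g : Module.End F K) x := by
    intro c x
    by_cases hc : c = 0
    · simp [hc]
    obtain ⟨d, hd⟩ := hg (Units.mk0 c hc)
    have hx : ∀ y, (g : Module.End F K) (c * y) = d * (g : Module.End F K) y := fun y =>
      LinearMap.congr_fun (congrArg Units.val hd) y
    have h1 := hx 1
    rw [mul_one] at h1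
    rw [hx x, h1]
    ring
  let τ : K →ₐ[F] K := AlgHom.ofLinearMap ((LinearMap.mulLeft F b⁻¹).comp (g : Module.End F K))
    (by simp [← hb, hb0])
    (fun x y => by
      simp only [LinearMap.comp_apply, LinearMap.mulLeft_apply]
      have := key x y
      field_simp
      linear_combination this)
  have hτ : Function.Bijective τ :=
    Finite.injective_iff_bijective.1 (RingHom.injective τ.toRingHom)
  refine ⟨Units.mk0 b hb0, AlgEquiv.ofBijective τ hτ, Units.ext (LinearMap.ext fun x => ?_)⟩
  rw [semi_apply]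
  show b * (b⁻¹ * (g : Module.End F K) x) = _
  field_simp

theorem card_normalizer [Finite F] :
    Nat.card (Subgroup.normalizer (((mulUnit F K).range : Subgroup _) : Set (Module.End F K)ˣ)) =
      Module.finrank F K * (Nat.card K - 1) := by
  have hcomm : ∀ (b : Kˣ) (σ : K ≃ₐ[F] K) (c : Kˣ),
      semi F K b σ * mulUnit F K c = mulUnit F K (Units.map σ.toMonoidHom c) * semi F K b σ := by
    intro b σ c
    refine Units.ext (LinearMap.ext fun x => ?_)
    show (b : K) * σ ((c : K) * x) = σ c * ((b : K) * σ x)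
    rw [map_mul]; ring
  have hmem : ∀ b σ, semi F K b σ ∈
      Subgroup.normalizer (((mulUnit F K).range : Subgroup _) : Set (Module.End F K)ˣ) := by
    intro b σ
    rw [Subgroup.mem_normalizer_iff]
    refine fun h => ⟨?_, ?_⟩
    · rintro ⟨c, rfl⟩
      exact ⟨_, eq_mul_inv_of_mul_eq (hcomm b σ c).symm⟩
    · rintro ⟨d, hd⟩
      refine ⟨Units.map σ.symm.toMonoidHom d, ?_⟩
      have hc := hcomm b σ (Units.map σ.symm.toMonoidHom d)
      have hd' : Units.map σ.toMonoidHom (Units.map σ.symm.toMonoidHom d) = d :=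
        Units.ext (σ.apply_symm_apply _)
      rw [hd', hd, mul_assoc, inv_mul_cancel, mul_one] at hc
      exact mul_left_cancel hc
  let e : Kˣ × (K ≃ₐ[F] K) → Subgroup.normalizer
      (((mulUnit F K).range : Subgroup _) : Set (Module.End F K)ˣ) :=
    fun p => ⟨semi F K p.1 p.2, hmem _ _⟩
  have he : Function.Bijective e := by
    refine ⟨fun p q h => ?_, fun ⟨g, hg⟩ => ?_⟩
    · obtain ⟨h1, h2⟩ := semi_inj F K (congrArg Subtype.val h)
      exact Prod.ext h1 h2
    · obtain ⟨b, σ, hs⟩ := conj_range_eq F K (g := g) (fun c => by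
        obtain ⟨d, hd⟩ := (Subgroup.mem_normalizer_iff.1 hg _).1 ⟨c, rfl⟩
        exact ⟨d, by rw [hd, inv_mul_cancel_right]⟩)
      exact ⟨(b, σ), Subtype.ext hs⟩
  haveI : Module.Finite F K := Module.Finite.of_finite
  rw [← Nat.card_congr (Equiv.ofBijective e he), Nat.card_prod, Nat.card_units,
    IsGalois.card_aut_eq_finrank, mul_comm]

end helpers

/-- Let F ⊆ K be finite fields with |F| = q and [K : F] = n ≥ 2, so |K| = q^n. Regard K as an n-dimensional F-vector space; the multiplications by non-zero elements of K form a cyclic subgroup of GL_F(K) of order q^n − 1 acting regularly on the non-zero vectors (a Singer group). Its normaliser in GL_F(K) has order n·(q^n − 1). -/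
theorem result {F K : Type*} [Field F] [Fintype F] [Field K] [Fintype K] [Algebra F K] (n : ℕ) (hn : 2 ≤ n) (hdim : Module.finrank F K = n) :
    Nat.card (Subgroup.normalizer (((Units.map ((Algebra.lmul F K : K →ₐ[F] Module.End F K) : K →* Module.End F K)).range : Subgroup (Module.End F K)ˣ) : Set (Module.End F K)ˣ)) = n * (Fintype.card K - 1) := by
  rw [← Nat.card_eq_fintype_card, ← hdim]
  exact card_normalizer F K

end Cfsg.Agent.S5738
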