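import Cfsg.Statements.S5739
-- import your own Cfsg.Agent.* helpers here

set_option autoImplicit false
open Cfsg

namespace Cfsg.Agent.S5739


section helpers
variable (F K : Type*) [Field F] [Field K] [Algebra F K]

/-- multiplication as a unit of the endomorphism ring -/
noncomputable def mulUnit : Kˣ →* (Module.End F K)ˣ :=
  Units.map ((Algebra.lmul F K : K →ₐ[F] Module.End F K) : K →* Module.End F K)

theorem mulUnit_injective : Function.Injective (mulUnit F K) := fun a b h =>
  Units.ext (by simpa [mulUnit] using LinearMap.congr_fun (congrArg Units.val h) 1)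

/-- the field of those scalars whose conjugate is again a scalar -/
noncomputable def interField (g : (Module.End F K)ˣ) : IntermediateField F K where
  carrier := {c | ∃ d : K, ∀ x, (g : Module.End F K) (d * x) = c * (g : Module.End F K) x}
  mul_mem' := by
    rintro c c' ⟨d, hd⟩ ⟨d', hd'⟩
    exact ⟨d * d', fun x => by rw [mul_assoc, hd, hd', mul_assoc]⟩
  one_mem' := ⟨1, fun x => by simp⟩
  add_mem' := by
    rintro c c' ⟨d, hd⟩ ⟨d', hd'⟩
    exact ⟨d + d', fun x => by rw [add_mul, map_add, hd, hd', add_mul]⟩
  zero_mem' := ⟨0, fun x => by simp⟩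
  algebraMap_mem' := fun r => ⟨algebraMap F K r, fun x => by
    rw [← Algebra.smul_def, map_smul, Algebra.smul_def]⟩
  inv_mem' := by
    rintro c ⟨d, hd⟩
    have hinj : Function.Injective (g : Module.End F K) := fun x y h => by
      have h' := congrArg ((g⁻¹ : (Module.End F K)ˣ) : Module.End F K) h
      rwa [← Module.End.mul_apply, ← Module.End.mul_apply, ← Units.val_mul, inv_mul_cancel] at h'
    by_cases hc : c = 0
    · exact ⟨0, fun x => by simp [hc]⟩
    refine ⟨d⁻¹, fun x => ?_⟩
    have hd0 : d ≠ 0 := by
      intro h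
      have := hd 1
      rw [h, zero_mul, map_zero] at this
      exact hc ((mul_eq_zero.1 this.symm).resolve_right
        fun h0 => one_ne_zero (hinj (h0.trans (map_zero (g : Module.End F K)).symm)))
    have := hd (d⁻¹ * x)
    rw [mul_inv_cancel_left₀ hd0] at this
    rw [this, inv_mul_cancel_left₀ hc]

theorem mem_iff (g : (Module.End F K)ˣ) (c : Kˣ) :
    (c : K) ∈ interField F K g ↔ mulUnit F K c ∈ (mulUnit F K).range.map (MulAut.conj g).toMonoidHom := by
  constructor
  · rintro ⟨d, hd⟩
    have hd0 : d ≠ 0 := by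
      intro h
      have := hd (((g⁻¹ : (Module.End F K)ˣ) : Module.End F K) 1)
      rw [h, zero_mul, map_zero, ← Module.End.mul_apply, ← Units.val_mul, mul_inv_cancel] at this
      exact c.ne_zero (by simpa using this.symm)
    refine ⟨mulUnit F K (Units.mk0 d hd0), ⟨_, rfl⟩, ?_⟩
    show g * mulUnit F K (Units.mk0 d hd0) * g⁻¹ = mulUnit F K c
    rw [mul_inv_eq_iff_eq_mul]
    exact Units.ext (LinearMap.ext fun x => hd x)
  · rintro ⟨u, ⟨d, rfl⟩, hu⟩
    replace hu : g * mulUnit F K d * g⁻¹ = mulUnit F K c := hu
    rw [mul_inv_eq_iff_eq_mul] at hu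
    exact ⟨d, fun x => LinearMap.congr_fun (congrArg Units.val hu) x⟩

variable [Finite K] [Finite F]

theorem exists_r (g : (Module.End F K)ˣ)
    (hg : (mulUnit F K).range.map (MulAut.conj g).toMonoidHom ≠ (mulUnit F K).range) :
    ∃ r : ℕ, 1 ≤ r ∧ r ∣ Module.finrank F K ∧ r < Module.finrank F K ∧
      Nat.card ↥((mulUnit F K).range.map (MulAut.conj g).toMonoidHom ⊓ (mulUnit F K).range) ∣
        Nat.card F ^ r - 1 := by
  haveI : Module.Finite F K := Module.Finite.of_finite
  set L := interField F K g with hL
  refine ⟨Module.finrank F L, Module.finrank_pos, ?_, ?_, ?_⟩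
  · exact Dvd.intro _ (Module.finrank_mul_finrank F L K)
  · refine lt_of_le_of_ne (Submodule.finrank_le (Subalgebra.toSubmodule L.toSubalgebra)) fun h => hg ?_
    have htop : L = ⊤ := IntermediateField.eq_of_le_of_finrank_eq le_top (by
      rw [h, IntermediateField.finrank_top'])
    have hle : (mulUnit F K).range ≤ (mulUnit F K).range.map (MulAut.conj g).toMonoidHom := by
      rintro _ ⟨c, rfl⟩
      rw [← mem_iff, ← hL, htop]
      trivial
    haveI : Finite (Module.End F K) := Finite.of_injective (fun f : Module.End F K => (f : K → K))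
      DFunLike.coe_injective
    refine (Subgroup.eq_of_le_of_card_ge hle ?_).symm
    rw [Subgroup.card_map_of_injective (f := (MulAut.conj g).toMonoidHom) (MulAut.conj g).injective]
  · let S : Subgroup Kˣ := (Units.map (L.val : L →* K)).range
    have hS : (mulUnit F K).range.map (MulAut.conj g).toMonoidHom ⊓ (mulUnit F K).range
        = S.map (mulUnit F K) := by
      ext u
      constructor
      · rintro ⟨h1, c, rfl⟩
        have hc := (mem_iff F K g c).2 h1
        exact ⟨c, ⟨Units.mk0 (⟨c, hc⟩ : L) (fun h => c.ne_zero (congrArg Subtype.val h)),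
          Units.ext rfl⟩, rfl⟩
      · rintro ⟨_, ⟨c, rfl⟩, rfl⟩
        exact ⟨(mem_iff F K g _).1 (c : L).2, ⟨_, rfl⟩⟩
    rw [hS, Subgroup.card_map_of_injective (mulUnit_injective F K),
      ← Nat.card_congr (MonoidHom.ofInjective (Units.map_injective
        (Subtype.val_injective : Function.Injective (L.val : L →* K)))).toEquiv,
      Nat.card_units, Module.natCard_eq_pow_finrank (K := F) (V := L)]

end helpers

/-- Let F ⊆ K be finite fields with |F| = q and [K : F] = n ≥ 2, and let M ≤ GL_F(K) be the Singer group of multiplications by non-zero elements of K. If g ∈ GL_F(K) does not normalise M, then the order of M ∩ gMg⁻¹ divides q^r − 1 for some proper divisor r of n. In particular, when n is prime, that order divides q − 1. -/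
theorem result {F K : Type*} [Field F] [Fintype F] [Field K] [Fintype K] [Algebra F K] (n : ℕ) (hn : 2 ≤ n) (hdim : Module.finrank F K = n)
    (g : (Module.End F K)ˣ) (hg : ((Units.map ((Algebra.lmul F K : K →ₐ[F] Module.End F K) : K →* Module.End F K)).range).map (MulAut.conj g).toMonoidHom ≠ (Units.map ((Algebra.lmul F K : K →ₐ[F] Module.End F K) : K →* Module.End F K)).range) :
    ∃ r : ℕ, 1 ≤ r ∧ r ∣ n ∧ r < n ∧ Nat.card ↥(((Units.map ((Algebra.lmul F K : K →ₐ[F] Module.End F K) : K →* Module.End F K)).range).map (MulAut.conj g).toMonoidHom ⊓ (Units.map ((Algebra.lmul F K : K →ₐ[F] Module.End F K) : K →* Module.End F K)).range) ∣ Fintype.card F ^ r - 1 := by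
  rw [← Nat.card_eq_fintype_card, ← hdim]
  exact exists_r F K g hg

end Cfsg.Agent.S5739
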