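import Cfsg.Statements.S5743
import Cfsg.Agent.Lib.Chev.FoldF4
import Cfsg.Agent.Lib.Chev.TwistE6Group
import Cfsg.Agent.Lib.Chev.TwistOut

set_option autoImplicit false
set_option maxRecDepth 4000
open Cfsg

namespace Cfsg.Agent.S5743

open Cfsg.Lie
open Cfsg.Agent.Chev Cfsg.Agent.Chev.BNSetup
open Cfsg.Agent.RootBN (Data mapG)
open Cfsg.Agent.RootBN.Data (mem_B_of_conj_simp U_eq_mul)

variable {K : Type*} [Field K]

theorem map_zmod_fixed (φ : K ≃+* K) (f : ZMod 2 →+* K) (t : ZMod 2) : φ (f t) = f t :=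
  RingHom.congr_fun (RingHom.ext_zmod ((φ : K →+* K).comp f) f) t

/-- A fundamental root subgroup meets the radical trivially. -/
theorem X_inf_Urad {M ι κ : Type*} [Group M] {D : Data M ι κ} (ax : D.Axioms) {i : κ} {z : M}
    (h : z ∈ D.X (D.simp i)) (h' : z ∈ D.Urad i) : z = 1 := by
  have h1 : D.nn i * z * (D.nn i)⁻¹ ∈ D.X (D.opp (D.simp i)) ⊓ D.B := by
    refine ⟨?_, Data.Urad_le_B i (Data.nn_conj_Urad ax h')⟩
    have := ax.conj_X i _ z h
    rwa [ax.refl_simp] at this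
  rw [ax.neg_not_mem _ (Data.not_pos_opp_simp ax i), Subgroup.mem_bot, conj_eq_one_iff] at h1
  exact h1

theorem emap_pv {D : ChevalleyDatum} (hG : Good D) {R S : Type*} [Field R] [Field S] (f : R →+* S) (g : ℕ → ℕ)
    (J : List ℕ) (a : ℕ → R) : entryMap D f (pv hG g J a) = pv hG g J (fun k => f (a k)) := by
  rw [pv, map_list_prod, List.map_map]
  exact congrArg List.prod (List.map_congr_left fun k _ => entryMap_xe hG f (g k) (a k))

/-- The group `F₄(2)` lands in the twisted group. -/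
theorem small_le (φ : K ≃+* K) (f : ZMod 2 →+* K) :
    (twist E6.good orbE6_ok (RingEquiv.refl (ZMod 2))).Gt ≤ (twist E6.good orbE6_ok φ).Gt.comap (entryMap chevE6 f) := by
  have hc : ∀ j a, Compat graphE6 (RingEquiv.refl (ZMod 2)) (orbE6.Jl 4 j) a →
      Compat graphE6 φ (orbE6.Jl 4 j) (fun k => f (a k)) := fun j a ha k hk => by
    beta_reduce
    rw [ha k hk, map_zmod_fixed φ f]
    rfl
  refine Gt_le E6.good orbE6_ok _ facts_chevE6 negTri_chevE6 graphE6_cols fun j a ha => ⟨?_, ?_⟩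
  all_goals rw [Subgroup.mem_comap, emap_pv E6.good]
  exacts [(pv_mem_Gt E6.good orbE6_ok φ facts_chevE6 negTri_chevE6 graphE6_cols j (hc j a ha)).1,
    (pv_mem_Gt E6.good orbE6_ok φ facts_chevE6 negTri_chevE6 graphE6_cols j (hc j a ha)).2]

/-- The copy of `F₄(2)`. -/
noncomputable def emb (φ : K ≃+* K) (f : ZMod 2 →+* K) :
    ↥(twist E6.good orbE6_ok (RingEquiv.refl (ZMod 2))).Gt →* ↥(twist E6.good orbE6_ok φ).Gt :=
  MonoidHom.codRestrict ((entryMap chevE6 f).comp (Subgroup.subtype _)) _ fun y => small_le φ f y.2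

theorem coe_emb (φ : K ≃+* K) (f : ZMod 2 →+* K) (y : ↥(twist E6.good orbE6_ok (RingEquiv.refl (ZMod 2))).Gt) :
    ((emb φ f y : ↥(twist E6.good orbE6_ok φ).Gt) : GL chevE6.Idx K) = entryMap chevE6 f y := rfl

theorem emb_injective (φ : K ≃+* K) (f : ZMod 2 →+* K) : Function.Injective (emb φ f) := by
  intro a b h
  have h' : entryMap chevE6 f (a : GL chevE6.Idx (ZMod 2)) = entryMap chevE6 f b := congrArg Subtype.val h
  refine Subtype.ext (Units.ext (Matrix.map_injective f.injective ?_))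
  exact congrArg Units.val h'

/-- Three times the inverse Cartan matrix applied to a node, modulo three. -/
def wt (i : Fin chevE6.rank) : ℤ := [1, 0, 2, 0, 1, 2].getD i.val 0

theorem char_cartan (hcube : ∀ x : Kˣ, x ^ 3 = 1) (a : Fin chevE6.rank → Kˣ) :
    ∏ i, cartanHom K chevE6 a i ^ wt i = 1 := by
  simp only [cartanHom_apply, prod_zpow_comb]
  refine Finset.prod_eq_one fun i _ => ?_
  obtain ⟨c, hc⟩ := (by decide +kernel : ∀ i : Fin chevE6.rank,
    (3 : ℤ) ∣ ∑ j : Fin chevE6.rank, wt j * chevE6.cartan i.val (chevE6.simple j.val)) i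
  rw [hc, zpow_mul, show (3 : ℤ) = ((3 : ℕ) : ℤ) from rfl, zpow_natCast, hcube, one_zpow]

/-- An automorphism preserving an embedded subgroup up to conjugation pulls back. -/
theorem exists_pull {A B : Type*} [Group A] [Finite A] [Group B] {e : A →* B} (he : Function.Injective e)
    (θ : B ≃* B) (g : B) (hg : ∀ y, g * θ (e y) * g⁻¹ ∈ e.range) :
    ∃ ψ : A ≃* A, ∀ y, e (ψ y) = g * θ (e y) * g⁻¹ := by
  choose p hp using hg
  have hinj : Function.Injective p := fun a b h => by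
    have := congrArg e h
    rw [hp, hp] at this
    exact he (θ.injective (mul_left_cancel (mul_right_cancel this)))
  let q : A →* A := MonoidHom.mk' p fun a b => he (by rw [map_mul, hp, hp, hp, map_mul, map_mul]; group)
  exact ⟨MulEquiv.ofBijective q (Finite.injective_iff_bijective.1 hinj), hp⟩

theorem conj_mem_of_mapG {M : Type*} [Group M] {G : Subgroup M} {ψ : G ≃* G} {x : G} {A L : Subgroup M}
    (h : mapG (ψ.trans (MulAut.conj x)) A = L) (y : G) (hy : (y : M) ∈ A) : ((x * ψ y * x⁻¹ : G) : M) ∈ L :=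
  h.le ((RootBN.mem_mapG (ψ.trans (MulAut.conj x))).2 hy)

/-- A diagonal automorphism carrying the copy of `F₄(2)` to a conjugate has trivial class. -/
theorem char_eq_one [Fintype K] (hcube : ∀ x : Kˣ, x ^ 3 = 1) (φ : K ≃+* K) (hinv : ∀ x, φ (φ x) = x)
    (f : ZMod 2 →+* K) {τ : Fin chevE6.rank → Kˣ} (hτ : τ ∈ fixedTorus orbE6_ok φ)
    (θ : ↥(twist E6.good orbE6_ok φ).Gt ≃* ↥(twist E6.good orbE6_ok φ).Gt)
    (hθ : ∀ j, OrbSends E6.good orbE6_ok φ facts_chevE6 negTri_chevE6 graphE6_cols θ (nodeVal τ) id j)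
    (g : ↥(twist E6.good orbE6_ok φ).Gt) (hg : ∀ y, g * θ (emb φ f y) * g⁻¹ ∈ (emb φ f).range) :
    ∏ i, τ i ^ wt i = 1 := by
  classical
  have hG := E6.good
  have hf := facts_chevE6
  have hn := negTri_chevE6
  obtain ⟨ψ, hψ'⟩ : ∃ ψ : ↥(twist hG orbE6_ok (RingEquiv.refl (ZMod 2))).Gt ≃*
      ↥(twist hG orbE6_ok (RingEquiv.refl (ZMod 2))).Gt, ∀ y, emb φ f (ψ y) = g * θ (emb φ f y) * g⁻¹ :=
    exists_pull (emb_injective φ f) θ g hg
  have hlen : ∀ (t : ZMod 2) (n : ℕ), (⇑(RingEquiv.refl (ZMod 2)))^[n] t = t := fun t n => by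
    induction n with
    | zero => rfl
    | succ n ih => rw [Function.iterate_succ_apply', ih]; rfl
  obtain ⟨x, ρ, -, hρ, -, -⟩ := exists_orbit_perm hG orbE6_ok (RingEquiv.refl (ZMod 2)) hf hn graphE6_cols (p := 2) (w := fun _ => 1)
    (fun j => (card_X'_simp hG orbE6_ok (RingEquiv.refl (ZMod 2)) hf hn graphE6_cols j rfl).trans (by
      rw [Nat.card_congr (Equiv.subtypeUnivEquiv fun t => hlen t _), Nat.card_zmod, pow_one])) ψ
  have ax := RootBN.Twist.data_axioms (twist_axioms hG orbE6_ok φ hf hn graphE6_cols)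
  obtain ⟨G2, hG2⟩ : ∃ G2 : ↥(twist E6.good orbE6_ok φ).Gt, G2 = emb φ f x * g := ⟨_, rfl⟩
  -- the images of the fundamental orbit elements
  have hsimp : ∀ j, ∃ b, Compat graphE6 φ (orbE6.Jl 4 (ρ j)) b ∧ (∀ k ∈ orbE6.Jl 4 (ρ j), b k = 0 ∨ b k = 1) ∧
      (G2 : GL chevE6.Idx K) * pv hG chevE6.simple (orbE6.Jl 4 j) (nodeVal τ) * (G2 : GL chevE6.Idx K)⁻¹ =
        pv hG chevE6.simple (orbE6.Jl 4 (ρ j)) b := by
    intro j
    have h1 : Compat graphE6 (RingEquiv.refl (ZMod 2)) (orbE6.Jl 4 j) (fun _ => (1 : ZMod 2)) := fun k _ => rfl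
    have h1K : Compat graphE6 φ (orbE6.Jl 4 j) (fun _ => (1 : K)) := fun k _ => (map_one φ).symm
    obtain ⟨y, hy⟩ : ∃ y : ↥(twist hG orbE6_ok (RingEquiv.refl (ZMod 2))).Gt,
        (y : GL chevE6.Idx (ZMod 2)) = pv hG chevE6.simple (orbE6.Jl 4 j) fun _ => 1 :=
      ⟨⟨_, (pv_mem_Gt hG orbE6_ok (RingEquiv.refl (ZMod 2)) hf hn graphE6_cols j h1).1⟩, rfl⟩
    have hyX : (y : GL chevE6.Idx (ZMod 2)) ∈ (twist hG orbE6_ok (RingEquiv.refl (ZMod 2))).data.X ((twist hG orbE6_ok (RingEquiv.refl (ZMod 2))).data.simp j) :=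
      (mem_X'_simp_iff hG orbE6_ok (RingEquiv.refl (ZMod 2)) hf hn graphE6_cols j).2 ⟨_, h1, hy⟩
    have h2 := conj_mem_of_mapG (hρ j) y hyX
    obtain ⟨b, hb, hbe⟩ := (mem_X'_simp_iff hG orbE6_ok (RingEquiv.refl (ZMod 2)) hf hn graphE6_cols (ρ j)).1 h2
    refine ⟨fun k => f (b k), fun k hk => ?_, fun k _ => ?_, ?_⟩
    · beta_reduce
      rw [hb k hk, map_zmod_fixed φ f]
      rfl
    · rcases (by decide : ∀ t : ZMod 2, t = 0 ∨ t = 1) (b k) with h | h <;> simp [h]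
    · have hey : ((emb φ f y : ↥(twist E6.good orbE6_ok φ).Gt) : GL chevE6.Idx K) =
          pv hG chevE6.simple (orbE6.Jl 4 j) fun _ => 1 := by
        rw [coe_emb, hy, emap_pv hG]
        simp
      have h3 : ((θ (emb φ f y) : ↥(twist E6.good orbE6_ok φ).Gt) : GL chevE6.Idx K) =
          pv hG chevE6.simple (orbE6.Jl 4 j) (nodeVal τ) := by
        rw [(hθ j _ h1K _).1 hey]
        simp
      have h4 : emb φ f (x * ψ y * x⁻¹) = G2 * θ (emb φ f y) * G2⁻¹ := by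
        rw [map_mul, map_mul, map_inv, hψ', hG2]
        group
      have h5 := congrArg (fun z : ↥(twist E6.good orbE6_ok φ).Gt => (z : GL chevE6.Idx K)) h4
      rw [coe_emb, hbe, emap_pv hG, Subgroup.coe_mul, Subgroup.coe_mul, Subgroup.coe_inv, h3] at h5
      exact h5.symm
  have hne : ∀ j, pv hG chevE6.simple (orbE6.Jl 4 j) (nodeVal τ) ≠ 1 := fun j e => nodeVal_ne_zero τ _
    (pv_eq_one hG hf hn (Or.inl rfl) (orbE6_ok.2.2.1 j).1 e _ (List.head_mem (orbE6_ok.2.2.1 j).2.1))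
  have hcτ : ∀ j, Compat graphE6 φ (orbE6.Jl 4 j) (nodeVal τ) := fun j => compat_nodeVal orbE6_ok φ hτ j
  have hX : ∀ j, pv hG chevE6.simple (orbE6.Jl 4 j) (nodeVal τ) ∈ (twist hG orbE6_ok φ).data.X ((twist hG orbE6_ok φ).data.simp j) := fun j =>
    (mem_X'_simp_iff hG orbE6_ok φ hf hn graphE6_cols j).2 ⟨_, hcτ j, rfl⟩
  have hB : (G2 : GL chevE6.Idx K) ∈ (twist hG orbE6_ok φ).data.B := by
    refine mem_B_of_conj_simp ax G2.2 fun j => ⟨_, hX j, hne j, ?_⟩
    obtain ⟨b, hb, -, e⟩ := hsimp j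
    rw [e]
    exact Data.X_simp_le_B ax (ρ j) ((mem_X'_simp_iff hG orbE6_ok φ hf hn graphE6_cols (ρ j)).2 ⟨b, hb, rfl⟩)
  obtain ⟨u, hu, h, hh, huh⟩ := (Data.mem_B_iff ax).1 hB
  obtain ⟨a, ha, hae⟩ := fixed_diagonal_le hG orbE6_ok φ hf graphE6_cols (m := 2) (d := 3) (by norm_num)
    (by show ∀ i : Fin 6, _; intro i; fin_cases i <;> rfl) hinv invCartanE6 (by decide +kernel) hh.1
    (RootBN.Twist.mem_Fix.1 (RootBN.Twist.Gt_le_Fix hh.2))
  obtain ⟨hk, hkdef⟩ : ∃ hk : ↥(twist E6.good orbE6_ok φ).Gt, (hk : GL chevE6.Idx K) = h := ⟨⟨h, hh.2⟩, rfl⟩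
  have hone : ∀ i : Fin chevE6.rank, cartanHom K chevE6 a i * τ i = 1 := by
    intro i
    obtain ⟨j, hj⟩ := (by decide +kernel : ∀ k < chevE6.rank, ∃ j : Fin 4, k ∈ orbE6.Jl 4 j) i.val i.2
    obtain ⟨b, hb, h01, e⟩ := hsimp j
    have hJ := (orbE6_ok.2.2.1 j).1
    obtain ⟨c', hc'⟩ : ∃ c' : ℕ → K, c' = fun k => nodeVal (cartanHom K chevE6 a) k * id (nodeVal τ k) :=
      ⟨_, rfl⟩
    have hz1 : h * pv hG chevE6.simple (orbE6.Jl 4 j) (nodeVal τ) * h⁻¹ =
        pv hG chevE6.simple (orbE6.Jl 4 j) c' :=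
      hkdef ▸ hc' ▸ ((torus_orbSends hG orbE6_ok φ hf hn graphE6_cols hk (hkdef.trans hae.symm) j) _ (hcτ j)
        ⟨_, (pv_mem_Gt hG orbE6_ok φ hf hn graphE6_cols j (hcτ j)).1⟩).1 rfl
    have hz1X : pv hG chevE6.simple (orbE6.Jl 4 j) c' ∈ (twist hG orbE6_ok φ).data.X ((twist hG orbE6_ok φ).data.simp j) :=
      hz1 ▸ ax.H_conj _ h hh _ (hX j)
    obtain ⟨y, hy, v, hv, rfl⟩ := U_eq_mul ax j hu
    obtain ⟨y', -, rfl⟩ := (mem_X'_simp_iff hG orbE6_ok φ hf hn graphE6_cols j).1 hy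
    obtain ⟨z₁, hz₁⟩ : ∃ z₁, z₁ = pv hG chevE6.simple (orbE6.Jl 4 j) c' := ⟨_, rfl⟩
    rw [← hz₁] at hz1 hz1X
    generalize hy' : pv hG chevE6.simple (orbE6.Jl 4 j) y' = y at hy huh
    have hcomm : y * z₁ = z₁ * y := by
      rw [← hy', hz₁, pv_mul hG (Or.inl rfl) hJ, pv_mul hG (Or.inl rfl) hJ]
      simp only [add_comm]
    have hv₀ : z₁⁻¹ * v * z₁ * v⁻¹ ∈ (twist hG orbE6_ok φ).data.Urad j := by
      have h0 := Data.X_conj_Urad ax (((twist hG orbE6_ok φ).data.X _).inv_mem hz1X) hv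
      rw [inv_inv] at h0
      exact ((twist hG orbE6_ok φ).data.Urad j).mul_mem h0 (((twist hG orbE6_ok φ).data.Urad j).inv_mem hv)
    have hv₁ := Data.X_conj_Urad ax hy hv₀
    have hprod : pv hG chevE6.simple (orbE6.Jl 4 (ρ j)) b = z₁ * (y * (z₁⁻¹ * v * z₁ * v⁻¹) * y⁻¹) := by
      rw [← e, huh]
      calc y * v * h * pv hG chevE6.simple (orbE6.Jl 4 j) (nodeVal τ) * (y * v * h)⁻¹
          = y * v * (h * pv hG chevE6.simple (orbE6.Jl 4 j) (nodeVal τ) * h⁻¹) * (y * v)⁻¹ := by group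
        _ = (y * z₁) * z₁⁻¹ * v * z₁ * v⁻¹ * y⁻¹ := by rw [hz1]; group
        _ = z₁ * y * z₁⁻¹ * v * z₁ * v⁻¹ * y⁻¹ := by rw [hcomm]
        _ = _ := by group
    have hbX : pv hG chevE6.simple (orbE6.Jl 4 (ρ j)) b ∈ (twist hG orbE6_ok φ).data.X ((twist hG orbE6_ok φ).data.simp (ρ j)) :=
      (mem_X'_simp_iff hG orbE6_ok φ hf hn graphE6_cols (ρ j)).2 ⟨b, hb, rfl⟩
    have hz1ne : z₁ ≠ 1 := fun e' => mul_ne_zero (nodeVal_ne_zero _ _) (nodeVal_ne_zero τ _)
      (hc' ▸ pv_eq_one hG hf hn (Or.inl rfl) hJ (hz₁ ▸ e') _ hj)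
    have hfix : ρ j = j := by
      by_contra hne'
      refine hz1ne (X_inf_Urad ax hz1X ?_)
      rw [eq_mul_inv_of_mul_eq hprod.symm]
      exact ((twist hG orbE6_ok φ).data.Urad j).mul_mem (Data.X_le_Urad (ax.pos_simp _) (fun h' => hne' (ax.simp_inj h')) hbX)
        (((twist hG orbE6_ok φ).data.Urad j).inv_mem hv₁)
    rw [hfix] at hprod hbX h01
    have heq : z₁ = pv hG chevE6.simple (orbE6.Jl 4 j) b := by
      have h6 : z₁⁻¹ * pv hG chevE6.simple (orbE6.Jl 4 j) b = 1 :=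
        X_inf_Urad ax (((twist hG orbE6_ok φ).data.X _).mul_mem (((twist hG orbE6_ok φ).data.X _).inv_mem hz1X) hbX)
          (by rw [hprod, inv_mul_cancel_left]; exact hv₁)
      exact inv_mul_eq_one.1 h6
    have h7 := pv_inj hG hf hn (Or.inl rfl) hJ (hz₁.symm.trans heq) hj
    simp only [hc', id, nodeVal_of_lt _ i.2, Fin.eta] at h7
    rcases h01 _ hj with h8 | h8 <;> rw [h8] at h7
    · exact absurd h7 (mul_ne_zero (Units.ne_zero _) (Units.ne_zero _))
    · exact Units.ext h7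
  have := char_cartan hcube a
  simp only [eq_inv_of_mul_eq_one_left (hone _), inv_zpow, Finset.prod_inv_distrib, inv_eq_one] at this
  exact this

theorem main [Fintype K] (hK : Fintype.card K = 4) :
    ∃ H : Fin 3 → Subgroup (Cfsg.Lie.twistedE6 K 2),
      (∀ i, Nonempty ((H i) ≃* Cfsg.Lie.chevF4.group (ZMod 2))) ∧
      (∀ i j, i ≠ j → ∀ g : (Cfsg.Lie.twistedE6 K 2), (H i).map (MulAut.conj g).toMonoidHom ≠ H j) := by
  classical
  have : Fact (Nat.Prime 2) := ⟨Nat.prime_two⟩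
  have : CharP K 2 := charP_of_card_eq_prime_pow (p := 2) (f := 2) (by simp [hK])
  have hG := E6.good
  have hn := negTri_chevE6
  obtain ⟨φ, hφ, hGt, hinv, -⟩ := exists_frob2 (K := K) (q := 2) Nat.prime_two.isPrimePow (by rw [hK]; norm_num)
  rw [← hGt]
  unfold tw2E6
  let f : ZMod 2 →+* K := ZMod.castHom dvd_rfl K
  have hcard : Nat.card Kˣ = 3 := by rw [Nat.card_units, Nat.card_eq_fintype_card, hK]
  have hcube : ∀ x : Kˣ, x ^ 3 = 1 := fun x => hcard ▸ pow_card_eq_one'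
  obtain ⟨ω, hω⟩ := IsCyclic.exists_generator (α := Kˣ)
  have hord : orderOf ω = 3 := by rw [orderOf_eq_card_of_forall_mem_zpowers hω, hcard]
  let τ : Fin 3 → Fin chevE6.rank → Kˣ := fun n i => ω ^ ([1, 0, 0, 0, 0, 2].getD i.val 0 * n.val)
  have hτ : ∀ n, τ n ∈ fixedTorus orbE6_ok φ := fun n => (mem_fixedTorus orbE6_ok φ).2 fun i => by
    have hm : ∀ y : Kˣ, Units.map (φ : K →* K) y = y ^ 2 := fun y => Units.ext (by simpa using hφ y)
    rw [hm, ← pow_mul, pow_eq_pow_iff_modEq, hord]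
    have := (by decide +kernel : ∀ i : Fin chevE6.rank, ∀ n : Fin 3,
      [1, 0, 0, 0, 0, 2].getD (graphE6.pi.getD i.val 0) 0 * n.val ≡
        [1, 0, 0, 0, 0, 2].getD i.val 0 * n.val * 2 [MOD 3]) i n
    simpa [nodePerm_val] using this
  obtain ⟨dd, B, hC, -⟩ := exists_autCerts (D := chevE6) (by simp)
  choose θ hθ using fun τ' : fixedTorus orbE6_ok φ =>
    exists_diag hG orbE6_ok φ facts_chevE6 hn graphE6_cols (by simp) hC τ'.2
  have hmul : ∀ a b, θ (a * b) = (θ a).trans (θ b) := by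
    intro a b
    refine OrbSends.eq hG orbE6_ok φ facts_chevE6 hn graphE6_cols (hθ (a * b)) fun j => ?_
    have h : OrbSends hG orbE6_ok φ facts_chevE6 hn graphE6_cols ((θ a).trans (θ b))
        (fun m => nodeVal b.1 m * (RingHom.id K) (nodeVal a.1 m))
        (fun x => (RingHom.id K) ((RingHom.id K) x)) j :=
      OrbSends.trans hG orbE6_ok φ facts_chevE6 hn graphE6_cols (s := RingHom.id K) (s' := RingHom.id K)
        (hθ a j) (hθ b j) (compat_nodeVal orbE6_ok φ a.2 j) (fun _ => rfl)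
    simp only [RingHom.id_apply] at h
    have e : nodeVal (a * b).1 = fun m => nodeVal b.1 m * nodeVal a.1 m := by
      funext m
      rw [Subgroup.coe_mul, nodeVal_mul, mul_comm]
    rw [e]
    exact h
  let el : Fin 3 → fixedTorus orbE6_ok φ := fun n => ⟨τ n, hτ n⟩
  let S : fixedTorus orbE6_ok φ → Subgroup ↥(twist E6.good orbE6_ok φ).Gt := fun a => (emb φ f).range.map (θ a).toMonoidHom
  obtain ⟨iso⟩ := nonempty_fold_F4 (ZMod 2)
  refine ⟨fun n => S (el n), fun n => ⟨((((emb φ f).range).equivMapOfInjective _ (θ (el n)).injective).symm.trans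
    (MonoidHom.ofInjective (emb_injective φ f)).symm).trans iso⟩, fun i j hij g he => hij ?_⟩
  have hsplit : θ (el i) = (θ (el i / el j)).trans (θ (el j)) := by rw [← hmul, div_mul_cancel]
  have hkey := char_eq_one hcube φ hinv f (el i / el j).2 (θ (el i / el j)) (hθ _) ((θ (el j)).symm g) fun y => by
    have h1 : (g * θ (el i) (emb φ f y) * g⁻¹ : ↥(twist E6.good orbE6_ok φ).Gt) ∈ (emb φ f).range.map (θ (el j)).toMonoidHom :=
      he.le ⟨_, ⟨_, ⟨y, rfl⟩, rfl⟩, rfl⟩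
    obtain ⟨z, hz, e⟩ := h1
    rw [hsplit, MulEquiv.trans_apply] at e
    have e' : (θ (el j)).symm g * θ (el i / el j) (emb φ f y) * ((θ (el j)).symm g)⁻¹ = z := by
      apply (θ (el j)).injective
      rw [map_mul, map_mul, map_inv, MulEquiv.apply_symm_apply]
      exact e.symm
    rw [e']
    exact hz
  have hpn : ∀ n : Fin 3, ∏ k, τ n k ^ wt k = ω ^ (((5 * n.val : ℕ)) : ℤ) := fun n => by
    have h6 : ∀ k : Fin chevE6.rank, τ n k ^ wt k =
        ω ^ ((([1, 0, 0, 0, 0, 2].getD k.val 0 * n.val : ℕ) : ℤ) * wt k) := fun k => by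
      rw [zpow_mul, zpow_natCast]
    rw [Finset.prod_congr rfl fun k _ => h6 k]
    show ∏ k : Fin 6, _ = _
    simp only [Fin.prod_univ_six, ← zpow_add]
    congr 1
    simp [wt]
    omega
  have hprod : (∏ k, τ i k ^ wt k) * (∏ k, τ j k ^ wt k)⁻¹ = 1 := by
    rw [← hkey, ← Finset.prod_inv_distrib, ← Finset.prod_mul_distrib]
    refine Finset.prod_congr rfl fun k _ => ?_
    rw [← inv_zpow, ← mul_zpow]
    congr 1
  rw [hpn, hpn, mul_inv_eq_one, zpow_natCast, zpow_natCast, pow_eq_pow_iff_modEq, hord] at hprod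
  clear hkey hsplit he g
  revert hprod
  exact (by decide : ∀ i j : Fin 3, 5 * i.val ≡ 5 * j.val [MOD 3] → i = j) i j

/-- The simple group ²E₆(2) (the twisted group of type E₆ over the field with 4 elements) contains at least three pairwise non-conjugate subgroups isomorphic to the Chevalley group F₄(2). -/
theorem result {K : Type*} [Field K] [Fintype K] (hK : Fintype.card K = 4) :
    ∃ H : Fin 3 → Subgroup (Cfsg.Lie.twistedE6 K 2),
      (∀ i, Nonempty ((H i) ≃* Cfsg.Lie.chevF4.group (ZMod 2))) ∧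
      (∀ i j, i ≠ j → ∀ g : (Cfsg.Lie.twistedE6 K 2), (H i).map (MulAut.conj g).toMonoidHom ≠ H j) :=
  main hK

end Cfsg.Agent.S5743
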