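import Cfsg.Statements.S5747
-- import your own Cfsg.Agent.* helpers here

set_option autoImplicit false
open Cfsg

namespace Cfsg.Agent.S5747


section helpers
variable (G : Type*) {Ω : Type*} [Group G] [MulAction G Ω]

/-- irredundant base -/
def IsIB {t : ℕ} (f : Fin t → Ω) : Prop :=
  (∀ g : G, (∀ i : Fin t, g • f i = f i) → g = 1) ∧
    ∀ i : Fin t, ∃ g : G, (∀ j : Fin t, j < i → g • f j = f j) ∧ g • f i ≠ f i

/-- independent base -/
def IsIndepBase (s : Finset Ω) : Prop :=
  (∀ g : G, (∀ x ∈ s, g • x = x) → g = 1) ∧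
    ∀ x ∈ s, ∃ g : G, (∀ y ∈ s, y ≠ x → g • y = y) ∧ g • x ≠ x

theorem exists_IB_le (t : ℕ) : ∀ (f : Fin t → Ω), (∀ g : G, (∀ i, g • f i = f i) → g = 1) →
    ∃ (t' : ℕ) (f' : Fin t' → Ω), t' ≤ t ∧ IsIB G f' := by
  induction t with
  | zero => exact fun f hf => ⟨0, f, le_rfl, hf, fun i => i.elim0⟩
  | succ t ih =>
    intro f hf
    by_cases h : IsIB G f
    · exact ⟨_, f, le_rfl, h⟩
    simp only [IsIB, not_forall, not_exists, not_and, not_not] at h
    obtain ⟨i, hi⟩ := h hf
    have hb : ∀ g : G, (∀ k, g • (f ∘ i.succAbove) k = (f ∘ i.succAbove) k) → g = 1 := by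
      intro g hg
      refine hf g fun j => ?_
      by_cases hj : j = i
      · subst hj
        refine hi g fun k hk => ?_
        obtain ⟨l, rfl⟩ := Fin.exists_succAbove_eq (ne_of_lt hk)
        exact hg l
      · obtain ⟨l, rfl⟩ := Fin.exists_succAbove_eq hj
        exact hg l
    obtain ⟨t', f', ht, hf'⟩ := ih _ hb
    exact ⟨t', f', by omega, hf'⟩

theorem indep_of_reorder [DecidableEq Ω]
    (H : ∀ (t : ℕ) (f : Fin t → Ω) (σ : Equiv.Perm (Fin t)), IsIB G f → IsIB G (f ∘ σ))
    {t : ℕ} {f : Fin t → Ω} (hf : IsIB G f) :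
    IsIndepBase G (Finset.univ.image f) ∧ (Finset.univ.image f).card = t := by
  have hind : ∀ i, ∃ g : G, (∀ j, j ≠ i → g • f j = f j) ∧ g • f i ≠ f i := by
    intro i
    obtain ⟨m, rfl⟩ : ∃ m, t = m + 1 := ⟨t - 1, by have := i.isLt; omega⟩
    obtain ⟨g, hg, hgi⟩ := (H _ f (Equiv.swap i (Fin.last m)) hf).2 (Fin.last m)
    simp only [Function.comp_apply, Equiv.swap_apply_right] at hg hgi
    refine ⟨g, fun j hj => ?_, hgi⟩
    have := hg (Equiv.swap i (Fin.last m) j) ?_
    · rwa [Equiv.swap_apply_self] at this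
    · refine lt_of_le_of_ne (Fin.le_last _) fun h => hj ?_
      rwa [Equiv.swap_apply_eq_iff, Equiv.swap_apply_right] at h
  have hinj : Function.Injective f := by
    intro i j hij
    by_contra hne
    obtain ⟨g, hg, hgi⟩ := hind i
    exact hgi (hij ▸ hg j (Ne.symm hne))
  refine ⟨⟨fun g hg => hf.1 g fun i => hg _ (by simp), ?_⟩, ?_⟩
  · intro x hx
    simp only [Finset.mem_image, Finset.mem_univ, true_and] at hx
    obtain ⟨i, rfl⟩ := hx
    obtain ⟨g, hg, hgi⟩ := hind i
    refine ⟨g, fun y hy hne => ?_, hgi⟩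
    simp only [Finset.mem_image, Finset.mem_univ, true_and] at hy
    obtain ⟨j, rfl⟩ := hy
    exact hg j fun h => hne (h ▸ rfl)
  · rw [Finset.card_image_of_injective _ hinj, Finset.card_univ, Fintype.card_fin]

theorem exchange [DecidableEq Ω]
    (H : ∀ (t : ℕ) (f : Fin t → Ω) (σ : Equiv.Perm (Fin t)), IsIB G f → IsIB G (f ∘ σ))
    {s : Finset Ω} (hs : IsIndepBase G s) {b c : Ω} (hb : b ∈ s) {g : G}
    (hg : ∀ y ∈ s, y ≠ b → g • y = y) (hgc : g • c ≠ c) (hcb : c ≠ b) :
    IsIndepBase G (insert c (s.erase b)) := by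
  obtain ⟨e, he⟩ : ∃ e : Fin (s.erase b).card → Ω, Finset.univ.image e = s.erase b ∧
      Function.Injective e := by
    refine ⟨fun i => ((s.erase b).equivFin.symm i : Ω), ?_,
      Subtype.val_injective.comp (Equiv.injective _)⟩
    ext x
    simp only [Finset.mem_image, Finset.mem_univ, true_and]
    exact ⟨fun ⟨i, hi⟩ => hi ▸ Finset.coe_mem _, fun hx => ⟨(s.erase b).equivFin ⟨x, hx⟩, by simp⟩⟩
  obtain ⟨he, hinj⟩ := he
  have hmem : ∀ i, e i ∈ s ∧ e i ≠ b := fun i => by
    have : e i ∈ Finset.univ.image e := by simp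
    rw [he, Finset.mem_erase] at this
    exact ⟨this.2, this.1⟩
  have hall : ∀ y ∈ s, y ≠ b → ∃ i, e i = y := fun y hy hne => by
    have : y ∈ Finset.univ.image e := by rw [he]; simp [hy, hne]
    simpa using this
  have hcnot : c ∉ s.erase b := fun h => by
    rw [Finset.mem_erase] at h
    exact hgc (hg c h.2 h.1)
  set f1 := Fin.snoc (α := fun _ => Ω) e c with hf1
  have himg : Finset.univ.image f1 = insert c (s.erase b) := by
    ext x
    simp only [Finset.mem_image, Finset.mem_univ, true_and, Finset.mem_insert, ← he]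
    constructor
    · rintro ⟨i, rfl⟩
      induction i using Fin.lastCases <;> simp [hf1]
    · rintro (rfl | ⟨i, rfl⟩)
      · exact ⟨Fin.last _, by simp [hf1]⟩
      · exact ⟨i.castSucc, by simp [hf1]⟩
  have hirr : ∀ i, ∃ k : G, (∀ j, j < i → k • f1 j = f1 j) ∧ k • f1 i ≠ f1 i := by
    intro i
    induction i using Fin.lastCases with
    | last =>
      refine ⟨g, fun j hj => ?_, by simpa [hf1] using hgc⟩
      induction j using Fin.lastCases with
      | last => exact absurd hj (lt_irrefl _)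
      | cast j => simpa [hf1] using hg _ (hmem j).1 (hmem j).2
    | cast i =>
      obtain ⟨k, hk, hki⟩ := hs.2 (e i) (hmem i).1
      refine ⟨k, fun j hj => ?_, by simpa [hf1] using hki⟩
      induction j using Fin.lastCases with
      | last => exact absurd hj (not_lt.2 (Fin.le_last _))
      | cast j =>
        simp only [hf1, Fin.snoc_castSucc]
        exact hk _ (hmem j).1 fun h => (Fin.castSucc_lt_castSucc_iff.1 hj).ne (hinj h)
  by_cases hbase : ∀ k : G, (∀ i, k • f1 i = f1 i) → k = 1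
  · exact himg ▸ (indep_of_reorder G H (f := f1) ⟨hbase, hirr⟩).1
  exfalso
  simp only [not_forall] at hbase
  obtain ⟨h, hh, hh1⟩ := hbase
  have hhe : ∀ j, h • e j = e j := fun j => by simpa [hf1] using hh j.castSucc
  have hhb : h • b ≠ b := fun hb' => hh1 <| hs.1 h fun y hy => by
    by_cases hy' : y = b
    · rw [hy', hb']
    · obtain ⟨i, rfl⟩ := hall y hy hy'
      exact hhe i
  set f2 := Fin.snoc (α := fun _ => Ω) f1 b with hf2
  have h2 : IsIB G f2 := by
    refine ⟨fun k hk => hs.1 k fun y hy => ?_, fun i => ?_⟩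
    · by_cases hy' : y = b
      · simpa [hf2, hy'] using hk (Fin.last _)
      · obtain ⟨i, rfl⟩ := hall y hy hy'
        simpa [hf2, hf1] using hk i.castSucc.castSucc
    · induction i using Fin.lastCases with
      | last =>
        refine ⟨h, fun j hj => ?_, by simpa [hf2] using hhb⟩
        induction j using Fin.lastCases with
        | last => exact absurd hj (lt_irrefl _)
        | cast j => simpa [hf2] using hh j
      | cast i =>
        obtain ⟨k, hk, hki⟩ := hirr i
        refine ⟨k, fun j hj => ?_, by simpa [hf2] using hki⟩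
        induction j using Fin.lastCases with
        | last => exact absurd hj (not_lt.2 (Fin.le_last _))
        | cast j => simpa [hf2] using hk j (Fin.castSucc_lt_castSucc_iff.1 hj)
  obtain ⟨⟨-, hind⟩, -⟩ := indep_of_reorder G H h2
  have hrange : ∀ y, y = c ∨ y = b ∨ y ∈ s.erase b → y ∈ Finset.univ.image f2 := by
    intro y hy
    simp only [Finset.mem_image, Finset.mem_univ, true_and]
    rcases hy with rfl | rfl | hy
    · exact ⟨(Fin.last _).castSucc, by simp [hf2, hf1]⟩
    · exact ⟨Fin.last _, by simp [hf2]⟩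
    · obtain ⟨i, rfl⟩ := hall y (Finset.mem_of_mem_erase hy) (Finset.ne_of_mem_erase hy)
      exact ⟨i.castSucc.castSucc, by simp [hf2, hf1]⟩
  obtain ⟨k, hk, hkc⟩ := hind c (hrange c (Or.inl rfl))
  refine hkc ?_
  rw [hs.1 k fun y hy => ?_, one_smul]
  by_cases hy' : y = b
  · rw [hy']; exact hk b (hrange b (Or.inr (Or.inl rfl))) (Ne.symm hcb)
  · have hye : y ∈ s.erase b := Finset.mem_erase.2 ⟨hy', hy⟩
    exact hk y (hrange y (Or.inr (Or.inr hye))) fun h => hcnot (h ▸ hye)

theorem card_eq_of_indep [DecidableEq Ω]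
    (H : ∀ (t : ℕ) (f : Fin t → Ω) (σ : Equiv.Perm (Fin t)), IsIB G f → IsIB G (f ∘ σ))
    {s' : Finset Ω} (hs' : IsIndepBase G s') :
    ∀ (k : ℕ) {s : Finset Ω}, (s \ s').card = k → IsIndepBase G s → s.card = s'.card := by
  intro k
  induction k with
  | zero =>
    intro s hk hs
    have hsub : s ⊆ s' := Finset.sdiff_eq_empty_iff_subset.1 (Finset.card_eq_zero.1 hk)
    refine congrArg _ (hsub.antisymm fun x hx => ?_)
    by_contra hxs
    obtain ⟨g, hg, hgx⟩ := hs'.2 x hx
    refine hgx ?_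
    rw [hs.1 g fun y hy => hg y (hsub hy) fun h => hxs (h ▸ hy), one_smul]
  | succ k ih =>
    intro s hk hs
    obtain ⟨b, hb⟩ := Finset.card_pos.1 (show 0 < (s \ s').card by omega)
    rw [Finset.mem_sdiff] at hb
    obtain ⟨g, hg, hgb⟩ := hs.2 b hb.1
    obtain ⟨c, hc, hgc⟩ : ∃ c ∈ s', g • c ≠ c := by
      by_contra hcon
      refine hgb ?_
      rw [hs'.1 g fun y hy => by_contra fun hy' => hcon ⟨y, hy, hy'⟩, one_smul]
    have hcb : c ≠ b := fun h => hb.2 (h ▸ hc)
    have hcs : c ∉ s.erase b := fun h => hgc (hg c (Finset.mem_of_mem_erase h) hcb)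
    have hd : (insert c (s.erase b) \ s').card = k := by
      rw [Finset.insert_sdiff_of_mem _ hc, Finset.erase_sdiff_comm, Finset.card_erase_of_mem
        (Finset.mem_sdiff.2 hb), hk]
      omega
    have := ih hd (exchange G H hs hb.1 hg hgc hcb)
    rw [Finset.card_insert_of_notMem hcs, Finset.card_erase_of_mem hb.1] at this
    have := Finset.card_pos.2 ⟨b, hb.1⟩
    omega

end helpers

/-- Let a finite group G act on a finite set Ω. An irredundant base is a sequence of points ω₁, …, ω_t whose pointwise stabiliser is trivial and in which each ω_i is moved by some element fixing ω₁, …, ω_{i−1}. Then all irredundant bases have the same length if and only if every reordering of an irredundant base is again an irredundant base. -/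
theorem result {G Ω : Type*} [Group G] [Finite G] [MulAction G Ω] [Fintype Ω] :
    (∀ (t t' : ℕ) (f : Fin t → Ω) (f' : Fin t' → Ω), ((∀ g : G, (∀ i : Fin t, g • f i = f i) → g = 1) ∧ ∀ i : Fin t, ∃ g : G, (∀ j : Fin t, j < i → g • f j = f j) ∧ g • f i ≠ f i) → ((∀ g : G, (∀ i : Fin t', g • f' i = f' i) → g = 1) ∧ ∀ i : Fin t', ∃ g : G, (∀ j : Fin t', j < i → g • f' j = f' j) ∧ g • f' i ≠ f' i) → t = t') ↔
    (∀ (t : ℕ) (f : Fin t → Ω) (σ : Equiv.Perm (Fin t)), ((∀ g : G, (∀ i : Fin t, g • f i = f i) → g = 1) ∧ ∀ i : Fin t, ∃ g : G, (∀ j : Fin t, j < i → g • f j = f j) ∧ g • f i ≠ f i) → ((∀ g : G, (∀ i : Fin t, g • (f ∘ σ) i = (f ∘ σ) i) → g = 1) ∧ ∀ i : Fin t, ∃ g : G, (∀ j : Fin t, j < i → g • (f ∘ σ) j = (f ∘ σ) j) ∧ g • (f ∘ σ) i ≠ (f ∘ σ) i)) := by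
  classical
  refine ⟨fun H t f σ hf => ?_, fun H t t' f f' hf hf' => ?_⟩
  · have hb : ∀ g : G, (∀ i, g • (f ∘ σ) i = (f ∘ σ) i) → g = 1 := fun g hg =>
      hf.1 g fun i => by simpa using hg (σ.symm i)
    refine ⟨hb, fun i => ?_⟩
    obtain ⟨m, rfl⟩ : ∃ m, t = m + 1 := ⟨t - 1, by have := i.isLt; omega⟩
    by_contra hcon
    simp only [not_exists, not_and, not_not] at hcon
    have hb' : ∀ g : G, (∀ k, g • ((f ∘ σ) ∘ i.succAbove) k = ((f ∘ σ) ∘ i.succAbove) k) → g = 1 := by
      intro g hg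
      refine hb g fun j => ?_
      by_cases hj : j = i
      · subst hj
        refine hcon g fun k hk => ?_
        obtain ⟨l, rfl⟩ := Fin.exists_succAbove_eq (ne_of_lt hk)
        exact hg l
      · obtain ⟨l, rfl⟩ := Fin.exists_succAbove_eq hj
        exact hg l
    obtain ⟨t', f', ht, hf'⟩ := exists_IB_le G m _ hb'
    have := H _ _ f f' hf hf'
    omega
  · obtain ⟨h1, c1⟩ := indep_of_reorder G H hf
    obtain ⟨h2, c2⟩ := indep_of_reorder G H hf'
    rw [← c1, ← c2]
    exact card_eq_of_indep G H h2 _ rfl h1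

end Cfsg.Agent.S5747
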