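import Cfsg.Statements.S5748
import Cfsg.Agent.Lib.PSL2.CTGroup
import Cfsg.Agent.Lib.PSL2.Classes
import Cfsg.Agent.S0182
import Cfsg.Agent.S1230

set_option autoImplicit false
open Cfsg

namespace Cfsg.Agent.S5748

/-- A finite non-abelian simple group in which commuting is a transitive relation on the non-identity elements (equivalently, every non-identity element has abelian centraliser) is isomorphic to PSL₂ over a field with 2^f elements for some f ≥ 2; conversely these groups have that property. -/
theorem result {G : Type*} [Group G] [Finite G] [IsSimpleGroup G] (hG : ¬ IsMulCommutative G) :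
    (∀ a b c : G, a ≠ 1 → b ≠ 1 → c ≠ 1 → Commute a b → Commute b c → Commute a c) ↔
    ∃ (F : Type) (_ : Field F) (_ : Fintype F) (f : ℕ), 2 ≤ f ∧ Fintype.card F = 2 ^ f ∧ Nonempty (G ≃* Matrix.ProjectiveSpecialLinearGroup (Fin 2) F) := by
  constructor
  · intro hct
    haveI : Fact (Nat.Prime 2) := ⟨Nat.prime_two⟩
    letI := Fintype.ofFinite G
    have hne : ¬ ∀ a b : G, a * b = b * a := fun h => hG (isMulCommutative_iff.2 h)
    have hCA : OddOrder.IsCA G := by
      intro x hx a ha b hb
      by_cases ha1 : a = 1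
      · simp [ha1]
      by_cases hb1 : b = 1
      · simp [hb1]
      exact (hct a x b ha1 hx hb1 (Subgroup.mem_centralizer_singleton_iff.1 ha)
        (Subgroup.mem_centralizer_singleton_iff.1 hb).symm).eq
    have h2 : 2 ∣ Nat.card G := by
      by_contra h
      exact hne (IsSimpleGroup.comm_iff_isSolvable.2 (S0182.result
        (Nat.not_even_iff_odd.1 fun he => h (even_iff_two_dvd.1 he)) hCA))
    obtain ⟨T⟩ := (inferInstance : Nonempty (Sylow 2 G))
    obtain ⟨hnc, hnn, h4, hC⟩ := PSL2.CT.sylow_facts hCA hne h2 T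
    obtain ⟨F, i1, i2, hF, hiso⟩ := S1230.result T hnc hnn hC
    obtain ⟨f, hf⟩ := T.2.exists_card_eq
    refine ⟨F, i1, i2, f, ?_, by rw [hF]; exact hf, hiso⟩
    change Nat.card (T : Subgroup G) = 2 ^ f at hf
    by_contra h
    have : 2 ^ f ≤ 2 ^ 1 := Nat.pow_le_pow_right two_pos (by omega)
    omega
  · rintro ⟨F, _, _, f, hf, hF, ⟨e⟩⟩ a b c ha hb hc hab hbc
    have h2 : (2 : F) = 0 := by
      have : ringChar F = 2 := FiniteField.even_card_iff_char_two.2 (by
        rw [hF]; exact Nat.even_iff.1 (Nat.even_pow.2 ⟨even_two, by omega⟩))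
      have h := ringChar.Nat.cast_ringChar (R := F)
      rw [this] at h
      exact_mod_cast h
    obtain ⟨g, hg⟩ := PSL2.mk_surjective (e b)
    have hgc : g ∉ Subgroup.center (Matrix.SpecialLinearGroup (Fin 2) F) := by
      intro h
      refine hb (e.injective ?_)
      rw [map_one, ← hg]
      exact (QuotientGroup.eq_one_iff g).2 h
    have hmem : ∀ x : G, Commute x b → ∃ k, Commute k g ∧ PSL2.mk k = e x := by
      intro x hx
      have hx' : e x ∈ Subgroup.centralizer ({PSL2.mk g} : Set _) := by
        rw [Subgroup.mem_centralizer_singleton_iff, hg, ← map_mul, ← map_mul, hx.eq]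
      rw [PSL2.psl_centralizer_eq (Or.inr h2)] at hx'
      obtain ⟨k, hk, hke⟩ := Subgroup.mem_map.1 hx'
      exact ⟨k, PSL2.mem_cent.1 hk, hke⟩
    obtain ⟨k, hk, hka⟩ := hmem a hab
    obtain ⟨l, hl, hlc⟩ := hmem c hbc.symm
    refine e.injective ?_
    rw [map_mul, map_mul, ← hka, ← hlc, ← map_mul, ← map_mul, (PSL2.cent_comm hgc hk hl).eq]

end Cfsg.Agent.S5748
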