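import Cfsg.Statements.S5754
-- import your own Cfsg.Agent.* helpers here

set_option autoImplicit false
open Cfsg

namespace Cfsg.Agent.S5754


section helpers
variable {F V : Type*} [Field F] [AddCommGroup V] [Module F V]

theorem exists_reflection (Q : QuadraticForm F V) (v : V) (hv : Q v ≠ 0) :
    ∃ r : Q.IsometryEquiv Q, ∀ x, r x = x - (QuadraticMap.polar Q x v / Q v) • v := by
  set c : V → F := fun x => QuadraticMap.polar Q x v / Q v with hc
  let f : V →ₗ[F] V :=
    { toFun := fun x => x - c x • v
      map_add' := by
        intro x y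
        simp only [hc, QuadraticMap.polar_add_left, add_div, add_smul]
        abel
      map_smul' := by
        intro a x
        simp only [hc, QuadraticMap.polar_smul_left, smul_eq_mul, RingHom.id_apply, smul_sub, smul_smul]
        rw [mul_div_assoc] }
  have hinv : ∀ x, f (f x) = x := by
    intro x
    show x - c x • v - c (x - c x • v) • v = x
    have : c (x - c x • v) = - c x := by
      simp only [hc, QuadraticMap.polar_sub_left, QuadraticMap.polar_smul_left, smul_eq_mul,
        QuadraticMap.polar_self]
      field_simp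
      ring
    rw [this, neg_smul]
    abel
  let e : V ≃ₗ[F] V := LinearEquiv.ofInvolutive f hinv
  refine ⟨{ e with map_app' := ?_ }, fun x => rfl⟩
  intro x
  show Q (x - c x • v) = Q x
  have h := QuadraticMap.map_add Q (x - c x • v) (c x • v)
  rw [sub_add_cancel, QuadraticMap.map_smul, QuadraticMap.polar_smul_right,
    QuadraticMap.polar_sub_left, QuadraticMap.polar_smul_left, QuadraticMap.polar_self] at h
  simp only [smul_eq_mul, nsmul_eq_mul, Nat.cast_ofNat] at h
  have hcx : c x * Q v = QuadraticMap.polar Q x v := by
    simp only [hc]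
    field_simp
  rw [← hcx] at h
  linear_combination -h

theorem polar_eq_sub (Q : QuadraticForm F V) (x y : V) :
    QuadraticMap.polar Q x y = Q x + Q y - Q (x - y) := by
  have h := QuadraticMap.map_add Q (x - y) y
  rw [sub_add_cancel, QuadraticMap.polar_sub_left, QuadraticMap.polar_self] at h
  simp only [nsmul_eq_mul, Nat.cast_ofNat] at h
  linear_combination -h

end helpers

/-- Let V be a finite-dimensional vector space over a finite field F carrying an anisotropic quadratic form Q (Q(v) = 0 only for v = 0). Then the group of all maps v ↦ φ(v) + c, with φ an isometry of Q and c ∈ V, acts on V as a binary permutation group: given n ≥ 2 and two n-tuples u, u' of vectors such that every pair of corresponding entries of u is carried to that of u' by such a map, one such map carries u to u'. -/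
theorem result {F V : Type*} [Field F] [Finite F] [AddCommGroup V] [Module F V] [Module.Finite F V]
    (Q : QuadraticForm F V) (hQ : Q.Anisotropic) (n : ℕ) (hn : 2 ≤ n) (u u' : Fin n → V)
    (h2 : ∀ i j : Fin n, i ≠ j → ∃ (φ : Q.IsometryEquiv Q) (c : V), φ (u i) + c = u' i ∧ φ (u j) + c = u' j) :
    ∃ (φ : Q.IsometryEquiv Q) (c : V), ∀ i, φ (u i) + c = u' i := by
  have hdist : ∀ i j, Q (u i - u j) = Q (u' i - u' j) := by
    intro i j
    by_cases h : i = j
    · subst h; simp
    · obtain ⟨φ, c, h1, h2⟩ := h2 i j h
      rw [← h1, ← h2, add_sub_add_right_eq_sub, ← map_sub, QuadraticMap.IsometryEquiv.map_app]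
  let o : Fin n := ⟨0, by omega⟩
  suffices key : ∀ k : ℕ, ∃ φ : Q.IsometryEquiv Q,
      ∀ i : Fin n, i.val < k → φ (u i - u o) = u' i - u' o by
    obtain ⟨φ, hφ⟩ := key n
    refine ⟨φ, u' o - φ (u o), fun i => ?_⟩
    have := hφ i i.isLt
    rw [map_sub] at this
    rw [← add_sub_assoc, add_sub_right_comm, this, sub_add_cancel]
  intro k
  induction k with
  | zero => exact ⟨QuadraticMap.IsometryEquiv.refl Q, fun i hi => absurd hi (Nat.not_lt_zero _)⟩
  | succ k ih =>
    obtain ⟨φ, hφ⟩ := ih
    by_cases hk : k < n
    swap
    · exact ⟨φ, fun i _ => hφ i (lt_of_lt_of_le i.isLt (not_lt.1 hk))⟩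
    set kk : Fin n := ⟨k, hk⟩
    set a := φ (u kk - u o) with ha
    set b := u' kk - u' o with hb
    by_cases hab : a = b
    · refine ⟨φ, fun i hi => ?_⟩
      rcases Nat.lt_succ_iff_lt_or_eq.1 hi with hi | hi
      · exact hφ i hi
      · have : i = kk := Fin.ext hi
        subst this; exact hab
    have hv : Q (a - b) ≠ 0 := fun h => hab (sub_eq_zero.1 (hQ _ h))
    obtain ⟨r, hr⟩ := exists_reflection Q (a - b) hv
    have hQab : Q a = Q b := by
      rw [ha, hb, QuadraticMap.IsometryEquiv.map_app, hdist]
    refine ⟨φ.trans r, fun i hi => ?_⟩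
    show r (φ (u i - u o)) = u' i - u' o
    rcases Nat.lt_succ_iff_lt_or_eq.1 hi with hi | hi
    · rw [hr, hφ i hi]
      have h1 : Q ((u' i - u' o) - a) = Q ((u' i - u' o) - b) := by
        rw [← hφ i hi, ha, ← map_sub, QuadraticMap.IsometryEquiv.map_app, hφ i hi, hb,
          sub_sub_sub_cancel_right, sub_sub_sub_cancel_right, hdist]
      have h0 : QuadraticMap.polar Q (u' i - u' o) (a - b) = 0 := by
        rw [QuadraticMap.polar_sub_right, polar_eq_sub, polar_eq_sub, hQab, h1]
        ring
      rw [h0, zero_div, zero_smul, sub_zero]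
    · have : i = kk := Fin.ext hi
      subst this
      rw [← ha, hr, ← hb]
      have hd : QuadraticMap.polar Q a (a - b) = Q (a - b) := by
        rw [QuadraticMap.polar_sub_right, QuadraticMap.polar_self, polar_eq_sub Q a b, hQab]
        simp only [nsmul_eq_mul, Nat.cast_ofNat]
        ring
      rw [hd, div_self hv, one_smul, sub_sub_cancel]

end Cfsg.Agent.S5754
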