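import Cfsg.Statements.S5763
import Mathlib
-- import your own Cfsg.Agent.* helpers here

set_option autoImplicit false
open Cfsg

namespace Cfsg.Agent.S5763

open Equiv

/-- The pairing `i ↦ i ^^^ 1`. -/
def pr : Fin 8 → Fin 8 := ![1, 0, 3, 2, 5, 4, 7, 6]

/-- `σ` preserves the tree `{{0,1},{2,3}}, {{4,5},{6,7}}`. -/
def PresTree (σ : Fin 8 → Fin 8) : Prop :=
  (∀ i, σ (pr i) = pr (σ i)) ∧ ∀ i j, ((σ i).val / 4 = (σ j).val / 4 ↔ i.val / 4 = j.val / 4)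

instance (σ : Fin 8 → Fin 8) : Decidable (PresTree σ) := by unfold PresTree; infer_instance

/-- The stabiliser of the tree. -/
def treeGroup : Subgroup (Perm (Fin 8)) where
  carrier := {σ | PresTree σ}
  one_mem' := by show PresTree id; decide
  mul_mem' := fun {a b} ha hb => ⟨fun i => by
    show a (b (pr i)) = pr (a (b i))
    rw [hb.1, ha.1], fun i j => (ha.2 (b i) (b j)).trans (hb.2 i j)⟩
  inv_mem' := fun {a} ha => ⟨fun i => a.injective (by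
    rw [ha.1 (a⁻¹ i)]
    simp), fun i j => by
    have := (ha.2 (a⁻¹ i) (a⁻¹ j)).symm
    simpa using this⟩

theorem pr_spec : ∀ i j : Fin 8, i.val / 2 = j.val / 2 ↔ (j = i ∨ j = pr i) := by decide

theorem treeGroup_isPGroup : IsPGroup 2 treeGroup := by
  rintro ⟨σ, hσ⟩
  refine ⟨3, Subtype.ext (Equiv.ext fun i => ?_)⟩
  have h1 : ∀ i : Fin 8, (σ (σ i)).val / 4 = i.val / 4 := by
    intro i
    have e := hσ.2 (σ i) i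
    omega
  set τ := σ * σ with hτ
  have hτ1 : ∀ i : Fin 8, (τ i).val / 4 = i.val / 4 := h1
  have hτp : ∀ i j : Fin 8, (τ i).val / 2 = (τ j).val / 2 ↔ i.val / 2 = j.val / 2 := by
    intro i j
    rw [pr_spec, pr_spec]
    show (σ (σ j) = σ (σ i) ∨ σ (σ j) = pr (σ (σ i))) ↔ _
    rw [← hσ.1 (σ i), ← hσ.1 i]
    simp only [EmbeddingLike.apply_eq_iff_eq]
  have h2 : ∀ i : Fin 8, (τ (τ i)).val / 2 = i.val / 2 := by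
    intro i
    have a := hτ1 i
    have b := hτ1 (τ i)
    have c := hτp (τ i) i
    omega
  set ρ := τ * τ with hρ
  have hρ1 : ∀ i : Fin 8, (ρ i).val / 2 = i.val / 2 := h2
  have h3 : ∀ i : Fin 8, ρ (ρ i) = i := by
    intro i
    have a := hρ1 i
    have b := hρ1 (ρ i)
    have c : (ρ (ρ i)).val = (ρ i).val → (ρ i).val = i.val := fun h =>
      congrArg Fin.val (ρ.injective (Fin.ext h))
    have c2 : (ρ i).val = i.val → (ρ (ρ i)).val = (ρ i).val := fun h =>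
      congrArg Fin.val (congrArg ρ (Fin.ext h))
    refine Fin.ext ?_
    omega
  show (σ ^ 2 ^ 3) i = i
  have e : σ ^ 2 ^ 3 = ρ * ρ := by
    rw [hρ, hτ]
    norm_num [pow_succ, mul_assoc]
  rw [e]
  exact h3 i

/-- A sufficient condition for `PresTree`, on values. -/
def check (c : ℕ → ℕ) : Bool :=
  (c 1 == c 0 ^^^ 1) && (c 3 == c 2 ^^^ 1) && (c 5 == c 4 ^^^ 1) && (c 7 == c 6 ^^^ 1) &&
    (c 0 / 4 == c 2 / 4) && (c 4 / 4 == c 6 / 4) && (c 0 / 4 != c 4 / 4)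
/-- Witness involutions, by their values. -/
def wit : List (List ℕ) :=
  [[1, 0, 3, 2, 5, 4, 7, 6],
    [1, 0, 3, 2, 6, 7, 4, 5],
    [1, 0, 3, 2, 7, 6, 5, 4],
    [0, 1, 2, 3, 4, 5, 7, 6],
    [0, 1, 2, 3, 5, 4, 6, 7],
    [0, 1, 3, 2, 4, 5, 6, 7],
    [1, 0, 2, 3, 4, 5, 6, 7],
    [4, 5, 6, 7, 0, 1, 2, 3],
    [4, 5, 7, 6, 0, 1, 3, 2],
    [5, 4, 6, 7, 1, 0, 2, 3],
    [5, 4, 7, 6, 1, 0, 3, 2],
    [6, 7, 4, 5, 2, 3, 0, 1],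
    [6, 7, 5, 4, 3, 2, 0, 1],
    [7, 6, 4, 5, 2, 3, 1, 0],
    [7, 6, 5, 4, 3, 2, 1, 0]]
/-- Normal forms. -/
def cands : List (List ℕ) :=
  (List.range' 1 7).flatMap fun a1 =>
  (List.range' 1 7).flatMap fun a2 => if a2 == a1 then [] else
  (List.range' 1 7).flatMap fun a3 => if a3 == a1 || Nat.ble a3 a2 then [] else
  (List.range' 1 7).flatMap fun a4 => if [a1, a2, a3].elem a4 then [] else
  (List.range' 1 7).flatMap fun a5 => if [a1, a2, a3].elem a5 || Nat.ble a5 a4 then [] else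
  (List.range' 1 7).flatMap fun a6 => if [a1, a2, a3, a4, a5].elem a6 || Nat.ble a6 a4 then [] else
  (List.range' 1 7).flatMap fun a7 => if [a1, a2, a3, a4, a5].elem a7 || Nat.ble a7 a6 then [] else
  [[0, a1, a2, a3, a4, a5, a6, a7]]
/-- For each normal form the index of a witness. -/
def data : List (List ℕ × ℕ) :=
  [([0, 1, 2, 3, 4, 5, 6, 7], 0),
    ([0, 1, 2, 3, 4, 6, 5, 7], 0),
    ([0, 1, 2, 3, 4, 7, 5, 6], 0),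
    ([0, 1, 2, 4, 3, 5, 6, 7], 3),
    ([0, 1, 2, 4, 3, 6, 5, 7], 6),
    ([0, 1, 2, 4, 3, 7, 5, 6], 6),
    ([0, 1, 2, 5, 3, 4, 6, 7], 3),
    ([0, 1, 2, 5, 3, 6, 4, 7], 6),
    ([0, 1, 2, 5, 3, 7, 4, 6], 6),
    ([0, 1, 2, 6, 3, 4, 5, 7], 6),
    ([0, 1, 2, 6, 3, 5, 4, 7], 6),
    ([0, 1, 2, 6, 3, 7, 4, 5], 4),
    ([0, 1, 2, 7, 3, 4, 5, 6], 6),
    ([0, 1, 2, 7, 3, 5, 4, 6], 6),
    ([0, 1, 2, 7, 3, 6, 4, 5], 4),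
    ([0, 1, 3, 4, 2, 5, 6, 7], 3),
    ([0, 1, 3, 4, 2, 6, 5, 7], 6),
    ([0, 1, 3, 4, 2, 7, 5, 6], 6),
    ([0, 1, 3, 5, 2, 4, 6, 7], 3),
    ([0, 1, 3, 5, 2, 6, 4, 7], 6),
    ([0, 1, 3, 5, 2, 7, 4, 6], 6),
    ([0, 1, 3, 6, 2, 4, 5, 7], 6),
    ([0, 1, 3, 6, 2, 5, 4, 7], 6),
    ([0, 1, 3, 6, 2, 7, 4, 5], 4),
    ([0, 1, 3, 7, 2, 4, 5, 6], 6),
    ([0, 1, 3, 7, 2, 5, 4, 6], 6),
    ([0, 1, 3, 7, 2, 6, 4, 5], 4),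
    ([0, 1, 4, 5, 2, 3, 6, 7], 0),
    ([0, 1, 4, 5, 2, 6, 3, 7], 0),
    ([0, 1, 4, 5, 2, 7, 3, 6], 0),
    ([0, 1, 4, 6, 2, 3, 5, 7], 1),
    ([0, 1, 4, 6, 2, 5, 3, 7], 1),
    ([0, 1, 4, 6, 2, 7, 3, 5], 1),
    ([0, 1, 4, 7, 2, 3, 5, 6], 2),
    ([0, 1, 4, 7, 2, 5, 3, 6], 2),
    ([0, 1, 4, 7, 2, 6, 3, 5], 2),
    ([0, 1, 5, 6, 2, 3, 4, 7], 2),
    ([0, 1, 5, 6, 2, 4, 3, 7], 2),
    ([0, 1, 5, 6, 2, 7, 3, 4], 2),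
    ([0, 1, 5, 7, 2, 3, 4, 6], 1),
    ([0, 1, 5, 7, 2, 4, 3, 6], 1),
    ([0, 1, 5, 7, 2, 6, 3, 4], 1),
    ([0, 1, 6, 7, 2, 3, 4, 5], 0),
    ([0, 1, 6, 7, 2, 4, 3, 5], 0),
    ([0, 1, 6, 7, 2, 5, 3, 4], 0),
    ([0, 2, 1, 3, 4, 5, 6, 7], 0),
    ([0, 2, 1, 3, 4, 6, 5, 7], 0),
    ([0, 2, 1, 3, 4, 7, 5, 6], 0),
    ([0, 2, 1, 4, 3, 5, 6, 7], 3),
    ([0, 2, 1, 4, 3, 6, 5, 7], 14),
    ([0, 2, 1, 4, 3, 7, 5, 6], 12),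
    ([0, 2, 1, 5, 3, 4, 6, 7], 3),
    ([0, 2, 1, 5, 3, 6, 4, 7], 13),
    ([0, 2, 1, 5, 3, 7, 4, 6], 11),
    ([0, 2, 1, 6, 3, 4, 5, 7], 10),
    ([0, 2, 1, 6, 3, 5, 4, 7], 8),
    ([0, 2, 1, 6, 3, 7, 4, 5], 4),
    ([0, 2, 1, 7, 3, 4, 5, 6], 9),
    ([0, 2, 1, 7, 3, 5, 4, 6], 7),
    ([0, 2, 1, 7, 3, 6, 4, 5], 4),
    ([0, 2, 3, 4, 1, 5, 6, 7], 3),
    ([0, 2, 3, 4, 1, 6, 5, 7], 10),
    ([0, 2, 3, 4, 1, 7, 5, 6], 9),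
    ([0, 2, 3, 5, 1, 4, 6, 7], 3),
    ([0, 2, 3, 5, 1, 6, 4, 7], 8),
    ([0, 2, 3, 5, 1, 7, 4, 6], 7),
    ([0, 2, 3, 6, 1, 4, 5, 7], 14),
    ([0, 2, 3, 6, 1, 5, 4, 7], 13),
    ([0, 2, 3, 6, 1, 7, 4, 5], 4),
    ([0, 2, 3, 7, 1, 4, 5, 6], 12),
    ([0, 2, 3, 7, 1, 5, 4, 6], 11),
    ([0, 2, 3, 7, 1, 6, 4, 5], 4),
    ([0, 2, 4, 5, 1, 3, 6, 7], 1),
    ([0, 2, 4, 5, 1, 6, 3, 7], 4),
    ([0, 2, 4, 5, 1, 7, 3, 6], 4),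
    ([0, 2, 4, 6, 1, 3, 5, 7], 0),
    ([0, 2, 4, 6, 1, 5, 3, 7], 7),
    ([0, 2, 4, 6, 1, 7, 3, 5], 7),
    ([0, 2, 4, 7, 1, 3, 5, 6], 0),
    ([0, 2, 4, 7, 1, 5, 3, 6], 8),
    ([0, 2, 4, 7, 1, 6, 3, 5], 8),
    ([0, 2, 5, 6, 1, 3, 4, 7], 0),
    ([0, 2, 5, 6, 1, 4, 3, 7], 9),
    ([0, 2, 5, 6, 1, 7, 3, 4], 9),
    ([0, 2, 5, 7, 1, 3, 4, 6], 0),
    ([0, 2, 5, 7, 1, 4, 3, 6], 10),
    ([0, 2, 5, 7, 1, 6, 3, 4], 10),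
    ([0, 2, 6, 7, 1, 3, 4, 5], 1),
    ([0, 2, 6, 7, 1, 4, 3, 5], 3),
    ([0, 2, 6, 7, 1, 5, 3, 4], 3),
    ([0, 3, 1, 2, 4, 5, 6, 7], 0),
    ([0, 3, 1, 2, 4, 6, 5, 7], 0),
    ([0, 3, 1, 2, 4, 7, 5, 6], 0),
    ([0, 3, 1, 4, 2, 5, 6, 7], 3),
    ([0, 3, 1, 4, 2, 6, 5, 7], 13),
    ([0, 3, 1, 4, 2, 7, 5, 6], 11),
    ([0, 3, 1, 5, 2, 4, 6, 7], 3),
    ([0, 3, 1, 5, 2, 6, 4, 7], 14),
    ([0, 3, 1, 5, 2, 7, 4, 6], 12),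
    ([0, 3, 1, 6, 2, 4, 5, 7], 9),
    ([0, 3, 1, 6, 2, 5, 4, 7], 7),
    ([0, 3, 1, 6, 2, 7, 4, 5], 4),
    ([0, 3, 1, 7, 2, 4, 5, 6], 10),
    ([0, 3, 1, 7, 2, 5, 4, 6], 8),
    ([0, 3, 1, 7, 2, 6, 4, 5], 4),
    ([0, 3, 2, 4, 1, 5, 6, 7], 3),
    ([0, 3, 2, 4, 1, 6, 5, 7], 9),
    ([0, 3, 2, 4, 1, 7, 5, 6], 10),
    ([0, 3, 2, 5, 1, 4, 6, 7], 3),
    ([0, 3, 2, 5, 1, 6, 4, 7], 7),
    ([0, 3, 2, 5, 1, 7, 4, 6], 8),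
    ([0, 3, 2, 6, 1, 4, 5, 7], 13),
    ([0, 3, 2, 6, 1, 5, 4, 7], 14),
    ([0, 3, 2, 6, 1, 7, 4, 5], 4),
    ([0, 3, 2, 7, 1, 4, 5, 6], 11),
    ([0, 3, 2, 7, 1, 5, 4, 6], 12),
    ([0, 3, 2, 7, 1, 6, 4, 5], 4),
    ([0, 3, 4, 5, 1, 2, 6, 7], 1),
    ([0, 3, 4, 5, 1, 6, 2, 7], 4),
    ([0, 3, 4, 5, 1, 7, 2, 6], 4),
    ([0, 3, 4, 6, 1, 2, 5, 7], 0),
    ([0, 3, 4, 6, 1, 5, 2, 7], 8),
    ([0, 3, 4, 6, 1, 7, 2, 5], 8),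
    ([0, 3, 4, 7, 1, 2, 5, 6], 0),
    ([0, 3, 4, 7, 1, 5, 2, 6], 7),
    ([0, 3, 4, 7, 1, 6, 2, 5], 7),
    ([0, 3, 5, 6, 1, 2, 4, 7], 0),
    ([0, 3, 5, 6, 1, 4, 2, 7], 10),
    ([0, 3, 5, 6, 1, 7, 2, 4], 10),
    ([0, 3, 5, 7, 1, 2, 4, 6], 0),
    ([0, 3, 5, 7, 1, 4, 2, 6], 9),
    ([0, 3, 5, 7, 1, 6, 2, 4], 9),
    ([0, 3, 6, 7, 1, 2, 4, 5], 1),
    ([0, 3, 6, 7, 1, 4, 2, 5], 3),
    ([0, 3, 6, 7, 1, 5, 2, 4], 3),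
    ([0, 4, 1, 2, 3, 5, 6, 7], 3),
    ([0, 4, 1, 2, 3, 6, 5, 7], 12),
    ([0, 4, 1, 2, 3, 7, 5, 6], 14),
    ([0, 4, 1, 3, 2, 5, 6, 7], 3),
    ([0, 4, 1, 3, 2, 6, 5, 7], 11),
    ([0, 4, 1, 3, 2, 7, 5, 6], 13),
    ([0, 4, 1, 5, 2, 3, 6, 7], 0),
    ([0, 4, 1, 5, 2, 6, 3, 7], 0),
    ([0, 4, 1, 5, 2, 7, 3, 6], 0),
    ([0, 4, 1, 6, 2, 3, 5, 7], 1),
    ([0, 4, 1, 6, 2, 5, 3, 7], 1),
    ([0, 4, 1, 6, 2, 7, 3, 5], 1),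
    ([0, 4, 1, 7, 2, 3, 5, 6], 2),
    ([0, 4, 1, 7, 2, 5, 3, 6], 2),
    ([0, 4, 1, 7, 2, 6, 3, 5], 2),
    ([0, 4, 2, 3, 1, 5, 6, 7], 3),
    ([0, 4, 2, 3, 1, 6, 5, 7], 5),
    ([0, 4, 2, 3, 1, 7, 5, 6], 5),
    ([0, 4, 2, 5, 1, 3, 6, 7], 3),
    ([0, 4, 2, 5, 1, 6, 3, 7], 1),
    ([0, 4, 2, 5, 1, 7, 3, 6], 2),
    ([0, 4, 2, 6, 1, 3, 5, 7], 7),
    ([0, 4, 2, 6, 1, 5, 3, 7], 0),
    ([0, 4, 2, 6, 1, 7, 3, 5], 2),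
    ([0, 4, 2, 7, 1, 3, 5, 6], 8),
    ([0, 4, 2, 7, 1, 5, 3, 6], 0),
    ([0, 4, 2, 7, 1, 6, 3, 5], 1),
    ([0, 4, 3, 5, 1, 2, 6, 7], 3),
    ([0, 4, 3, 5, 1, 6, 2, 7], 1),
    ([0, 4, 3, 5, 1, 7, 2, 6], 2),
    ([0, 4, 3, 6, 1, 2, 5, 7], 8),
    ([0, 4, 3, 6, 1, 5, 2, 7], 0),
    ([0, 4, 3, 6, 1, 7, 2, 5], 2),
    ([0, 4, 3, 7, 1, 2, 5, 6], 7),
    ([0, 4, 3, 7, 1, 5, 2, 6], 0),
    ([0, 4, 3, 7, 1, 6, 2, 5], 1),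
    ([0, 4, 5, 6, 1, 2, 3, 7], 14),
    ([0, 4, 5, 6, 1, 3, 2, 7], 13),
    ([0, 4, 5, 6, 1, 7, 2, 3], 5),
    ([0, 4, 5, 7, 1, 2, 3, 6], 12),
    ([0, 4, 5, 7, 1, 3, 2, 6], 11),
    ([0, 4, 5, 7, 1, 6, 2, 3], 5),
    ([0, 4, 6, 7, 1, 2, 3, 5], 3),
    ([0, 4, 6, 7, 1, 3, 2, 5], 3),
    ([0, 4, 6, 7, 1, 5, 2, 3], 3),
    ([0, 5, 1, 2, 3, 4, 6, 7], 3),
    ([0, 5, 1, 2, 3, 6, 4, 7], 11),
    ([0, 5, 1, 2, 3, 7, 4, 6], 13),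
    ([0, 5, 1, 3, 2, 4, 6, 7], 3),
    ([0, 5, 1, 3, 2, 6, 4, 7], 12),
    ([0, 5, 1, 3, 2, 7, 4, 6], 14),
    ([0, 5, 1, 4, 2, 3, 6, 7], 0),
    ([0, 5, 1, 4, 2, 6, 3, 7], 0),
    ([0, 5, 1, 4, 2, 7, 3, 6], 0),
    ([0, 5, 1, 6, 2, 3, 4, 7], 2),
    ([0, 5, 1, 6, 2, 4, 3, 7], 2),
    ([0, 5, 1, 6, 2, 7, 3, 4], 2),
    ([0, 5, 1, 7, 2, 3, 4, 6], 1),
    ([0, 5, 1, 7, 2, 4, 3, 6], 1),
    ([0, 5, 1, 7, 2, 6, 3, 4], 1),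
    ([0, 5, 2, 3, 1, 4, 6, 7], 3),
    ([0, 5, 2, 3, 1, 6, 4, 7], 5),
    ([0, 5, 2, 3, 1, 7, 4, 6], 5),
    ([0, 5, 2, 4, 1, 3, 6, 7], 3),
    ([0, 5, 2, 4, 1, 6, 3, 7], 2),
    ([0, 5, 2, 4, 1, 7, 3, 6], 1),
    ([0, 5, 2, 6, 1, 3, 4, 7], 9),
    ([0, 5, 2, 6, 1, 4, 3, 7], 0),
    ([0, 5, 2, 6, 1, 7, 3, 4], 1),
    ([0, 5, 2, 7, 1, 3, 4, 6], 10),
    ([0, 5, 2, 7, 1, 4, 3, 6], 0),
    ([0, 5, 2, 7, 1, 6, 3, 4], 2),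
    ([0, 5, 3, 4, 1, 2, 6, 7], 3),
    ([0, 5, 3, 4, 1, 6, 2, 7], 2),
    ([0, 5, 3, 4, 1, 7, 2, 6], 1),
    ([0, 5, 3, 6, 1, 2, 4, 7], 10),
    ([0, 5, 3, 6, 1, 4, 2, 7], 0),
    ([0, 5, 3, 6, 1, 7, 2, 4], 1),
    ([0, 5, 3, 7, 1, 2, 4, 6], 9),
    ([0, 5, 3, 7, 1, 4, 2, 6], 0),
    ([0, 5, 3, 7, 1, 6, 2, 4], 2),
    ([0, 5, 4, 6, 1, 2, 3, 7], 13),
    ([0, 5, 4, 6, 1, 3, 2, 7], 14),
    ([0, 5, 4, 6, 1, 7, 2, 3], 5),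
    ([0, 5, 4, 7, 1, 2, 3, 6], 11),
    ([0, 5, 4, 7, 1, 3, 2, 6], 12),
    ([0, 5, 4, 7, 1, 6, 2, 3], 5),
    ([0, 5, 6, 7, 1, 2, 3, 4], 3),
    ([0, 5, 6, 7, 1, 3, 2, 4], 3),
    ([0, 5, 6, 7, 1, 4, 2, 3], 3),
    ([0, 6, 1, 2, 3, 4, 5, 7], 8),
    ([0, 6, 1, 2, 3, 5, 4, 7], 10),
    ([0, 6, 1, 2, 3, 7, 4, 5], 4),
    ([0, 6, 1, 3, 2, 4, 5, 7], 7),
    ([0, 6, 1, 3, 2, 5, 4, 7], 9),
    ([0, 6, 1, 3, 2, 7, 4, 5], 4),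
    ([0, 6, 1, 4, 2, 3, 5, 7], 1),
    ([0, 6, 1, 4, 2, 5, 3, 7], 1),
    ([0, 6, 1, 4, 2, 7, 3, 5], 1),
    ([0, 6, 1, 5, 2, 3, 4, 7], 2),
    ([0, 6, 1, 5, 2, 4, 3, 7], 2),
    ([0, 6, 1, 5, 2, 7, 3, 4], 2),
    ([0, 6, 1, 7, 2, 3, 4, 5], 0),
    ([0, 6, 1, 7, 2, 4, 3, 5], 0),
    ([0, 6, 1, 7, 2, 5, 3, 4], 0),
    ([0, 6, 2, 3, 1, 4, 5, 7], 5),
    ([0, 6, 2, 3, 1, 5, 4, 7], 5),
    ([0, 6, 2, 3, 1, 7, 4, 5], 4),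
    ([0, 6, 2, 4, 1, 3, 5, 7], 7),
    ([0, 6, 2, 4, 1, 5, 3, 7], 2),
    ([0, 6, 2, 4, 1, 7, 3, 5], 0),
    ([0, 6, 2, 5, 1, 3, 4, 7], 9),
    ([0, 6, 2, 5, 1, 4, 3, 7], 1),
    ([0, 6, 2, 5, 1, 7, 3, 4], 0),
    ([0, 6, 2, 7, 1, 3, 4, 5], 4),
    ([0, 6, 2, 7, 1, 4, 3, 5], 1),
    ([0, 6, 2, 7, 1, 5, 3, 4], 2),
    ([0, 6, 3, 4, 1, 2, 5, 7], 8),
    ([0, 6, 3, 4, 1, 5, 2, 7], 2),
    ([0, 6, 3, 4, 1, 7, 2, 5], 0),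
    ([0, 6, 3, 5, 1, 2, 4, 7], 10),
    ([0, 6, 3, 5, 1, 4, 2, 7], 1),
    ([0, 6, 3, 5, 1, 7, 2, 4], 0),
    ([0, 6, 3, 7, 1, 2, 4, 5], 4),
    ([0, 6, 3, 7, 1, 4, 2, 5], 1),
    ([0, 6, 3, 7, 1, 5, 2, 4], 2),
    ([0, 6, 4, 5, 1, 2, 3, 7], 4),
    ([0, 6, 4, 5, 1, 3, 2, 7], 4),
    ([0, 6, 4, 5, 1, 7, 2, 3], 4),
    ([0, 6, 4, 7, 1, 2, 3, 5], 10),
    ([0, 6, 4, 7, 1, 3, 2, 5], 9),
    ([0, 6, 4, 7, 1, 5, 2, 3], 5),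
    ([0, 6, 5, 7, 1, 2, 3, 4], 8),
    ([0, 6, 5, 7, 1, 3, 2, 4], 7),
    ([0, 6, 5, 7, 1, 4, 2, 3], 5),
    ([0, 7, 1, 2, 3, 4, 5, 6], 7),
    ([0, 7, 1, 2, 3, 5, 4, 6], 9),
    ([0, 7, 1, 2, 3, 6, 4, 5], 4),
    ([0, 7, 1, 3, 2, 4, 5, 6], 8),
    ([0, 7, 1, 3, 2, 5, 4, 6], 10),
    ([0, 7, 1, 3, 2, 6, 4, 5], 4),
    ([0, 7, 1, 4, 2, 3, 5, 6], 2),
    ([0, 7, 1, 4, 2, 5, 3, 6], 2),
    ([0, 7, 1, 4, 2, 6, 3, 5], 2),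
    ([0, 7, 1, 5, 2, 3, 4, 6], 1),
    ([0, 7, 1, 5, 2, 4, 3, 6], 1),
    ([0, 7, 1, 5, 2, 6, 3, 4], 1),
    ([0, 7, 1, 6, 2, 3, 4, 5], 0),
    ([0, 7, 1, 6, 2, 4, 3, 5], 0),
    ([0, 7, 1, 6, 2, 5, 3, 4], 0),
    ([0, 7, 2, 3, 1, 4, 5, 6], 5),
    ([0, 7, 2, 3, 1, 5, 4, 6], 5),
    ([0, 7, 2, 3, 1, 6, 4, 5], 4),
    ([0, 7, 2, 4, 1, 3, 5, 6], 8),
    ([0, 7, 2, 4, 1, 5, 3, 6], 1),
    ([0, 7, 2, 4, 1, 6, 3, 5], 0),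
    ([0, 7, 2, 5, 1, 3, 4, 6], 10),
    ([0, 7, 2, 5, 1, 4, 3, 6], 2),
    ([0, 7, 2, 5, 1, 6, 3, 4], 0),
    ([0, 7, 2, 6, 1, 3, 4, 5], 4),
    ([0, 7, 2, 6, 1, 4, 3, 5], 2),
    ([0, 7, 2, 6, 1, 5, 3, 4], 1),
    ([0, 7, 3, 4, 1, 2, 5, 6], 7),
    ([0, 7, 3, 4, 1, 5, 2, 6], 1),
    ([0, 7, 3, 4, 1, 6, 2, 5], 0),
    ([0, 7, 3, 5, 1, 2, 4, 6], 9),
    ([0, 7, 3, 5, 1, 4, 2, 6], 2),
    ([0, 7, 3, 5, 1, 6, 2, 4], 0),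
    ([0, 7, 3, 6, 1, 2, 4, 5], 4),
    ([0, 7, 3, 6, 1, 4, 2, 5], 2),
    ([0, 7, 3, 6, 1, 5, 2, 4], 1),
    ([0, 7, 4, 5, 1, 2, 3, 6], 4),
    ([0, 7, 4, 5, 1, 3, 2, 6], 4),
    ([0, 7, 4, 5, 1, 6, 2, 3], 4),
    ([0, 7, 4, 6, 1, 2, 3, 5], 9),
    ([0, 7, 4, 6, 1, 3, 2, 5], 10),
    ([0, 7, 4, 6, 1, 5, 2, 3], 5),
    ([0, 7, 5, 6, 1, 2, 3, 4], 7),
    ([0, 7, 5, 6, 1, 3, 2, 4], 8),
    ([0, 7, 5, 6, 1, 4, 2, 3], 5)]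
theorem data_good : data.all (fun p =>
    check (fun i => p.1.idxOf ((wit.getD p.2 []).getD (p.1.getD i 0) 0))) = true := by
  decide +kernel
theorem cands_eq : cands = data.map Prod.fst := by decide +kernel

theorem wit_spec : wit.all (fun w => check (fun i => w.getD i 0) &&
    ((List.range 8).any fun i => w.getD i 0 != i) &&
    ((List.range 8).all fun i => Nat.blt (w.getD i 0) 8 && w.getD (w.getD i 0) 0 == i)) = true := by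
  decide +kernel

theorem presTree_of_check (c : Fin 8 → Fin 8) (d : ℕ → ℕ) (hd : ∀ i : Fin 8, d i.val = (c i).val)
    (h : check d = true) : PresTree c := by
  simp only [check, Bool.and_eq_true, beq_iff_eq, bne_iff_ne] at h
  obtain ⟨⟨⟨⟨⟨⟨h1, h3⟩, h5⟩, h7⟩, h02⟩, h46⟩, h04⟩ := h
  have hx : ∀ v : Fin 8, v.val ^^^ 1 = (pr v).val := by decide
  have e0 : d 0 = (c 0).val := hd 0; have e1 : d 1 = (c 1).val := hd 1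
  have e2 : d 2 = (c 2).val := hd 2; have e3 : d 3 = (c 3).val := hd 3
  have e4 : d 4 = (c 4).val := hd 4; have e5 : d 5 = (c 5).val := hd 5
  have e6 : d 6 = (c 6).val := hd 6; have e7 : d 7 = (c 7).val := hd 7
  rw [e0, e1, hx] at h1; rw [e2, e3, hx] at h3; rw [e4, e5, hx] at h5; rw [e6, e7, hx] at h7
  rw [e0, e2] at h02; rw [e4, e6] at h46; rw [e0, e4] at h04
  replace h1 := Fin.ext h1; replace h3 := Fin.ext h3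
  replace h5 := Fin.ext h5; replace h7 := Fin.ext h7
  have hpp : ∀ i, pr (pr i) = i := by decide
  have hpq : ∀ i, (pr i).val / 4 = i.val / 4 := by decide
  have hl : ∀ i : Fin 8, (c i).val / 4 = if i.val / 4 = 0 then (c 0).val / 4 else (c 4).val / 4 := by
    intro i
    fin_cases i <;> simp [h1, h3, h5, h7, hpq, h02, h46]
  refine ⟨fun i => ?_, fun i j => ?_⟩
  · fin_cases i <;> simp [pr] <;>
      first
        | exact h1 | exact h3 | exact h5 | exact h7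
        | (rw [h1]; exact (hpp _).symm) | (rw [h3]; exact (hpp _).symm)
        | (rw [h5]; exact (hpp _).symm) | (rw [h7]; exact (hpp _).symm)
  · rw [hl i, hl j]
    split <;> split <;> constructor <;> omega

/-- The elements used to normalise. -/
def moves : List (Perm (Fin 8)) :=
  [1, swap 0 1, swap 0 2 * swap 1 3, swap 0 2 * swap 1 3 * swap 0 1,
    swap 0 4 * swap 1 5 * swap 2 6 * swap 3 7, swap 0 4 * swap 1 5 * swap 2 6 * swap 3 7 * swap 0 1,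
    swap 0 4 * swap 1 5 * swap 2 6 * swap 3 7 * (swap 0 2 * swap 1 3),
    swap 0 4 * swap 1 5 * swap 2 6 * swap 3 7 * (swap 0 2 * swap 1 3 * swap 0 1),
    swap 2 3, swap 4 5, swap 6 7, swap 4 6 * swap 5 7]

theorem moves_good : moves.all (fun p => check fun i => (p (Fin.ofNat 8 i)).val) = true := by
  decide +kernel

theorem moves_mem (p : Perm (Fin 8)) (hp : p ∈ moves) : PresTree (p : Fin 8 → Fin 8) :=
  presTree_of_check p _ (fun i => by simp) (List.all_eq_true.1 moves_good p hp)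

theorem moves_transitive : ∀ k : Fin 8, ∃ p ∈ moves, p 0 = k := by decide +kernel

/-- `x` and `x p` have the same witnesses. -/
def HasWit (x : Perm (Fin 8)) : Prop :=
  ∃ w : Perm (Fin 8), w ∈ treeGroup ∧ w ≠ 1 ∧ x⁻¹ * w * x ∈ treeGroup

theorem hasWit_of_mul {x p : Perm (Fin 8)} (hp : p ∈ moves) (h : HasWit (x * p)) : HasWit x := by
  obtain ⟨w, h1, h2, h3⟩ := h
  have hp' : p ∈ treeGroup := moves_mem p hp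
  refine ⟨w, h1, h2, ?_⟩
  have := mul_mem (mul_mem hp' h3) (inv_mem hp')
  rwa [show p * ((x * p)⁻¹ * w * (x * p)) * p⁻¹ = x⁻¹ * w * x by group] at this

theorem hasWit_normal {x : Perm (Fin 8)} (h0 : x 0 = 0) (h23 : x 2 < x 3) (h45 : x 4 < x 5)
    (h67 : x 6 < x 7) (h46 : x 4 < x 6) : HasWit x := by
  have ne : ∀ i j : Fin 8, i ≠ j → (x i).val ≠ (x j).val := fun i j h e => h (x.injective (Fin.ext e))
  have rng : ∀ i : Fin 8, i ≠ 0 → (x i).val ∈ List.range' 1 7 := by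
    intro i hi
    have := ne i 0 hi
    rw [h0] at this
    have := (x i).isLt
    simp only [List.mem_range'_1, Fin.val_zero] at *
    omega
  have mem : [0, (x 1).val, (x 2).val, (x 3).val, (x 4).val, (x 5).val, (x 6).val, (x 7).val] ∈
      cands := by
    unfold cands
    refine List.mem_flatMap.2 ⟨_, rng 1 (by decide), List.mem_flatMap.2 ⟨_, rng 2 (by decide), ?_⟩⟩
    rw [if_neg (by simpa using ne 2 1 (by decide))]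
    refine List.mem_flatMap.2 ⟨_, rng 3 (by decide), ?_⟩
    rw [if_neg (by simpa using And.intro (ne 3 1 (by decide)) h23)]
    refine List.mem_flatMap.2 ⟨_, rng 4 (by decide), ?_⟩
    rw [if_neg (by simp [ne 4 1, ne 4 2, ne 4 3])]
    refine List.mem_flatMap.2 ⟨_, rng 5 (by decide), ?_⟩
    rw [if_neg (by simp [ne 5 1, ne 5 2, ne 5 3, h45])]
    refine List.mem_flatMap.2 ⟨_, rng 6 (by decide), ?_⟩
    rw [if_neg (by simp [ne 6 1, ne 6 2, ne 6 3, ne 6 4, ne 6 5, h46])]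
    refine List.mem_flatMap.2 ⟨_, rng 7 (by decide), ?_⟩
    rw [if_neg (by simp [ne 7 1, ne 7 2, ne 7 3, ne 7 4, ne 7 5, h67])]
    exact List.mem_singleton_self _
  rw [cands_eq, List.mem_map] at mem
  obtain ⟨⟨a, k⟩, hak, ha⟩ := mem
  have hgood := List.all_eq_true.1 data_good _ hak
  simp only at ha hgood
  have hlist : a = (List.finRange 8).map fun i => (x i).val := by
    rw [ha]
    conv_lhs => rw [show (0 : ℕ) = (x 0).val by rw [h0]; rfl]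
    rfl
  have hget : ∀ i : Fin 8, a.getD i.val 0 = (x i).val := by
    intro i
    rw [hlist]
    simp [List.getD]
  have hidx : ∀ v : Fin 8, a.idxOf v.val = (x⁻¹ v).val := by
    intro v
    obtain ⟨i, rfl⟩ := x.surjective v
    have hnd : ((List.finRange 8).map fun i => (x i).val).Nodup :=
      (List.nodup_finRange 8).map (Fin.val_injective.comp x.injective)
    have h := hnd.idxOf_getElem i.val (by simp)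
    rw [hlist]
    simpa using h
  have hk : wit.getD k [] ∈ wit := by
    rcases Nat.lt_or_ge k wit.length with h | h
    · rw [List.getD_eq_getElem _ _ h]
      exact List.getElem_mem h
    · rw [List.getD_eq_default _ _ h] at hgood
      simp [check, List.getD] at hgood
  generalize wit.getD k [] = w at hk hgood
  have hw := List.all_eq_true.1 wit_spec _ hk
  simp only [Bool.and_eq_true, List.all_eq_true, List.any_eq_true, List.mem_range, bne_iff_ne,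
    beq_iff_eq, Nat.blt_eq] at hw
  obtain ⟨⟨hP, j, hj, hne⟩, hinv⟩ := hw
  let f : Fin 8 → Fin 8 := fun i => ⟨w.getD i.val 0, (hinv i.val i.isLt).1⟩
  have hf : Function.Involutive f := fun i => Fin.ext (hinv i.val i.isLt).2
  refine ⟨hf.toPerm, presTree_of_check f _ (fun i => rfl) hP, fun e => hne ?_, ?_⟩
  · exact congrArg (fun s : Perm (Fin 8) => (s ⟨j, hj⟩).val) e
  · refine presTree_of_check _ _ (fun i => ?_) hgood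
    rw [hget i]
    exact hidx (f (x i))

/-- Every double coset of the tree stabiliser has a witness. -/
theorem hasWit (x : Perm (Fin 8)) : HasWit x := by
  have ne : ∀ (y : Perm (Fin 8)) (i j : Fin 8), i ≠ j → y i ≠ y j := fun y i j h e => h (y.injective e)
  suffices A : ∀ y : Perm (Fin 8), y 0 = 0 → HasWit y by
    obtain ⟨p, hp, hp0⟩ := moves_transitive (x⁻¹ 0)
    exact hasWit_of_mul hp (A _ (by rw [Perm.mul_apply, hp0]; simp))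
  suffices B : ∀ y : Perm (Fin 8), y 0 = 0 → y 2 < y 3 → HasWit y by
    intro y h0
    rcases lt_or_gt_of_ne (ne y 2 3 (by decide)) with h | h
    · exact B y h0 h
    · exact hasWit_of_mul (p := swap 2 3) (by simp [moves]) (B _
        (by rw [Perm.mul_apply, swap_apply_of_ne_of_ne (by decide) (by decide), h0])
        (by simpa using h))
  suffices C : ∀ y : Perm (Fin 8), y 0 = 0 → y 2 < y 3 → y 4 < y 5 → HasWit y by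
    intro y h0 h1
    rcases lt_or_gt_of_ne (ne y 4 5 (by decide)) with h | h
    · exact C y h0 h1 h
    · exact hasWit_of_mul (p := swap 4 5) (by simp [moves]) (C _
        (by simpa [swap_apply_of_ne_of_ne] using h0)
        (by simpa [swap_apply_of_ne_of_ne] using h1) (by simpa using h))
  suffices D : ∀ y : Perm (Fin 8), y 0 = 0 → y 2 < y 3 → y 4 < y 5 → y 6 < y 7 → HasWit y by
    intro y h0 h1 h2
    rcases lt_or_gt_of_ne (ne y 6 7 (by decide)) with h | h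
    · exact D y h0 h1 h2 h
    · exact hasWit_of_mul (p := swap 6 7) (by simp [moves]) (D _
        (by simpa [swap_apply_of_ne_of_ne] using h0)
        (by simpa [swap_apply_of_ne_of_ne] using h1) (by simpa [swap_apply_of_ne_of_ne] using h2)
        (by simpa using h))
  intro y h0 h1 h2 h3
  rcases lt_or_gt_of_ne (ne y 4 6 (by decide)) with h | h
  · exact hasWit_normal h0 h1 h2 h3 h
  · exact hasWit_of_mul (p := swap 4 6 * swap 5 7) (by simp [moves]) (hasWit_normal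
      (by simpa [swap_apply_of_ne_of_ne] using h0)
      (by simpa [swap_apply_of_ne_of_ne] using h1)
      (by simpa [swap_apply_of_ne_of_ne] using h3)
      (by simpa [swap_apply_of_ne_of_ne] using h2)
      (by simpa [swap_apply_of_ne_of_ne] using h))

theorem main (H : Sylow 2 (Perm (Fin 8))) (x : Perm (Fin 8)) :
    (H : Subgroup (Perm (Fin 8))) ⊓
      (H : Subgroup (Perm (Fin 8))).map (MulAut.conj x).toMonoidHom ≠ ⊥ := by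
  haveI : Fact (Nat.Prime 2) := ⟨Nat.prime_two⟩
  obtain ⟨T, hT⟩ := treeGroup_isPGroup.exists_le_sylow
  obtain ⟨g, rfl⟩ := MulAction.exists_smul_eq (Perm (Fin 8)) T H
  obtain ⟨w, h1, h2, h3⟩ := hasWit (g⁻¹ * x * g)
  intro h
  refine h2 ?_
  have hmem : g * w * g⁻¹ ∈ ((g • T : Sylow 2 (Perm (Fin 8))) : Subgroup (Perm (Fin 8))) ⊓
      ((g • T : Sylow 2 (Perm (Fin 8))) : Subgroup (Perm (Fin 8))).map (MulAut.conj x).toMonoidHom := by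
    refine Subgroup.mem_inf.2 ⟨?_, ?_⟩
    · rw [Sylow.coe_subgroup_smul]
      exact ⟨w, hT h1, rfl⟩
    · refine ⟨x⁻¹ * (g * w * g⁻¹) * x, ?_, by show x * _ * x⁻¹ = _; group⟩
      rw [Sylow.coe_subgroup_smul]
      refine ⟨(g⁻¹ * x * g)⁻¹ * w * (g⁻¹ * x * g), hT h3, ?_⟩
      show g * _ * g⁻¹ = _
      group
  rw [h, Subgroup.mem_bot] at hmem
  exact conj_eq_one_iff.1 hmem


/-- In the symmetric group on 8 letters any two Sylow 2-subgroups have non-trivial intersection: for a Sylow 2-subgroup H and every element x, H ∩ xHx⁻¹ ≠ 1. -/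
theorem result (H : Sylow 2 (Equiv.Perm (Fin 8))) (x : Equiv.Perm (Fin 8)) :
    (H : Subgroup (Equiv.Perm (Fin 8))) ⊓ (H : Subgroup (Equiv.Perm (Fin 8))).map (MulAut.conj x).toMonoidHom ≠ ⊥ := by
  exact main H x

end Cfsg.Agent.S5763
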