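import Cfsg.Statements.S5775
import Cfsg.Agent.Lib.Aschbacher.Linear
import Cfsg.Agent.Lib.Aschbacher.FieldNorm

set_option autoImplicit false
open Cfsg

namespace Cfsg.Agent.S5775

open Cfsg.Agent.Aschbacher Matrix in
open scoped MatrixGroups in
/-- For `q = 4` the normaliser of a cubic field lies in a subfield group. -/
theorem cubic_four {F : Type*} [Field F] [Fintype F] (hq : Fintype.card F = 4)
    {H : Subgroup (GL (Fin 3) F)} {K : Subalgebra F (Matrix (Fin 3) (Fin 3) F)}
    (hmax : Cfsg.Geo.IsMaximalIn (Cfsg.Geo.specialLinear (Fin 3) F) H)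
    (hK : Cfsg.Geo.IsFieldSubalgebra 3 K) (hHK : H ≤ Cfsg.Geo.subalgebraNormalizer K) :
    ∃ (F₀ : Subfield F) (r : ℕ) (P : GL (Fin 3) F), r.Prime ∧ Fintype.card F = Nat.card F₀ ^ r ∧
      H = Cfsg.Geo.subfieldSubgroup F₀ P ⊓ Cfsg.Geo.specialLinear (Fin 3) F := by
  classical
  haveI : CharP F 2 := ringChar.of_eq (FiniteField.even_card_iff_char_two.2 (by rw [hq]))
  haveI : Fact (Nat.Prime 2) := ⟨Nat.prime_two⟩
  let F₂ : Subfield F := fixedBy 2 1
  have hF₂ : F₂ ≠ ⊤ := fixedBy_ne_top 2 one_pos (by rw [hq]; norm_num)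
  obtain ⟨F₀, r, hle, hr, hcard'⟩ := exists_prime_index hF₂
  have hF₀ : F₀ ≠ ⊤ := by
    rintro rfl
    rw [show Nat.card (⊤ : Subfield F) = Fintype.card F by
      rw [← Nat.card_eq_fintype_card]; exact Nat.card_congr (Equiv.subtypeUnivEquiv fun _ => trivial)]
      at hcard'
    have := Nat.pow_lt_pow_right (Fintype.one_lt_card (α := F)) hr.one_lt
    rw [pow_one] at this
    omega
  have hfield : IsField K :=
    { exists_pair_ne := ⟨0, 1, fun h => one_ne_zero (congrArg Subtype.val h).symm⟩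
      mul_comm := fun a b => Subtype.ext (hK.comm _ a.2 _ b.2)
      mul_inv_cancel := fun {a} ha => by
        obtain ⟨b, hb, hab⟩ := hK.inv _ a.2 fun h => ha (Subtype.ext h)
        exact ⟨⟨b, hb⟩, Subtype.ext hab⟩ }
  letI : Field K := hfield.toField
  haveI : Finite K := Finite.of_injective (fun k : K => (k : Matrix (Fin 3) (Fin 3) F)) Subtype.val_injective
  haveI : Fintype K := Fintype.ofFinite K
  have hcK : Nat.card K = 64 := by
    rw [Module.natCard_eq_pow_finrank (K := F) (V := K), hK.finrank_eq, Nat.card_eq_fintype_card, hq]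
    norm_num
  obtain ⟨g, hg⟩ := IsCyclic.exists_ofOrder_eq_natCard (α := Kˣ)
  rw [Nat.card_units, hcK] at hg
  set y : K := (g : K) ^ 9 with hy
  have hy7 : y ^ 7 = 1 := by
    rw [hy, ← pow_mul, show 9 * 7 = orderOf g by omega, ← Units.val_pow_eq_pow_val, pow_orderOf_eq_one,
      Units.val_one]
  have hy1 : y ≠ 1 := by
    intro h
    rw [hy, ← Units.val_pow_eq_pow_val, Units.val_eq_one] at h
    have := orderOf_dvd_of_pow_eq_one h
    rw [hg] at this
    norm_num at this
  have hyns : y ∉ (algebraMap F K).range := by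
    rintro ⟨c, hc⟩
    apply hy1
    have hc7 : c ^ 7 = 1 := by
      apply (algebraMap F K).injective
      rw [map_pow, hc, hy7, map_one]
    have hc0 : c ≠ 0 := by rintro rfl; simp at hc7
    have hc3 := FiniteField.pow_card_sub_one_eq_one c hc0
    rw [hq] at hc3
    have hc1 : c = 1 := by
      calc c = c * (c ^ 3) ^ 2 := by rw [hc3, one_pow, mul_one]
        _ = c ^ 7 := by ring
        _ = 1 := hc7
    rw [← hc, hc1, map_one]
  haveI : FiniteDimensional F K := inferInstance
  have hint : IsIntegral F y := IsIntegral.of_finite F y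
  have hdeg : (minpoly F y).natDegree = 3 := by
    have h1 := minpoly.degree_dvd hint
    rw [hK.finrank_eq] at h1
    rcases (Nat.dvd_prime Nat.prime_three).1 h1 with h | h
    · exact absurd (minpoly.natDegree_eq_one_iff.1 h) hyns
    · exact h
  have hli : LinearIndependent F (fun i : Fin 3 => y ^ (i : ℕ)) := by
    have := linearIndependent_pow (K := F) y
    rw [hdeg] at this
    exact this
  haveI : CharP K 2 := charP_of_injective_algebraMap (algebraMap F K).injective 2
  -- the eight elements with `x ^ 8 = x`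
  let comb : (Fin 3 → Bool) → K := fun e => ∑ i, if e i then y ^ (i : ℕ) else 0
  have hcombsmul : ∀ e, comb e = ∑ i, (if e i then (1 : F) else 0) • y ^ (i : ℕ) := fun e =>
    Finset.sum_congr rfl fun i _ => by split <;> simp
  have hcombinj : Function.Injective comb := by
    intro e e' h
    funext i
    rw [hcombsmul, hcombsmul] at h
    have := Fintype.linearIndependent_iff.1 hli
      (fun i => (if e i then (1 : F) else 0) - (if e' i then 1 else 0))
      (by simp only [sub_smul, Finset.sum_sub_distrib]; rw [h, sub_self]) i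
    revert this
    cases e i <;> cases e' i <;> simp
  have hy8 : y ^ 8 = y := by rw [pow_succ, hy7, one_mul]
  have hroot : ∀ e, comb e ^ 8 = comb e := by
    intro e
    have h8 : ∀ x : K, x ^ 8 = iterateFrobenius K 2 3 x := fun x => (iterateFrobenius_def 2 3 x).symm
    rw [h8, map_sum]
    refine Finset.sum_congr rfl fun i _ => ?_
    split
    · rw [← h8, ← pow_mul, mul_comm, pow_mul, hy8]
    · exact map_zero _
  have hspan : ∀ x : K, x ^ 8 = x → ∃ e, comb e = x := by
    intro x hx
    by_contra hne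
    push Not at hne
    let S : Finset K := insert x ((Finset.univ).image comb)
    have hS : ∀ z ∈ S, ((Polynomial.X ^ 8 - Polynomial.X : Polynomial K)).eval z = 0 := by
      intro z hz
      rcases Finset.mem_insert.1 hz with rfl | hz
      · simp [hx]
      · obtain ⟨e, -, rfl⟩ := Finset.mem_image.1 hz
        simp [hroot e]
    have hc : S.card = 9 := by
      rw [Finset.card_insert_of_notMem (by simpa using fun e => hne e),
        Finset.card_image_of_injective _ hcombinj]
      simp
    exact FiniteField.X_pow_card_sub_X_ne_zero K (by norm_num : 1 < 8)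
      (Polynomial.eq_zero_of_natDegree_lt_card_of_eval_eq_zero' _ S hS
        (by rw [FiniteField.X_pow_card_sub_X_natDegree_eq K (by norm_num : 1 < 8), hc]; norm_num))
  -- the rational basis
  let v : Fin 3 → F := Pi.single 0 1
  have hv : v ≠ 0 := fun h => by simpa [v] using congrFun h 0
  have hK' : Cfsg.Geo.IsFieldSubalgebra (Fintype.card (Fin 3)) K := by rwa [Fintype.card_fin]
  let ev : K ≃ₗ[F] (Fin 3 → F) := LinearEquiv.ofBijective _ (evalAt_bijective hK' hv)
  have hev : ∀ k : K, ev k = (k : Matrix (Fin 3) (Fin 3) F) *ᵥ v := fun k => rfl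
  let b : Module.Basis (Fin 3) F (Fin 3 → F) :=
    basisOfLinearIndependentOfCardEqFinrank (hli.map' ev.toLinearMap ev.ker)
      (by rw [Module.finrank_fintype_fun_eq_card])
  have hb : ∀ i, b i = ev (y ^ (i : ℕ)) := fun i => by simp [b]
  have hbcomb : ∀ e j, b.repr (ev (comb e)) j = if e j then 1 else 0 := by
    intro e j
    rw [hcombsmul, map_sum]
    simp only [map_smul, ← hb, map_sum, Module.Basis.repr_self, Finsupp.smul_single, smul_eq_mul,
      mul_one, Finsupp.finsetSum_apply]
    rw [Finset.sum_eq_single j]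
    · exact Finsupp.single_eq_same
    · intro i _ hi; exact Finsupp.single_eq_of_ne' hi
    · simp
  have hbitmem : ∀ e : Bool, (if e then (1 : F) else 0) ∈ F₂ := fun e => by
    cases e <;> simp
  let P : Matrix (Fin 3) (Fin 3) F := LinearMap.toMatrix' b.equivFun.symm.toLinearMap
  let P' : Matrix (Fin 3) (Fin 3) F := LinearMap.toMatrix' b.equivFun.toLinearMap
  let B : GL (Fin 3) F := ⟨P, P', by simp [P, P', ← LinearMap.toMatrix'_comp],
    by simp [P, P', ← LinearMap.toMatrix'_comp]⟩
  have hBcol : ∀ i, P *ᵥ Pi.single i 1 = b i := fun i => by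
    simp only [P, LinearMap.toMatrix'_mulVec, LinearEquiv.coe_coe, Module.Basis.equivFun_symm_apply]
    simp [Pi.single_apply]
  have hBent : ∀ (M : Matrix (Fin 3) (Fin 3) F) i j, (P' * M * P) i j = b.repr (M *ᵥ b j) i := by
    intro M i j
    rw [show (P' * M * P) i j = ((P' * M * P) *ᵥ Pi.single j 1) i by simp, ← Matrix.mulVec_mulVec,
      hBcol, ← Matrix.mulVec_mulVec, LinearMap.toMatrix'_mulVec, LinearEquiv.coe_coe,
      Module.Basis.equivFun_apply]
  refine ⟨F₀, r, B, hr, hcard', eq_inf_of_maximal hmax (fun h hh => ?_)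
    (specialLinear_not_le_subfieldSubgroup (by simp) hF₀ B)⟩
  -- `h y h⁻¹ = y'` and `h v = a v`
  obtain ⟨a, ha⟩ := ev.surjective ((h : Matrix (Fin 3) (Fin 3) F) *ᵥ v)
  have hyK' := (hHK hh (y : Matrix (Fin 3) (Fin 3) F)).1 y.2
  set y' : K := ⟨_, hyK'⟩ with hy'def
  have hcomm : ∀ i : ℕ, (h : Matrix (Fin 3) (Fin 3) F) * ((y ^ i : K) : Matrix (Fin 3) (Fin 3) F) =
      ((y' ^ i : K) : Matrix (Fin 3) (Fin 3) F) * (h : Matrix (Fin 3) (Fin 3) F) := by
    intro i
    induction i with
    | zero => simp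
    | succ i ih =>
      rw [pow_succ, pow_succ, Subalgebra.coe_mul, Subalgebra.coe_mul, ← mul_assoc, ih, mul_assoc,
        mul_assoc]
      congr 1
      simp [y', mul_assoc]
  have hy'7 : y' ^ 7 = 1 := by
    refine Subtype.ext ?_
    have h1 := hcomm 7
    rw [hy7, Subalgebra.coe_one, mul_one] at h1
    calc ((y' ^ 7 : K) : Matrix (Fin 3) (Fin 3) F)
        = ((y' ^ 7 : K) : Matrix (Fin 3) (Fin 3) F) * (h : Matrix (Fin 3) (Fin 3) F) *
            ((h⁻¹ : GL (Fin 3) F) : Matrix (Fin 3) (Fin 3) F) := by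
          rw [mul_assoc, ← Units.val_mul, mul_inv_cancel, Units.val_one, mul_one]
      _ = ((1 : K) : Matrix (Fin 3) (Fin 3) F) := by
          rw [← h1, ← Units.val_mul, mul_inv_cancel, Units.val_one, Subalgebra.coe_one]
  have hy'8 : y' ^ 8 = y' := by rw [pow_succ, hy'7, one_mul]
  have hhb : ∀ i, (h : Matrix (Fin 3) (Fin 3) F) *ᵥ b i = ev (a * y' ^ (i : ℕ)) := by
    intro i
    rw [hb, hev, hev, Matrix.mulVec_mulVec, hcomm, ← Matrix.mulVec_mulVec, ← ha, hev,
      Matrix.mulVec_mulVec, ← Subalgebra.coe_mul, mul_comm]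
  -- `det a = 1`
  choose e he using fun i : Fin 3 => hspan (y' ^ (i : ℕ)) (by rw [← pow_mul, mul_comm, pow_mul, hy'8])
  let E : Matrix (Fin 3) (Fin 3) F₂ := Matrix.of fun i j => ⟨_, hbitmem (e j i)⟩
  have hE : P' * ((a : Matrix (Fin 3) (Fin 3) F))⁻¹ * (h : Matrix (Fin 3) (Fin 3) F) * P =
      E.map F₂.subtype := by
    ext i j
    rw [mul_assoc P', hBent, ← Matrix.mulVec_mulVec, hhb, hev, Matrix.mulVec_mulVec, Subalgebra.coe_mul,
      ← mul_assoc, Matrix.nonsing_inv_mul, one_mul, ← hev, ← he, hbcomb]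
    · rfl
    · rw [isUnit_iff_ne_zero]
      intro h0
      obtain ⟨w, hw0, hw⟩ := Matrix.exists_mulVec_eq_zero_iff.2 h0
      have ha0 : a ≠ 0 := by
        intro h1
        rw [h1, map_zero] at ha
        exact hv ((mulVec_eq_zero_iff h).1 ha.symm)
      obtain ⟨a', ha', haa⟩ := hK.inv _ a.2 fun h1 => ha0 (Subtype.ext h1)
      rw [hK.comm _ a.2 _ ha'] at haa
      apply hw0
      rw [← Matrix.one_mulVec w, ← haa, ← Matrix.mulVec_mulVec, hw, Matrix.mulVec_zero]
  have hPP' : P.det * P'.det = 1 := by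
    rw [← Matrix.det_mul, show P * P' = 1 by simp [P, P', ← LinearMap.toMatrix'_comp], Matrix.det_one]
  have hdeta : (a : Matrix (Fin 3) (Fin 3) F).det = 1 := by
    have h1 := congrArg Matrix.det hE
    rw [Matrix.det_mul, Matrix.det_mul, Matrix.det_mul, det_eq_one (hmax.1.le hh), mul_one,
      Matrix.det_nonsing_inv, Ring.inverse_eq_inv] at h1
    have h2 : P'.det * ((a : Matrix (Fin 3) (Fin 3) F).det)⁻¹ * P.det = F₂.subtype E.det := by
      rw [h1, RingHom.map_det]; rfl
    have hmem : ((a : Matrix (Fin 3) (Fin 3) F).det)⁻¹ ∈ F₂ := by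
      have : ((a : Matrix (Fin 3) (Fin 3) F).det)⁻¹ = F₂.subtype E.det := by
        rw [← h2, mul_comm P'.det, mul_assoc, mul_comm P'.det, hPP', mul_one]
      rw [this]; exact E.det.2
    have hd0 : (a : Matrix (Fin 3) (Fin 3) F).det ≠ 0 := by
      intro h0
      have hh0 : (h : Matrix (Fin 3) (Fin 3) F) *ᵥ v = (a : Matrix (Fin 3) (Fin 3) F) *ᵥ v := by
        rw [← ha, hev]
      obtain ⟨w, hw0, hw⟩ := Matrix.exists_mulVec_eq_zero_iff.2 h0
      have ha0 : a ≠ 0 := by
        intro h1
        rw [h1, map_zero] at ha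
        exact hv ((mulVec_eq_zero_iff h).1 ha.symm)
      obtain ⟨a', ha', haa⟩ := hK.inv _ a.2 fun h1 => ha0 (Subtype.ext h1)
      rw [hK.comm _ a.2 _ ha'] at haa
      apply hw0
      rw [← Matrix.one_mulVec w, ← haa, ← Matrix.mulVec_mulVec, hw, Matrix.mulVec_zero]
    have h3 := (mem_fixedBy 2).1 hmem
    rw [pow_one, pow_two] at h3
    have := mul_right_cancel₀ (inv_ne_zero hd0) (h3.trans (one_mul _).symm)
    exact inv_eq_one.1 this
  have ha21 : a ^ 21 = 1 := by
    refine Subtype.ext ?_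
    have h1 := det_smul_one_eq_pow hK' a.2
    rw [hdeta, one_smul, hq, Fintype.card_fin] at h1
    rw [SubmonoidClass.coe_pow, Subalgebra.coe_one]
    exact h1.symm
  -- `a = c l` with `c` scalar and `l ^ 8 = l`
  have hl : ∀ i : ℕ, (a ^ 15 * y' ^ i) ^ 8 = a ^ 15 * y' ^ i := by
    intro i
    rw [mul_pow, ← pow_mul y', mul_comm i, pow_mul, hy'8, ← pow_mul,
      show 15 * 8 = 21 * 5 + 15 from rfl, pow_add, pow_mul, ha21, one_pow, one_mul]
  obtain ⟨c, hc⟩ : ∃ c : F, algebraMap F K c = a ^ 7 := by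
    haveI : Fintype (algebraMap F K).fieldRange := Fintype.ofFinite _
    have h1 : a ^ 7 ∈ (algebraMap F K).fieldRange := mem_subfield_of_pow_eq (by
      rw [Nat.card_congr (RingHom.rangeRestrictFieldEquiv (algebraMap F K)).symm.toEquiv,
        Nat.card_eq_fintype_card, hq, ← pow_mul, show 7 * 4 = 21 + 7 from rfl, pow_add, ha21, one_mul])
    exact RingHom.mem_fieldRange.1 h1
  have hkey : ∀ i : ℕ, a * y' ^ i = c • (a ^ 15 * y' ^ i) := by
    intro i
    rw [Algebra.smul_def, hc, ← mul_assoc, ← pow_add, show 7 + 15 = 21 + 1 from rfl, pow_succ, ha21,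
      one_mul]
  choose e' he' using fun i : Fin 3 => hspan _ (hl i)
  let E' : Matrix (Fin 3) (Fin 3) F₀ := Matrix.of fun i j => ⟨_, hle (hbitmem (e' j i))⟩
  have hE' : P' * (h : Matrix (Fin 3) (Fin 3) F) * P = c • E'.map F₀.subtype := by
    ext i j
    rw [hBent, hhb, hkey, map_smul, map_smul, ← he', Finsupp.smul_apply, hbcomb, Matrix.smul_apply]
    rfl
  have hc0 : c ≠ 0 := by
    rintro rfl
    have := congrArg Matrix.det hE'
    rw [zero_smul, Matrix.det_zero, Matrix.det_mul, Matrix.det_mul, det_eq_one (hmax.1.le hh), mul_one,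
      mul_comm, hPP'] at this
    exact one_ne_zero this
  have hEdet : E'.det ≠ 0 := by
    intro h0
    have := congrArg Matrix.det hE'
    rw [Matrix.det_smul, ← RingHom.mapMatrix_apply, ← RingHom.map_det, h0, map_zero, mul_zero,
      Matrix.det_mul, Matrix.det_mul, det_eq_one (hmax.1.le hh), mul_one, mul_comm, hPP'] at this
    exact one_ne_zero this
  let g₀ : GL (Fin 3) F₀ := Matrix.GeneralLinearGroup.mkOfDetNeZero E' hEdet
  let z : GL (Fin 3) F :=
    Units.map (Matrix.scalar (Fin 3) : F →+* Matrix (Fin 3) (Fin 3) F).toMonoidHom (Units.mk0 c hc0)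
  refine ⟨Matrix.GeneralLinearGroup.map F₀.subtype g₀ * z,
    Subgroup.mul_mem _ (Subgroup.mem_sup_left ⟨g₀, rfl⟩) (Subgroup.mem_sup_right ⟨_, rfl⟩), ?_⟩
  refine Units.ext ?_
  show P * ((E'.map F₀.subtype) * Matrix.scalar (Fin 3) c) * P' = _
  rw [Matrix.scalar_apply, ← Matrix.smul_one_eq_diagonal, Matrix.mul_smul, mul_one, ← hE']
  have hPP : P * P' = 1 := by simp [P, P', ← LinearMap.toMatrix'_comp]
  rw [← mul_assoc, ← mul_assoc, hPP, one_mul, mul_assoc, hPP, mul_one]

/-- Every maximal subgroup of SL_3(q) is of one of the listed geometric types or lies in the residual class. Let F be a finite field with q elements and H a maximal subgroup of SL_3(F) (viewed inside GL_3(F)). Then H is the intersection with SL_3(F) of one of: the stabiliser of a proper non-zero subspace; for q ≥ 5, the stabiliser of a decomposition of F^3 into three independent lines; for q ≠ 4, the normaliser of a degree-3 subfield of the matrix algebra; a subfield group for a subfield F₀ with |F| = |F₀|^r,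 r prime; for q = p ≡ 1 mod 3 prime, the normaliser of an absolutely irreducible 3-subgroup R of exponent 3 with centre of order 3, all of whose characteristic abelian subgroups are cyclic, of order 3^(1+2m) for some m ≥ 1, with F the smallest field of characteristic p containing the cube roots of unity (so R is extraspecial of order 27); for q odd, the similarity group of a non-degenerate quadratic form; the similarity group of a non-degenerate unitary form — or else H lies in the residual class of the linear case (modulo scalars H is almost simple, with absolutely irreducible perfect socle preimage realisable over no proper subfield and fixing no non-degenerate quadratic, symplectic or unitary form). -/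
theorem result {F : Type*} [Field F] [Fintype F] (H : Subgroup (Matrix.GeneralLinearGroup (Fin 3) F)) (hH : Cfsg.Geo.IsMaximalIn (Cfsg.Geo.specialLinear (Fin 3) F) H) :
    (∃ W : Submodule F (Fin 3 → F), W ≠ ⊥ ∧ W ≠ ⊤ ∧ H = Cfsg.Geo.subspaceStabilizer W ⊓ Cfsg.Geo.specialLinear (Fin 3) F) ∨
    (5 ≤ Fintype.card F ∧ ∃ D : Fin 3 → Submodule F (Fin 3 → F), Cfsg.Geo.IsMDecomposition 1 D ∧ H = Cfsg.Geo.decompositionStabilizer D ⊓ Cfsg.Geo.specialLinear (Fin 3) F) ∨
    (Fintype.card F ≠ 4 ∧ ∃ K : Subalgebra F (Matrix (Fin 3) (Fin 3) F), Cfsg.Geo.IsFieldSubalgebra 3 K ∧ H = Cfsg.Geo.subalgebraNormalizer K ⊓ Cfsg.Geo.specialLinear (Fin 3) F) ∨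
    (∃ (F₀ : Subfield F) (r : ℕ) (P : Matrix.GeneralLinearGroup (Fin 3) F), r.Prime ∧ Fintype.card F = Nat.card F₀ ^ r ∧ H = Cfsg.Geo.subfieldSubgroup F₀ P ⊓ Cfsg.Geo.specialLinear (Fin 3) F) ∨
    (∃ (p : ℕ) (R : Subgroup (Matrix.GeneralLinearGroup (Fin 3) F)), p.Prime ∧ Fintype.card F = p ∧ p % 3 = 1 ∧ Cfsg.Geo.IsLinearSymplecticTypeData 3 R ∧ H = Cfsg.Geo.subgroupNormalizer R ⊓ Cfsg.Geo.specialLinear (Fin 3) F) ∨
    (Odd (Fintype.card F) ∧ ∃ Q : (Fin 3 → F) → F, Cfsg.Geo.IsNondegenerateQuadraticForm Q ∧ H = Cfsg.Geo.quadSimilarityGroup Q ⊓ Cfsg.Geo.specialLinear (Fin 3) F) ∨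
    (∃ (σ : F ≃+* F) (f : (Fin 3 → F) → (Fin 3 → F) → F), Cfsg.Geo.IsUnitaryForm σ f ∧ H = Cfsg.Geo.similarityGroup f ⊓ Cfsg.Geo.specialLinear (Fin 3) F) ∨
    Cfsg.Geo.InLinearResidualClass H := by
  rcases Cfsg.Agent.Aschbacher.linear_prime (by norm_num) (by decide) H hH with
    h | h | h | h | ⟨p, e, hp, hc, hcard, heodd, hed, hdvd, hmin, h⟩ | h | h | h
  · exact Or.inl h
  · exact Or.inr (Or.inl h)
  · obtain ⟨K, hK, hHK⟩ := h
    by_cases hq : Fintype.card F = 4
    · exact Or.inr (Or.inr (Or.inr (Or.inl (cubic_four hq hH hK (hHK.le.trans inf_le_left)))))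
    · exact Or.inr (Or.inr (Or.inl ⟨hq, K, hK, hHK⟩))
  · exact Or.inr (Or.inr (Or.inr (Or.inl h)))
  · obtain ⟨R, hR, hHR⟩ := h
    obtain rfl : e = 1 := by
      have := Nat.le_of_dvd (by norm_num) hed
      interval_cases e <;> simp_all (config := { decide := true })
    refine Or.inr (Or.inr (Or.inr (Or.inr (Or.inl ⟨p, R, hp, by simpa using hcard, ?_, hR, hHR⟩))))
    rw [pow_one] at hdvd
    have := hp.two_le
    omega
  · exact Or.inr (Or.inr (Or.inr (Or.inr (Or.inr (Or.inl h)))))
  · exact Or.inr (Or.inr (Or.inr (Or.inr (Or.inr (Or.inr (Or.inl h))))))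
  · exact Or.inr (Or.inr (Or.inr (Or.inr (Or.inr (Or.inr (Or.inr h))))))

end Cfsg.Agent.S5775
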