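import Cfsg.Statements.S5778
import Cfsg.Agent.Lib.Aschbacher.SUThreeOrth
import Cfsg.Agent.Lib.Aschbacher.SUThreeField
import Cfsg.Agent.Lib.Aschbacher.SUThreeSym

set_option autoImplicit false
open Cfsg

namespace Cfsg.Agent.S5778

/-- Every maximal subgroup of SU_3(q), q ≥ 3, is of one of the listed geometric types or lies in the residual class. Let F be the field with q² elements, f the standard unitary form Σ u_i v_i^q on F^3, and H a maximal subgroup of SU_3(q) (the determinant-one isometries of f, inside GL_3(F)). Then H is the intersection with SU_3(q) of one of: the stabiliser of a non-zero subspace on which f vanishes; the stabiliser of a non-degenerate 1-space; for q ≠ 5, the stabiliser of a decomposition into three mutually orthogonal non-degenerate 1-spaces; for q ≠ 3, 5, the normaliser of an adjoint-closed degree-3 subfield of the matrix algebra; a subfield group of odd prime index whose F₀-structure carries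 f; for q odd, q ≥ 7, a subfield group of index 2 whose F₀-structure carries f; for q = p ≡ 2 mod 3 prime with p ≥ 11, the normaliser of an absolutely irreducible subgroup of order 27 with centre of order 3, exponent 3 and all characteristic abelian subgroups cyclic, contained in the similarity group of f — or else H lies in the residual class of the unitary case. -/
theorem result {F : Type*} [Field F] [Fintype F] (q : ℕ) (hF : Fintype.card F = q ^ 2) (hq : 3 ≤ q) (H : Subgroup (Matrix.GeneralLinearGroup (Fin 3) F)) (hH : Cfsg.Geo.IsMaximalIn (Cfsg.GU 3 F q ⊓ Cfsg.Geo.specialLinear (Fin 3) F) H) :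
    (∃ W : Submodule F (Fin 3 → F), W ≠ ⊥ ∧ Cfsg.Geo.IsTotallySingularFor (Cfsg.hermForm 3 F q) W ∧ H = Cfsg.Geo.subspaceStabilizer W ⊓ (Cfsg.GU 3 F q ⊓ Cfsg.Geo.specialLinear (Fin 3) F)) ∨
    (∃ W : Submodule F (Fin 3 → F), W ≠ ⊥ ∧ Cfsg.Geo.IsNondegenerateOn (Cfsg.hermForm 3 F q) W ∧ 2 * Module.finrank F W < 3 ∧ H = Cfsg.Geo.subspaceStabilizer W ⊓ (Cfsg.GU 3 F q ⊓ Cfsg.Geo.specialLinear (Fin 3) F)) ∨
    (q ≠ 5 ∧ ∃ D : Fin 3 → Submodule F (Fin 3 → F), Cfsg.Geo.IsNondegenerateMDecomposition (Cfsg.hermForm 3 F q) 1 D ∧ H = Cfsg.Geo.decompositionStabilizer D ⊓ (Cfsg.GU 3 F q ⊓ Cfsg.Geo.specialLinear (Fin 3) F)) ∨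
    (q ≠ 3 ∧ q ≠ 5 ∧ ∃ K : Subalgebra F (Matrix (Fin 3) (Fin 3) F), Cfsg.Geo.IsFieldSubalgebra 3 K ∧ Cfsg.Geo.IsAdjointClosedFor (Cfsg.hermForm 3 F q) K ∧ H = Cfsg.Geo.subalgebraNormalizer K ⊓ (Cfsg.GU 3 F q ⊓ Cfsg.Geo.specialLinear (Fin 3) F)) ∨
    (∃ (F₀ : Subfield F) (r : ℕ) (P : Matrix.GeneralLinearGroup (Fin 3) F), r.Prime ∧ Odd r ∧ Fintype.card F = Nat.card F₀ ^ r ∧ Cfsg.Geo.IsFormRationalStructure (Cfsg.hermForm 3 F q) F₀ 1 P ∧ H = Cfsg.Geo.subfieldSubgroup F₀ P ⊓ (Cfsg.GU 3 F q ⊓ Cfsg.Geo.specialLinear (Fin 3) F)) ∨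
    (Odd q ∧ 7 ≤ q ∧ ∃ (F₀ : Subfield F) (P : Matrix.GeneralLinearGroup (Fin 3) F), Fintype.card F = Nat.card F₀ ^ 2 ∧ Cfsg.Geo.IsFormRationalStructure (Cfsg.hermForm 3 F q) F₀ 1 P ∧ H = Cfsg.Geo.subfieldSubgroup F₀ P ⊓ (Cfsg.GU 3 F q ⊓ Cfsg.Geo.specialLinear (Fin 3) F)) ∨
    (∃ (p : ℕ) (R : Subgroup (Matrix.GeneralLinearGroup (Fin 3) F)), p.Prime ∧ q = p ∧ p % 3 = 2 ∧ 11 ≤ p ∧ Cfsg.Geo.IsSymplecticTypeGroup 3 R ∧ Cfsg.Geo.ActsAbsolutelyIrreducibly (Cfsg.Geo.matrixSet R) ∧ R ≤ Cfsg.Geo.similarityGroup (Cfsg.hermForm 3 F q) ∧ Nat.card R = 27 ∧ Nat.card (Subgroup.center R) = 3 ∧ H = Cfsg.Geo.subgroupNormalizer R ⊓ (Cfsg.GU 3 F q ⊓ Cfsg.Geo.specialLinear (Fin 3) F)) ∨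
    Cfsg.Geo.InUnitaryResidualClass H := by
  haveI : NeZero (3 : ℕ) := ⟨by norm_num⟩
  have hchar : ∀ p : ℕ, p.Prime → q = p → CharP F p := by
    intro p hp hqp
    obtain ⟨p', k, hp', hpC, hk, hq', -⟩ := Cfsg.Agent.Aschbacher.exists_frob hF
    have h1 : p' ∣ p := by rw [← hqp, hq']; exact dvd_pow_self p' (by omega)
    rw [(Nat.prime_dvd_prime_iff_eq hp' hp).1 h1] at hpC
    exact hpC
  rcases Cfsg.Agent.Aschbacher.unitary_prime_general (n := 3) Nat.prime_three le_rfl q hF H hH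
      (fun h2 => by omega) (fun N ω hN hNa => Cfsg.Agent.Aschbacher.SUThree.not_normalized hF hq N ω hN hNa) with
    h | h | ⟨D, hD, h⟩ | ⟨K, hK, hKa, ⟨x, hxH, hxK, hxs⟩, h⟩ | h | ⟨hodd, F₀, P, hcard, hP, h⟩ |
    ⟨p, k, R, hp, hpC, hqp, hk, hed, hnq, -, hR, hRa, hRU, hc, hz, hRH, h⟩ | h
  · exact Or.inl h
  · exact Or.inr (Or.inl h)
  · refine Or.inr (Or.inr (Or.inl ⟨?_, D, hD, h⟩))
    rintro rfl
    haveI := hchar 5 (by norm_num) rfl
    exact Cfsg.Agent.Aschbacher.SUThree.decomposition_five hF hH hD (h.le.trans inf_le_left)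
  · refine Or.inr (Or.inr (Or.inr (Or.inl ⟨?_, ?_, K, hK, hKa, h⟩)))
    · rintro rfl
      haveI := hchar 3 Nat.prime_three rfl
      exact Cfsg.Agent.Aschbacher.SUThree.field_three hF hH hK (h.le.trans inf_le_left) hxH hxK hxs
    · rintro rfl
      haveI := hchar 5 (by norm_num) rfl
      exact Cfsg.Agent.Aschbacher.SUThree.field_five hF hH hK (h.le.trans inf_le_left) hxH hxK hxs
  · exact Or.inr (Or.inr (Or.inr (Or.inr (Or.inl h))))
  · by_cases h7 : 7 ≤ q
    · exact Or.inr (Or.inr (Or.inr (Or.inr (Or.inr (Or.inl ⟨hodd, h7, F₀, P, hcard, hP, h⟩)))))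
    · obtain rfl | rfl : q = 3 ∨ q = 5 := by
        obtain ⟨m, rfl⟩ := hodd
        omega
      · exact Or.inr (Or.inr (Or.inl ⟨by norm_num,
          Cfsg.Agent.Aschbacher.SUThree.orthogonal_three hF hH hcard hP h⟩))
      · haveI := hchar 5 (by norm_num) rfl
        exact (Cfsg.Agent.Aschbacher.SUThree.orthogonal_five hF hH hcard hP h).elim
  · obtain rfl : k = 1 := by
      have := Nat.le_of_dvd (by norm_num) hed
      omega
    rw [pow_one] at hqp hnq
    subst hqp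
    have h5 : q ≠ 5 := by
      rintro rfl
      haveI := hpC
      exact Cfsg.Agent.Aschbacher.SUThree.symplectic_five hF hH hRH hc hRa (h.le.trans inf_le_left)
    have hmod : q % 3 = 2 := by omega
    have h11 : 11 ≤ q := by
      have h4 : ¬ Even q := fun he => by
        have := (Nat.Prime.even_iff hp).1 he
        omega
      rw [Nat.not_even_iff] at h4
      omega
    exact Or.inr (Or.inr (Or.inr (Or.inr (Or.inr (Or.inr (Or.inl ⟨q, R, hp, rfl, hmod, h11, hR, hRa,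
      hRU.trans (fun g hg => ⟨1, fun u v => by rw [Units.val_one, one_mul]; exact hg u v⟩), hc, hz, h⟩))))))
  · exact Or.inr (Or.inr (Or.inr (Or.inr (Or.inr (Or.inr (Or.inr h))))))

end Cfsg.Agent.S5778
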