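import Cfsg.Statements.S5825
import Cfsg.Agent.Lib.MaxCl.Small.OrthNondegFour
import Cfsg.Agent.Lib.MaxCl.Small.OrthPointEight
import Cfsg.Agent.Lib.MaxCl.Small.OrthExtFour
import Cfsg.Agent.Lib.MaxCl.Small.OrthSubfieldEight
import Cfsg.Agent.Lib.MaxCl.FieldSubalgebra

set_option autoImplicit false
set_option synthInstance.maxHeartbeats 200000
set_option maxHeartbeats 800000
open Cfsg
open scoped Matrix

namespace Cfsg.Agent.S5825

section Clauses

variable {F : Type*} [Field F] [Fintype F] {q : QuadraticForm F (Fin 8 → F)}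

theorem witt (hnd : (QuadraticMap.polarBilin q).Nondegenerate) (hminus : ¬ Cfsg.Geo.IsPlusTypeOn q ⊤)
    (U : Submodule F (Fin 8 → F)) (hU : ∀ x ∈ U, q x = 0) : Module.finrank F U ≤ 3 := by
  have h := MaxCl.Orth.two_mul_finrank_le_of_singular hnd hU
  rw [Fintype.card_fin] at h
  by_contra h4
  exact hminus ⟨U, le_top, hU, by rw [finrank_top, Module.finrank_fin_fun]; omega⟩

/-- the wrapper for summands of dimension at most three -/
theorem small_summand (hnd : (QuadraticMap.polarBilin q).Nondegenerate) {W : Submodule F (Fin 8 → F)}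
    (hW : MaxCl.Orth.NonDeg q W) (h0 : 1 ≤ Module.finrank F W) (h3 : Module.finrank F W ≤ 3)
    (hex : Module.finrank F W = 2 → ¬ (Fintype.card F ≤ 3 ∧ ∃ s ∈ W, s ≠ 0 ∧ q s = 0)) :
    Cfsg.Geo.IsMaximalIn (Cfsg.Geo.omegaGL q) (Cfsg.Geo.subspaceStabilizer W ⊓ Cfsg.Geo.omegaGL q) := by
  rw [← MaxCl.Orth.stab_inf_omega_perp hnd hW]
  have hp := MaxCl.Orth.finrank_perp hnd W
  rw [Fintype.card_fin] at hp
  refine MaxCl.Orth.Small.nondeg_maximal hnd (MaxCl.Orth.nonDeg_perp hnd hW) (by omega) ?_ ?_ ?_ fun g hg e => ?_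
  · rw [MaxCl.Orth.perp_perp hnd]
    intro e
    rw [e, finrank_bot] at h0
    omega
  · rw [MaxCl.Orth.perp_perp hnd]; omega
  · rw [MaxCl.Orth.perp_perp hnd]
    rintro ⟨hq, h2, hs⟩
    exact hex h2 ⟨hq, hs⟩
  · rw [MaxCl.Orth.perp_perp hnd] at e
    have := MaxCl.finrank_map_act g (MaxCl.Orth.perp q W)
    rw [e] at this
    omega

/-- the wrapper for summands of dimension at least five -/
theorem large_summand (hnd : (QuadraticMap.polarBilin q).Nondegenerate) {W : Submodule F (Fin 8 → F)}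
    (hW : MaxCl.Orth.NonDeg q W) (h5 : 5 ≤ Module.finrank F W) (h7 : Module.finrank F W ≤ 7)
    (hne : Module.finrank F W ≠ 6) :
    Cfsg.Geo.IsMaximalIn (Cfsg.Geo.omegaGL q) (Cfsg.Geo.subspaceStabilizer W ⊓ Cfsg.Geo.omegaGL q) := by
  have hp := MaxCl.Orth.finrank_perp hnd W
  rw [Fintype.card_fin] at hp
  refine MaxCl.Orth.Small.nondeg_maximal hnd hW h5 (fun e => ?_) (by omega) ?_ fun g hg e => ?_
  · rw [e, finrank_bot] at hp; omega
  · rintro ⟨-, h2, -⟩; omega
  · have := MaxCl.finrank_map_act g W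
    rw [e] at this
    omega

theorem extension (hnd : (QuadraticMap.polarBilin q).Nondegenerate) (hminus : ¬ Cfsg.Geo.IsPlusTypeOn q ⊤)
    (hodd : Odd (Fintype.card F)) (K : Subalgebra F (Matrix (Fin 8) (Fin 8) F)) (hK : Cfsg.Geo.IsFieldSubalgebra 2 K)
    (hsa : Cfsg.Geo.IsSelfAdjointFor (QuadraticMap.polar q) K) :
    Cfsg.Geo.IsMaximalIn (Cfsg.Geo.omegaGL q) (Cfsg.Geo.subalgebraNormalizer K ⊓ Cfsg.Geo.omegaGL q) := by
  classical
  have hfield : IsField K :=
    { exists_pair_ne := ⟨0, 1, fun h => zero_ne_one (α := Matrix (Fin 8) (Fin 8) F) (congrArg Subtype.val h)⟩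
      mul_comm := fun a b => Subtype.ext (hK.comm a.1 a.2 b.1 b.2)
      mul_inv_cancel := fun {a} ha => by
        obtain ⟨y, hy, hxy⟩ := hK.inv a.1 a.2 (fun h => ha (Subtype.ext h))
        exact ⟨⟨y, hy⟩, Subtype.ext hxy⟩ }
  letI : Field K := hfield.toField
  letI : Module K (Fin 8 → F) :=
    { smul := fun a v => (a : Matrix (Fin 8) (Fin 8) F) *ᵥ v
      one_smul := fun v => Matrix.one_mulVec v
      mul_smul := fun a b v => (Matrix.mulVec_mulVec v _ _).symm
      smul_zero := fun a => Matrix.mulVec_zero _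
      smul_add := fun a v w => Matrix.mulVec_add _ v w
      add_smul := fun a b v => Matrix.add_mulVec _ _ v
      zero_smul := fun v => Matrix.zero_mulVec v }
  have hsmul : ∀ (a : K) (v : Fin 8 → F), a • v = (a : Matrix (Fin 8) (Fin 8) F) *ᵥ v := fun a v => rfl
  haveI : IsScalarTower F K (Fin 8 → F) := ⟨fun c a v => by
    rw [hsmul, hsmul]
    exact Matrix.smul_mulVec c _ v⟩
  haveI : Module.Finite F K := Module.finite_of_finrank_pos (hK.finrank_eq ▸ Nat.zero_lt_two)
  have hdim := Module.finrank_mul_finrank F K (Fin 8 → F)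
  rw [Module.finrank_fintype_fun_eq_card, hK.finrank_eq, Fintype.card_fin] at hdim
  have hd4 : Module.finrank K (Fin 8 → F) = 4 := by omega
  have hr : (Module.finrank F K).Prime := hK.finrank_eq.symm ▸ Nat.prime_two
  have h2 : (2 : F) ≠ 0 := Ring.two_ne_zero fun hc => by
    obtain ⟨k, hk⟩ := hodd
    have := FiniteField.even_card_iff_char_two.1 hc
    omega
  obtain ⟨Φ, htr, hsym⟩ := MaxCl.OExt.exists_kform (K := K) (Q := q) fun k x y => hsa k.1 k.2 x y
  have hsemi : ∀ g : GL (Fin 8) F, g ∈ Cfsg.Geo.subalgebraNormalizer K ↔ MaxCl.ExtF.IsSemi K g :=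
    fun g => MaxCl.ExtF.mem_normalizer_iff K g
  have hamb : ∀ M : Subgroup (GL (Fin 8) F), Cfsg.Geo.subalgebraNormalizer K ⊓ Cfsg.Geo.omegaGL q ≤ M →
      M ≤ Cfsg.Geo.omegaGL q → MaxCl.OExt.Amb q Φ M := fun M h1 hle =>
    ⟨htr, hsym, hnd, h2, by simp, fun g hg hl => h1 ⟨(hsemi g).2 fun k => ⟨k, hl k⟩, hg⟩, hle⟩
  refine ⟨lt_of_le_of_ne inf_le_right fun heq => ?_, fun M hHM hMS => ?_⟩
  · obtain ⟨g, hg, hns⟩ := MaxCl.OExt.exists_not_semi (hamb _ le_rfl inf_le_right) hr (by omega)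
    exact hns ((hsemi g).1 (inf_eq_right.1 heq hg))
  · by_cases hsub : M ≤ Cfsg.Geo.subalgebraNormalizer K
    · exact Or.inl (le_antisymm (le_inf hsub hMS) hHM)
    obtain ⟨g, hgM, hg⟩ := SetLike.not_le_iff_exists.1 hsub
    exact Or.inr (le_antisymm hMS (MaxCl.OExt.omega_le_four (hamb M hHM hMS) hK.finrank_eq hd4
      (witt hnd hminus) hgM fun h => hg ((hsemi g).2 h)))

theorem subfield (hnd : (QuadraticMap.polarBilin q).Nondegenerate) (hminus : ¬ Cfsg.Geo.IsPlusTypeOn q ⊤)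
    (F₀ : Subfield F) (r : ℕ) (P : Matrix.GeneralLinearGroup (Fin 8) F) (ζ : F) (hr : r.Prime) (hodd : Odd r)
    (hcard : Fintype.card F = Nat.card F₀ ^ r) (hζ : ζ ≠ 0)
    (hP : Cfsg.Geo.IsQuadFormRationalStructure (fun v : Fin 8 → F => ζ * q v) F₀ P) :
    Cfsg.Geo.IsMaximalIn (Cfsg.Geo.omegaGL q) (Cfsg.Geo.subfieldSubgroup F₀ P ⊓ Cfsg.Geo.omegaGL q) := by
  have hiso : isometryGroup F (⇑(ζ • q)) = isometryGroup F ⇑q := by
    ext g
    simp only [MaxCl.Orth.mem_iso, QuadraticMap.smul_apply, smul_eq_mul, mul_right_inj' hζ]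
  have hnd' : (QuadraticMap.polarBilin (ζ • q)).Nondegenerate := by
    have key : ∀ x y, QuadraticMap.polar (⇑(ζ • q)) x y = ζ * QuadraticMap.polar (⇑q) x y := fun x y => by
      simp only [QuadraticMap.polar, QuadraticMap.smul_apply, smul_eq_mul]; ring
    refine ⟨fun x hx => hnd.1 x fun y => ?_, fun y hy => hnd.2 y fun x => ?_⟩
    · have := hx y
      rw [QuadraticMap.polarBilin_apply_apply, key] at this
      exact (mul_eq_zero.1 this).resolve_left hζ
    · have := hy x
      rw [QuadraticMap.polarBilin_apply_apply, key] at this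
      exact (mul_eq_zero.1 this).resolve_left hζ
  rw [← MaxCl.Orth.omega_congr q hiso]
  refine MaxCl.Orth.Small.orth_subfield_maximal (Q := ζ • q) ?_ hnd' (by rw [Fintype.card_fin]) hr hodd
    (by rw [Nat.card_eq_fintype_card (α := F)]; exact hcard) fun U hU => witt hnd hminus U fun x hx => ?_
  · rintro _ ⟨u, hu, rfl⟩
    rw [MaxCl.act_apply, QuadraticMap.smul_apply, smul_eq_mul]
    exact hP u hu
  · have := hU x hx
    rw [QuadraticMap.smul_apply, smul_eq_mul] at this
    exact (mul_eq_zero.1 this).resolve_left hζ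

end Clauses

/-- Maximal subgroups of Ω_8^-(q) of geometric type (any q). Let F be a finite field with q elements, Q a non-degenerate quadratic form on F^8 (non-degenerate polar form) of minus type (Witt index 3: no totally singular 4-space), and Ω = Ω_8^-(q) the commutator subgroup of the isometry group of Q, inside GL_8(F). Each of the following, intersected with Ω, is a maximal subgroup of Ω: (1) the stabiliser of any non-zero subspace on which Q vanishes identically (totally singular 1-, 2- and 3-spaces); (2) for q odd, the stabiliser of any proper subspace of odd dimension (1, 3, 5 or 7) on which the polar form of Q is non-degenerate; (3) the stabiliser of any non-degenerate 2-space of minus type (containing no non-zero singular vector); (4) for q ≥ 4, the stabiliser of any non-degenerate 2-space of plus type (containing a non-zero singular vector); (5) the stabiliser of any non-degenerate 4-space (its orthogonal complement is then a non-degenerate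 4-space of the opposite type); (6) for q even, the stabiliser of the 1-space spanned by any non-singular vector v (Q(v) ≠ 0); (7) for q odd, the normaliser of any degree-2 subfield K of the matrix algebra whose elements are self-adjoint for the polar form of Q (Q is then the trace of a quadratic form over K); (8) every subfield group for a subfield F₀ of odd prime index r in F whose F₀-structure carries a non-zero scalar multiple of Q. -/
theorem result {F : Type*} [Field F] [Fintype F] (Q : (Fin 8 → F) → F) (hQ : Cfsg.Geo.IsNondegenerateQuadraticForm Q) (hminus : ¬ Cfsg.Geo.IsPlusTypeOn Q ⊤) :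
    (∀ W : Submodule F (Fin 8 → F), W ≠ ⊥ → Cfsg.Geo.IsTotallySingularQuad Q W → Cfsg.Geo.IsMaximalIn (Cfsg.Geo.omegaGL Q) (Cfsg.Geo.subspaceStabilizer W ⊓ Cfsg.Geo.omegaGL Q)) ∧
    (Odd (Fintype.card F) → ∀ W : Submodule F (Fin 8 → F), W ≠ ⊥ → W ≠ ⊤ → Odd (Module.finrank F W) → Cfsg.Geo.IsNondegenerateOn (QuadraticMap.polar Q) W → Cfsg.Geo.IsMaximalIn (Cfsg.Geo.omegaGL Q) (Cfsg.Geo.subspaceStabilizer W ⊓ Cfsg.Geo.omegaGL Q)) ∧
    (∀ W : Submodule F (Fin 8 → F), Module.finrank F W = 2 → Cfsg.Geo.IsNondegenerateOn (QuadraticMap.polar Q) W → ¬ Cfsg.Geo.IsPlusTypeOn Q W → Cfsg.Geo.IsMaximalIn (Cfsg.Geo.omegaGL Q) (Cfsg.Geo.subspaceStabilizer W ⊓ Cfsg.Geo.omegaGL Q)) ∧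
    (4 ≤ Fintype.card F → ∀ W : Submodule F (Fin 8 → F), Module.finrank F W = 2 → Cfsg.Geo.IsNondegenerateOn (QuadraticMap.polar Q) W → Cfsg.Geo.IsPlusTypeOn Q W → Cfsg.Geo.IsMaximalIn (Cfsg.Geo.omegaGL Q) (Cfsg.Geo.subspaceStabilizer W ⊓ Cfsg.Geo.omegaGL Q)) ∧
    (∀ W : Submodule F (Fin 8 → F), Module.finrank F W = 4 → Cfsg.Geo.IsNondegenerateOn (QuadraticMap.polar Q) W → Cfsg.Geo.IsMaximalIn (Cfsg.Geo.omegaGL Q) (Cfsg.Geo.subspaceStabilizer W ⊓ Cfsg.Geo.omegaGL Q)) ∧
    (¬ Odd (Fintype.card F) → ∀ v : (Fin 8 → F), Q v ≠ 0 → Cfsg.Geo.IsMaximalIn (Cfsg.Geo.omegaGL Q) (Cfsg.Geo.subspaceStabilizer (Submodule.span F {v}) ⊓ Cfsg.Geo.omegaGL Q)) ∧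
    (Odd (Fintype.card F) → ∀ K : Subalgebra F (Matrix (Fin 8) (Fin 8) F), Cfsg.Geo.IsFieldSubalgebra 2 K → Cfsg.Geo.IsSelfAdjointFor (QuadraticMap.polar Q) K → Cfsg.Geo.IsMaximalIn (Cfsg.Geo.omegaGL Q) (Cfsg.Geo.subalgebraNormalizer K ⊓ Cfsg.Geo.omegaGL Q)) ∧
    (∀ (F₀ : Subfield F) (r : ℕ) (P : Matrix.GeneralLinearGroup (Fin 8) F) (ζ : F), r.Prime → Odd r → Fintype.card F = Nat.card F₀ ^ r → ζ ≠ 0 → Cfsg.Geo.IsQuadFormRationalStructure (fun v : Fin 8 → F => ζ * Q v) F₀ P → Cfsg.Geo.IsMaximalIn (Cfsg.Geo.omegaGL Q) (Cfsg.Geo.subfieldSubgroup F₀ P ⊓ Cfsg.Geo.omegaGL Q)) := by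
  obtain ⟨q, rfl, hnd⟩ := MaxCl.Orth.exists_form hQ
  have hnd' := fun {W : Submodule F (Fin 8 → F)} (h : Cfsg.Geo.IsNondegenerateOn (QuadraticMap.polar q) W) =>
    MaxCl.Orth.nonDeg_of_isNondegenerateOn h
  refine ⟨fun W hW0 hW => ?_, fun hodd W hW0 hW1 hWodd hW => ?_, fun W hd hW hm => ?_, fun h4 W hd hW _ => ?_,
    fun W hd hW => ?_, fun hchar v hv => ?_, fun hodd K hK hsa => extension hnd hminus hodd K hK hsa,
    fun F₀ r P ζ hr hodd hcard hζ hP => subfield hnd hminus F₀ r P ζ hr hodd hcard hζ hP⟩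
  · refine MaxCl.Orth.parabolic_maximal hnd (by simp) hW0 hW fun U hU hUn _ => hminus ⟨U, le_top, hU, ?_⟩
    rw [finrank_top, Module.finrank_pi, hUn]
  · have h0 : 1 ≤ Module.finrank F W := Nat.one_le_iff_ne_zero.2 fun e => hW0 (Submodule.finrank_eq_zero.1 e)
    have h1 : Module.finrank F W < 8 := by
      have := Submodule.finrank_lt hW1
      rwa [Module.finrank_fin_fun] at this
    obtain ⟨k, hk⟩ := hWodd
    rcases le_or_gt (Module.finrank F W) 3 with h | h
    · exact small_summand hnd (hnd' hW) h0 h fun e => by omega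
    · exact large_summand hnd (hnd' hW) (by omega) (by omega) (by omega)
  · exact small_summand hnd (hnd' hW) (by omega) (by omega) fun _ ⟨_, s, hs, hs0, hQs⟩ =>
      hm (MaxCl.Orth.isPlusTypeOn_of_singular hd hs hs0 hQs)
  · exact small_summand hnd (hnd' hW) (by omega) (by omega) fun _ ⟨h3, _⟩ => by omega
  · have hp : Module.finrank F (MaxCl.Orth.perp q W) = 4 := by
      rw [MaxCl.Orth.finrank_perp hnd, Fintype.card_fin, hd]
    refine MaxCl.Orth.Small.four_maximal hnd (witt hnd hminus) (by simp) (hnd' hW) hd hp fun g hg e => ?_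
    exact hminus (MaxCl.Orth.isPlusType_of_map_perp (hnd' hW) (by rw [hd]; decide)
      (by rw [hd, Fintype.card_fin]) hg e)
  · refine MaxCl.Orth.Small.point_maximal hnd ?_ (by simp) hv
    have h : Fintype.card F % 2 = 0 := Nat.even_iff.1 (Nat.not_odd_iff_even.1 hchar)
    haveI := ringChar.of_eq (FiniteField.even_card_iff_char_two.2 h)
    exact CharTwo.two_eq_zero

end Cfsg.Agent.S5825
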