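import Cfsg.Statements.S5870
import Cfsg.Agent.Lib.MaxCl.OrthParabolic
import Cfsg.Agent.Lib.MaxCl.OrthNondeg
import Cfsg.Agent.Lib.MaxCl.OrthDecompMax
import Cfsg.Agent.Lib.MaxCl.OrthSingularPair
import Cfsg.Agent.Lib.MaxCl.OrthUnitary
import Cfsg.Agent.Lib.MaxCl.OrthExtMax
import Cfsg.Agent.Lib.MaxCl.FieldSubalgebra
import Cfsg.Agent.Lib.MaxCl.OrthSubfieldMax
import Cfsg.Agent.Lib.MaxCl.SympTensorCent
import Cfsg.Agent.Lib.MaxCl.OrthTensor
import Cfsg.Agent.Lib.MaxCl.Mono.Maximal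

set_option autoImplicit false
open Cfsg
open scoped Matrix

namespace Cfsg.Agent.S5870

/-- The normaliser of a self-adjoint field extension of degree two or three is maximal. -/
theorem ext_maximal {F : Type*} [Field F] [Fintype F] {q : QuadraticForm F (Fin 12 → F)}
    (hnd : (QuadraticMap.polarBilin q).Nondegenerate) (hodd : Odd (Fintype.card F)) {r : ℕ}
    (hr23 : r = 2 ∨ r = 3) (K : Subalgebra F (Matrix (Fin 12) (Fin 12) F)) (hK : Cfsg.Geo.IsFieldSubalgebra r K)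
    (hsa : Cfsg.Geo.IsSelfAdjointFor (QuadraticMap.polar q) K) :
    Cfsg.Geo.IsMaximalIn (Cfsg.Geo.omegaGL q) (Cfsg.Geo.subalgebraNormalizer K ⊓ Cfsg.Geo.omegaGL q) := by
  have hr : r.Prime := by rcases hr23 with rfl | rfl <;> norm_num
  have hnr : 3 * r ≤ 12 := by omega
  have heven : Even 12 := ⟨6, rfl⟩
  classical
  haveI : Nonempty (Fin 12) := ⟨⟨0, by omega⟩⟩
  have hfield : IsField K :=
    { exists_pair_ne := ⟨0, 1, fun h => zero_ne_one (α := Matrix (Fin 12) (Fin 12) F) (congrArg Subtype.val h)⟩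
      mul_comm := fun a b => Subtype.ext (hK.comm a.1 a.2 b.1 b.2)
      mul_inv_cancel := fun {a} ha => by
        obtain ⟨y, hy, hxy⟩ := hK.inv a.1 a.2 (fun h => ha (Subtype.ext h))
        exact ⟨⟨y, hy⟩, Subtype.ext hxy⟩ }
  letI : Field K := hfield.toField
  letI : Module K (Fin 12 → F) :=
    { smul := fun a v => (a : Matrix (Fin 12) (Fin 12) F) *ᵥ v
      one_smul := fun v => Matrix.one_mulVec v
      mul_smul := fun a b v => (Matrix.mulVec_mulVec v _ _).symm
      smul_zero := fun a => Matrix.mulVec_zero _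
      smul_add := fun a v w => Matrix.mulVec_add _ v w
      add_smul := fun a b v => Matrix.add_mulVec _ _ v
      zero_smul := fun v => Matrix.zero_mulVec v }
  have hsmul : ∀ (a : K) (v : Fin 12 → F), a • v = (a : Matrix (Fin 12) (Fin 12) F) *ᵥ v := fun a v => rfl
  haveI : IsScalarTower F K (Fin 12 → F) := ⟨fun c a v => by
    rw [hsmul, hsmul]
    exact Matrix.smul_mulVec c _ v⟩
  haveI : Module.Finite F K := Module.finite_of_finrank_pos (hK.finrank_eq ▸ hr.pos)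
  have hr' : (Module.finrank F K).Prime := hK.finrank_eq.symm ▸ hr
  have hdim := Module.finrank_mul_finrank F K (Fin 12 → F)
  rw [Module.finrank_fintype_fun_eq_card, hK.finrank_eq, Fintype.card_fin] at hdim
  obtain ⟨d, hd⟩ : ∃ d, d = Module.finrank K (Fin 12 → F) := ⟨_, rfl⟩
  rw [← hd] at hdim
  have hd3 : 3 ≤ d := Nat.le_of_mul_le_mul_left (by rw [mul_comm r 3, hdim]; exact hnr) hr.pos
  have hd4 : 4 ≤ d := by
    by_contra h
    obtain ⟨k, hk⟩ := heven
    rw [show d = 3 by omega] at hdim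
    omega
  have hbig : Module.finrank F K = 2 → 5 ≤ Module.finrank K (Fin 12 → F) := fun h => by
    rw [← hd]
    rw [hK.finrank_eq] at h
    rw [h] at hdim
    omega
  have h2 : (2 : F) ≠ 0 := Ring.two_ne_zero fun hc => by
    obtain ⟨k, hk⟩ := hodd
    have := FiniteField.even_card_iff_char_two.1 hc
    omega
  have h5 : 5 ≤ Fintype.card (Fin 12) := by rw [Fintype.card_fin]; omega
  obtain ⟨Φ, htr, hsym⟩ := MaxCl.OExt.exists_kform (K := K) (Q := q) fun k x y => hsa k.1 k.2 x y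
  have hsemi : ∀ g : GL (Fin 12) F, g ∈ Cfsg.Geo.subalgebraNormalizer K ↔ MaxCl.ExtF.IsSemi K g :=
    fun g => MaxCl.ExtF.mem_normalizer_iff K g
  have hamb : ∀ M : Subgroup (GL (Fin 12) F), Cfsg.Geo.subalgebraNormalizer K ⊓ Cfsg.Geo.omegaGL q ≤ M →
      M ≤ Cfsg.Geo.omegaGL q → MaxCl.OExt.Amb q Φ M := fun M h1 hle =>
    ⟨htr, hsym, hnd, h2, h5, fun g hg hl => h1 ⟨(hsemi g).2 fun k => ⟨k, hl k⟩, hg⟩, hle⟩
  refine ⟨lt_of_le_of_ne inf_le_right fun heq => ?_, fun M hHM hMS => ?_⟩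
  · obtain ⟨g, hg, hns⟩ := MaxCl.OExt.exists_not_semi (hamb _ le_rfl inf_le_right) hr' (hd ▸ hd3)
    exact hns ((hsemi g).1 (inf_eq_right.1 heq hg))
  · by_cases hsub : M ≤ Cfsg.Geo.subalgebraNormalizer K
    · exact Or.inl (le_antisymm (le_inf hsub hMS) hHM)
    obtain ⟨g, hgM, hg⟩ := SetLike.not_le_iff_exists.1 hsub
    exact Or.inr (le_antisymm hMS (MaxCl.OExt.omega_le (hamb M hHM hMS) hr' (hd ▸ hd4) hbig hgM
      fun h => hg ((hsemi g).2 h)))


/-- The stabiliser of a two by six symplectic tensor decomposition is maximal. -/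
theorem tensor_maximal {F : Type*} [Field F] [Fintype F] {q : QuadraticForm F (Fin 12 → F)}
    (hQn : (QuadraticMap.polarBilin q).Nondegenerate) (h3 : 3 ≤ Fintype.card F)
    (e : Fin 12 ≃ Fin 2 × Fin 6) (P : Matrix.GeneralLinearGroup (Fin 12) F)
    (f₁ : (Fin 2 → F) → (Fin 2 → F) → F) (f₂ : (Fin 6 → F) → (Fin 6 → F) → F)
    (hf₁ : Cfsg.Geo.IsSymplecticForm f₁) (hf₂ : Cfsg.Geo.IsSymplecticForm f₂)
    (hT : Cfsg.Geo.IsTensorFormStructure id (QuadraticMap.polar q) f₁ f₂ e P)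
    (hpure : ∀ (x₁ : Fin 2 → F) (x₂ : Fin 6 → F), q (Matrix.mulVec (P : Matrix (Fin 12) (Fin 12) F)
      ((fun a : Fin 2 × Fin 6 => x₁ a.1 * x₂ a.2) ∘ e)) = 0) :
    Cfsg.Geo.IsMaximalIn (Cfsg.Geo.omegaGL q) (Cfsg.Geo.tensorProductSubgroup 2 6 e P ⊓ Cfsg.Geo.omegaGL q) := by
  classical
  obtain ⟨c, hc, hform⟩ := hT
  let T : Cfsg.Agent.MaxCl.Tens.TSys (Fin 12) F 2 6 := ⟨e, P⟩
  have hpt : ∀ u v u' v', QuadraticMap.polar (⇑q) (Cfsg.Agent.MaxCl.Tens.pt T u v)
      (Cfsg.Agent.MaxCl.Tens.pt T u' v') = c * (f₁ u u' * f₂ v v') := by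
    intro u v u' v'
    refine (hform (fun p => u p.1 * v p.2) (fun p => u' p.1 * v' p.2)).trans ?_
    congr 1
    exact Cfsg.Agent.MaxCl.Orth.formOfGram_pure2 hf₁.bilinear hf₂.bilinear u u' v v'
  have mkC : ∀ M : Subgroup (Matrix.GeneralLinearGroup (Fin 12) F), M ≤ Cfsg.Geo.omegaGL ⇑q →
      Cfsg.Geo.tensorProductSubgroup 2 6 e P ⊓ Cfsg.Geo.omegaGL ⇑q ≤ M →
      Cfsg.Agent.MaxCl.TensSp.SCtx T q f₁ f₂ c M := fun M hle hge =>
    { hQ := hQn, five := by simp, h₁ := hf₁, h₂ := hf₂, c_ne := hc, sing := hpure, form := hpt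
      two_le := le_rfl, four_le := fun _ => by omega, lt := by norm_num, six := le_rfl
      hex := fun ⟨_, h01⟩ => by
        have h : (Finset.univ : Finset F) ⊆ {0, 1} := fun x _ => by
          rcases h01 x with rfl | rfl <;> simp
        have := (Finset.card_le_card h).trans Finset.card_le_two
        rw [Finset.card_univ] at this
        omega
      le := hle
      ge := fun a b hab => hge ⟨Cfsg.Agent.MaxCl.Tens.gl_mem T a b, hab⟩ }
  have C₀ := mkC _ le_rfl inf_le_right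
  refine ⟨lt_of_le_not_ge inf_le_right fun h =>
    Cfsg.Agent.MaxCl.TensSp.not_le_tensor C₀ (h.trans inf_le_left), fun M hge hle => ?_⟩
  rcases Cfsg.Agent.MaxCl.TensSp.eq_or_le_tensor (mkC M hle hge) with h | h
  · exact Or.inr h
  · exact Or.inl (le_antisymm (le_inf h hle) hge)


/-- Maximal subgroups of Ω_12^+(q) of geometric type (any q). Let F be a finite field with q elements (characteristic p), Q a non-degenerate quadratic form on F^12 (non-degenerate polar form) of plus type (Witt index 6: some totally singular 6-space), and Ω = Ω_12^+(q) the commutator subgroup of the isometry group of Q, inside GL_12(F). Each of the following, intersected with Ω, is a maximal subgroup of Ω: (1) the stabiliser of any non-zero subspace on which Q vanishes identically other than those of dimension 5 (totally singular subspaces, dimensions 1, 2, 3, 4 and 6); (2) for q odd, the stabiliser of any subspace of odd dimension on which the polar form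 of Q is non-degenerate; (3) the stabiliser of any non-degenerate 2-space of minus type (containing no non-zero singular vector); (4) for q ≥ 4, the stabiliser of any non-degenerate 2-space of plus type (containing a non-zero singular vector); (5) the stabiliser of any non-degenerate 4-space (either type); (6) for q even, the stabiliser of the 1-space spanned by any non-singular vector v (Q(v) ≠ 0); (7) for q = p an odd prime, the stabiliser of any decomposition of F^12 into 12 pairwise orthogonal, pairwise Q-isometric non-degenerate 1-spaces; (8) for q ≥ 7, the stabiliser of any decomposition of F^12 into 6 pairwise orthogonal, pairwise Q-isometric non-degenerate 2-spaces of plus type; (9) for q ≠ 3, the stabiliser of any decomposition of F^12 into 6 pairwise orthogonal, pairwise Q-isometric non-degenerate 2-spaces of minus type; (10) for q odd with q ≥ 5, the stabiliser of any decomposition of F^12 into 4 pairwise orthogonal, pairwise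 Q-isometric non-degenerate 3-spaces; (11) for q ≥ 3, the stabiliser of any decomposition of F^12 into 3 pairwise orthogonal, pairwise Q-isometric non-degenerate 4-spaces; (12) the stabiliser of any decomposition of F^12 into 2 pairwise orthogonal, pairwise Q-isometric non-degenerate 6-spaces; (13) the stabiliser of any decomposition into two totally singular 6-spaces; (14) for q odd, the normaliser of any degree-2 subfield K of the matrix algebra whose elements are self-adjoint for the polar form of Q (Q is then the trace of a quadratic form over K); (15) for q odd, the normaliser of any degree-3 subfield K of the matrix algebra whose elements are self-adjoint for the polar form of Q (Q is then the trace of a quadratic form over K); (16) the normaliser of any degree-2 subfield K of the matrix algebra, closed under adjoints for the polar form but not self-adjoint, whose elements act as similarities of Q (so F^12 becomes a 6-dimensional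 space over K with a hermitian form, and the subgroup is of the type of the unitary group GU_6(q)); (17) for q ≥ 3, the stabiliser of any tensor decomposition F^12 = F^2 ⊗ F^6 in which the polar form of Q is (alternating form) ⊗ (alternating form) up to a scalar and Q vanishes on all pure tensors; (18) every subfield group for a subfield F₀ with |F| = |F₀|^r, r prime, whose F₀-structure carries a non-zero scalar multiple of Q. -/
theorem result {F : Type*} [Field F] [Fintype F] (Q : (Fin 12 → F) → F) (hQ : Cfsg.Geo.IsNondegenerateQuadraticForm Q) (hplus : Cfsg.Geo.IsPlusTypeOn Q ⊤) :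
    (∀ W : Submodule F (Fin 12 → F), W ≠ ⊥ → Cfsg.Geo.IsTotallySingularQuad Q W → Module.finrank F W ≠ 5 → Cfsg.Geo.IsMaximalIn (Cfsg.Geo.omegaGL Q) (Cfsg.Geo.subspaceStabilizer W ⊓ Cfsg.Geo.omegaGL Q)) ∧
    (Odd (Fintype.card F) → ∀ W : Submodule F (Fin 12 → F), W ≠ ⊥ → W ≠ ⊤ → Odd (Module.finrank F W) → 2 * Module.finrank F W ≠ 12 → Cfsg.Geo.IsNondegenerateOn (QuadraticMap.polar Q) W → Cfsg.Geo.IsMaximalIn (Cfsg.Geo.omegaGL Q) (Cfsg.Geo.subspaceStabilizer W ⊓ Cfsg.Geo.omegaGL Q)) ∧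
    (∀ W : Submodule F (Fin 12 → F), Module.finrank F W = 2 → Cfsg.Geo.IsNondegenerateOn (QuadraticMap.polar Q) W → ¬ Cfsg.Geo.IsPlusTypeOn Q W → Cfsg.Geo.IsMaximalIn (Cfsg.Geo.omegaGL Q) (Cfsg.Geo.subspaceStabilizer W ⊓ Cfsg.Geo.omegaGL Q)) ∧
    (4 ≤ Fintype.card F → ∀ W : Submodule F (Fin 12 → F), Module.finrank F W = 2 → Cfsg.Geo.IsNondegenerateOn (QuadraticMap.polar Q) W → Cfsg.Geo.IsPlusTypeOn Q W → Cfsg.Geo.IsMaximalIn (Cfsg.Geo.omegaGL Q) (Cfsg.Geo.subspaceStabilizer W ⊓ Cfsg.Geo.omegaGL Q)) ∧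
    (∀ W : Submodule F (Fin 12 → F), Module.finrank F W = 4 → Cfsg.Geo.IsNondegenerateOn (QuadraticMap.polar Q) W → Cfsg.Geo.IsMaximalIn (Cfsg.Geo.omegaGL Q) (Cfsg.Geo.subspaceStabilizer W ⊓ Cfsg.Geo.omegaGL Q)) ∧
    (¬ Odd (Fintype.card F) → ∀ v : (Fin 12 → F), Q v ≠ 0 → Cfsg.Geo.IsMaximalIn (Cfsg.Geo.omegaGL Q) (Cfsg.Geo.subspaceStabilizer (Submodule.span F {v}) ⊓ Cfsg.Geo.omegaGL Q)) ∧
    ((∃ p : ℕ, p.Prime ∧ Odd p ∧ Fintype.card F = p) → ∀ D : Fin 12 → Submodule F (Fin 12 → F), Cfsg.Geo.IsOrthogonalMDecomposition Q 1 D → Cfsg.Geo.IsMaximalIn (Cfsg.Geo.omegaGL Q) (Cfsg.Geo.decompositionStabilizer D ⊓ Cfsg.Geo.omegaGL Q)) ∧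
    (7 ≤ Fintype.card F → ∀ D : Fin 6 → Submodule F (Fin 12 → F), Cfsg.Geo.IsOrthogonalMDecomposition Q 2 D → (∀ i, Cfsg.Geo.IsPlusTypeOn Q (D i)) → Cfsg.Geo.IsMaximalIn (Cfsg.Geo.omegaGL Q) (Cfsg.Geo.decompositionStabilizer D ⊓ Cfsg.Geo.omegaGL Q)) ∧
    (Fintype.card F ≠ 3 → ∀ D : Fin 6 → Submodule F (Fin 12 → F), Cfsg.Geo.IsOrthogonalMDecomposition Q 2 D → (∀ i, ¬ Cfsg.Geo.IsPlusTypeOn Q (D i)) → Cfsg.Geo.IsMaximalIn (Cfsg.Geo.omegaGL Q) (Cfsg.Geo.decompositionStabilizer D ⊓ Cfsg.Geo.omegaGL Q)) ∧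
    (Odd (Fintype.card F) ∧ 5 ≤ Fintype.card F → ∀ D : Fin 4 → Submodule F (Fin 12 → F), Cfsg.Geo.IsOrthogonalMDecomposition Q 3 D → Cfsg.Geo.IsMaximalIn (Cfsg.Geo.omegaGL Q) (Cfsg.Geo.decompositionStabilizer D ⊓ Cfsg.Geo.omegaGL Q)) ∧
    (3 ≤ Fintype.card F → ∀ D : Fin 3 → Submodule F (Fin 12 → F), Cfsg.Geo.IsOrthogonalMDecomposition Q 4 D → Cfsg.Geo.IsMaximalIn (Cfsg.Geo.omegaGL Q) (Cfsg.Geo.decompositionStabilizer D ⊓ Cfsg.Geo.omegaGL Q)) ∧
    (∀ D : Fin 2 → Submodule F (Fin 12 → F), Cfsg.Geo.IsOrthogonalMDecomposition Q 6 D → Cfsg.Geo.IsMaximalIn (Cfsg.Geo.omegaGL Q) (Cfsg.Geo.decompositionStabilizer D ⊓ Cfsg.Geo.omegaGL Q)) ∧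
    (∀ D : Fin 2 → Submodule F (Fin 12 → F), Cfsg.Geo.IsMDecomposition 6 D → (∀ i, Cfsg.Geo.IsTotallySingularQuad Q (D i)) → Cfsg.Geo.IsMaximalIn (Cfsg.Geo.omegaGL Q) (Cfsg.Geo.decompositionStabilizer D ⊓ Cfsg.Geo.omegaGL Q)) ∧
    (Odd (Fintype.card F) → ∀ K : Subalgebra F (Matrix (Fin 12) (Fin 12) F), Cfsg.Geo.IsFieldSubalgebra 2 K → Cfsg.Geo.IsSelfAdjointFor (QuadraticMap.polar Q) K → Cfsg.Geo.IsMaximalIn (Cfsg.Geo.omegaGL Q) (Cfsg.Geo.subalgebraNormalizer K ⊓ Cfsg.Geo.omegaGL Q)) ∧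
    (Odd (Fintype.card F) → ∀ K : Subalgebra F (Matrix (Fin 12) (Fin 12) F), Cfsg.Geo.IsFieldSubalgebra 3 K → Cfsg.Geo.IsSelfAdjointFor (QuadraticMap.polar Q) K → Cfsg.Geo.IsMaximalIn (Cfsg.Geo.omegaGL Q) (Cfsg.Geo.subalgebraNormalizer K ⊓ Cfsg.Geo.omegaGL Q)) ∧
    (∀ K : Subalgebra F (Matrix (Fin 12) (Fin 12) F), Cfsg.Geo.IsFieldSubalgebra 2 K → Cfsg.Geo.IsAdjointClosedFor (QuadraticMap.polar Q) K → ¬ Cfsg.Geo.IsSelfAdjointFor (QuadraticMap.polar Q) K → (∀ k ∈ K, ∃ c : F, ∀ v : (Fin 12 → F), Q (Matrix.mulVec k v) = c * Q v) → Cfsg.Geo.IsMaximalIn (Cfsg.Geo.omegaGL Q) (Cfsg.Geo.subalgebraNormalizer K ⊓ Cfsg.Geo.omegaGL Q)) ∧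
    (3 ≤ Fintype.card F → ∀ (e : Fin 12 ≃ Fin 2 × Fin 6) (P : Matrix.GeneralLinearGroup (Fin 12) F) (f₁ : (Fin 2 → F) → (Fin 2 → F) → F) (f₂ : (Fin 6 → F) → (Fin 6 → F) → F), Cfsg.Geo.IsSymplecticForm f₁ → Cfsg.Geo.IsSymplecticForm f₂ → Cfsg.Geo.IsTensorFormStructure id (QuadraticMap.polar Q) f₁ f₂ e P → (∀ (x₁ : Fin 2 → F) (x₂ : Fin 6 → F), Q (Matrix.mulVec (P : Matrix (Fin 12) (Fin 12) F) ((fun a : Fin 2 × Fin 6 => x₁ a.1 * x₂ a.2) ∘ e)) = 0) → Cfsg.Geo.IsMaximalIn (Cfsg.Geo.omegaGL Q) (Cfsg.Geo.tensorProductSubgroup 2 6 e P ⊓ Cfsg.Geo.omegaGL Q)) ∧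
    (∀ (F₀ : Subfield F) (r : ℕ) (P : Matrix.GeneralLinearGroup (Fin 12) F) (ζ : F), r.Prime → Fintype.card F = Nat.card F₀ ^ r → ζ ≠ 0 → Cfsg.Geo.IsQuadFormRationalStructure (fun v : Fin 12 → F => ζ * Q v) F₀ P → Cfsg.Geo.IsMaximalIn (Cfsg.Geo.omegaGL Q) (Cfsg.Geo.subfieldSubgroup F₀ P ⊓ Cfsg.Geo.omegaGL Q)) := by
  obtain ⟨q, rfl, hnd⟩ := MaxCl.Orth.exists_form hQ
  have hc : Fintype.card (Fin 12) = 12 := Fintype.card_fin 12
  have h1q := Fintype.one_lt_card (α := F)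
  have nd : ∀ W : Submodule F (Fin 12 → F), Cfsg.Geo.IsNondegenerateOn (QuadraticMap.polar ⇑q) W → W ≠ ⊥ →
      W ≠ ⊤ → 2 * Module.finrank F W ≠ 12 →
      ¬ (Fintype.card F ≤ 3 ∧ ((Module.finrank F W = 2 ∧ Cfsg.Geo.IsPlusTypeOn (⇑q) W) ∨ Module.finrank F W = 10)) →
      Cfsg.Geo.IsMaximalIn (Cfsg.Geo.omegaGL ⇑q) (Cfsg.Geo.subspaceStabilizer W ⊓ Cfsg.Geo.omegaGL ⇑q) := by
    intro W hW h0 h1 hdim hex
    refine MaxCl.Orth.nondeg_maximal_any hnd (MaxCl.Orth.nonDeg_of_isNondegenerateOn hW) (by omega) h0 h1 ?_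
      fun h => absurd (h.trans hc) hdim
    rintro ⟨h3, U, hU, -, hUp, rfl | rfl⟩
    · exact hex ⟨h3, Or.inl ⟨hU, hUp⟩⟩
    · refine hex ⟨h3, Or.inr ?_⟩
      rw [MaxCl.Orth.finrank_perp hnd, hc] at hU
      omega
  have ne_bot : ∀ (W : Submodule F (Fin 12 → F)) (k : ℕ), Module.finrank F W = k → 0 < k → W ≠ ⊥ := by
    rintro W k hk hk0 rfl
    rw [finrank_bot] at hk; omega
  have ne_top : ∀ (W : Submodule F (Fin 12 → F)) (k : ℕ), Module.finrank F W = k → k < 12 → W ≠ ⊤ := by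
    rintro W k hk hk0 rfl
    rw [finrank_top, Module.finrank_fin_fun] at hk; omega
  refine ⟨?_, ?_, ?_, ?_, ?_, ?_, ?_, ?_, ?_, ?_, ?_, ?_, ?_, ?_, ?_, ?_, ?_, ?_⟩
  · intro W hW0 hW hdim
    exact MaxCl.Orth.parabolic_maximal hnd (by omega) hW0 hW fun U _ _ h => hdim (by omega)
  · intro hodd W h0 h1 hW hdim hWn
    refine nd W hWn h0 h1 hdim ?_
    rintro ⟨-, ⟨h, -⟩ | h⟩ <;> (rw [h] at hW; exact absurd hW (by decide))
  · intro W hk hW hm
    refine nd W hW (ne_bot W _ hk (by norm_num)) (ne_top W _ hk (by norm_num)) (by omega) ?_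
    rintro ⟨-, ⟨-, hp⟩ | h⟩
    · exact hm hp
    · omega
  · intro hq W hk hW _
    exact nd W hW (ne_bot W _ hk (by norm_num)) (ne_top W _ hk (by norm_num)) (by omega) fun h => by omega
  · intro W hk hW
    refine nd W hW (ne_bot W _ hk (by norm_num)) (ne_top W _ hk (by norm_num)) (by omega) ?_
    rintro ⟨-, ⟨h, -⟩ | h⟩ <;> omega
  · intro hchar v hv
    refine MaxCl.Orth.point_maximal hnd ?_ (by omega) hv
    have h : Fintype.card F % 2 = 0 := Nat.even_iff.1 (Nat.not_odd_iff_even.1 hchar)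
    haveI := ringChar.of_eq (FiniteField.even_card_iff_char_two.2 h)
    exact CharTwo.two_eq_zero
  · rintro ⟨p, hp, hodd, hcard⟩ D hD
    exact MaxCl.Mono.monomial_maximal (hcard ▸ hodd) (hcard ▸ hp) hD (Or.inr (by omega))
  · intro hq D hD _
    exact MaxCl.Orth.PlaneBlocks.maximal ⟨hD, hnd, by omega, by omega, fun _ _ _ _ _ => hq⟩
  · intro hq D hD hm
    exact MaxCl.Orth.PlaneBlocks.maximal ⟨hD, hnd, by omega, hq,
      fun i s hs hs0 hQs => absurd (MaxCl.Orth.plus_of_singular hD hs hs0 hQs) (hm i)⟩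
  · rintro ⟨hodd, hq⟩ D hD
    refine MaxCl.Orth.BigBlocks.maximal ⟨hD, hnd, by omega, by norm_num, fun _ => ⟨Ring.two_ne_zero fun hc' => ?_, hq⟩,
      fun h => absurd h (by norm_num)⟩
    have := FiniteField.even_card_iff_char_two.1 hc'
    have := Nat.odd_iff.1 hodd
    omega
  · intro hq D hD
    exact MaxCl.Orth.BigBlocks.maximal ⟨hD, hnd, by omega, by norm_num, fun h => absurd h (by norm_num),
      fun _ h => absurd h (by omega)⟩
  · intro D hD
    exact MaxCl.Orth.BigBlocks.maximal ⟨hD, hnd, by omega, by norm_num, fun h => absurd h (by norm_num),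
      fun h => absurd h (by norm_num)⟩
  · intro D hD hts
    have hk : 2 * 6 = 12 := rfl
    have hke : Even 6 := ⟨3, rfl⟩
    have hdisj : Disjoint (D 1) (D 0) := (hD.indep 1).mono_right (le_iSup₂_of_le 0 (by decide) le_rfl)
    refine MaxCl.Orth.singular_pair_maximal hnd (X := D 0) (Y := D 1)
      ⟨hts 0, hts 1, hD.finrank_eq 0, hD.finrank_eq 1, fun z h0 h1 => Submodule.disjoint_def.1 hdisj z h1 h0,
        fun z => ?_, by rw [Fintype.card_fin]⟩ (by norm_num) hke D rfl rfl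
    have h : (⊤ : Submodule F (Fin 12 → F)) ≤ D 0 ⊔ D 1 := hD.iSup_eq_top ▸ iSup_le fun i => by
      fin_cases i <;> [exact le_sup_left; exact le_sup_right]
    obtain ⟨a, ha, b, hb, e⟩ := Submodule.mem_sup.1 (h (Submodule.mem_top (x := z)))
    exact ⟨a, ha, b, hb, e.symm⟩
  · intro hodd K hK hsa
    exact ext_maximal hnd hodd (Or.inl rfl) K hK hsa
  · intro hodd K hK hsa
    exact ext_maximal hnd hodd (Or.inr rfl) K hK hsa
  · intro K hK hac hnsa hsc
    obtain ⟨j, s, c, hJ, hK2⟩ := MaxCl.Orth.exists_unitary_generator hnd K hK hac hnsa hsc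
    exact MaxCl.Orth.unitary_normalizer_maximal hnd (by omega) j hJ K hK2
  · intro hq e P f₁ f₂ hf₁ hf₂ hT hpure
    exact tensor_maximal hnd hq e P f₁ f₂ hf₁ hf₂ hT hpure
  · intro F₀ r P ζ hr hcard hζ hP
    have hiso : isometryGroup F (⇑(ζ • q)) = isometryGroup F ⇑q := by
      ext g
      simp only [MaxCl.Orth.mem_iso, QuadraticMap.smul_apply, smul_eq_mul, mul_right_inj' hζ]
    have hnd' : (QuadraticMap.polarBilin (ζ • q)).Nondegenerate := by
      have key : ∀ x y, QuadraticMap.polar (⇑(ζ • q)) x y = ζ * QuadraticMap.polar (⇑q) x y := fun x y => by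
        simp only [QuadraticMap.polar, QuadraticMap.smul_apply, smul_eq_mul]; ring
      refine ⟨fun x hx => hnd.1 x fun y => ?_, fun y hy => hnd.2 y fun x => ?_⟩
      · have := hx y
        rw [QuadraticMap.polarBilin_apply_apply, key] at this
        exact (mul_eq_zero.1 this).resolve_left hζ
      · have := hy x
        rw [QuadraticMap.polarBilin_apply_apply, key] at this
        exact (mul_eq_zero.1 this).resolve_left hζ
    rw [← MaxCl.Orth.omega_congr q hiso]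
    refine MaxCl.Orth.orth_subfield_maximal (Q := ζ • q) ?_ hnd' (by rw [Fintype.card_fin]; omega) hr
      (by rw [Nat.card_eq_fintype_card (α := F)]; exact hcard)
    rintro _ ⟨u, hu, rfl⟩
    rw [MaxCl.act_apply, QuadraticMap.smul_apply, smul_eq_mul]
    exact hP u hu

end Cfsg.Agent.S5870
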