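import Cfsg.Statements.S5873
import Cfsg.Agent.Lib.MaxCl.OrthTensorSmallInvol
import Cfsg.Agent.Lib.MaxCl.OrthNondeg
import Cfsg.Agent.Lib.MaxCl.OrthBlocksTransfer
import Cfsg.Agent.Lib.MaxCl.OrthSubfieldMax
import Cfsg.Agent.Lib.MaxCl.OrthExtMax
import Cfsg.Agent.Lib.MaxCl.FieldSubalgebra

set_option autoImplicit false
set_option synthInstance.maxHeartbeats 200000
set_option maxHeartbeats 1000000
open Cfsg
open scoped Matrix

namespace Cfsg.Agent.S5873

theorem ext_maximal {F : Type*} [Field F] [Fintype F] {q : QuadraticForm F (Fin 12 → F)}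
    (hnd : (QuadraticMap.polarBilin q).Nondegenerate) (hodd : Odd (Fintype.card F)) (r : ℕ) (hr : r.Prime)
    (hr3 : r ≤ 3) (K : Subalgebra F (Matrix (Fin 12) (Fin 12) F)) (hK : Cfsg.Geo.IsFieldSubalgebra r K)
    (hsa : Cfsg.Geo.IsSelfAdjointFor (QuadraticMap.polar q) K) :
    Cfsg.Geo.IsMaximalIn (Cfsg.Geo.omegaGL q) (Cfsg.Geo.subalgebraNormalizer K ⊓ Cfsg.Geo.omegaGL q) := by
  classical
  have hfield : IsField K :=
    { exists_pair_ne := ⟨0, 1, fun h => zero_ne_one (α := Matrix (Fin 12) (Fin 12) F) (congrArg Subtype.val h)⟩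
      mul_comm := fun a b => Subtype.ext (hK.comm a.1 a.2 b.1 b.2)
      mul_inv_cancel := fun {a} ha => by
        obtain ⟨y, hy, hxy⟩ := hK.inv a.1 a.2 (fun h => ha (Subtype.ext h))
        exact ⟨⟨y, hy⟩, Subtype.ext hxy⟩ }
  letI : Field K := hfield.toField
  letI : Module K (Fin 12 → F) :=
    { smul := fun a v => (a : Matrix (Fin 12) (Fin 12) F) *ᵥ v
      one_smul := fun v => Matrix.one_mulVec v
      mul_smul := fun a b v => (Matrix.mulVec_mulVec v _ _).symm
      smul_zero := fun a => Matrix.mulVec_zero _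
      smul_add := fun a v w => Matrix.mulVec_add _ v w
      add_smul := fun a b v => Matrix.add_mulVec _ _ v
      zero_smul := fun v => Matrix.zero_mulVec v }
  have hsmul : ∀ (a : K) (v : Fin 12 → F), a • v = (a : Matrix (Fin 12) (Fin 12) F) *ᵥ v := fun a v => rfl
  haveI : IsScalarTower F K (Fin 12 → F) := ⟨fun c a v => by
    rw [hsmul, hsmul]
    exact Matrix.smul_mulVec c _ v⟩
  haveI : Module.Finite F K := Module.finite_of_finrank_pos (hK.finrank_eq ▸ hr.pos)
  have hr' : (Module.finrank F K).Prime := hK.finrank_eq.symm ▸ hr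
  have hdim := Module.finrank_mul_finrank F K (Fin 12 → F)
  rw [Module.finrank_fintype_fun_eq_card, hK.finrank_eq, Fintype.card_fin] at hdim
  obtain ⟨d, hd⟩ : ∃ d, d = Module.finrank K (Fin 12 → F) := ⟨_, rfl⟩
  rw [← hd] at hdim
  have h2r := hr.two_le
  have hd4 : 4 ≤ d := by interval_cases r <;> omega
  have hbig : Module.finrank F K = 2 → 5 ≤ Module.finrank K (Fin 12 → F) := fun h => by
    rw [← hd]
    rw [hK.finrank_eq] at h
    rw [h] at hdim
    omega
  have h2 : (2 : F) ≠ 0 := Ring.two_ne_zero fun hc => by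
    obtain ⟨k, hk⟩ := hodd
    have := FiniteField.even_card_iff_char_two.1 hc
    omega
  obtain ⟨Φ, htr, hsym⟩ := MaxCl.OExt.exists_kform (K := K) (Q := q) fun k x y => hsa k.1 k.2 x y
  have hsemi : ∀ g : GL (Fin 12) F, g ∈ Cfsg.Geo.subalgebraNormalizer K ↔ MaxCl.ExtF.IsSemi K g :=
    fun g => MaxCl.ExtF.mem_normalizer_iff K g
  have hamb : ∀ M : Subgroup (GL (Fin 12) F), Cfsg.Geo.subalgebraNormalizer K ⊓ Cfsg.Geo.omegaGL q ≤ M →
      M ≤ Cfsg.Geo.omegaGL q → MaxCl.OExt.Amb q Φ M := fun M h1 hle =>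
    ⟨htr, hsym, hnd, h2, by simp, fun g hg hl => h1 ⟨(hsemi g).2 fun k => ⟨k, hl k⟩, hg⟩, hle⟩
  refine ⟨lt_of_le_of_ne inf_le_right fun heq => ?_, fun M hHM hMS => ?_⟩
  · obtain ⟨g, hg, hns⟩ := MaxCl.OExt.exists_not_semi (hamb _ le_rfl inf_le_right) hr' (by omega)
    exact hns ((hsemi g).1 (inf_eq_right.1 heq hg))
  · by_cases hsub : M ≤ Cfsg.Geo.subalgebraNormalizer K
    · exact Or.inl (le_antisymm (le_inf hsub hMS) hHM)
    obtain ⟨g, hgM, hg⟩ := SetLike.not_le_iff_exists.1 hsub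
    exact Or.inr (le_antisymm hMS (MaxCl.OExt.omega_le (hamb M hHM hMS) hr' (hd ▸ hd4) hbig hgM
      fun h => hg ((hsemi g).2 h)))

/-- Maximal subgroups of Ω_12^-(q) of geometric type (any q). Let F be a finite field with q elements (characteristic p), Q a non-degenerate quadratic form on F^12 (non-degenerate polar form) of minus type (Witt index 5: no totally singular 6-space), and Ω = Ω_12^-(q) the commutator subgroup of the isometry group of Q, inside GL_12(F). Each of the following, intersected with Ω, is a maximal subgroup of Ω: (1) the stabiliser of any non-zero subspace on which Q vanishes identically (totally singular subspaces, dimensions 1 to 5); (2) for q odd, the stabiliser of any subspace of odd dimension on which the polar form of Q is non-degenerate; (3) the stabiliser of any non-degenerate 2-space of minus type (containing no non-zero singular vector); (4) for q ≥ 4, the stabiliser of any non-degenerate 2-space of plus type (containing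 a non-zero singular vector); (5) the stabiliser of any non-degenerate 4-space (either type); (6) the stabiliser of any non-degenerate 6-space (either type); (7) for q even, the stabiliser of the 1-space spanned by any non-singular vector v (Q(v) ≠ 0); (8) the stabiliser of any decomposition of F^12 into 3 pairwise orthogonal, pairwise Q-isometric non-degenerate 4-spaces of minus type; (9) for q odd, the normaliser of any degree-2 subfield K of the matrix algebra whose elements are self-adjoint for the polar form of Q (Q is then the trace of a quadratic form over K); (10) for q odd, the normaliser of any degree-3 subfield K of the matrix algebra whose elements are self-adjoint for the polar form of Q (Q is then the trace of a quadratic form over K); (11) for q odd with q ≥ 5, the stabiliser of any tensor decomposition F^12 = F^3 ⊗ F^4 in which the polar form of Q is the product of non-degenerate symmetric bilinear forms, the second of minus type,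 up to a scalar; (12) every subfield group for a subfield F₀ with |F| = |F₀|^r, r an odd prime, whose F₀-structure carries a non-zero scalar multiple of Q. -/
theorem result {F : Type*} [Field F] [Fintype F] (Q : (Fin 12 → F) → F) (hQ : Cfsg.Geo.IsNondegenerateQuadraticForm Q) (hminus : ¬ Cfsg.Geo.IsPlusTypeOn Q ⊤) :
    (∀ W : Submodule F (Fin 12 → F), W ≠ ⊥ → Cfsg.Geo.IsTotallySingularQuad Q W → Cfsg.Geo.IsMaximalIn (Cfsg.Geo.omegaGL Q) (Cfsg.Geo.subspaceStabilizer W ⊓ Cfsg.Geo.omegaGL Q)) ∧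
    (Odd (Fintype.card F) → ∀ W : Submodule F (Fin 12 → F), W ≠ ⊥ → W ≠ ⊤ → Odd (Module.finrank F W) → 2 * Module.finrank F W ≠ 12 → Cfsg.Geo.IsNondegenerateOn (QuadraticMap.polar Q) W → Cfsg.Geo.IsMaximalIn (Cfsg.Geo.omegaGL Q) (Cfsg.Geo.subspaceStabilizer W ⊓ Cfsg.Geo.omegaGL Q)) ∧
    (∀ W : Submodule F (Fin 12 → F), Module.finrank F W = 2 → Cfsg.Geo.IsNondegenerateOn (QuadraticMap.polar Q) W → ¬ Cfsg.Geo.IsPlusTypeOn Q W → Cfsg.Geo.IsMaximalIn (Cfsg.Geo.omegaGL Q) (Cfsg.Geo.subspaceStabilizer W ⊓ Cfsg.Geo.omegaGL Q)) ∧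
    (4 ≤ Fintype.card F → ∀ W : Submodule F (Fin 12 → F), Module.finrank F W = 2 → Cfsg.Geo.IsNondegenerateOn (QuadraticMap.polar Q) W → Cfsg.Geo.IsPlusTypeOn Q W → Cfsg.Geo.IsMaximalIn (Cfsg.Geo.omegaGL Q) (Cfsg.Geo.subspaceStabilizer W ⊓ Cfsg.Geo.omegaGL Q)) ∧
    (∀ W : Submodule F (Fin 12 → F), Module.finrank F W = 4 → Cfsg.Geo.IsNondegenerateOn (QuadraticMap.polar Q) W → Cfsg.Geo.IsMaximalIn (Cfsg.Geo.omegaGL Q) (Cfsg.Geo.subspaceStabilizer W ⊓ Cfsg.Geo.omegaGL Q)) ∧
    (∀ W : Submodule F (Fin 12 → F), Module.finrank F W = 6 → Cfsg.Geo.IsNondegenerateOn (QuadraticMap.polar Q) W → Cfsg.Geo.IsMaximalIn (Cfsg.Geo.omegaGL Q) (Cfsg.Geo.subspaceStabilizer W ⊓ Cfsg.Geo.omegaGL Q)) ∧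
    (¬ Odd (Fintype.card F) → ∀ v : (Fin 12 → F), Q v ≠ 0 → Cfsg.Geo.IsMaximalIn (Cfsg.Geo.omegaGL Q) (Cfsg.Geo.subspaceStabilizer (Submodule.span F {v}) ⊓ Cfsg.Geo.omegaGL Q)) ∧
    (∀ D : Fin 3 → Submodule F (Fin 12 → F), Cfsg.Geo.IsOrthogonalMDecomposition Q 4 D → (∀ i, ¬ Cfsg.Geo.IsPlusTypeOn Q (D i)) → Cfsg.Geo.IsMaximalIn (Cfsg.Geo.omegaGL Q) (Cfsg.Geo.decompositionStabilizer D ⊓ Cfsg.Geo.omegaGL Q)) ∧
    (Odd (Fintype.card F) → ∀ K : Subalgebra F (Matrix (Fin 12) (Fin 12) F), Cfsg.Geo.IsFieldSubalgebra 2 K → Cfsg.Geo.IsSelfAdjointFor (QuadraticMap.polar Q) K → Cfsg.Geo.IsMaximalIn (Cfsg.Geo.omegaGL Q) (Cfsg.Geo.subalgebraNormalizer K ⊓ Cfsg.Geo.omegaGL Q)) ∧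
    (Odd (Fintype.card F) → ∀ K : Subalgebra F (Matrix (Fin 12) (Fin 12) F), Cfsg.Geo.IsFieldSubalgebra 3 K → Cfsg.Geo.IsSelfAdjointFor (QuadraticMap.polar Q) K → Cfsg.Geo.IsMaximalIn (Cfsg.Geo.omegaGL Q) (Cfsg.Geo.subalgebraNormalizer K ⊓ Cfsg.Geo.omegaGL Q)) ∧
    (Odd (Fintype.card F) ∧ 5 ≤ Fintype.card F → ∀ (e : Fin 12 ≃ Fin 3 × Fin 4) (P : Matrix.GeneralLinearGroup (Fin 12) F) (f₁ : (Fin 3 → F) → (Fin 3 → F) → F) (f₂ : (Fin 4 → F) → (Fin 4 → F) → F), Cfsg.Geo.IsSymmetricForm f₁ → Cfsg.Geo.IsSymmetricForm f₂ → ¬ Cfsg.Geo.IsPlusTypeOn (fun v : Fin 4 → F => f₂ v v) ⊤ → Cfsg.Geo.IsTensorFormStructure id (QuadraticMap.polar Q) f₁ f₂ e P → Cfsg.Geo.IsMaximalIn (Cfsg.Geo.omegaGL Q) (Cfsg.Geo.tensorProductSubgroup 3 4 e P ⊓ Cfsg.Geo.omegaGL Q)) ∧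
    (∀ (F₀ : Subfield F) (r : ℕ) (P : Matrix.GeneralLinearGroup (Fin 12) F) (ζ : F), r.Prime → Odd r → Fintype.card F = Nat.card F₀ ^ r → ζ ≠ 0 → Cfsg.Geo.IsQuadFormRationalStructure (fun v : Fin 12 → F => ζ * Q v) F₀ P → Cfsg.Geo.IsMaximalIn (Cfsg.Geo.omegaGL Q) (Cfsg.Geo.subfieldSubgroup F₀ P ⊓ Cfsg.Geo.omegaGL Q)) := by
  classical
  obtain ⟨q, rfl, hnd⟩ := MaxCl.Orth.exists_form hQ
  have h12 : Fintype.card (Fin 12) = 12 := Fintype.card_fin 12
  have hnd' := fun {W : Submodule F (Fin 12 → F)} (h : Cfsg.Geo.IsNondegenerateOn (QuadraticMap.polar q) W) =>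
    MaxCl.Orth.nonDeg_of_isNondegenerateOn h
  have hW0 : ∀ W : Submodule F (Fin 12 → F), 1 ≤ Module.finrank F W → W ≠ ⊥ := fun W h e => by
    rw [e, finrank_bot] at h; omega
  have hW1 : ∀ W : Submodule F (Fin 12 → F), Module.finrank F W < 12 → W ≠ ⊤ := fun W h e => by
    rw [e, finrank_top, Module.finrank_fin_fun] at h; omega
  have hbig : ∀ W : Submodule F (Fin 12 → F), MaxCl.Orth.NonDeg q W → 1 ≤ Module.finrank F W →
      Module.finrank F W < 12 → (Module.finrank F W = 2 ∨ Module.finrank F W = 10 → ¬ (Fintype.card F ≤ 3 ∧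
        ∃ U : Submodule F (Fin 12 → F), Module.finrank F U = 2 ∧ Cfsg.Geo.IsPlusTypeOn q U ∧
          (U = W ∨ U = MaxCl.Orth.perp q W))) →
      Cfsg.Geo.IsMaximalIn (Cfsg.Geo.omegaGL q) (Cfsg.Geo.subspaceStabilizer W ⊓ Cfsg.Geo.omegaGL q) := by
    intro W hW h0 h1 hex
    refine MaxCl.Orth.nondeg_maximal_any hnd hW (by omega) (hW0 W h0) (hW1 W h1) ?_ fun hd g hg e => ?_
    · rintro ⟨hq, U, hU2, -, hUp, hU⟩
      refine hex ?_ ⟨hq, U, hU2, hUp, hU⟩
      rcases hU with rfl | rfl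
      · exact Or.inl hU2
      · rw [MaxCl.Orth.finrank_perp hnd, h12] at hU2; omega
    · rw [h12] at hd
      exact hminus (MaxCl.Orth.isPlusType_of_map_perp hW (by rw [Nat.even_iff]; omega) (by rw [h12]; omega) hg e)
  refine ⟨fun W hW0' hW => ?_, fun hodd W hW0' hW1' hWodd _ hW => ?_, fun W hd hW hm => ?_, fun h4 W hd hW _ => ?_,
    fun W hd hW => ?_, fun W hd hW => ?_, fun hchar v hv => ?_, fun D hD hDm => ?_,
    fun hodd K hK hsa => ext_maximal hnd hodd 2 Nat.prime_two (by norm_num) K hK hsa,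
    fun hodd K hK hsa => ext_maximal hnd hodd 3 Nat.prime_three (by norm_num) K hK hsa,
    fun ⟨hodd, h5⟩ e P f₁ f₂ hf₁ hf₂ hm hT => ?_, fun F₀ r P ζ hr hodd hcard hζ hP => ?_⟩
  · refine MaxCl.Orth.parabolic_maximal hnd (by simp) hW0' hW fun U hU hUn _ => hminus ⟨U, le_top, hU, ?_⟩
    rw [finrank_top, Module.finrank_pi, hUn]
  · have h0 : 1 ≤ Module.finrank F W := Nat.one_le_iff_ne_zero.2 fun e => hW0' (Submodule.finrank_eq_zero.1 e)
    have h1 : Module.finrank F W < 12 := by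
      have := Submodule.finrank_lt hW1'
      rwa [Module.finrank_fin_fun] at this
    refine hbig W (hnd' hW) h0 h1 fun h => ?_
    obtain ⟨k, hk⟩ := hWodd
    omega
  · refine hbig W (hnd' hW) (by omega) (by omega) fun _ ⟨_, U, hU2, hUp, hU⟩ => ?_
    rcases hU with rfl | rfl
    · exact hm hUp
    · rw [MaxCl.Orth.finrank_perp hnd, h12, hd] at hU2; omega
  · exact hbig W (hnd' hW) (by omega) (by omega) fun _ ⟨h3, _⟩ => by omega
  · exact hbig W (hnd' hW) (by omega) (by omega) fun h => by omega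
  · exact hbig W (hnd' hW) (by omega) (by omega) fun h => by omega
  · refine MaxCl.Orth.point_maximal hnd ?_ (by simp) hv
    have h : Fintype.card F % 2 = 0 := Nat.even_iff.1 (Nat.not_odd_iff_even.1 hchar)
    haveI := ringChar.of_eq (FiniteField.even_card_iff_char_two.2 h)
    exact CharTwo.two_eq_zero
  · exact MaxCl.Orth.BigBlocks.maximal ⟨hD, hnd, by rw [h12]; norm_num, by norm_num, fun e => by omega,
      fun _ _ => hDm⟩
  · have two : (2 : F) ≠ 0 := Ring.two_ne_zero fun hc => by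
      obtain ⟨k, hk⟩ := hodd
      have := FiniteField.even_card_iff_char_two.1 hc
      omega
    obtain ⟨q₁, q₂, h₁, h₂, hv₂, form⟩ :=
      MaxCl.OTens.exists_factor_forms two (⟨e, P⟩ : MaxCl.Tens.TSys _ F 3 4) hf₁ hf₂ hT
    refine MaxCl.OTens.isMaximalIn_three_four (T := ⟨e, P⟩) two hnd h₁ h₂ form (fun a b ha hb hab ha0 => ?_) (by omega)
    by_contra hba
    refine hm ⟨Submodule.span F (Set.range ![a, b]), le_top, fun x hx => ?_, ?_⟩
    · obtain ⟨c, hc⟩ := (Submodule.mem_span_range_iff_exists_fun F).1 hx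
      have hx0 : q₂ x = 0 := by
        rw [← hc, Fin.sum_univ_two]
        simp [MaxCl.Orth.Q_add q₂, MaxCl.Orth.Q_smul q₂, MaxCl.Orth.B_smul_left q₂, MaxCl.Orth.B_smul_right q₂,
          ha, hb, hab]
      rw [hv₂] at hx0
      exact (mul_eq_zero.1 hx0).resolve_left (inv_ne_zero two)
    · rw [finrank_top, Module.finrank_fin_fun, finrank_span_eq_card ((LinearIndependent.pair_iff' ha0).2
        fun c hc => hba (Submodule.mem_span_singleton.2 ⟨c, hc⟩)), Fintype.card_fin]
  · have hiso : isometryGroup F (⇑(ζ • q)) = isometryGroup F ⇑q := by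
      ext g
      simp only [MaxCl.Orth.mem_iso, QuadraticMap.smul_apply, smul_eq_mul, mul_right_inj' hζ]
    have hnd2 : (QuadraticMap.polarBilin (ζ • q)).Nondegenerate := by
      have key : ∀ x y, QuadraticMap.polar (⇑(ζ • q)) x y = ζ * QuadraticMap.polar (⇑q) x y := fun x y => by
        simp only [QuadraticMap.polar, QuadraticMap.smul_apply, smul_eq_mul]; ring
      refine ⟨fun x hx => hnd.1 x fun y => ?_, fun y hy => hnd.2 y fun x => ?_⟩
      · have := hx y
        rw [QuadraticMap.polarBilin_apply_apply, key] at this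
        exact (mul_eq_zero.1 this).resolve_left hζ
      · have := hy x
        rw [QuadraticMap.polarBilin_apply_apply, key] at this
        exact (mul_eq_zero.1 this).resolve_left hζ
    rw [← MaxCl.Orth.omega_congr q hiso]
    refine MaxCl.Orth.orth_subfield_maximal (Q := ζ • q) ?_ hnd2 (by rw [h12]; norm_num) hr
      (by rw [Nat.card_eq_fintype_card (α := F)]; exact hcard)
    rintro _ ⟨u, hu, rfl⟩
    rw [MaxCl.act_apply, QuadraticMap.smul_apply, smul_eq_mul]
    exact hP u hu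

end Cfsg.Agent.S5873
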