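import Cfsg.Statements.S5876
-- import your own Cfsg.Agent.* helpers here

set_option autoImplicit false
open Cfsg

namespace Cfsg.Agent.S5876

open scoped Matrix commutatorElement

variable {F : Type*} [Field F] {n : ℕ}

abbrev fixSp (x : Matrix (Fin n) (Fin n) F) : Submodule F (Fin n → F) :=
  Module.End.eigenspace (Matrix.toLin' x) 1

theorem mem_fixSp {x : Matrix (Fin n) (Fin n) F} {v : Fin n → F} : v ∈ fixSp x ↔ x *ᵥ v = v := by
  simp [Module.End.mem_eigenspace_iff]

theorem exists_common_kernel (s : Finset (Matrix (Fin n) (Fin n) F))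
    (hn : ∀ x ∈ s, IsNilpotent x) (hc : ∀ x ∈ s, ∀ y ∈ s, x * y = y * x) (hpos : 0 < n) :
    ∃ v : Fin n → F, v ≠ 0 ∧ ∀ x ∈ s, x *ᵥ v = 0 := by
  classical
  induction s using Finset.induction with
  | empty =>
    haveI : NeZero n := ⟨hpos.ne'⟩
    exact ⟨fun _ => 1, fun h => one_ne_zero (congrFun h 0), by simp⟩
  | insert a s has ih =>
    obtain ⟨v, hv, hvs⟩ := ih (fun x hx => hn x (Finset.mem_insert_of_mem hx))
      (fun x hx y hy => hc x (Finset.mem_insert_of_mem hx) y (Finset.mem_insert_of_mem hy))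
    obtain ⟨k, hk⟩ := hn a (Finset.mem_insert_self a s)
    have hex : ∃ k, (a ^ k) *ᵥ v = 0 := ⟨k, by rw [hk, Matrix.zero_mulVec]⟩
    have hne : Nat.find hex ≠ 0 := by
      intro h
      have := Nat.find_spec hex
      rw [h, pow_zero, Matrix.one_mulVec] at this
      exact hv this
    obtain ⟨j, hj⟩ := Nat.exists_eq_succ_of_ne_zero hne
    refine ⟨(a ^ j) *ᵥ v, Nat.find_min hex (by omega), ?_⟩
    intro x hx
    rcases Finset.mem_insert.mp hx with rfl | hx
    · have := Nat.find_spec hex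
      rw [hj, pow_succ', ← Matrix.mulVec_mulVec] at this
      exact this
    · have hcomm : Commute x (a ^ j) :=
        Commute.pow_right (hc x (Finset.mem_insert_of_mem hx) a (Finset.mem_insert_self a s)) j
      rw [Matrix.mulVec_mulVec, hcomm.eq, ← Matrix.mulVec_mulVec, hvs x hx, Matrix.mulVec_zero]

section
variable (G : Subgroup (Matrix.GeneralLinearGroup (Fin n) F))

def rho : G →* Matrix (Fin n) (Fin n) F := (Units.coeHom _).comp G.subtype

theorem rho_mul_inv (g : G) : rho G g * rho G g⁻¹ = 1 := by rw [← map_mul, mul_inv_cancel, map_one]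

theorem rho_inv_mul (g : G) : rho G g⁻¹ * rho G g = 1 := by rw [← map_mul, inv_mul_cancel, map_one]

theorem rho_injective : Function.Injective (rho G) :=
  fun a b h => Subtype.ext (Units.ext h)

def alg (A : Subgroup G) : Subalgebra F (Matrix (Fin n) (Fin n) F) :=
  Algebra.adjoin F (rho G '' (A : Set G))

theorem rho_mem_alg {A : Subgroup G} {a : G} (ha : a ∈ A) : rho G a ∈ alg G A :=
  Algebra.subset_adjoin ⟨a, ha, rfl⟩

theorem alg_comm {A : Subgroup G} (hA : ∀ a ∈ A, ∀ b ∈ A, a * b = b * a) :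
    ∀ x ∈ alg G A, ∀ y ∈ alg G A, x * y = y * x := by
  intro x hx y hy
  refine Algebra.commute_of_mem_adjoin_of_forall_mem_commute hy ?_ |>.eq
  rintro _ ⟨b, hb, rfl⟩
  refine (Algebra.commute_of_mem_adjoin_of_forall_mem_commute hx ?_).symm
  rintro _ ⟨a, ha, rfl⟩
  show rho G b * rho G a = rho G a * rho G b
  rw [← map_mul, ← map_mul, hA b hb a ha]

theorem alg_conj {A : Subgroup G} [A.Normal] (g : G) {x : Matrix (Fin n) (Fin n) F}
    (hx : x ∈ alg G A) : rho G g * x * rho G g⁻¹ ∈ alg G A := by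
  induction hx using Algebra.adjoin_induction with
  | mem y hy =>
    obtain ⟨a, ha, rfl⟩ := hy
    rw [← map_mul, ← map_mul]
    exact rho_mem_alg G (Subgroup.Normal.conj_mem inferInstance a ha g)
  | algebraMap r =>
    rw [← Algebra.commutes, mul_assoc, rho_mul_inv, mul_one]
    exact Subalgebra.algebraMap_mem _ r
  | add y z _ _ hy hz => rw [mul_add, add_mul]; exact add_mem hy hz
  | mul y z _ _ hy hz =>
    have e : rho G g * (y * z) * rho G g⁻¹
        = (rho G g * y * rho G g⁻¹) * (rho G g * z * rho G g⁻¹) := by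
      simp only [mul_assoc]
      rw [← mul_assoc (rho G g⁻¹), rho_inv_mul, one_mul]
    rw [e]; exact mul_mem hy hz

/-- the hypotheses on G -/
def Irr : Prop := Cfsg.Geo.ActsIrreducibly (Cfsg.Geo.matrixSet G)
def Prim : Prop := ∀ (m t : ℕ) (D : Fin t → Submodule F (Fin n → F)),
  2 ≤ t → Cfsg.Geo.IsMDecomposition m D → ¬ G ≤ Cfsg.Geo.decompositionStabilizer D

variable {G}

theorem invariant_bot_or_top (hirr : Irr G) (W : Submodule F (Fin n → F))
    (hW : ∀ g : G, ∀ v ∈ W, rho G g *ᵥ v ∈ W) : W = ⊥ ∨ W = ⊤ := by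
  refine hirr W ?_
  rintro _ ⟨g, hg, rfl⟩ _ ⟨v, hv, rfl⟩
  rw [Matrix.toLin'_apply]
  exact hW ⟨g, hg⟩ v hv

theorem alg_reduced [Fintype F] (hirr : Irr G) {A : Subgroup G} [A.Normal]
    (hA : ∀ a ∈ A, ∀ b ∈ A, a * b = b * a) {x : Matrix (Fin n) (Fin n) F}
    (hx : x ∈ alg G A) (hnil : IsNilpotent x) : x = 0 := by
  classical
  rcases Nat.eq_zero_or_pos n with rfl | hpos
  · exact Subsingleton.elim _ _
  let s : Finset (Matrix (Fin n) (Fin n) F) :=
    Finset.univ.filter fun y => y ∈ alg G A ∧ IsNilpotent y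
  have hs : ∀ y, y ∈ s ↔ y ∈ alg G A ∧ IsNilpotent y := by simp [s]
  obtain ⟨v, hv, hvs⟩ := exists_common_kernel s (fun y hy => ((hs y).1 hy).2)
    (fun y hy z hz => alg_comm G hA y ((hs y).1 hy).1 z ((hs z).1 hz).1) hpos
  let W : Submodule F (Fin n → F) :=
    { carrier := {w | ∀ y ∈ s, y *ᵥ w = 0}
      add_mem' := fun ha hb y hy => by rw [Matrix.mulVec_add, ha y hy, hb y hy, add_zero]
      zero_mem' := fun y _ => Matrix.mulVec_zero y
      smul_mem' := fun c a ha y hy => by rw [Matrix.mulVec_smul, ha y hy, smul_zero] }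
  have hWinv : ∀ g : G, ∀ w ∈ W, rho G g *ᵥ w ∈ W := by
    intro g w hw y hy
    obtain ⟨hy1, k, hk⟩ := (hs y).1 hy
    have hy' : rho G g⁻¹ * y * rho G g ∈ s := by
      refine (hs _).2 ⟨by simpa using alg_conj G g⁻¹ hy1, k, ?_⟩
      have : ∀ j : ℕ, (rho G g⁻¹ * y * rho G g) ^ j = rho G g⁻¹ * y ^ j * rho G g := by
        intro j
        induction j with
        | zero => simp [rho_inv_mul]
        | succ j ih =>
          rw [pow_succ, ih, pow_succ]
          simp only [mul_assoc]
          rw [← mul_assoc (rho G g), rho_mul_inv, one_mul]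
      rw [this, hk, mul_zero, zero_mul]
    have := hw _ hy'
    rw [← Matrix.mulVec_mulVec, ← Matrix.mulVec_mulVec] at this
    have e := congrArg (fun u => rho G g *ᵥ u) this
    simpa [Matrix.mulVec_mulVec, rho_mul_inv, ← mul_assoc] using e
  rcases invariant_bot_or_top hirr W hWinv with h | h
  · exact absurd ((Submodule.eq_bot_iff W).1 h v hvs) hv
  · refine Matrix.ext_of_mulVec_single fun i => ?_
    rw [Matrix.zero_mulVec]
    have : Pi.single i (1 : F) ∈ W := h ▸ Submodule.mem_top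
    exact this x ((hs x).2 ⟨hx, hnil⟩)

theorem range_le_iff {e : Matrix (Fin n) (Fin n) F} (he : e * e = e) {v : Fin n → F} :
    v ∈ LinearMap.range (Matrix.toLin' e) ↔ e *ᵥ v = v := by
  constructor
  · rintro ⟨w, rfl⟩
    rw [Matrix.toLin'_apply, Matrix.mulVec_mulVec, he]
  · intro h; exact ⟨v, by rw [Matrix.toLin'_apply, h]⟩

theorem exists_atom {A : Subgroup G} (hA : ∀ a ∈ A, ∀ b ∈ A, a * b = b * a)
    (f : Matrix (Fin n) (Fin n) F) (hf : f ∈ alg G A) (hff : f * f = f) (hf0 : f ≠ 0) :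
    ∃ e ∈ alg G A, e * e = e ∧ e ≠ 0 ∧ e * f = e ∧
      ∀ h ∈ alg G A, h * h = h → e * h = 0 ∨ e * h = e := by
  generalize hd : Module.finrank F (LinearMap.range (Matrix.toLin' f)) = d
  induction d using Nat.strong_induction_on generalizing f with
  | _ d ih =>
    by_cases hat : ∀ h ∈ alg G A, h * h = h → f * h = 0 ∨ f * h = f
    · exact ⟨f, hf, hff, hf0, hff, hat⟩
    push_neg at hat
    obtain ⟨h, hh, hhh, h0, h1⟩ := hat
    have c : h * f = f * h := alg_comm G hA h hh f hf
    have idem : (f * h) * (f * h) = f * h := by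
      rw [mul_assoc, ← mul_assoc h, c, mul_assoc, hhh, ← mul_assoc, hff]
    have hlt : LinearMap.range (Matrix.toLin' (f * h)) < LinearMap.range (Matrix.toLin' f) := by
      refine lt_of_le_of_ne ?_ ?_
      · intro v hv
        rw [range_le_iff idem] at hv
        rw [range_le_iff hff, ← hv, Matrix.mulVec_mulVec, ← mul_assoc, hff]
      · intro heq
        refine h1 (Matrix.ext_of_mulVec_single fun i => ?_)
        have hm : f *ᵥ Pi.single i (1 : F) ∈ LinearMap.range (Matrix.toLin' (f * h)) :=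
          heq ▸ ⟨Pi.single i 1, rfl⟩
        rw [range_le_iff idem, Matrix.mulVec_mulVec, mul_assoc, c, ← mul_assoc, hff] at hm
        exact hm
    obtain ⟨e, he, hee, he0, hef, hea⟩ :=
      ih _ (hd ▸ Submodule.finrank_lt_finrank_of_lt hlt) (f * h) (mul_mem hf hh) idem h0 rfl
    refine ⟨e, he, hee, he0, ?_, hea⟩
    calc e * f = e * (f * h) * f := by rw [hef]
      _ = e * (f * h) := by rw [mul_assoc e, mul_assoc f, c, ← mul_assoc f f, hff]
      _ = e := hef

theorem no_idem [Fintype F] (hirr : Irr G) (hprim : Prim G) {A : Subgroup G} [A.Normal]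
    (hA : ∀ a ∈ A, ∀ b ∈ A, a * b = b * a) (f : Matrix (Fin n) (Fin n) F) (hf : f ∈ alg G A)
    (hff : f * f = f) : f = 0 ∨ f = 1 := by
  classical
  by_contra hne
  push_neg at hne
  obtain ⟨e, he, hee, he0, hef, hea⟩ := exists_atom hA f hf hff hne.1
  let c : G → Matrix (Fin n) (Fin n) F := fun g => rho G g * e * rho G g⁻¹
  let O : Finset (Matrix (Fin n) (Fin n) F) := Finset.univ.filter fun x => ∃ g, c g = x
  have hO : ∀ x, x ∈ O ↔ ∃ g, c g = x := by simp [O]
  have hcA : ∀ g, c g ∈ alg G A := fun g => alg_conj G g he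
  have hcc : ∀ g, c g * c g = c g := by
    intro g
    simp only [c, mul_assoc]
    rw [← mul_assoc (rho G g⁻¹), rho_inv_mul, one_mul, ← mul_assoc e, hee]
  have hcmul : ∀ g h, c (g * h) = rho G g * c h * rho G g⁻¹ := by
    intro g h
    simp only [c, mul_inv_rev, map_mul, mul_assoc]
  have hatom : ∀ g, ∀ x ∈ alg G A, x * x = x → c g * x = 0 ∨ c g * x = c g := by
    intro g x hx hxx
    have hy : rho G g⁻¹ * x * rho G g ∈ alg G A := by simpa using alg_conj G g⁻¹ hx
    have hyy : (rho G g⁻¹ * x * rho G g) * (rho G g⁻¹ * x * rho G g)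
        = rho G g⁻¹ * x * rho G g := by
      simp only [mul_assoc]
      rw [← mul_assoc (rho G g), rho_mul_inv, one_mul, ← mul_assoc x, hxx]
    have key : c g * x = rho G g * (e * (rho G g⁻¹ * x * rho G g)) * rho G g⁻¹ := by
      simp only [c, mul_assoc, rho_mul_inv, mul_one]
    rcases hea _ hy hyy with h | h
    · left; rw [key, h, mul_zero, zero_mul]
    · right; rw [key, h]
  have hne0 : ∀ g, c g ≠ 0 := by
    intro g h
    apply he0
    have : rho G g⁻¹ * c g * rho G g = e := by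
      simp only [c, mul_assoc, rho_inv_mul, mul_one]
      rw [← mul_assoc, rho_inv_mul, one_mul]
    rw [← this, h, mul_zero, zero_mul]
  have hdim : ∀ g, Module.finrank F (LinearMap.range (Matrix.toLin' (c g)))
      = Module.finrank F (LinearMap.range (Matrix.toLin' e)) := by
    intro g
    let L : (Fin n → F) ≃ₗ[F] (Fin n → F) := Matrix.toLin'OfInv (rho_inv_mul G g) (rho_mul_inv G g)
    have hm : LinearMap.range (Matrix.toLin' (c g))
        = (LinearMap.range (Matrix.toLin' e)).map (L : (Fin n → F) →ₗ[F] (Fin n → F)) := by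
      ext v
      constructor
      · rintro ⟨w, rfl⟩
        refine ⟨e *ᵥ (rho G g⁻¹ *ᵥ w), ⟨_, rfl⟩, ?_⟩
        simp [L, c, Matrix.toLin'OfInv, Matrix.mulVec_mulVec, mul_assoc]
      · rintro ⟨_, ⟨w, rfl⟩, rfl⟩
        refine ⟨rho G g *ᵥ w, ?_⟩
        simp [L, c, Matrix.toLin'OfInv, Matrix.mulVec_mulVec, mul_assoc, rho_inv_mul]
    rw [hm, LinearEquiv.finrank_map_eq]
  let ι := O.equivFin.symm
  let D : Fin O.card → Submodule F (Fin n → F) :=
    fun i => LinearMap.range (Matrix.toLin' (ι i : Matrix (Fin n) (Fin n) F))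
  have hι : ∀ i, ∃ g, c g = (ι i : Matrix (Fin n) (Fin n) F) := fun i => (hO _).1 (ι i).2
  have horth : ∀ i j, i ≠ j →
      (ι i : Matrix (Fin n) (Fin n) F) * (ι j : Matrix (Fin n) (Fin n) F) = 0 := by
    intro i j hij
    obtain ⟨g, hg⟩ := hι i
    obtain ⟨h, hh⟩ := hι j
    rw [← hg, ← hh]
    rcases hatom g _ (hcA h) (hcc h) with h1 | h1
    · exact h1
    rcases hatom h _ (hcA g) (hcc g) with h2 | h2
    · rw [alg_comm G hA _ (hcA g) _ (hcA h)]; exact h2
    exfalso
    apply hij
    apply ι.injective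
    apply Subtype.ext
    rw [← hg, ← hh, ← h1, alg_comm G hA _ (hcA g) _ (hcA h), h2]
  have hinv : ∀ g : G, ∀ i, ∃ j, rho G g * (ι i : Matrix (Fin n) (Fin n) F) * rho G g⁻¹ = ι j := by
    intro g i
    obtain ⟨h, hh⟩ := hι i
    exact ⟨ι.symm ⟨c (g * h), (hO _).2 ⟨_, rfl⟩⟩, by rw [← hh, ← hcmul, Equiv.apply_symm_apply]⟩
  have hmap : ∀ g : G, ∀ i j, rho G g * (ι i : Matrix (Fin n) (Fin n) F) * rho G g⁻¹ = ι j →
      (D i).map (Matrix.toLin' (rho G g)) = D j := by
    intro g i j hij
    ext v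
    constructor
    · rintro ⟨_, ⟨w, rfl⟩, rfl⟩
      refine ⟨rho G g *ᵥ w, ?_⟩
      simp [← hij, Matrix.mulVec_mulVec, mul_assoc, rho_inv_mul]
    · rintro ⟨w, rfl⟩
      refine ⟨_, ⟨rho G g⁻¹ *ᵥ w, rfl⟩, ?_⟩
      simp [← hij, Matrix.mulVec_mulVec, mul_assoc]
  have hid : ∀ i, (ι i : Matrix (Fin n) (Fin n) F) * (ι i : Matrix (Fin n) (Fin n) F) = ι i := by
    intro i
    obtain ⟨g, hg⟩ := hι i
    rw [← hg, hcc]
  have hpos : 0 < Module.finrank F (LinearMap.range (Matrix.toLin' e)) := by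
    rw [Nat.pos_iff_ne_zero]
    intro h
    rw [Submodule.finrank_eq_zero, LinearMap.range_eq_bot] at h
    exact he0 (Matrix.toLin'.map_eq_zero_iff.mp h)
  have hspan : iSup D = ⊤ := by
    have hinv' : ∀ g : G, ∀ v ∈ iSup D, rho G g *ᵥ v ∈ iSup D := by
      intro g v hv
      induction hv using Submodule.iSup_induction' with
      | mem i w hw =>
        obtain ⟨j, hj⟩ := hinv g i
        refine Submodule.mem_iSup_of_mem j ?_
        show rho G g *ᵥ w ∈ D j
        rw [← hmap g i j hj]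
        exact ⟨w, hw, Matrix.toLin'_apply _ _⟩
      | zero => simp
      | add a b _ _ ha hb => rw [Matrix.mulVec_add]; exact add_mem ha hb
    rcases invariant_bot_or_top hirr (iSup D) hinv' with h | h
    · exfalso
      let i₀ := ι.symm ⟨c 1, (hO _).2 ⟨1, rfl⟩⟩
      have h2 : D i₀ = ⊥ := le_bot_iff.1 (h ▸ le_iSup D i₀)
      simp only [D, i₀, Equiv.apply_symm_apply, LinearMap.range_eq_bot] at h2
      exact hne0 1 (Matrix.toLin'.map_eq_zero_iff.mp h2)
    · exact h
  have hcard : 2 ≤ O.card := by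
    by_contra hlt
    have h1 : ∀ i j : Fin O.card, i = j := fun i j => Fin.ext (by omega)
    have htop : LinearMap.range (Matrix.toLin' (c 1)) = ⊤ := by
      rw [eq_top_iff, ← hspan]
      refine iSup_le fun i => ?_
      rw [h1 i (ι.symm ⟨c 1, (hO _).2 ⟨1, rfl⟩⟩)]
      simp [D]
    have hc1 : c 1 = e := by simp [c]
    rw [hc1] at htop
    have : e = 1 := by
      refine Matrix.ext_of_mulVec_single fun i => ?_
      rw [Matrix.one_mulVec]
      exact (range_le_iff hee).1 (htop ▸ Submodule.mem_top)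
    rw [this, one_mul] at hef
    exact hne.2 hef
  refine hprim (Module.finrank F (LinearMap.range (Matrix.toLin' e))) O.card D hcard
    ⟨hcard, hpos, fun i => ?_, ?_, hspan⟩ ?_
  · obtain ⟨g, hg⟩ := hι i
    have := hdim g
    rw [hg] at this
    exact this
  · refine iSupIndep_def.2 fun i => Submodule.disjoint_def.2 fun v hv hv' => ?_
    have hv1 : (ι i : Matrix (Fin n) (Fin n) F) *ᵥ v = v := (range_le_iff (hid i)).1 hv
    have hk : (⨆ j, ⨆ (_ : j ≠ i), D j) ≤ LinearMap.ker (Matrix.toLin' (ι i : Matrix (Fin n) (Fin n) F)) := by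
      refine iSup₂_le fun j hj => ?_
      rintro _ ⟨w, rfl⟩
      simp [Matrix.mulVec_mulVec, horth i j (Ne.symm hj)]
    have := hk hv'
    rw [LinearMap.mem_ker, Matrix.toLin'_apply, hv1] at this
    exact this
  · intro g hg
    choose σ hσ using hinv ⟨g, hg⟩
    have hinj : Function.Injective σ := by
      intro i j hij
      apply ι.injective
      apply Subtype.ext
      have e2 := congrArg (fun x => rho G (⟨g, hg⟩ : G)⁻¹ * x * rho G ⟨g, hg⟩) ((hσ i).trans ((congrArg (fun k => (ι k : Matrix (Fin n) (Fin n) F)) hij).trans (hσ j).symm))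
      simp only [mul_assoc, rho_inv_mul, mul_one] at e2
      simp only [← mul_assoc, rho_inv_mul, one_mul] at e2
      exact e2
    exact ⟨Equiv.ofBijective σ (Finite.injective_iff_bijective.1 hinj), fun i => hmap ⟨g, hg⟩ i _ (hσ i)⟩

theorem fixed_free [Fintype F] (hirr : Irr G) (hprim : Prim G) {A : Subgroup G} [A.Normal]
    (hA : ∀ a ∈ A, ∀ b ∈ A, a * b = b * a) {a : G} (ha : a ∈ A) {v : Fin n → F} (hv : v ≠ 0)
    (hav : rho G a *ᵥ v = v) : a = 1 := by
  apply rho_injective G
  rw [map_one, ← sub_eq_zero]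
  set x := rho G a - 1 with hxdef
  have hx : x ∈ alg G A := sub_mem (rho_mem_alg G ha) (one_mem _)
  obtain ⟨i, j, hij, heq⟩ : ∃ i j : ℕ, i < j ∧ x ^ i = x ^ j := by
    obtain ⟨i, j, hne, h⟩ := Finite.exists_ne_map_eq_of_infinite (fun k : ℕ => x ^ k)
    rcases lt_or_gt_of_ne hne with h' | h'
    · exact ⟨i, j, h', h⟩
    · exact ⟨j, i, h', h.symm⟩
  obtain ⟨d, rfl⟩ : ∃ d, j = i + (d + 1) := ⟨j - i - 1, by omega⟩
  have hcomm : Commute x (1 - x ^ (d + 1)) := (Commute.one_right x).sub_right ((Commute.refl x).pow_right _)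
  have h0 : x * (1 - x ^ (d + 1)) = 0 := by
    refine alg_reduced hirr hA (mul_mem hx (sub_mem (one_mem _) (pow_mem hx _))) ⟨i + 1, ?_⟩
    rw [hcomm.mul_pow]
    have hz : x ^ i * (1 - x ^ (d + 1)) = 0 := by rw [mul_sub, mul_one, ← pow_add, ← heq, sub_self]
    rw [pow_succ' (1 - x ^ (d + 1)), pow_succ' x, mul_assoc, ← mul_assoc (x ^ i), hz, zero_mul, mul_zero]
  have hxd : x * x ^ (d + 1) = x := by
    rw [mul_sub, mul_one, sub_eq_zero] at h0
    exact h0.symm
  have hidem : x ^ (d + 1) * x ^ (d + 1) = x ^ (d + 1) := by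
    calc x ^ (d + 1) * x ^ (d + 1) = x ^ d * (x * x ^ (d + 1)) := by rw [← mul_assoc, ← pow_succ]
      _ = x ^ (d + 1) := by rw [hxd, ← pow_succ]
  rcases no_idem hirr hprim hA _ (pow_mem hx _) hidem with h | h
  · rw [← hxd, h, mul_zero]
  · exfalso
    apply hv
    have hxv : x *ᵥ v = 0 := by rw [hxdef, Matrix.sub_mulVec, hav, Matrix.one_mulVec, sub_self]
    rw [← Matrix.one_mulVec v, ← h, pow_succ, ← Matrix.mulVec_mulVec, hxv, Matrix.mulVec_zero]

theorem finrank_inter (U W : Submodule F (Fin n → F)) :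
    Module.finrank F U + Module.finrank F W ≤ n + Module.finrank F (U ⊓ W : Submodule F (Fin n → F)) := by
  have h1 := Submodule.finrank_sup_add_finrank_inf_eq U W
  have h2 := Submodule.finrank_le (U ⊔ W)
  rw [Module.finrank_fin_fun] at h2
  omega

theorem finrank_fix_conj (h g : G) :
    Module.finrank F (fixSp (rho G (h * g * h⁻¹))) = Module.finrank F (fixSp (rho G g)) := by
  let L : (Fin n → F) ≃ₗ[F] (Fin n → F) := Matrix.toLin'OfInv (rho_inv_mul G h) (rho_mul_inv G h)
  have hL : ∀ v, L v = rho G h *ᵥ v := fun v => by simp [L, Matrix.toLin'OfInv]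
  have : fixSp (rho G (h * g * h⁻¹)) = (fixSp (rho G g)).map (L : (Fin n → F) →ₗ[F] (Fin n → F)) := by
    ext v
    constructor
    · intro hv
      rw [mem_fixSp] at hv
      refine ⟨rho G h⁻¹ *ᵥ v, ?_, ?_⟩
      · rw [SetLike.mem_coe, mem_fixSp]
        conv_rhs => rw [← hv]
        simp only [Matrix.mulVec_mulVec, ← map_mul]
        congr 2; group
      · simp [hL, Matrix.mulVec_mulVec, rho_mul_inv]
    · rintro ⟨w, hw, rfl⟩
      rw [SetLike.mem_coe, mem_fixSp] at hw
      rw [mem_fixSp]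
      simp only [LinearEquiv.coe_coe, hL, Matrix.mulVec_mulVec]
      conv_rhs => rw [← hw, Matrix.mulVec_mulVec]
      simp only [← map_mul]
      congr 2; group
  rw [this, LinearEquiv.finrank_map_eq]

theorem fix_inv (g : G) : fixSp (rho G g⁻¹) = fixSp (rho G g) := by
  ext v
  rw [mem_fixSp, mem_fixSp]
  constructor <;> intro h
  · conv_lhs => rw [← h, Matrix.mulVec_mulVec, rho_mul_inv, Matrix.one_mulVec]
  · conv_lhs => rw [← h, Matrix.mulVec_mulVec, rho_inv_mul, Matrix.one_mulVec]

/-- If all nontrivial elements of a normal subgroup fix at most half, a big-fixer centralises it. -/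
theorem centralizes {N : Subgroup G} [N.Normal]
    (hN : ∀ b ∈ N, n < 2 * Module.finrank F (fixSp (rho G b)) → b = 1) {g : G}
    (hg : 3 * n < 4 * Module.finrank F (fixSp (rho G g))) : ∀ h ∈ N, g * h = h * g := by
  intro h hh
  have hle : fixSp (rho G g) ⊓ fixSp (rho G (h * g⁻¹ * h⁻¹)) ≤ fixSp (rho G (g * (h * g⁻¹ * h⁻¹))) := by
    rintro v ⟨h1, h2⟩
    rw [SetLike.mem_coe, mem_fixSp] at h1 h2
    rw [mem_fixSp, map_mul, ← Matrix.mulVec_mulVec, h2, h1]
  have h1 := finrank_inter (fixSp (rho G g)) (fixSp (rho G (h * g⁻¹ * h⁻¹)))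
  have h2 := Submodule.finrank_mono hle
  rw [finrank_fix_conj, fix_inv] at h1
  have hmem : g * (h * g⁻¹ * h⁻¹) ∈ N := by
    have : g * (h * g⁻¹ * h⁻¹) = g * h * g⁻¹ * h⁻¹ := by group
    rw [this]
    exact mul_mem (Subgroup.Normal.conj_mem inferInstance h hh g) (inv_mem hh)
  have := hN _ hmem (by omega)
  calc g * h = (g * (h * g⁻¹ * h⁻¹)) * (h * g) := by group
    _ = h * g := by rw [this, one_mul]

def dser (G : Subgroup (Matrix.GeneralLinearGroup (Fin n) F)) (K : Subgroup G) : ℕ → Subgroup G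
  | 0 => K
  | k + 1 => ⁅dser G K k, dser G K k⁆

theorem main [Fintype F] (hsol : IsSolvable G) (hirr : Irr G) (hprim : Prim G) (g : G) (hg1 : g ≠ 1)
    (hg : 3 * n < 4 * Module.finrank F (fixSp (rho G g))) : False := by
  classical
  obtain ⟨A, ⟨hAn, hAab⟩, hAmax⟩ :=
    Set.Finite.exists_maximal (s := {A : Subgroup G | A.Normal ∧ ∀ a ∈ A, ∀ b ∈ A, a * b = b * a})
      (Set.toFinite _) ⟨⊥, inferInstance, by simp⟩
  have hfpf : ∀ a ∈ A, 0 < Module.finrank F (fixSp (rho G a)) → a = 1 := by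
    intro a ha h
    obtain ⟨v, hv, hv0⟩ := Submodule.exists_mem_ne_zero_of_ne_bot
      (p := fixSp (rho G a)) (fun h' => by rw [h', finrank_bot] at h; omega)
    exact fixed_free hirr hprim hAab ha hv0 (mem_fixSp.1 hv)
  let π := QuotientGroup.mk' A
  let S : Set (Subgroup G) := {B | B.Normal ∧ A ≤ B ∧ B ≤ Subgroup.centralizer (A : Set G) ∧
    ∀ x ∈ B, ∀ y ∈ B, π x * π y = π y * π x}
  have hAS : A ∈ S := by
    refine ⟨hAn, le_rfl, fun a ha => Subgroup.mem_centralizer_iff.2 fun b hb => hAab b hb a ha, ?_⟩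
    intro x hx y hy
    rw [← map_mul, ← map_mul, hAab x hx y hy]
  obtain ⟨B, ⟨hBn, hAB, hBC, hBcomm⟩, hBmax⟩ := Set.Finite.exists_maximal (Set.toFinite S) ⟨A, hAS⟩
  have hZ : B ⊓ Subgroup.centralizer (B : Set G) ≤ A := by
    have hle : A ≤ B ⊓ Subgroup.centralizer (B : Set G) :=
      le_inf hAB (fun a ha => Subgroup.mem_centralizer_iff.2 fun b hb => (Subgroup.mem_centralizer_iff.1 (hBC hb) a ha).symm)
    exact hAmax ⟨inferInstance, fun a ha b hb => (Subgroup.mem_centralizer_iff.1 hb.2 a ha.1)⟩ hle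
  have hBhalf : ∀ b ∈ B, n < 2 * Module.finrank F (fixSp (rho G b)) → b = 1 := by
    intro b hb h
    by_cases hbA : b ∈ A
    · exact hfpf b hbA (by omega)
    exfalso
    obtain ⟨b', hb', hne⟩ : ∃ b' ∈ B, b' * b ≠ b * b' := by
      by_contra hc
      push_neg at hc
      exact hbA (hZ ⟨hb, Subgroup.mem_centralizer_iff.2 fun x hx => hc x hx⟩)
    set z := (b' * b)⁻¹ * (b * b') with hz
    have hzA : z ∈ A := by
      rw [← QuotientGroup.eq_one_iff (N := A)]
      show π z = 1
      rw [hz, map_mul, map_inv, map_mul, map_mul, hBcomm b hb b' hb', inv_mul_cancel]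
    have hz1 : z ≠ 1 := fun e => hne (inv_mul_eq_one.1 e)
    have hzb : z * b = b * z := Subgroup.mem_centralizer_iff.1 (hBC hb) z hzA
    have hbb : b * b' = b' * (z * b) := by rw [hzb, hz]; group
    have hinter : fixSp (rho G b) ⊓ fixSp (rho G (b' * b * b'⁻¹)) = ⊥ := by
      rw [Submodule.eq_bot_iff]
      rintro v ⟨h1, h2⟩
      rw [SetLike.mem_coe, mem_fixSp] at h1 h2
      set w := rho G b'⁻¹ *ᵥ v
      have hw : rho G b *ᵥ w = w := by
        have := congrArg (fun u => rho G b'⁻¹ *ᵥ u) h2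
        simpa [w, Matrix.mulVec_mulVec, ← map_mul, mul_assoc] using this
      have hv' : v = rho G b' *ᵥ w := by simp [w, Matrix.mulVec_mulVec, rho_mul_inv]
      have hzw : rho G z *ᵥ w = w := by
        rw [hv', Matrix.mulVec_mulVec, ← map_mul, hbb, map_mul, ← Matrix.mulVec_mulVec, map_mul,
          ← Matrix.mulVec_mulVec, hw] at h1
        have := congrArg (fun u => rho G b'⁻¹ *ᵥ u) h1
        simpa [Matrix.mulVec_mulVec, rho_inv_mul, ← map_mul, ← mul_assoc] using this
      by_contra hv0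
      refine hz1 (fixed_free hirr hprim hAab hzA (v := w) ?_ hzw)
      intro hw0; exact hv0 (by rw [hv', hw0, Matrix.mulVec_zero])
    have := finrank_inter (fixSp (rho G b)) (fixSp (rho G (b' * b * b'⁻¹)))
    rw [hinter, finrank_bot, finrank_fix_conj] at this
    omega
  have hgB : ∀ b ∈ B, g * b = b * g := centralizes hBhalf hg
  set K := Subgroup.centralizer (B : Set G) with hK
  have hgK : g ∈ K := Subgroup.mem_centralizer_iff.2 fun b hb => (hgB b hb).symm
  have hKC : K ≤ Subgroup.centralizer (A : Set G) := Subgroup.centralizer_le hAB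
  have hKA : K ≤ A := by
    by_contra hKnle
    let D : ℕ → Subgroup G := dser G K
    have hDsub : ∀ k, D k ≤ derivedSeries G k := by
      intro k
      induction k with
      | zero => simp [D, dser]
      | succ k ih => exact Subgroup.commutator_mono ih ih
    obtain ⟨N, hN⟩ := hsol.solvable
    letI : DecidablePred (fun k => D k ≤ A) := Classical.decPred _
    have hex : ∃ k, D k ≤ A := ⟨N, le_trans (hDsub N) (by rw [hN]; exact bot_le)⟩
    have hk0 : Nat.find hex ≠ 0 := fun h => hKnle (by have := Nat.find_spec hex; rwa [h] at this)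
    obtain ⟨k, hk⟩ := Nat.exists_eq_succ_of_ne_zero hk0
    have hDk : ¬ D k ≤ A := Nat.find_min hex (by omega)
    have hDk1 : ⁅D k, D k⁆ ≤ A := by have := Nat.find_spec hex; rwa [hk] at this
    have hDn : ∀ j, (D j).Normal ∧ D j ≤ K := by
      intro j
      induction j with
      | zero => exact ⟨inferInstanceAs K.Normal, le_rfl⟩
      | succ j ih =>
        haveI := ih.1
        exact ⟨Subgroup.commutator_normal _ _, (Subgroup.commutator_le_left _ _).trans ih.2⟩
    haveI := (hDn k).1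
    let T := D k
    have hBT : B ⊔ T ∈ S := by
      refine ⟨inferInstance, le_sup_of_le_left hAB, sup_le hBC ((hDn k).2.trans hKC), ?_⟩
      have hTT : ∀ x ∈ T, ∀ y ∈ T, π x * π y = π y * π x := by
        intro x hx y hy
        have : π ⁅x, y⁆ = 1 := (QuotientGroup.eq_one_iff _).2 (hDk1 (Subgroup.commutator_mem_commutator hx hy))
        rw [map_commutatorElement, commutatorElement_eq_one_iff_mul_comm] at this
        exact this
      have hBT' : ∀ x ∈ B, ∀ y ∈ T, π x * π y = π y * π x := fun x hx y hy => by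
        rw [← map_mul, ← map_mul, Subgroup.mem_centralizer_iff.1 ((hDn k).2 hy) x hx]
      have hgen : ∀ x ∈ B ⊔ T, ∀ y ∈ (B : Set G) ∪ (T : Set G), π x * π y = π y * π x := by
        intro x hx y hy
        have hle : B ⊔ T ≤ (Subgroup.centralizer {π y}).comap π := by
          refine sup_le (fun z hz => ?_) (fun z hz => ?_) <;>
            rw [Subgroup.mem_comap, Subgroup.mem_centralizer_singleton_iff] <;>
            rcases hy with hy | hy
          · exact hBcomm z hz y hy
          · exact hBT' z hz y hy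
          · exact (hBT' y hy z hz).symm
          · exact hTT z hz y hy
        exact Subgroup.mem_centralizer_singleton_iff.1 (hle hx)
      intro x hx y hy
      have hle : B ⊔ T ≤ (Subgroup.centralizer {π x}).comap π := by
        refine sup_le (fun z hz => ?_) (fun z hz => ?_) <;>
          rw [Subgroup.mem_comap, Subgroup.mem_centralizer_singleton_iff]
        · exact (hgen x hx z (Or.inl hz)).symm
        · exact (hgen x hx z (Or.inr hz)).symm
      exact (Subgroup.mem_centralizer_singleton_iff.1 (hle hy)).symm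
    have hTB : T ≤ B := le_sup_right.trans (hBmax hBT le_sup_left)
    exact hDk (fun x hx => hZ ⟨hTB hx, (hDn k).2 hx⟩)
  exact hg1 (hfpf g (hKA hgK) (by omega))

end

/-- Fixed-point spaces in primitive soluble linear groups. Let F be a finite field and G a soluble subgroup of GL_n(F) that acts irreducibly on F^n and primitively (G preserves no decomposition of F^n into two or more independent subspaces of equal dimension). Then every non-identity element g of G has fixed-point space {v : g v = v} of dimension at most 3n/4. -/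
theorem result {F : Type*} [Field F] [Fintype F] {n : ℕ} (G : Subgroup (Matrix.GeneralLinearGroup (Fin n) F)) (hsol : IsSolvable G) (hirr : Cfsg.Geo.ActsIrreducibly (Cfsg.Geo.matrixSet G)) (hprim : ∀ (m t : ℕ) (D : Fin t → Submodule F (Fin n → F)), 2 ≤ t → Cfsg.Geo.IsMDecomposition m D → ¬ G ≤ Cfsg.Geo.decompositionStabilizer D) (g : Matrix.GeneralLinearGroup (Fin n) F) (hg : g ∈ G) (hg1 : g ≠ 1) :
    4 * Module.finrank F (Module.End.eigenspace (Matrix.toLin' (g : Matrix (Fin n) (Fin n) F)) 1) ≤ 3 * n := by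
  by_contra h
  push_neg at h
  exact main (G := G) hsol hirr hprim ⟨g, hg⟩ (fun e => hg1 (congrArg Subtype.val e)) h

end Cfsg.Agent.S5876
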