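import Cfsg.Statements.S5877
import Mathlib

set_option autoImplicit false

namespace Cfsg.Agent.S5877

open Module

section Lin

variable {K : Type*} [Field K] {V : Type*} [AddCommGroup V] [Module K V] [FiniteDimensional K V]

/-- eigenspaces for distinct eigenvalues inside `E` have total dimension at most `dim E` -/
theorem sum_eigen_le (E : Submodule K V) (f : End K V) (s : Finset K) :
    ∑ a ∈ s, finrank K ↥(E ⊓ f.eigenspace a) ≤ finrank K E := by
  classical
  have key : ∀ s : Finset K, ∑ a ∈ s, finrank K ↥(E ⊓ f.eigenspace a) =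
      finrank K ↥(s.sup fun a => E ⊓ f.eigenspace a) := by
    intro s
    induction s using Finset.induction_on with
    | empty => rw [Finset.sum_empty, Finset.sup_empty, finrank_bot]
    | @insert a t hat ih =>
      rw [Finset.sum_insert hat, Finset.sup_insert, ih, ← Submodule.finrank_sup_add_finrank_inf_eq]
      have hd : (E ⊓ f.eigenspace a) ⊓ (t.sup fun b => E ⊓ f.eigenspace b) = ⊥ := by
        refine le_bot_iff.1 (le_trans (inf_le_inf inf_le_right (Finset.sup_le fun b hb => inf_le_right.trans ?_))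
          (f.eigenspaces_iSupIndep a).le_bot)
        exact le_iSup₂_of_le b (fun e => hat (e ▸ hb)) le_rfl
      rw [hd, finrank_bot, add_zero]
  rw [key]
  exact Submodule.finrank_mono (Finset.sup_le fun a _ => inf_le_left)

theorem pow_eigen {y : End K V} {μ : K} {E : Submodule K V} {g : End K V} (hyE : ∀ v ∈ E, y v ∈ E)
    (h : ∀ v ∈ E, g (y v) = μ • y (g v)) {v : V} {c : K} (hv : v ∈ E) (hg : g v = c • v) (j : ℕ) :
    (y ^ j) v ∈ E ∧ g ((y ^ j) v) = (μ ^ j * c) • (y ^ j) v := by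
  induction j with
  | zero => simp [hv, hg]
  | succ j ih =>
    rw [pow_succ', End.mul_apply]
    refine ⟨hyE _ ih.1, ?_⟩
    rw [h _ ih.1, ih.2, map_smul, smul_smul]
    ring_nf

/-- if `y` multiplies eigenvalues of `g` by a primitive `r`th root of unity, eigenspaces are at most `1/r` -/
theorem shift_bound {r : ℕ} {μ c : K} {g y : End K V} (hμ : IsPrimitiveRoot μ r) (hc : c ≠ 0)
    (E : Submodule K V) (hy : Function.Injective y) (hyE : ∀ v ∈ E, y v ∈ E)
    (h : ∀ v ∈ E, g (y v) = μ • y (g v)) :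
    r * finrank K ↥(E ⊓ g.eigenspace c) ≤ finrank K E := by
  classical
  have hinj : Set.InjOn (fun j => μ ^ j * c) (Finset.range r : Set ℕ) := by
    intro i hi j hj e
    exact hμ.pow_inj (Finset.mem_range.1 hi) (Finset.mem_range.1 hj) (mul_right_cancel₀ hc e)
  calc r * finrank K ↥(E ⊓ g.eigenspace c)
      = ∑ _j ∈ Finset.range r, finrank K ↥(E ⊓ g.eigenspace c) := by simp
    _ ≤ ∑ j ∈ Finset.range r, finrank K ↥(E ⊓ g.eigenspace (μ ^ j * c)) := by
        refine Finset.sum_le_sum fun j _ => ?_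
        refine LinearMap.finrank_le_finrank_of_injective (f := (y ^ j).restrict (fun v hv => ?_)) ?_
        · obtain ⟨hv1, hv2⟩ := Submodule.mem_inf.1 hv
          obtain ⟨h1, h2⟩ := pow_eigen hyE h hv1 (End.mem_eigenspace_iff.1 hv2) j
          exact Submodule.mem_inf.2 ⟨h1, End.mem_eigenspace_iff.2 h2⟩
        · intro u v e
          refine Subtype.ext ?_
          have he : (y ^ j) u.1 = (y ^ j) v.1 := congrArg Subtype.val e
          rw [End.coe_pow] at he
          exact hy.iterate j he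
    _ = ∑ a ∈ (Finset.range r).image (fun j => μ ^ j * c), finrank K ↥(E ⊓ g.eigenspace a) := by
        rw [Finset.sum_image hinj]
    _ ≤ _ := sum_eigen_le E g _

/-- a subspace invariant under an operator of order dividing `r` is spanned by eigenvectors -/
theorem decomp_le {r : ℕ} {ω : K} (hr : (r : K) ≠ 0) (hω : IsPrimitiveRoot ω r) (z : End K V) (hz : z ^ r = 1)
    (W : Submodule K V) (hW : ∀ v ∈ W, z v ∈ W) :
    finrank K W ≤ ∑ k ∈ Finset.range r, finrank K ↥(W ⊓ z.eigenspace (ω ^ k)) := by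
  classical
  have hr0 : r ≠ 0 := fun h => hr (by simp [h])
  let P : ℕ → End K V := fun k => ∑ j ∈ Finset.range r, ((ω ^ k)⁻¹) ^ j • z ^ j
  have hmem : ∀ k, ∀ v ∈ W, P k v ∈ W ⊓ z.eigenspace (ω ^ k) := by
    intro k v hv
    have hpow : ∀ j, (z ^ j) v ∈ W := by
      intro j
      induction j with
      | zero => simpa using hv
      | succ j ih => rw [pow_succ', End.mul_apply]; exact hW _ ih
    have he0 : ω ^ k ≠ 0 := pow_ne_zero _ (hω.ne_zero hr0)
    refine Submodule.mem_inf.2 ⟨?_, End.mem_eigenspace_iff.2 ?_⟩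
    · simp only [P, LinearMap.coe_sum, Finset.sum_apply, LinearMap.smul_apply]
      exact Submodule.sum_mem _ fun j _ => Submodule.smul_mem _ _ (hpow j)
    · let F' : ℕ → V := fun j => ((ω ^ k)⁻¹) ^ j • (z ^ j) v
      have hP : P k v = ∑ j ∈ Finset.range r, F' j := by
        simp [P, F', LinearMap.coe_sum, Finset.sum_apply, LinearMap.smul_apply]
      have hcyc : ∑ j ∈ Finset.range r, F' (j + 1) = ∑ j ∈ Finset.range r, F' j := by
        have h1 := Finset.sum_range_succ F' r
        have h2 := Finset.sum_range_succ' F' r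
        have h3 : F' r = F' 0 := by
          simp [F', hz, inv_pow, ← pow_mul, mul_comm k r, pow_mul ω r k, hω.pow_eq_one]
        rw [h2, h3] at h1
        exact add_right_cancel h1
      rw [hP, map_sum]
      calc ∑ j ∈ Finset.range r, z (F' j) = ∑ j ∈ Finset.range r, (ω ^ k) • F' (j + 1) := by
            refine Finset.sum_congr rfl fun j _ => ?_
            simp only [F', map_smul, smul_smul]
            rw [pow_succ' z, End.mul_apply, pow_succ', ← mul_assoc, mul_inv_cancel₀ he0, one_mul]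
        _ = _ := by rw [← Finset.smul_sum, hcyc]
  have hsum : ∀ v, ∑ k ∈ Finset.range r, P k v = (r : K) • v := by
    intro v
    simp only [P, LinearMap.coe_sum, Finset.sum_apply, LinearMap.smul_apply]
    rw [Finset.sum_comm]
    simp only [← Finset.sum_smul]
    rw [Finset.sum_eq_single 0]
    · simp
    · intro j hj hj0
      rw [Finset.mem_range] at hj
      have hne : ω⁻¹ ^ j ≠ 1 := hω.inv.pow_ne_one_of_pos_of_lt hj0 hj
      have : ∀ k, ((ω ^ k)⁻¹) ^ j = (ω⁻¹ ^ j) ^ k := by
        intro k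
        rw [← inv_pow, ← pow_mul, ← pow_mul, mul_comm]
      simp only [this]
      rw [geom_sum_eq hne, ← pow_mul, mul_comm j r, pow_mul, inv_pow ω r, hω.pow_eq_one]
      simp
    · intro h; exact absurd (Finset.mem_range.2 (Nat.pos_of_ne_zero hr0)) h
  have hle : W ≤ (Finset.range r).sup fun k => W ⊓ z.eigenspace (ω ^ k) := by
    intro v hv
    have h := hsum v
    have hv' : v = (r : K)⁻¹ • ∑ k ∈ Finset.range r, P k v := by rw [h, smul_smul, inv_mul_cancel₀ hr, one_smul]
    rw [hv']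
    refine Submodule.smul_mem _ _ (Submodule.sum_mem _ fun k hk => ?_)
    exact (Finset.le_sup (f := fun k => W ⊓ z.eigenspace (ω ^ k)) hk) (hmem k v hv)
  refine (Submodule.finrank_mono hle).trans ?_
  generalize Finset.range r = s
  induction s using Finset.induction_on with
  | empty => simp
  | @insert a t hat ih =>
    rw [Finset.sum_insert hat, Finset.sup_insert]
    refine le_trans ?_ (Nat.add_le_add_left ih _)
    rw [← Submodule.finrank_sup_add_finrank_inf_eq]
    exact Nat.le_add_right _ _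

/-- the quadratic-phase argument: `g` commutes with `y` and multiplies `x` by `λ y` -/
theorem quad_bound {r : ℕ} [Fact r.Prime] (hr2 : r ≠ 2) {ω lam c : K} (hr : (r : K) ≠ 0)
    (hω : IsPrimitiveRoot ω r) (hlam : lam ^ r = 1) (hc : c ≠ 0) {g x y : End K V} (E : Submodule K V)
    (hy : y ^ r = 1) (hx : Function.Injective x)
    (hgE : ∀ v ∈ E, g v ∈ E) (hxE : ∀ v ∈ E, x v ∈ E) (hyE : ∀ v ∈ E, y v ∈ E)
    (hgy : ∀ v ∈ E, g (y v) = y (g v))
    (hgx : ∀ v ∈ E, g (x v) = lam • y (x (g v)))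
    (hxy : ∀ v ∈ E, x (y v) = ω • y (x v)) :
    r * finrank K ↥(E ⊓ g.eigenspace c) ≤ 2 * finrank K E := by
  classical
  have hrp : r.Prime := Fact.out
  set W := E ⊓ g.eigenspace c with hW
  have hWy : ∀ v ∈ W, y v ∈ W := by
    intro v hv
    obtain ⟨h1, h2⟩ := Submodule.mem_inf.1 hv
    refine Submodule.mem_inf.2 ⟨hyE v h1, End.mem_eigenspace_iff.2 ?_⟩
    rw [hgy v h1, End.mem_eigenspace_iff.1 h2, map_smul]
  let E0 := E ⊓ y.eigenspace 1
  let ψ : ℕ → K := fun k => lam ^ k * ω ^ (k.choose 2) * c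
  have hω0 : ω ≠ 0 := hω.ne_zero hrp.ne_zero
  have hstep : ∀ k, ∀ v ∈ E, ∀ a : K, y v = ω ^ k • v → g v = a • v →
      (x ^ k) v ∈ E ∧ y ((x ^ k) v) = (x ^ k) v ∧ g ((x ^ k) v) = (lam ^ k * ω ^ (k.choose 2) * a) • (x ^ k) v := by
    intro k
    induction k with
    | zero => intro v hv a h1 h2; simp [hv, h2, h1]
    | succ k ih =>
      intro v hv a h1 h2
      have hyx : y (x v) = ω ^ k • x v := by
        have h3 := hxy v hv
        rw [h1, map_smul, pow_succ', ← smul_smul] at h3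
        exact (smul_right_injective V hω0 h3).symm
      have hgxv : g (x v) = (lam * a * ω ^ k) • x v := by
        rw [hgx v hv, h2, map_smul, map_smul, hyx, smul_smul, smul_smul]
      obtain ⟨j1, j2, j3⟩ := ih (x v) (hxE v hv) _ hyx hgxv
      rw [pow_succ, End.mul_apply]
      refine ⟨j1, j2, ?_⟩
      rw [j3, Nat.choose_succ_succ' k 1, Nat.choose_one_right, pow_add]
      ring_nf
  have hfib : ∀ a ∈ (Finset.range r).image ψ, ((Finset.range r).filter fun k => ψ k = a).card ≤ 2 := by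
    intro a _
    obtain ⟨α, -, hα⟩ := hω.eq_pow_of_pow_eq_one hlam
    by_contra hcon
    obtain ⟨i, j, k, hi, hj, hk, hij, hik, hjk⟩ := Finset.two_lt_card_iff.1 (not_le.1 hcon)
    simp only [Finset.mem_filter, Finset.mem_range] at hi hj hk
    have h2ne : (2 : ZMod r) ≠ 0 := by
      intro h
      have h' : ((2 : ℕ) : ZMod r) = 0 := by exact_mod_cast h
      rw [ZMod.natCast_eq_zero_iff] at h'
      exact hr2 ((Nat.prime_dvd_prime_iff_eq hrp Nat.prime_two).1 h')
    have hexp : ∀ k, ψ k = ω ^ (α * k + k.choose 2) * c := by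
      intro k; simp only [ψ]; rw [← hα, ← pow_mul, pow_add]
    have hz : ∀ u v : ℕ, u < r → v < r → u ≠ v → ψ u = ψ v → (2 * (α : ZMod r) + u + v - 1) = 0 := by
      intro u v hu hv huv e
      rw [hexp, hexp] at e
      have e1 : (α * u + u.choose 2) % r = (α * v + v.choose 2) % r := by
        refine hω.pow_inj (Nat.mod_lt _ hrp.pos) (Nat.mod_lt _ hrp.pos) ?_
        have hmod : ∀ m, ω ^ (m % r) = ω ^ m := fun m => by
          conv_rhs => rw [← Nat.mod_add_div m r, pow_add, pow_mul, hω.pow_eq_one, one_pow, mul_one]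
        rw [hmod, hmod]
        exact mul_right_cancel₀ hc e
      have e2 := (ZMod.natCast_eq_natCast_iff' _ _ r).2 e1
      push_cast at e2
      have hch : ∀ m : ℕ, (2 : ZMod r) * ((m.choose 2 : ℕ) : ZMod r) = (m : ZMod r) * m - m := by
        intro m
        induction m with
        | zero => simp
        | succ m ih =>
          rw [Nat.choose_succ_succ' m 1, Nat.choose_one_right]
          push_cast
          rw [mul_add, ih]
          ring
      have hne : (u : ZMod r) - v ≠ 0 := by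
        rw [sub_ne_zero]
        intro h
        exact huv (by simpa [ZMod.val_natCast, Nat.mod_eq_of_lt hu, Nat.mod_eq_of_lt hv] using congrArg ZMod.val h)
      have h0 : ((u : ZMod r) - v) * (2 * (α : ZMod r) + u + v - 1) = 0 := by
        linear_combination (2 : ZMod r) * e2 - hch u + hch v
      exact (mul_eq_zero.1 h0).resolve_left hne
    have e1 := hz i j hi.1 hj.1 hij (hi.2.trans hj.2.symm)
    have e2 := hz i k hi.1 hk.1 hik (hi.2.trans hk.2.symm)
    have : (j : ZMod r) = k := by linear_combination e1 - e2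
    exact hjk (by simpa [ZMod.val_natCast, Nat.mod_eq_of_lt hj.1, Nat.mod_eq_of_lt hk.1] using congrArg ZMod.val this)
  have h1 : finrank K W ≤ ∑ k ∈ Finset.range r, finrank K ↥(E0 ⊓ g.eigenspace (ψ k)) := by
    refine (decomp_le hr hω y hy W hWy).trans (Finset.sum_le_sum fun k _ => ?_)
    refine LinearMap.finrank_le_finrank_of_injective (f := (x ^ k).restrict (fun v hv => ?_)) ?_
    · obtain ⟨hvW, hve⟩ := Submodule.mem_inf.1 hv
      obtain ⟨hvE, hvc⟩ := Submodule.mem_inf.1 hvW
      obtain ⟨j1, j2, j3⟩ := hstep k v hvE c (End.mem_eigenspace_iff.1 hve) (End.mem_eigenspace_iff.1 hvc)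
      exact Submodule.mem_inf.2 ⟨Submodule.mem_inf.2 ⟨j1, End.mem_eigenspace_iff.2 (by rw [j2, one_smul])⟩,
        End.mem_eigenspace_iff.2 j3⟩
    · intro u v e
      refine Subtype.ext ?_
      have he : (x ^ k) u.1 = (x ^ k) v.1 := congrArg Subtype.val e
      rw [End.coe_pow] at he
      exact hx.iterate k he
  have h2 : finrank K W ≤ 2 * finrank K E0 := by
    refine h1.trans ?_
    rw [← Finset.sum_fiberwise_of_maps_to (g := ψ) (t := (Finset.range r).image ψ)
      (fun k hk => Finset.mem_image_of_mem ψ hk)]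
    refine le_trans (Finset.sum_le_sum fun a ha => ?_) (le_trans (le_of_eq (Finset.mul_sum _ _ _).symm)
      (Nat.mul_le_mul_left 2 (sum_eigen_le E0 g ((Finset.range r).image ψ))))
    rw [Finset.sum_congr rfl (g := fun _ => finrank K ↥(E0 ⊓ g.eigenspace a)) (fun k hk => by
      rw [(Finset.mem_filter.1 hk).2])]
    rw [Finset.sum_const, smul_eq_mul]
    exact Nat.mul_le_mul_right _ (hfib a ha)
  have h3 : r * finrank K E0 ≤ finrank K E := by
    refine shift_bound hω.inv one_ne_zero E hx hxE fun v hv => ?_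
    rw [hxy v hv, smul_smul, inv_mul_cancel₀ hω0, one_smul]
  calc r * finrank K W ≤ r * (2 * finrank K E0) := Nat.mul_le_mul_left r h2
    _ = 2 * (r * finrank K E0) := by ring
    _ ≤ _ := Nat.mul_le_mul_left 2 h3

end Lin

/-! ### The symplectic space -/

section Symp

variable {V A : Type*} [AddCommGroup V] [AddCommGroup A] (B : V →+ V →+ A) (φ : V →+ V)

/-- `φ - 1` -/
def nmap : V →+ V := φ - AddMonoidHom.id V

theorem nmap_apply (v : V) : nmap φ v = φ v - v := rfl

theorem phi_eq (v : V) : φ v = nmap φ v + v := by rw [nmap_apply, sub_add_cancel]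

variable {B φ} {ϖ r : ℕ}

theorem skew (halt : ∀ u, B u u = 0) (u v : V) : B v u = - B u v := by
  have h := halt (u + v)
  simp only [map_add, AddMonoidHom.add_apply, halt, zero_add, add_zero] at h
  exact eq_neg_of_add_eq_zero_left h

theorem n_isom (hinv : ∀ u v, B (φ u) (φ v) = B u v) (u v : V) :
    B (nmap φ u) v + B u (nmap φ v) + B (nmap φ u) (nmap φ v) = 0 := by
  have h := hinv u v
  rw [phi_eq φ u, phi_eq φ v] at h
  simp only [map_add, AddMonoidHom.add_apply] at h
  rw [← sub_eq_zero] at h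
  rw [← h]; abel

theorem iterate_fixed {t a : V} (ht : φ t = t) (hta : φ a - a = t) (k : ℕ) : φ^[k] a = a + k • t := by
  induction k with
  | zero => simp
  | succ k ih =>
    rw [Function.iterate_succ_apply', ih, map_add, map_nsmul, ht, succ_nsmul, sub_eq_iff_eq_add.1 hta]
    abel

theorem fixed_image_zero (hper : ∀ v, φ^[ϖ] v = v) (hr : ∀ v : V, r • v = 0) (hco : Nat.Coprime ϖ r)
    {t a : V} (ht : φ t = t) (hta : φ a - a = t) : t = 0 := by
  have h := iterate_fixed ht hta ϖ
  rw [hper, left_eq_add] at h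
  rw [← AddMonoid.addOrderOf_eq_one_iff, ← Nat.dvd_one, ← hco.gcd_eq_one]
  exact Nat.dvd_gcd (addOrderOf_dvd_of_nsmul_eq_zero h) (addOrderOf_dvd_of_nsmul_eq_zero (hr t))

/-- if every `φ (N u)` pairs trivially with `N u` then `φ² (N u) - N u` is fixed -/
theorem sq_sub_fixed (halt : ∀ u, B u u = 0) (hinv : ∀ u v, B (φ u) (φ v) = B u v)
    (hnd : ∀ u, (∀ v, B u v = 0) → u = 0) (hsurj : Function.Surjective φ)
    (hP : ∀ u, B (φ (nmap φ u)) (nmap φ u) = 0) (u : V) :
    φ (φ (φ (nmap φ u)) - nmap φ u) = φ (φ (nmap φ u)) - nmap φ u := by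
  set t := φ (φ (nmap φ u)) - nmap φ u with htdef
  have h1 : ∀ v, B t (φ (nmap φ v)) = 0 := by
    intro v
    have h := hP (u + v)
    simp only [map_add, AddMonoidHom.add_apply, hP, zero_add, add_zero] at h
    rw [htdef, map_sub, AddMonoidHom.sub_apply, hinv]
    rw [skew halt (nmap φ u) (φ (nmap φ v))] at h
    rw [← h]; abel
  have h2 : ∀ w, B t (φ w) = B t w := by
    intro w
    obtain ⟨v, rfl⟩ := hsurj w
    have h := h1 v
    rw [nmap_apply, map_sub φ, map_sub (B t), sub_eq_zero] at h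
    exact h
  refine sub_eq_zero.1 (hnd _ fun w => ?_)
  obtain ⟨v, rfl⟩ := hsurj w
  rw [map_sub, AddMonoidHom.sub_apply, hinv, h2, sub_self]

theorem surj_of_periodic (hϖ : 0 < ϖ) (hper : ∀ v, φ^[ϖ] v = v) : Function.Surjective φ := fun v =>
  ⟨φ^[ϖ - 1] v, by rw [← Function.iterate_succ_apply' φ, show (ϖ - 1).succ = ϖ by omega, hper]⟩

theorem coprime_case (halt : ∀ u, B u u = 0) (hinv : ∀ u v, B (φ u) (φ v) = B u v)
    (hnd : ∀ u, (∀ v, B u v = 0) → u = 0) (hr : ∀ v : V, r • v = 0) (hper : ∀ v, φ^[ϖ] v = v)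
    (hodd : Odd ϖ) (hco : Nat.Coprime ϖ r) (hP : ∀ u, B (φ (nmap φ u)) (nmap φ u) = 0) :
    ∀ v, φ v = v := by
  intro u
  have hsurj := surj_of_periodic hodd.pos hper
  have ht := sq_sub_fixed halt hinv hnd hsurj hP u
  have ht0 : φ (φ (nmap φ u)) - nmap φ u = 0 :=
    fixed_image_zero hper hr hco ht (a := φ (nmap φ u) + nmap φ u) (by rw [map_add]; abel)
  rw [sub_eq_zero] at ht0
  have heven : ∀ k, φ^[2 * k] (nmap φ u) = nmap φ u := by
    intro k
    rw [Function.iterate_mul]
    exact Function.iterate_fixed (by simpa using ht0) k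
  obtain ⟨k, hk⟩ := hodd
  have hfix : φ (nmap φ u) = nmap φ u := by
    have h := hper (nmap φ u)
    rw [hk, show 2 * k + 1 = (2 * k).succ from rfl, Function.iterate_succ_apply', heven] at h
    exact h
  exact sub_eq_zero.1 (fixed_image_zero hper hr hco hfix (a := u) rfl)

theorem unipotent_case (halt : ∀ u, B u u = 0) (hinv : ∀ u v, B (φ u) (φ v) = B u v)
    (hnd : ∀ u, (∀ v, B u v = 0) → u = 0) (hr : ∀ v : V, r • v = 0) (hr2 : Odd r)
    (hper : ∀ v, φ^[ϖ] v = v) (hodd : Odd ϖ) (hP : ∀ u, B (φ (nmap φ u)) (nmap φ u) = 0)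
    (hne : ∃ v, φ v ≠ v) :
    ∃ (x z : V) (k : ℕ), φ z = z ∧ B x z = 0 ∧ nmap φ (nmap φ x) = k • z ∧ B x (nmap φ x) ≠ 0 := by
  have hsurj := surj_of_periodic hodd.pos hper
  set N := nmap φ with hN
  have h3 : ∀ u, N (N (N u)) = 0 := by
    intro u
    have ht := sq_sub_fixed halt hinv hnd hsurj hP u
    set t := φ (φ (N u)) - N u with htdef
    have h2k : ∀ k, φ^[2 * k] (N u) = N u + k • t := by
      intro k
      induction k with
      | zero => simp
      | succ k ih =>
        rw [show 2 * (k + 1) = (2 * k).succ.succ by omega, Function.iterate_succ_apply',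
          Function.iterate_succ_apply', ih, map_add, map_add, map_nsmul, map_nsmul, ht, ht, succ_nsmul]
        rw [show φ (φ (N u)) = N u + t by rw [htdef]; abel]
        abel
    obtain ⟨k, hk⟩ := hodd
    have h1 : φ (N u) = N u + (k + 1) • t := by
      rw [← h2k (k + 1), show 2 * (k + 1) = (2 * k + 1).succ by omega, Function.iterate_succ_apply', ← hk, hper]
    have h2 : N (N u) = (k + 1) • t := by rw [hN, nmap_apply, ← hN, h1]; abel
    rw [h2, map_nsmul, hN, nmap_apply, ht, sub_self, smul_zero]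
  have f1 : ∀ u v, B (N (N u)) (N v) = 0 := by
    intro u v
    have h := n_isom hinv (N (N u)) v
    simpa [← hN, h3] using h
  have f2 : ∀ u v, B (N v) (N (N u)) = 0 := by
    intro u v; rw [skew halt (N (N u)) (N v), f1, neg_zero]
  have f3 : ∀ u v, B (N u) (N v) = - B (N (N u)) v := by
    intro u v
    have h := n_isom hinv (N u) v
    rw [← hN, f1, add_zero, add_comm] at h
    exact eq_neg_of_add_eq_zero_left h
  have f4 : ∀ u, B u (N (N u)) = 0 := by
    intro u
    have h := n_isom hinv u (N u)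
    simpa [← hN, halt, f2] using h
  have hA : ∀ u v : V, ∀ a : A, a = B u v → a + a = 0 → a = 0 := by
    rintro u v a rfl h
    have h' : r • B u v = 0 := by
      have := congrArg (fun w : V => B w v) (hr u)
      simpa [map_nsmul] using this
    obtain ⟨m, hm⟩ := hr2
    rw [hm, succ_nsmul, mul_comm, mul_nsmul', two_nsmul, h, smul_zero, zero_add] at h'
    exact h'
  have hpol : ∀ u v, B (u + v) (N (u + v)) = B u (N u) + B v (N v)
      - (B (N u) v + B (N u) v) - B (N u) (N v) := by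
    intro u v
    have h := n_isom hinv u v
    rw [← hN] at h
    simp only [map_add, AddMonoidHom.add_apply]
    rw [skew halt (N u) v]
    have h' : B u (N v) = - B (N u) v - B (N u) (N v) := by
      rw [← sub_eq_zero, ← h]; abel
    rw [h']; abel
  by_cases hN2 : ∀ u, N (N u) = 0
  · obtain ⟨u, hu⟩ := hne
    have hNu : N u ≠ 0 := fun h => hu (by rw [phi_eq φ u, ← hN, h, zero_add])
    obtain ⟨v, hv⟩ : ∃ v, B (N u) v ≠ 0 := by
      by_contra hcon
      push Not at hcon
      exact hNu (hnd _ hcon)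
    have key : B u (N u) ≠ 0 ∨ B v (N v) ≠ 0 ∨ B (u + v) (N (u + v)) ≠ 0 := by
      by_contra hcon
      push Not at hcon
      obtain ⟨a1, a2, a3⟩ := hcon
      rw [hpol, a1, a2, f3, hN2 u, map_zero, AddMonoidHom.zero_apply] at a3
      simp only [zero_add, neg_zero, sub_zero, zero_sub, neg_eq_zero] at a3
      exact hv (hA _ _ _ rfl a3)
    rcases key with h | h | h
    · exact ⟨u, 0, 0, map_zero φ, map_zero _, by rw [hN2, zero_smul], h⟩
    · exact ⟨v, 0, 0, map_zero φ, map_zero _, by rw [hN2, zero_smul], h⟩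
    · exact ⟨u + v, 0, 0, map_zero φ, map_zero _, by rw [hN2, zero_smul], h⟩
  · push Not at hN2
    obtain ⟨u, hu⟩ := hN2
    obtain ⟨v, hv⟩ : ∃ v, B (N (N u)) v ≠ 0 := by
      by_contra hcon
      push Not at hcon
      exact hu (hnd _ hcon)
    have hz : φ (N (N u)) = N (N u) := by rw [phi_eq φ (N (N u)), ← hN, h3, zero_add]
    have key : B u (N u) ≠ 0 ∨ B (N v) (N (N v)) ≠ 0 ∨ B (u + N v) (N (u + N v)) ≠ 0 := by
      by_contra hcon
      push Not at hcon
      obtain ⟨a1, a2, a3⟩ := hcon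
      rw [hpol, a1, a2, f2] at a3
      simp only [zero_add, sub_zero, zero_sub, neg_eq_zero] at a3
      have h := hA _ _ _ rfl a3
      rw [f3, neg_eq_zero] at h
      exact hv h
    rcases key with h | h | h
    · exact ⟨u, N (N u), 1, hz, f4 u, (one_smul _ _).symm, h⟩
    · exact ⟨N v, N (N u), 0, hz, f2 u v, by rw [h3, zero_smul], h⟩
    · refine ⟨u + N v, N (N u), 1, hz, ?_, ?_, h⟩
      · rw [map_add, AddMonoidHom.add_apply, f4, f2, add_zero]
      · rw [map_add, map_add, h3, add_zero, one_smul]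

end Symp

/-! ### Matrices -/

section Mat

open Cfsg.Geo
open scoped commutatorElement

variable {F : Type*} [Field F] {n : ℕ}

/-- matrices as endomorphisms -/
noncomputable def lin : Matrix.GeneralLinearGroup (Fin n) F →* Module.End F (Fin n → F) where
  toFun u := Matrix.toLin' (u : Matrix (Fin n) (Fin n) F)
  map_one' := Matrix.toLin'_one
  map_mul' u v := by rw [Units.val_mul, Matrix.toLin'_mul]; rfl

theorem lin_cancel (u : Matrix.GeneralLinearGroup (Fin n) F) (v : Fin n → F) : lin u⁻¹ (lin u v) = v := by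
  rw [← End.mul_apply, ← map_mul, inv_mul_cancel, map_one, End.one_apply]

theorem lin_inj (u : Matrix.GeneralLinearGroup (Fin n) F) : Function.Injective (lin u) := fun a b h => by
  rw [← lin_cancel u a, h, lin_cancel]

theorem scalars_comm {s : Matrix.GeneralLinearGroup (Fin n) F} (hs : s ∈ scalars (Fin n) F)
    (u : Matrix.GeneralLinearGroup (Fin n) F) : s * u = u * s := by
  obtain ⟨c, hc⟩ := (mem_scalars_iff s).1 hs
  exact Units.ext (by simp [hc])

theorem lin_scalar {s : Matrix.GeneralLinearGroup (Fin n) F} (hs : s ∈ scalars (Fin n) F) :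
    ∃ a : F, a ≠ 0 ∧ lin s = a • (1 : Module.End F (Fin n → F)) := by
  obtain ⟨c, hc⟩ := (mem_scalars_iff s).1 hs
  refine ⟨c, c.ne_zero, ?_⟩
  show Matrix.toLin' (s : Matrix (Fin n) (Fin n) F) = _
  rw [hc, map_smul, Matrix.toLin'_one]; rfl

/-- `u v u⁻¹ w⁻¹` scalar gives a twisted commutation of endomorphisms -/
theorem twisted {u v w : Matrix.GeneralLinearGroup (Fin n) F} (h : u * v * u⁻¹ * w⁻¹ ∈ scalars (Fin n) F) :
    ∃ a : F, a ≠ 0 ∧ lin (u * v * u⁻¹ * w⁻¹) = a • 1 ∧
      ∀ x, lin u (lin v x) = a • lin w (lin u x) := by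
  obtain ⟨a, ha, hs⟩ := lin_scalar h
  refine ⟨a, ha, hs, fun x => ?_⟩
  rw [← End.mul_apply, ← map_mul, show u * v = (u * v * u⁻¹ * w⁻¹) * (w * u) by group, map_mul, hs, map_mul]
  rfl

theorem scalar_root [Nonempty (Fin n)] {r : ℕ} (hr : r.Prime) {s : Matrix.GeneralLinearGroup (Fin n) F} {a : F}
    (hs : lin s = a • 1) (hsr : s ^ r = 1) : a ^ r = 1 ∧ (s ≠ 1 → IsPrimitiveRoot a r) := by
  have : Nontrivial (Fin n → F) := inferInstance
  have h1 : a ^ r = 1 := by
    have h := congrArg lin hsr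
    rw [map_pow, hs, map_one, smul_pow, one_pow] at h
    exact smul_left_injective F (M := Module.End F (Fin n → F)) one_ne_zero (h.trans (one_smul F _).symm)
  refine ⟨h1, fun hne => ?_⟩
  haveI : Fact r.Prime := ⟨hr⟩
  rw [IsPrimitiveRoot.iff_orderOf]
  refine orderOf_eq_prime h1 fun ha => hne ?_
  refine Units.ext (Matrix.toLin'.injective ?_)
  show lin s = lin 1
  rw [hs, ha, one_smul, map_one]

theorem pow_scalar_mul {s w : Matrix.GeneralLinearGroup (Fin n) F} (hs : s ∈ scalars (Fin n) F) (r : ℕ) :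
    (s * w) ^ r = s ^ r * w ^ r :=
  Commute.mul_pow (scalars_comm hs w) r

theorem commutator_scalar_left {s : Matrix.GeneralLinearGroup (Fin n) F} (hs : s ∈ scalars (Fin n) F)
    (a b : Matrix.GeneralLinearGroup (Fin n) F) : ⁅s * a, b⁆ = ⁅a, b⁆ := by
  have h1 : s * ⁅a, b⁆ * s⁻¹ = ⁅a, b⁆ := by rw [scalars_comm hs, mul_inv_cancel_right]
  have h2 : ⁅s, b⁆ = 1 := commutatorElement_eq_one_iff_mul_comm.2 (scalars_comm hs b)
  rw [commutatorElement_mul_left_eq_conj_mul, h1, h2, mul_one]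

theorem commutator_scalar_right {s : Matrix.GeneralLinearGroup (Fin n) F} (hs : s ∈ scalars (Fin n) F)
    (a b : Matrix.GeneralLinearGroup (Fin n) F) : ⁅a, s * b⁆ = ⁅a, b⁆ := by
  rw [← commutatorElement_inv, commutator_scalar_left hs, commutatorElement_inv]

set_option maxHeartbeats 1000000 in
/-- the algebraic step: what remains when all translates-intersections are non-zero -/
theorem algebra_step {r ϖ : ℕ} (hr : r.Prime) (hϖ : ϖ.Prime) (hodd : Odd ϖ)
    (R : Subgroup (Matrix.GeneralLinearGroup (Fin n) F)) (hZ : Nat.card (Subgroup.center R) = r)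
    (hcomm : ∀ u v : R, ⁅u, v⁆ ∈ Subgroup.center R)
    (hcS : ∀ u : R, u ∈ Subgroup.center R ↔ (u : Matrix.GeneralLinearGroup (Fin n) F) ∈ scalars (Fin n) F)
    (g : Matrix.GeneralLinearGroup (Fin n) F) (hg : g ^ ϖ = 1)
    (hconj : ∀ x : R, ∃ x' : R, g * x * g⁻¹ * (x' : Matrix.GeneralLinearGroup (Fin n) F)⁻¹ ∈ scalars (Fin n) F)
    (hne : ∃ x ∈ R, ⁅g, x⁆ ∉ scalars (Fin n) F)
    (hP : ∀ x ∈ R, ⁅g * ⁅g, x⁆ * g⁻¹, ⁅g, x⁆⁆ = 1) :
    r = ϖ ∧ ∃ (x y z : R) (k : ℕ),
      g * z * g⁻¹ * (z : Matrix.GeneralLinearGroup (Fin n) F)⁻¹ ∈ scalars (Fin n) F ∧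
      g * x * g⁻¹ * ((y : Matrix.GeneralLinearGroup (Fin n) F) * x)⁻¹ ∈ scalars (Fin n) F ∧
      g * y * g⁻¹ * ((z : Matrix.GeneralLinearGroup (Fin n) F) ^ k * y)⁻¹ ∈ scalars (Fin n) F ∧
      (⁅x, z⁆ = 1 ∧ ⁅y, z⁆ = 1 ∧ ⁅x, y⁆ ≠ 1) := by
  classical
  let Z : Subgroup R := Subgroup.center R
  letI : CommGroup Z :=
    { (inferInstance : Group Z) with mul_comm := fun a b => Subtype.ext (Subgroup.mem_center_iff.1 b.2 a) }
  letI : CommGroup (R ⧸ Z) :=
    { (inferInstance : Group (R ⧸ Z)) with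
      mul_comm := by
        intro a b
        obtain ⟨u, rfl⟩ := QuotientGroup.mk_surjective a
        obtain ⟨v, rfl⟩ := QuotientGroup.mk_surjective b
        rw [← QuotientGroup.mk_mul, ← QuotientGroup.mk_mul, QuotientGroup.eq]
        have h := hcomm v⁻¹ u⁻¹
        rwa [show ⁅v⁻¹, u⁻¹⁆ = (u * v)⁻¹ * (v * u) by rw [commutatorElement_def]; group] at h }
  have hmk : ∀ u v : R, (QuotientGroup.mk u : R ⧸ Z) = QuotientGroup.mk v ↔
      (u : Matrix.GeneralLinearGroup (Fin n) F) * (v : Matrix.GeneralLinearGroup (Fin n) F)⁻¹ ∈ scalars (Fin n) F := by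
    intro u v
    rw [eq_comm, QuotientGroup.eq, hcS]
    refine ⟨fun h => ?_, fun h => ?_⟩
    · have e := scalars_normal.conj_mem _ h v
      simpa [mul_assoc] using e
    · have e := scalars_normal.conj_mem _ h (v : Matrix.GeneralLinearGroup (Fin n) F)⁻¹
      simpa [mul_assoc] using e
  choose f hf using hconj
  have hfmk : ∀ (u v : R), g * u * g⁻¹ * (v : Matrix.GeneralLinearGroup (Fin n) F)⁻¹ ∈ scalars (Fin n) F →
      (QuotientGroup.mk (f u) : R ⧸ Z) = QuotientGroup.mk v := by
    intro u v h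
    rw [hmk]
    have e := mul_mem (inv_mem (hf u)) h
    rwa [show (g * u * g⁻¹ * (f u : Matrix.GeneralLinearGroup (Fin n) F)⁻¹)⁻¹ *
      (g * u * g⁻¹ * (v : Matrix.GeneralLinearGroup (Fin n) F)⁻¹) = f u * (v : Matrix.GeneralLinearGroup (Fin n) F)⁻¹
      by group] at e
  let φ0 : R →* R ⧸ Z := MonoidHom.mk' (fun u => QuotientGroup.mk (f u)) (fun u v => by
    rw [← QuotientGroup.mk_mul]
    refine hfmk _ _ ?_
    have hv := scalars_normal.conj_mem _ (hf v) (f u : Matrix.GeneralLinearGroup (Fin n) F)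
    have e := mul_mem (hf u) hv
    push_cast
    convert e using 1
    group)
  let φQ : R ⧸ Z →* R ⧸ Z := QuotientGroup.lift Z φ0 (fun u hu => by
    rw [MonoidHom.mem_ker]
    show (QuotientGroup.mk (f u) : R ⧸ Z) = 1
    rw [← QuotientGroup.mk_one]
    refine hfmk _ _ ?_
    rw [Subgroup.coe_one, inv_one, mul_one]
    exact scalars_normal.conj_mem _ ((hcS u).1 hu) g)
  let e0 : R → R →* Z := fun u => MonoidHom.mk' (fun v => ⟨⁅u, v⁆, hcomm u v⟩) (fun v w => by
    refine Subtype.ext ?_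
    show ⁅u, v * w⁆ = ⁅u, v⁆ * ⁅u, w⁆
    rw [commutatorElement_mul_right_eq_mul_conj, mul_assoc _ v, Subgroup.mem_center_iff.1 (hcomm u w) v, ← mul_assoc,
      mul_inv_cancel_right])
  let e1 : R → (R ⧸ Z →* Z) := fun u => QuotientGroup.lift Z (e0 u) (fun v hv => by
    rw [MonoidHom.mem_ker]
    exact Subtype.ext (commutatorElement_eq_one_iff_mul_comm.2 (Subgroup.mem_center_iff.1 hv u)))
  let e2 : R →* (R ⧸ Z →* Z) := MonoidHom.mk' e1 (fun u v => by
    refine MonoidHom.ext fun a => ?_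
    obtain ⟨w, rfl⟩ := QuotientGroup.mk_surjective a
    refine Subtype.ext ?_
    show ⁅u * v, w⁆ = ⁅u, w⁆ * ⁅v, w⁆
    rw [commutatorElement_mul_left_eq_conj_mul, Subgroup.mem_center_iff.1 (hcomm v w) u, mul_inv_cancel_right]
    exact Subgroup.mem_center_iff.1 (hcomm u w) _)
  let e3 : R ⧸ Z →* (R ⧸ Z →* Z) := QuotientGroup.lift Z e2 (fun u hu => by
    rw [MonoidHom.mem_ker]
    refine MonoidHom.ext fun a => ?_
    obtain ⟨w, rfl⟩ := QuotientGroup.mk_surjective a
    exact Subtype.ext (commutatorElement_eq_one_iff_mul_comm.2 (Subgroup.mem_center_iff.1 hu w).symm))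
  let φ : Additive (R ⧸ Z) →+ Additive (R ⧸ Z) := MonoidHom.toAdditive φQ
  let B : Additive (R ⧸ Z) →+ Additive (R ⧸ Z) →+ Additive Z :=
    AddMonoidHom.mk' (fun a => MonoidHom.toAdditive (e3 a.toMul)) (fun a b => by
      refine AddMonoidHom.ext fun c => ?_
      show Additive.ofMul (e3 (a.toMul * b.toMul) c.toMul) = _
      rw [map_mul]; rfl)
  let q : R → Additive (R ⧸ Z) := fun u => Additive.ofMul (QuotientGroup.mk u)
  have hq : ∀ a, ∃ u, q u = a := fun a =>
    ⟨(QuotientGroup.mk_surjective a.toMul).choose, congrArg Additive.ofMul (QuotientGroup.mk_surjective a.toMul).choose_spec⟩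
  have hBq : ∀ u v, B (q u) (q v) = Additive.ofMul (⟨⁅u, v⁆, hcomm u v⟩ : Z) := fun _ _ => rfl
  have hB0 : ∀ u v, B (q u) (q v) = 0 ↔ ⁅u, v⁆ = 1 := by
    intro u v
    rw [hBq, ofMul_eq_zero]
    exact Subtype.ext_iff
  have hφq : ∀ u, φ (q u) = q (f u) := fun _ => rfl
  have halt : ∀ a, B a a = 0 := by
    intro a; obtain ⟨u, rfl⟩ := hq a
    exact (hB0 u u).2 (commutatorElement_self u)
  have hinv : ∀ a b, B (φ a) (φ b) = B a b := by
    intro a b; obtain ⟨u, rfl⟩ := hq a; obtain ⟨v, rfl⟩ := hq b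
    rw [hφq, hφq, hBq, hBq]
    refine congrArg Additive.ofMul (Subtype.ext (Subtype.ext ?_))
    show ⁅(f u : Matrix.GeneralLinearGroup (Fin n) F), (f v : Matrix.GeneralLinearGroup (Fin n) F)⁆
      = ⁅(u : Matrix.GeneralLinearGroup (Fin n) F), (v : Matrix.GeneralLinearGroup (Fin n) F)⁆
    have hcs : ⁅(u : Matrix.GeneralLinearGroup (Fin n) F), (v : Matrix.GeneralLinearGroup (Fin n) F)⁆ ∈ scalars (Fin n) F :=
      (hcS ⁅u, v⁆).1 (hcomm u v)
    calc _ = ⁅g * u * g⁻¹, g * v * g⁻¹⁆ := by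
          conv_rhs => rw [show g * u * g⁻¹ = (g * u * g⁻¹ * (f u : Matrix.GeneralLinearGroup (Fin n) F)⁻¹) * f u by group,
            show g * v * g⁻¹ = (g * v * g⁻¹ * (f v : Matrix.GeneralLinearGroup (Fin n) F)⁻¹) * f v by group,
            commutator_scalar_left (hf u), commutator_scalar_right (hf v)]
      _ = g * ⁅(u : Matrix.GeneralLinearGroup (Fin n) F), (v : Matrix.GeneralLinearGroup (Fin n) F)⁆ * g⁻¹ := by
          rw [commutatorElement_def, commutatorElement_def]; group
      _ = _ := by rw [← scalars_comm hcs, mul_inv_cancel_right]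
  have hnd : ∀ a, (∀ b, B a b = 0) → a = 0 := by
    intro a h; obtain ⟨u, rfl⟩ := hq a
    refine congrArg Additive.ofMul ((QuotientGroup.eq_one_iff u).2 (Subgroup.mem_center_iff.2 fun v => ?_))
    exact (commutatorElement_eq_one_iff_mul_comm.1 ((hB0 u v).1 (h _))).symm
  have hrA : ∀ a, r • a = (0 : Additive (R ⧸ Z)) := by
    intro a
    refine hnd _ fun b => ?_
    rw [map_nsmul, AddMonoidHom.nsmul_apply]
    refine Additive.toMul.injective ?_
    rw [toMul_nsmul, toMul_zero, ← hZ]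
    exact pow_card_eq_one'
  have hN : ∀ u : R, nmap φ (q u) = q (f u * u⁻¹) := by
    intro u
    rw [nmap_apply, hφq, sub_eq_add_neg]; rfl
  have hper : ∀ a, φ^[ϖ] a = a := by
    intro a; obtain ⟨u, rfl⟩ := hq a
    have key : ∀ k : ℕ, φ^[k] (q u) = q (f^[k] u) ∧ g ^ k * u * (g ^ k)⁻¹ *
        ((f^[k] u : R) : Matrix.GeneralLinearGroup (Fin n) F)⁻¹ ∈ scalars (Fin n) F := by
      intro k
      induction k with
      | zero => simp
      | succ k ih =>
        rw [Function.iterate_succ_apply', Function.iterate_succ_apply', ih.1, hφq]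
        refine ⟨rfl, ?_⟩
        have e := mul_mem (scalars_normal.conj_mem _ ih.2 g) (hf (f^[k] u))
        convert e using 1
        rw [pow_succ']; group
    obtain ⟨h1, h2⟩ := key ϖ
    rw [h1]
    refine congrArg Additive.ofMul ((hmk _ _).2 ?_)
    rw [hg, one_mul, inv_one, mul_one] at h2
    have := inv_mem h2
    rwa [mul_inv_rev, inv_inv] at this
  have hcs' : ∀ u : R, ⁅g, (u : Matrix.GeneralLinearGroup (Fin n) F)⁆ *
      ((f u * u⁻¹ : R) : Matrix.GeneralLinearGroup (Fin n) F)⁻¹ ∈ scalars (Fin n) F := by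
    intro u
    have h := hf u
    push_cast
    convert h using 1
    rw [commutatorElement_def]; group
  have hPadd : ∀ a, B (φ (nmap φ a)) (nmap φ a) = 0 := by
    intro a; obtain ⟨u, rfl⟩ := hq a
    rw [hN, hφq, hB0]
    refine Subtype.ext ?_
    set y := f u * u⁻¹ with hy
    show ⁅(f y : Matrix.GeneralLinearGroup (Fin n) F), (y : Matrix.GeneralLinearGroup (Fin n) F)⁆ = 1
    have h1 := hP u u.2
    have hs := hcs' u
    rw [← hy] at hs
    rw [show ⁅g, (u : Matrix.GeneralLinearGroup (Fin n) F)⁆ = (⁅g, (u : Matrix.GeneralLinearGroup (Fin n) F)⁆ *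
      (y : Matrix.GeneralLinearGroup (Fin n) F)⁻¹) * y by group] at h1
    generalize ⁅g, (u : Matrix.GeneralLinearGroup (Fin n) F)⁆ * (y : Matrix.GeneralLinearGroup (Fin n) F)⁻¹ = s at hs h1
    rw [commutator_scalar_right hs, show g * (s * (y : Matrix.GeneralLinearGroup (Fin n) F)) * g⁻¹
      = (g * s * g⁻¹ * (g * y * g⁻¹ * (f y : Matrix.GeneralLinearGroup (Fin n) F)⁻¹)) * f y by group,
      commutator_scalar_left (mul_mem (scalars_normal.conj_mem _ hs g) (hf y))] at h1
    exact h1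
  have hne' : ∃ a, φ a ≠ a := by
    obtain ⟨u, hu, hu'⟩ := hne
    refine ⟨q ⟨u, hu⟩, fun h => hu' ?_⟩
    rw [hφq] at h
    have e := mul_mem (hf ⟨u, hu⟩) ((hmk _ _).1 (Additive.ofMul.injective h))
    rw [commutatorElement_def]
    convert e using 1
    group
  have hrϖ : r = ϖ := by
    by_contra hne2
    obtain ⟨a, ha⟩ := hne'
    exact ha (coprime_case halt hinv hnd hrA hper hodd ((Nat.coprime_primes hϖ hr).2 (Ne.symm hne2)) hPadd a)
  refine ⟨hrϖ, ?_⟩
  obtain ⟨a, b, k, h1, h2, h3, h4⟩ := unipotent_case halt hinv hnd hrA (hrϖ ▸ hodd) hper hodd hPadd hne'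
  obtain ⟨x, rfl⟩ := hq a
  obtain ⟨z, rfl⟩ := hq b
  rw [hN] at h4
  rw [hN, hN] at h3
  rw [hφq] at h1
  set y := f x * x⁻¹ with hy
  have hfx : f x = y * x := by rw [hy, inv_mul_cancel_right]
  refine ⟨x, y, z, k, ?_, ?_, ?_, (hB0 _ _).1 h2, ?_, fun h => h4 ((hB0 _ _).2 h)⟩
  · have e := mul_mem (hf z) ((hmk _ _).1 (Additive.ofMul.injective h1))
    convert e using 1
    group
  · have e := hf x
    rw [hfx] at e
    exact_mod_cast e
  · have h5 : (QuotientGroup.mk (f y) : R ⧸ Z) = QuotientGroup.mk (z ^ k * y) := by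
      have h6 : (QuotientGroup.mk (f y * y⁻¹) : R ⧸ Z) = QuotientGroup.mk (z ^ k) := Additive.ofMul.injective h3
      rw [QuotientGroup.mk_mul, ← h6, ← QuotientGroup.mk_mul, inv_mul_cancel_right]
    have e := mul_mem (hf y) ((hmk _ _).1 h5)
    push_cast at e
    convert e using 1
    group
  · refine (hB0 _ _).1 ?_
    have h7 := hinv (q x) (q z)
    rw [hφq, hφq, hfx, h1, h2] at h7
    have h8 : B (q (y * x)) (q z) = B (q y) (q z) + B (q x) (q z) := by
      rw [← AddMonoidHom.add_apply, ← map_add]; rfl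
    rw [h8, h2, add_zero] at h7
    exact h7

end Mat

open scoped commutatorElement in
open Cfsg.Geo in
/-- Eigenspaces of elements normalising an absolutely irreducible extraspecial group. Let F be a finite field, r a prime, and R ≤ GL_n(F) an absolutely irreducible extraspecial r-group (an r-group whose centre equals its derived subgroup and has order r) of exponent r or 4. Let g ∈ GL_n(F) normalise the product of R with the scalar matrices, have prime order ϖ and not be scalar, and let W be the eigenspace of g for any c ∈ F (W may be the zero subspace). Then dim W ≤ 3n/4 if ϖ = 2, dim W ≤ 2n/3 if ϖ = 3, and dim W ≤ n/2 if ϖ > 3; moreover if ϖ = 3 and 3 does not divide n then dim W ≤ n/2. -/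
theorem result {F : Type*} [Field F] [Fintype F] {n r ϖ : ℕ} (R : Subgroup (Matrix.GeneralLinearGroup (Fin n) F)) (hr : r.Prime) (hR : IsPGroup r R) (hZ : Nat.card (Subgroup.center R) = r) (hext : commutator R = Subgroup.center R) (hexp : Monoid.exponent R = r ∨ Monoid.exponent R = 4) (hirr : Cfsg.Geo.ActsAbsolutelyIrreducibly (Cfsg.Geo.matrixSet R)) (g : Matrix.GeneralLinearGroup (Fin n) F) (hg : g ∈ Cfsg.Geo.subgroupNormalizer (R ⊔ Cfsg.Geo.scalars (Fin n) F)) (hϖ : ϖ.Prime) (hord : orderOf g = ϖ) (hns : g ∉ Cfsg.Geo.scalars (Fin n) F) (c : F) :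
    (ϖ = 2 → 4 * Module.finrank F (Module.End.eigenspace (Matrix.toLin' (g : Matrix (Fin n) (Fin n) F)) c) ≤ 3 * n) ∧
    (ϖ = 3 → 3 * Module.finrank F (Module.End.eigenspace (Matrix.toLin' (g : Matrix (Fin n) (Fin n) F)) c) ≤ 2 * n) ∧
    (3 < ϖ → 2 * Module.finrank F (Module.End.eigenspace (Matrix.toLin' (g : Matrix (Fin n) (Fin n) F)) c) ≤ n) ∧
    (ϖ = 3 → ¬ 3 ∣ n → 2 * Module.finrank F (Module.End.eigenspace (Matrix.toLin' (g : Matrix (Fin n) (Fin n) F)) c) ≤ n) := by
  classical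
  haveI : Fact r.Prime := ⟨hr⟩
  set W := Module.End.eigenspace (lin g) c with hWdef
  change (ϖ = 2 → 4 * finrank F W ≤ 3 * n) ∧ (ϖ = 3 → 3 * finrank F W ≤ 2 * n) ∧
    (3 < ϖ → 2 * finrank F W ≤ n) ∧ (ϖ = 3 → ¬ 3 ∣ n → 2 * finrank F W ≤ n)
  have hn : finrank F (Fin n → F) = n := Module.finrank_fin_fun F
  suffices h : 2 * finrank F W ≤ n ∨ (ϖ = 2 ∧ 4 * finrank F W ≤ 3 * n) ∨
      (ϖ = 3 ∧ 3 ∣ n ∧ 3 * finrank F W ≤ 2 * n) by
    refine ⟨fun _ => ?_, fun _ => ?_, fun _ => ?_, fun _ _ => ?_⟩ <;> rcases h with h | h | h <;> omega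
  haveI : Nonempty (Fin n) := by
    by_contra hne
    rw [not_nonempty_iff] at hne
    exact hns ((mem_scalars_iff g).2 ⟨1, Subsingleton.elim _ _⟩)
  rcases eq_or_ne c 0 with rfl | hc
  · left
    have : W = ⊥ := (Submodule.eq_bot_iff _).2 fun v hv => by
      rw [hWdef, End.mem_eigenspace_iff, zero_smul] at hv
      exact lin_inj g (hv.trans (map_zero _).symm)
    rw [this, finrank_bot]; omega
  have hW : ∀ v, v ∈ W ↔ lin g v = c • v := fun v => End.mem_eigenspace_iff
  have hgpow : g ^ ϖ = 1 := by rw [← hord]; exact pow_orderOf_eq_one g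
  have hcomm : ∀ u v : R, ⁅u, v⁆ ∈ Subgroup.center R := fun u v =>
    hext ▸ Subgroup.commutator_mem_commutator (Subgroup.mem_top u) (Subgroup.mem_top v)
  have hschur : ∀ u : Matrix.GeneralLinearGroup (Fin n) F, (∀ v ∈ R, u * v = v * u) → u ∈ scalars (Fin n) F := by
    intro u hu
    obtain ⟨a, ha⟩ := hirr.2 (u : Matrix (Fin n) (Fin n) F) (by
      rintro s ⟨v, hv, rfl⟩
      exact congrArg Units.val (hu v hv))
    refine (mem_scalars_iff u).2 ⟨Units.mk0 a fun h => u.ne_zero ?_, ha⟩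
    rw [ha, h, zero_smul]
  have hcS : ∀ u : R, u ∈ Subgroup.center R ↔ (u : Matrix.GeneralLinearGroup (Fin n) F) ∈ scalars (Fin n) F := by
    intro u
    refine ⟨fun h => hschur u fun v hv => congrArg Subtype.val (Subgroup.mem_center_iff.1 h ⟨v, hv⟩).symm,
      fun h => Subgroup.mem_center_iff.2 fun v => Subtype.ext (scalars_comm h v).symm⟩
  have hconj : ∀ x : R, ∃ x' : R,
      g * x * g⁻¹ * (x' : Matrix.GeneralLinearGroup (Fin n) F)⁻¹ ∈ scalars (Fin n) F := by
    intro x
    obtain ⟨a, ha, s, hs, e⟩ := Subgroup.mem_sup_of_normal_right.1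
      ((Subgroup.mem_normalizer_iff.1 hg (x : Matrix.GeneralLinearGroup (Fin n) F)).1 (Subgroup.mem_sup_left x.2))
    refine ⟨⟨a, ha⟩, ?_⟩
    rw [← e, show (a * s) * (a : Matrix.GeneralLinearGroup (Fin n) F)⁻¹ = s by
      rw [← scalars_comm hs, mul_inv_cancel_right]]
    exact hs
  have hroot : ∀ u v : R, ∃ a : F, a ^ r = 1 ∧ (∀ w, lin u.1 (lin v.1 w) = a • lin v.1 (lin u.1 w)) ∧
      (⁅u, v⁆ ≠ 1 → IsPrimitiveRoot a r) ∧ (⁅u, v⁆ = 1 → a = 1) := by
    intro u v
    obtain ⟨a, -, hs, hrel⟩ := twisted (u := (u : Matrix.GeneralLinearGroup (Fin n) F)) (v := v) (w := v)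
      ((hcS ⁅u, v⁆).1 (hcomm u v))
    have hpow : ((⁅u, v⁆ : R) : Matrix.GeneralLinearGroup (Fin n) F) ^ r = 1 := by
      have h := pow_card_eq_one' (x := (⟨⁅u, v⁆, hcomm u v⟩ : Subgroup.center R))
      rw [hZ] at h
      exact congrArg (fun x : Subgroup.center R => ((x : R) : Matrix.GeneralLinearGroup (Fin n) F)) h
    obtain ⟨h1, h2⟩ := scalar_root (s := ((⁅u, v⁆ : R) : Matrix.GeneralLinearGroup (Fin n) F)) hr hs hpow
    refine ⟨a, h1, hrel, fun hne => h2 fun h => hne (Subtype.ext h), fun he => ?_⟩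
    have h3 : lin ((⁅u, v⁆ : R) : Matrix.GeneralLinearGroup (Fin n) F) = 1 := by rw [he, Subgroup.coe_one, map_one]
    exact smul_left_injective F (M := Module.End F (Fin n → F)) one_ne_zero ((hs.symm.trans h3).trans (one_smul F _).symm)
  -- eigenspaces of non-scalar elements of `R`
  have hsmall : ∀ u : R, (u : Matrix.GeneralLinearGroup (Fin n) F) ∉ scalars (Fin n) F → ∀ e : F, e ≠ 0 →
      r * finrank F ↥((lin u.1).eigenspace e) ≤ n := by
    intro u hu e he
    obtain ⟨v, hv⟩ : ∃ v : R, ⁅u, v⁆ ≠ 1 := by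
      by_contra hcon
      push Not at hcon
      exact hu ((hcS u).1 (Subgroup.mem_center_iff.2 fun v => (commutatorElement_eq_one_iff_mul_comm.1 (hcon v)).symm))
    obtain ⟨a, -, hrel, hprim, -⟩ := hroot u v
    have h := shift_bound (hprim hv) he ⊤ (lin_inj v.1) (fun _ _ => trivial) (g := lin u.1) (fun w _ => hrel w)
    rwa [top_inf_eq, finrank_top, hn] at h
  by_cases hA : ∀ x ∈ R, ⁅g, x⁆ ∈ scalars (Fin n) F
  · left
    obtain ⟨x, hx, hxne⟩ : ∃ x ∈ R, ⁅g, x⁆ ≠ 1 := by
      by_contra hcon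
      push Not at hcon
      exact hns (hschur g fun v hv => commutatorElement_eq_one_iff_mul_comm.1 (hcon v hv))
    obtain ⟨a, -, hs, hrel⟩ := twisted (u := g) (v := x) (w := x) (hA x hx)
    have hpow : ⁅g, x⁆ ^ r = 1 := by
      have hxr : x ^ r ∈ scalars (Fin n) F := by
        refine hschur _ fun v hv => commutatorElement_eq_one_iff_mul_comm.1 ?_
        have key : ∀ k : ℕ, ⁅x ^ k, v⁆ = ⁅x, v⁆ ^ k := by
          intro k
          induction k with
          | zero => simp
          | succ k ih =>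
            have hs := (hcS ⁅(⟨x, hx⟩ : R), ⟨v, hv⟩⁆).1 (hcomm _ _)
            have hs' : ⁅x, v⁆ ∈ scalars (Fin n) F := hs
            rw [pow_succ, commutatorElement_mul_left_eq_conj_mul, ih, ← scalars_comm hs', mul_inv_cancel_right, pow_succ']
        rw [key]
        have h := pow_card_eq_one' (x := (⟨_, hcomm ⟨x, hx⟩ ⟨v, hv⟩⟩ : Subgroup.center R))
        rw [hZ] at h
        exact congrArg (fun x : Subgroup.center R => ((x : R) : Matrix.GeneralLinearGroup (Fin n) F)) h
      have h1 : (g * x * g⁻¹) ^ r = x ^ r := by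
        rw [conj_pow, ← scalars_comm hxr, mul_inv_cancel_right]
      rw [show g * x * g⁻¹ = ⁅g, x⁆ * x by rw [commutatorElement_def]; group, pow_scalar_mul (hA x hx)] at h1
      exact mul_eq_right.1 h1
    have h := shift_bound ((scalar_root hr hs hpow).2 hxne) hc ⊤ (lin_inj x) (fun _ _ => trivial) (g := lin g)
      (fun w _ => hrel w)
    rw [top_inf_eq, finrank_top, hn, ← hWdef] at h
    have := Nat.mul_le_mul_right (finrank F W) hr.two_le
    omega
  push Not at hA
  -- the intersection with a translate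
  have hinter : ∀ x : Matrix.GeneralLinearGroup (Fin n) F, ∀ v ∈ W ⊓ W.map (lin x),
      lin ⁅g, x⁆ v = v ∧ lin (g * ⁅g, x⁆ * g⁻¹) v = v := by
    intro x v hv
    obtain ⟨hv1, w, hw, rfl⟩ := Submodule.mem_inf.1 hv
    rw [hW] at hv1
    have hw' : lin g w = c • w := (hW w).1 hw
    have hinvg : ∀ u, lin g u = c • u → lin g⁻¹ u = c⁻¹ • u := by
      intro u hu
      have e := lin_cancel g u
      rw [hu, map_smul] at e
      calc lin g⁻¹ u = c⁻¹ • (c • lin g⁻¹ u) := by rw [smul_smul, inv_mul_cancel₀ hc, one_smul]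
        _ = c⁻¹ • u := by rw [e]
    have h1 : lin ⁅g, x⁆ (lin x w) = lin x w := by
      rw [commutatorElement_def, map_mul, map_mul, map_mul, End.mul_apply, End.mul_apply, End.mul_apply,
        lin_cancel, hinvg w hw', map_smul, map_smul, hv1, smul_smul, inv_mul_cancel₀ hc, one_smul]
    refine ⟨h1, ?_⟩
    rw [map_mul, map_mul, End.mul_apply, End.mul_apply, hinvg _ hv1, map_smul, map_smul, h1, hv1, smul_smul,
      inv_mul_cancel₀ hc, one_smul]
  have hdim : ∀ x : Matrix.GeneralLinearGroup (Fin n) F,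
      2 * finrank F W ≤ n + finrank F ↥(W ⊓ W.map (lin x)) := by
    intro x
    have h1 : finrank F ↥(W.map (lin x)) = finrank F W :=
      (Submodule.equivMapOfInjective _ (lin_inj x) W).finrank_eq.symm
    have h2 := Submodule.finrank_sup_add_finrank_inf_eq W (W.map (lin x))
    have h3 := Submodule.finrank_le (W ⊔ W.map (lin x))
    rw [hn] at h3
    omega
  obtain ⟨x0, hx0, hx0'⟩ := hA
  have hclassic : r * (2 * finrank F W) ≤ r * n + n := by
    obtain ⟨x', hx'⟩ := hconj ⟨x0, hx0⟩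
    set s := g * x0 * g⁻¹ * (x' : Matrix.GeneralLinearGroup (Fin n) F)⁻¹ with hs
    set y : R := x' * ⟨x0, hx0⟩⁻¹ with hy
    have hcom : ⁅g, x0⁆ = s * (y : Matrix.GeneralLinearGroup (Fin n) F) := by
      rw [hs, hy, commutatorElement_def]; push_cast; group
    have hyS : (y : Matrix.GeneralLinearGroup (Fin n) F) ∉ scalars (Fin n) F := fun h =>
      hx0' (hcom ▸ mul_mem hx' h)
    obtain ⟨a, ha, hsa⟩ := lin_scalar hx'
    have hle : finrank F ↥(W ⊓ W.map (lin x0)) ≤ finrank F ↥((lin y.1).eigenspace a⁻¹) := by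
      refine Submodule.finrank_mono fun v hv => End.mem_eigenspace_iff.2 ?_
      have h := (hinter x0 v hv).1
      rw [hcom, map_mul, hsa, End.mul_apply, LinearMap.smul_apply, End.one_apply] at h
      calc lin (y : Matrix.GeneralLinearGroup (Fin n) F) v = a⁻¹ • (a • lin (y : Matrix.GeneralLinearGroup (Fin n) F) v) := by
            rw [smul_smul, inv_mul_cancel₀ ha, one_smul]
        _ = a⁻¹ • v := congrArg _ h
    have h1 := Nat.mul_le_mul_left r (hdim x0)
    have h2 := (Nat.mul_le_mul_left r hle).trans (hsmall y hyS _ (inv_ne_zero ha))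
    rw [mul_add] at h1
    omega
  rcases hϖ.eq_two_or_odd' with h2 | hodd
  · right; left
    refine ⟨h2, ?_⟩
    have h := Nat.mul_le_mul_right n hr.two_le
    nlinarith [hclassic, hr.two_le]
  by_cases hB : ∃ x ∈ R, ⁅g * ⁅g, x⁆ * g⁻¹, ⁅g, x⁆⁆ ≠ 1
  · left
    obtain ⟨x, hx, hne⟩ := hB
    obtain ⟨x', hx'⟩ := hconj ⟨x, hx⟩
    set y : R := x' * ⟨x, hx⟩⁻¹ with hy
    have hcom : ⁅g, x⁆ = (g * x * g⁻¹ * (x' : Matrix.GeneralLinearGroup (Fin n) F)⁻¹) * y := by
      rw [hy, commutatorElement_def]; push_cast; group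
    obtain ⟨y', hy'⟩ := hconj y
    have hcom' : g * ⁅g, x⁆ * g⁻¹ = (g * (g * x * g⁻¹ * (x' : Matrix.GeneralLinearGroup (Fin n) F)⁻¹) * g⁻¹ *
        (g * y * g⁻¹ * (y' : Matrix.GeneralLinearGroup (Fin n) F)⁻¹)) * y' := by
      rw [hcom]; group
    have hmem : ⁅g * ⁅g, x⁆ * g⁻¹, ⁅g, x⁆⁆ ∈ scalars (Fin n) F := by
      rw [hcom', hcom, commutator_scalar_right hx',
        commutator_scalar_left (mul_mem (scalars_normal.conj_mem _ hx' g) hy')]
      exact (hcS ⁅y', y⁆).1 (hcomm y' y)
    obtain ⟨a, ha, hsa⟩ := lin_scalar hmem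
    have hbot : W ⊓ W.map (lin x) = ⊥ := by
      refine (Submodule.eq_bot_iff _).2 fun v hv => ?_
      obtain ⟨h1, h2⟩ := hinter x v hv
      set A := g * ⁅g, x⁆ * g⁻¹
      set B := ⁅g, x⁆
      have hA' : lin A⁻¹ v = v := by conv_lhs => rw [← h2, lin_cancel]
      have hB' : lin B⁻¹ v = v := by conv_lhs => rw [← h1, lin_cancel]
      have h3 : lin ⁅A, B⁆ v = v := by
        rw [commutatorElement_def, map_mul, map_mul, map_mul, End.mul_apply, End.mul_apply, End.mul_apply,
          hB', hA', h1, h2]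
      rw [hsa, LinearMap.smul_apply, End.one_apply] at h3
      by_contra hv0
      refine hne (Units.ext (Matrix.toLin'.injective ?_))
      show lin _ = lin 1
      rw [hsa, smul_left_injective F hv0 (h3.trans (one_smul F v).symm), one_smul, map_one]
    have := hdim x
    rw [hbot, finrank_bot] at this
    omega
  push Not at hB
  obtain ⟨hrϖ, x, y, z, k, hgz, hgx, hgy, hxz, hyz, hxy⟩ :=
    algebra_step hr hϖ hodd R hZ hcomm hcS g hgpow hconj ⟨x0, hx0, hx0'⟩ hB
  obtain ⟨ω, -, hxyrel, hωprim, -⟩ := hroot x y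
  have hω := hωprim hxy
  have hr2 : r ≠ 2 := by rintro rfl; rw [← hrϖ] at hodd; exact absurd hodd (by decide)
  have hrn : r ∣ n := by
    refine (hω.pow_eq_one_iff_dvd n).1 ?_
    have e : lin x.1 * lin y.1 = ω • (lin y.1 * lin (x : Matrix.GeneralLinearGroup (Fin n) F)) :=
      LinearMap.ext hxyrel
    have hd := congrArg LinearMap.det e
    rw [LinearMap.det_smul, map_mul, map_mul, hn, mul_comm (LinearMap.det (lin y.1))] at hd
    have hu : IsUnit (LinearMap.det (lin (x : Matrix.GeneralLinearGroup (Fin n) F)) *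
        LinearMap.det (lin (y : Matrix.GeneralLinearGroup (Fin n) F))) := by
      refine IsUnit.mul ?_ ?_ <;> exact (((Group.isUnit _).map lin).map LinearMap.det)
    exact mul_eq_right₀ hu.ne_zero |>.1 hd.symm
  rcases (show ϖ = 3 ∨ 3 < ϖ by
      rcases hodd with ⟨m, hm⟩
      have := hϖ.two_le
      omega) with h3 | h3
  · right; right
    subst hrϖ
    subst h3
    refine ⟨rfl, hrn, ?_⟩
    omega
  left
  have hexpr : ∀ u : R, (u : Matrix.GeneralLinearGroup (Fin n) F) ^ r = 1 := by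
    intro u
    rcases hexp with h | h
    · have := Monoid.pow_exponent_eq_one u
      rw [h] at this
      exact congrArg Subtype.val this
    · exfalso
      obtain ⟨m, hm⟩ := IsPGroup.iff_orderOf.1 hR ⁅x, y⁆
      have h4 := Monoid.order_dvd_exponent ⁅x, y⁆
      rw [h, hm] at h4
      rcases Nat.eq_zero_or_pos m with rfl | hm0
      · exact hxy (orderOf_eq_one_iff.1 (by simpa using hm))
      · have h5 : r ∣ 4 := (dvd_pow_self r (by omega)).trans h4
        have := Nat.le_of_dvd (by omega) h5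
        have h6 : r = 4 := by omega
        rw [h6] at hr
        exact absurd hr (by norm_num)
  have hrF : (r : F) ≠ 0 := by
    intro h0
    haveI := ringChar.of_eq (CharP.ringChar_of_prime_eq_zero hr h0)
    refine hω.ne_one hr.one_lt (sub_eq_zero.1 (pow_eq_zero_iff hr.ne_zero |>.1 ?_))
    rw [sub_pow_char, hω.pow_eq_one, one_pow, sub_self]
  obtain ⟨μ, hμ0, hμs, hμrel⟩ := twisted hgz
  have hμr : μ ^ r = 1 := by
    refine (scalar_root hr hμs ?_).1
    have e : g * z * g⁻¹ = (g * z * g⁻¹ * (z : Matrix.GeneralLinearGroup (Fin n) F)⁻¹) * z := by group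
    have h := congrArg (· ^ r) e
    simp only [pow_scalar_mul hgz, conj_pow, hexpr, mul_one, mul_inv_cancel] at h
    exact h.symm
  have hroot' : ∀ a : F, a ^ r = 1 → a ≠ 1 → IsPrimitiveRoot a r := fun a h1 h2 => by
    rw [IsPrimitiveRoot.iff_orderOf]; exact orderOf_eq_prime h1 h2
  have h4r : 4 ≤ r := by omega
  rcases ne_or_eq μ 1 with hμ | hμ
  · have h := shift_bound (hroot' μ hμr hμ) hc ⊤ (lin_inj z.1) (fun _ _ => trivial) (g := lin g)
      (fun w _ => hμrel w)
    rw [top_inf_eq, finrank_top, hn, ← hWdef] at h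
    have := Nat.mul_le_mul_right (finrank F W) (show 2 ≤ r by omega)
    omega
  subst hμ
  -- `g` commutes with `z`
  have hgzc : ∀ w, lin g (lin z.1 w) = lin (z : Matrix.GeneralLinearGroup (Fin n) F) (lin g w) := by
    intro w; rw [hμrel, one_smul]
  obtain ⟨o1, -, hxzrel, -, ho1⟩ := hroot x z
  obtain ⟨o2, -, hyzrel, -, ho2⟩ := hroot y z
  obtain ⟨lam, -, hls, hlrel⟩ := twisted hgx
  obtain ⟨nu, hnu0, hns', hnrel⟩ := twisted hgy
  have hnur : nu ^ r = 1 := by
    refine (scalar_root hr hns' ?_).1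
    have e : g * y * g⁻¹ = (g * y * g⁻¹ * ((z : Matrix.GeneralLinearGroup (Fin n) F) ^ k * y)⁻¹) *
        ((z : Matrix.GeneralLinearGroup (Fin n) F) ^ k * y) := by group
    have h := congrArg (· ^ r) e
    have hzy : ((z : Matrix.GeneralLinearGroup (Fin n) F) ^ k * y) ^ r = 1 := by
      have := hexpr (z ^ k * y)
      simpa using this
    simp only [pow_scalar_mul hgy, conj_pow, hexpr, hzy, mul_one, mul_inv_cancel] at h
    exact h.symm
  have hlr : lam ^ r = 1 := by
    refine (scalar_root hr hls ?_).1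
    have e : g * x * g⁻¹ = (g * x * g⁻¹ * ((y : Matrix.GeneralLinearGroup (Fin n) F) * x)⁻¹) *
        ((y : Matrix.GeneralLinearGroup (Fin n) F) * x) := by group
    have h := congrArg (· ^ r) e
    have hyx : ((y : Matrix.GeneralLinearGroup (Fin n) F) * x) ^ r = 1 := by
      have := hexpr (y * x)
      simpa using this
    simp only [pow_scalar_mul hgx, conj_pow, hexpr, hyx, mul_one, mul_inv_cancel] at h
    exact h.symm
  have hzr : (lin (z : Matrix.GeneralLinearGroup (Fin n) F)) ^ r = 1 := by rw [← map_pow, hexpr, map_one]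
  have hyr : (lin (y : Matrix.GeneralLinearGroup (Fin n) F)) ^ r = 1 := by rw [← map_pow, hexpr, map_one]
  have hWz : ∀ v ∈ W, lin (z : Matrix.GeneralLinearGroup (Fin n) F) v ∈ W := fun v hv => by
    rw [hW, hgzc, (hW v).1 hv, map_smul]
  have hsum : r * finrank F W ≤ 2 * n := by
    refine (Nat.mul_le_mul_left r (decomp_le hrF hω _ hzr W hWz)).trans ?_
    rw [Finset.mul_sum]
    refine (Finset.sum_le_sum (g := fun i => 2 * finrank F
      ↥((lin (z : Matrix.GeneralLinearGroup (Fin n) F)).eigenspace (ω ^ i))) fun i _ => ?_).trans ?_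
    · set E := (lin (z : Matrix.GeneralLinearGroup (Fin n) F)).eigenspace (ω ^ i) with hE
      have hmem : ∀ v, v ∈ E ↔ lin (z : Matrix.GeneralLinearGroup (Fin n) F) v = ω ^ i • v :=
        fun v => End.mem_eigenspace_iff
      have hgE : ∀ v ∈ E, lin g v ∈ E := fun v hv => by rw [hmem, ← hgzc, (hmem v).1 hv, map_smul]
      have hxE : ∀ v ∈ E, lin (x : Matrix.GeneralLinearGroup (Fin n) F) v ∈ E := fun v hv => by
        have e := hxzrel v
        rw [ho1 hxz, one_smul] at e
        rw [hmem, ← e, (hmem v).1 hv, map_smul]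
      have hyE : ∀ v ∈ E, lin (y : Matrix.GeneralLinearGroup (Fin n) F) v ∈ E := fun v hv => by
        have e := hyzrel v
        rw [ho2 hyz, one_smul] at e
        rw [hmem, ← e, (hmem v).1 hv, map_smul]
      have hgyE : ∀ v ∈ E, lin g (lin (y : Matrix.GeneralLinearGroup (Fin n) F) v) =
          (nu * (ω ^ i) ^ k) • lin (y : Matrix.GeneralLinearGroup (Fin n) F) (lin g v) := by
        intro v hv
        rw [hnrel, map_mul, map_pow, End.mul_apply, mul_smul]
        have hpw : ∀ j : ℕ, ∀ u ∈ E, ((lin (z : Matrix.GeneralLinearGroup (Fin n) F)) ^ j) u = (ω ^ i) ^ j • u := by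
          intro j
          induction j with
          | zero => simp
          | succ j ih => intro u hu; rw [pow_succ, End.mul_apply, (hmem u).1 hu, map_smul, ih u hu, smul_smul,
              pow_succ']
        rw [hpw k _ (hyE _ (hgE v hv))]
      rw [inf_comm]
      rcases ne_or_eq (nu * (ω ^ i) ^ k) 1 with hne | heq
      · have hp : (nu * (ω ^ i) ^ k) ^ r = 1 := by
          rw [mul_pow, hnur, ← pow_mul, ← pow_mul, show i * (k * r) = r * (i * k) by ring, pow_mul,
            hω.pow_eq_one, one_pow, one_mul]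
        exact (shift_bound (hroot' _ hp hne) hc E (lin_inj y.1) hyE (g := lin g) hgyE).trans (by omega)
      · refine quad_bound hr2 hrF hω hlr hc E hyr (lin_inj x.1) hgE hxE hyE (fun v hv => ?_) (fun v _ => ?_)
          (fun v _ => hxyrel v)
        · rw [hgyE v hv, heq, one_smul]
        · rw [hlrel, map_mul, End.mul_apply]
    · rw [← Finset.mul_sum]
      refine Nat.mul_le_mul_left 2 ?_
      rw [← Finset.sum_image (f := fun a => finrank F
        ↥((lin (z : Matrix.GeneralLinearGroup (Fin n) F)).eigenspace a))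
        (fun i hi j hj e => hω.pow_inj (Finset.mem_range.1 hi) (Finset.mem_range.1 hj) e)]
      have h := sum_eigen_le ⊤ (lin (z : Matrix.GeneralLinearGroup (Fin n) F)) ((Finset.range r).image (ω ^ ·))
      have hh : ∀ E : Submodule F (Fin n → F), finrank F ↥((⊤ : Submodule F (Fin n → F)) ⊓ E) = finrank F E :=
        fun E => by rw [top_inf_eq]
      simp only [hh, finrank_top, hn] at h
      exact h
  have := Nat.mul_le_mul_right (finrank F W) h4r
  omega

end Cfsg.Agent.S5877
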