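import Cfsg.Statements.S5885
-- import your own Cfsg.Agent.* helpers here

set_option autoImplicit false
open Cfsg

namespace Cfsg.Agent.S5885

open scoped Pointwise

theorem core_step {G : Type*} [Group G] [Finite G] {n : ℕ} (hodd : Odd n) (Ψ : G →* Equiv.Perm (Fin n))
    (hP : alternatingGroup (Fin n) ≤ Ψ.range) (a : Fin n) (M H K L : Subgroup G)
    (hM : ∀ g, g ∈ M ↔ Ψ g a = a) (hHM : H ≤ M) (hmax : ∀ S : Subgroup G, H ≤ S → S ≤ M → S = H ∨ S = M)
    (hMcoatom : ∀ (l : G) (T : Subgroup G), M ≤ T → l ∈ T → l ∉ M → T = ⊤) (hMK : ¬ M ≤ K) (hHL : H < L) (hLK : L ≤ K) : L = K := by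
  classical
  have hKM : K ⊓ M = H := by
    rcases hmax (K ⊓ M) (le_inf (hHL.le.trans hLK) hHM) inf_le_right with h | h
    · exact h
    · exact absurd (h ▸ inf_le_left) hMK
  have hLM : L ⊓ M = H :=
    le_antisymm ((inf_le_inf_right M hLK).trans hKM.le) (le_inf hHL.le hHM)
  have hNM : Ψ.ker ≤ M := fun g hg => (hM g).2 (by rw [MonoidHom.mem_ker.1 hg]; rfl)
  by_cases hN : Ψ.ker ≤ H
  swap
  · -- the kernel is not in `H`
    have hHN : H ⊔ Ψ.ker = M := by
      rcases hmax (H ⊔ Ψ.ker) le_sup_left (sup_le hHM hNM) with h | h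
      · exact absurd (h ▸ le_sup_right) hN
      · exact h
    obtain ⟨l₀, hl₀, hl₀H⟩ := SetLike.exists_of_lt hHL
    refine le_antisymm hLK ?_
    by_contra hKL
    obtain ⟨k, hk, hkL⟩ := SetLike.not_le_iff_exists.1 hKL
    by_cases hall : L.map Ψ = Ψ.range
    · obtain ⟨l, hl, hlk⟩ : Ψ k ∈ L.map Ψ := hall ▸ ⟨k, rfl⟩
      have hν : l⁻¹ * k ∈ H := by
        rw [← hKM]
        refine Subgroup.mem_inf.2 ⟨mul_mem (inv_mem (hLK hl)) hk, hNM ?_⟩
        rw [MonoidHom.mem_ker, map_mul, map_inv, hlk, inv_mul_cancel]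
      exact hkL (by simpa using mul_mem hl (hHL.le hν))
    · -- then `L ⊔ ker` is proper and contains `M`
      have hM' : M ≤ (L.map Ψ).comap Ψ := by
        rw [← hHN, Subgroup.comap_map_eq]
        exact sup_le_sup_right hHL.le _
      refine hall (le_antisymm (Subgroup.map_le_range _ _) ?_)
      -- `L ⊔ ker` strictly contains `M`
      have hlM : l₀ ∉ M := fun h => hl₀H (hLM ▸ ⟨hl₀, h⟩)
      have htop : (L.map Ψ).comap Ψ = ⊤ := hMcoatom l₀ _ hM' ⟨l₀, hl₀, rfl⟩ hlM
      rintro _ ⟨g, rfl⟩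
      have : g ∈ (L.map Ψ).comap Ψ := htop ▸ Subgroup.mem_top g
      exact this
  refine le_antisymm hLK ?_
  by_contra hKL
  obtain ⟨k, hk, hkL⟩ := SetLike.not_le_iff_exists.1 hKL
  obtain ⟨l, hl, hlH⟩ := SetLike.exists_of_lt hHL
  -- the orbit of `a` under `L`
  let D : Set (Fin n) := {x | ∃ u ∈ L, Ψ u a = x}
  have haD : a ∈ D := ⟨1, one_mem _, by simp⟩
  set y := Ψ l a with hy
  have hya : y ≠ a := fun h => hlH (hLM ▸ ⟨hl, (hM l).2 h⟩)
  have hyD : y ∈ D := ⟨l, hl, rfl⟩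
  -- the translate of `D` by `k`
  let B : Set (Fin n) := {x | ∃ u ∈ L, Ψ (k * u) a = x}
  have hBD : ∀ x, x ∈ B → x ∉ D := by
    rintro x ⟨u, hu, rfl⟩ ⟨u', hu', h⟩
    have : u'⁻¹ * (k * u) ∈ K ⊓ M := by
      refine Subgroup.mem_inf.2 ⟨mul_mem (inv_mem (hLK hu')) (mul_mem hk (hLK hu)), (hM _).2 ?_⟩
      have hh : Ψ (u'⁻¹ * (k * u)) a = Ψ u'⁻¹ (Ψ (k * u) a) := by rw [map_mul, Equiv.Perm.mul_apply]
      rw [hh, ← h, map_inv, Equiv.Perm.inv_def, Equiv.symm_apply_apply]
    rw [hKM] at this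
    have h2 := mul_mem (mul_mem hu' (hHL.le this)) (inv_mem hu)
    exact hkL (by simpa [mul_assoc] using h2)
  set x := Ψ k a with hx
  set x' := Ψ (k * l) a with hx'
  have hxB : x ∈ B := ⟨1, one_mem _, by rw [mul_one]⟩
  have hx'B : x' ∈ B := ⟨l, hl, rfl⟩
  have hxx' : x ≠ x' := by
    intro h
    rw [hx, hx', map_mul, Equiv.Perm.mul_apply] at h
    exact hya ((Ψ k).injective h).symm
  obtain ⟨z, hzD, hzB⟩ : ∃ z, z ∉ D ∧ z ∉ B := by
    by_contra hc
    push_neg at hc
    have hc' : Dᶜ = B := Set.Subset.antisymm (fun z hz => hc z hz) (fun z hz => hBD z hz)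
    have hBim : B = (Ψ k) '' D := by
      ext z
      constructor
      · rintro ⟨u, hu, rfl⟩; exact ⟨Ψ u a, ⟨u, hu, rfl⟩, by simp⟩
      · rintro ⟨_, ⟨u, hu, rfl⟩, rfl⟩; exact ⟨u, hu, by simp⟩
    have hcard : B.ncard = D.ncard := by rw [hBim, Set.ncard_image_of_injective _ (Ψ k).injective]
    have := Set.ncard_add_ncard_compl D
    rw [hc', hcard, Nat.card_fin] at this
    obtain ⟨j, hj⟩ := hodd
    omega
  let S : Subgroup G :=
    M ⊓ (MulAction.stabilizer (Equiv.Perm (Fin n)) (D : Set (Fin n))).comap Ψ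
  have hHS : H ≤ S := by
    intro g hg
    refine Subgroup.mem_inf.2 ⟨hHM hg, ?_⟩
    rw [Subgroup.mem_comap, MulAction.mem_stabilizer_set_iff_smul_set_subset D.toFinite]
    rintro _ ⟨_, ⟨u, hu, rfl⟩, rfl⟩
    exact ⟨g * u, mul_mem (hHL.le hg) hu, by simp⟩
  have hlift : ∀ u v w : Fin n, u ≠ v → v ≠ w → ∃ g : G, Ψ g = Equiv.swap u v * Equiv.swap v w := by
    intro u v w huv hvw
    exact hP (by rw [Equiv.Perm.mem_alternatingGroup, map_mul, Equiv.Perm.sign_swap huv,
      Equiv.Perm.sign_swap hvw]; rfl)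
  have hxD : x ∉ D := hBD x hxB
  have hx'D : x' ∉ D := hBD x' hx'B
  have nD : ∀ w, w ∉ D → w ≠ a ∧ w ≠ y := fun w hw => ⟨fun h => hw (h ▸ haD), fun h => hw (h ▸ hyD)⟩
  have hSH : S = H := by
    rcases hmax S hHS inf_le_left with h | h
    · exact h
    exfalso
    obtain ⟨g, hg⟩ := hlift y x x' (nD x hxD).2.symm hxx'
    have hgM : g ∈ M := by
      rw [hM, hg, Equiv.Perm.mul_apply, Equiv.swap_apply_of_ne_of_ne (nD x hxD).1.symm (nD x' hx'D).1.symm,
        Equiv.swap_apply_of_ne_of_ne hya.symm (nD x hxD).1.symm]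
    have hgS : g ∈ S := h ▸ hgM
    have h2 := (MulAction.mem_stabilizer_set_iff_smul_set_subset D.toFinite).1 hgS.2 ⟨y, hyD, rfl⟩
    replace h2 : Ψ g y ∈ D := h2
    rw [hg, Equiv.Perm.mul_apply,
      Equiv.swap_apply_of_ne_of_ne (nD x hxD).2.symm (nD x' hx'D).2.symm, Equiv.swap_apply_left] at h2
    exact hxD h2
  have hx'z : x' ≠ z := fun h => hzB (h ▸ hx'B)
  have hxz : x ≠ z := fun h => hzB (h ▸ hxB)
  obtain ⟨g, hg⟩ := hlift x x' z hxx' hx'z
  have hfix : ∀ w ∈ D, Ψ g w = w := by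
    intro w hw
    have h1 : w ≠ x := fun h => hxD (h ▸ hw)
    have h2 : w ≠ x' := fun h => hx'D (h ▸ hw)
    have h3 : w ≠ z := fun h => hzD (h ▸ hw)
    rw [hg, Equiv.Perm.mul_apply, Equiv.swap_apply_of_ne_of_ne h2 h3, Equiv.swap_apply_of_ne_of_ne h1 h2]
  have hgH : g ∈ H := by
    rw [← hSH]
    refine Subgroup.mem_inf.2 ⟨(hM g).2 (hfix a haD), ?_⟩
    rw [Subgroup.mem_comap, MulAction.mem_stabilizer_set_iff_smul_set_subset D.toFinite]
    rintro _ ⟨w, hw, rfl⟩
    show Ψ g w ∈ D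
    rw [hfix w hw]
    exact hw
  have hgx : Ψ g x = x' := by
    rw [hg, Equiv.Perm.mul_apply, Equiv.swap_apply_of_ne_of_ne hxx' hxz, Equiv.swap_apply_left]
  have hgx' : Ψ g x' = z := by
    rw [hg, Equiv.Perm.mul_apply, Equiv.swap_apply_left, Equiv.swap_apply_of_ne_of_ne hxz.symm hx'z.symm]
  have hc : l⁻¹ * (k⁻¹ * g * k) ∈ K ⊓ M := by
    have hgK : g ∈ K := hLK (hHL.le hgH)
    refine Subgroup.mem_inf.2 ⟨mul_mem (inv_mem (hLK hl)) (mul_mem (mul_mem (inv_mem hk) hgK) hk), (hM _).2 ?_⟩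
    simp only [map_mul, Equiv.Perm.mul_apply]
    rw [← hx, hgx, hx', map_mul, Equiv.Perm.mul_apply, map_inv, map_inv]
    simp
  rw [hKM] at hc
  apply hzB
  refine ⟨(l * (l⁻¹ * (k⁻¹ * g * k))) * l, mul_mem (mul_mem hl (hHL.le hc)) hl, ?_⟩
  rw [← hgx', hx', ← Equiv.Perm.mul_apply, ← map_mul]
  congr 2
  group

/-- Let n be an odd positive integer such that every primitive permutation group of degree n contains the alternating group (so the symmetric and alternating groups are the only primitive groups of degree n). Let G be a finite group, M a maximal subgroup of G of index n, and H a maximal subgroup of M. Then H is a second maximal subgroup of G: H is maximal in every maximal subgroup K of G containing H. -/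
theorem result {G : Type*} [Group G]
    [Finite G] (n : ℕ) (hodd : Odd n)
    (hA : ∀ P : Subgroup (Equiv.Perm (Fin n)), MulAction.IsPreprimitive P (Fin n) → alternatingGroup (Fin n) ≤ P)
    (M : Subgroup G) (hM : IsCoatom M) (hn : M.index = n) (H : Subgroup G) (hHM : H ≤ M)
    (hmax : IsCoatom (H.subgroupOf M)) (K : Subgroup G) (hK : IsCoatom K) (hHK : H ≤ K) :
    IsCoatom (H.subgroupOf K) := by
  classical
  by_cases hKM : K = M
  · subst hKM; exact hmax
  have hMK : ¬ M ≤ K := by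
    intro h
    exact hKM (((hM.le_iff).1 h).resolve_left hK.1)
  have hmax' : ∀ S : Subgroup G, H ≤ S → S ≤ M → S = H ∨ S = M := by
    intro S h1 h2
    rcases (hmax.le_iff).1 (Subgroup.comap_mono (f := M.subtype) h1 : H.subgroupOf M ≤ S.subgroupOf M) with h | h
    · exact Or.inr (le_antisymm h2 (Subgroup.subgroupOf_eq_top.1 h))
    · refine Or.inl ?_
      replace h : S.subgroupOf M = H.subgroupOf M := h
      rw [Subgroup.subgroupOf_inj, inf_eq_left.2 h2, inf_eq_left.2 hHM] at h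
      exact h
  have hHne : H.subgroupOf K ≠ ⊤ := by
    intro h
    have hKH := Subgroup.subgroupOf_eq_top.1 h
    rcases (hK.le_iff).1 (hKH.trans hHM) with h1 | h1
    · exact hM.1 h1
    · exact hKM h1.symm
  refine ⟨hHne, fun L' hL' => ?_⟩
  set L := L'.map K.subtype with hL
  have hLK : L ≤ K := Subgroup.map_subtype_le L'
  have hL'eq : L.subgroupOf K = L' := Subgroup.comap_map_eq_self_of_injective K.subtype_injective L'
  have hHL : H < L := by
    refine lt_of_le_not_ge ?_ ?_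
    · have := Subgroup.map_mono (f := K.subtype) hL'.le
      rwa [Subgroup.map_subgroupOf_eq_of_le hHK] at this
    · intro h
      exact hL'.not_ge (hL'eq ▸ Subgroup.comap_mono h)
  have hfin : Finite (G ⧸ M) := inferInstance
  let e : (G ⧸ M) ≃ Fin n := Finite.equivFinOfCardEq hn
  let Ψ : G →* Equiv.Perm (Fin n) := e.permCongrHom.toMonoidHom.comp (MulAction.toPermHom G (G ⧸ M))
  have hΨ : ∀ g q, Ψ g (e q) = e (g • q) := by intro g q; simp [Ψ]
  haveI : Nontrivial (G ⧸ M) := by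
    rw [← Finite.one_lt_card_iff_nontrivial]
    have h1 : M.index ≠ 1 := fun h => hM.1 (Subgroup.index_eq_one.1 h)
    have h0 : M.index ≠ 0 := Subgroup.index_ne_zero_of_finite
    show 1 < M.index
    omega
  haveI hprim : MulAction.IsPreprimitive G (G ⧸ M) := by
    rw [← MulAction.isCoatom_stabilizer_iff_preprimitive G ((1 : G) : G ⧸ M), MulAction.stabilizer_quotient]
    exact hM
  letI : MulAction G (Fin n) := MulAction.compHom _ Ψ
  haveI : MulAction.IsPreprimitive G (Fin n) :=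
    MulAction.IsPreprimitive.of_surjective (f := { toFun := e, map_smul' := fun g q => (hΨ g q).symm : (G ⧸ M) →[G] Fin n }) e.surjective
  have hP : alternatingGroup (Fin n) ≤ Ψ.range := by
    refine hA Ψ.range (MulAction.IsPreprimitive.of_surjective (φ := Ψ.rangeRestrict) (f := { toFun := id, map_smul' := fun g q => rfl }) Function.surjective_id)
  have hLeq : L = K := core_step hodd Ψ hP (e ((1 : G) : G ⧸ M)) M H K L (fun g => ?_) hHM hmax'
    (fun l T hT hl hlM => ?_) hMK hHL hLK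
  · rw [← hL'eq, hLeq, Subgroup.subgroupOf_self]
  · rw [hΨ, e.injective.eq_iff]
    conv_lhs => rw [← MulAction.stabilizer_quotient M]
    exact MulAction.mem_stabilizer_iff
  · rcases (hM.le_iff).1 hT with h | h
    · exact h
    · exact absurd (h ▸ hl) hlM

end Cfsg.Agent.S5885
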