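import Cfsg.Statements.S5887
-- import your own Cfsg.Agent.* helpers here

set_option autoImplicit false
open Cfsg

namespace Cfsg.Agent.S5887

open scoped Matrix

variable {F : Type*} [Field F] [Fintype F] {n : ℕ}

/-- a subalgebra in which the non-zero elements are invertible inside -/
def IsDiv (K : Subalgebra F (Matrix (Fin n) (Fin n) F)) : Prop :=
  (∀ x ∈ K, ∀ y ∈ K, x * y = y * x) ∧ ∀ x ∈ K, x ≠ 0 → ∃ y ∈ K, x * y = 1

theorem separate {L K : Subalgebra F (Matrix (Fin n) (Fin n) F)} (hL : IsDiv L) (hK : IsDiv K)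
    (hLK : L ≤ K) (x : Matrix (Fin n) (Fin n) F) (hx : x ∈ K) (hxL : x ∉ L)
    (hdim : Module.finrank F K < n) :
    ∃ g : Matrix.GeneralLinearGroup (Fin n) F, g ∈ Cfsg.Geo.specialLinear (Fin n) F ∧
      (∀ l ∈ L, (g : Matrix (Fin n) (Fin n) F) * l = l * g) ∧
      g ∉ Cfsg.Geo.subalgebraNormalizer K := by
  classical
  have hn : 0 < n := by omega
  haveI : NeZero n := ⟨hn.ne'⟩
  haveI : Nontrivial L := ⟨⟨0, 1, fun h => zero_ne_one (α := Matrix (Fin n) (Fin n) F) (congrArg Subtype.val h)⟩⟩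
  have hfield : IsField L :=
    { exists_pair_ne := ⟨0, 1, zero_ne_one⟩
      mul_comm := fun a b => Subtype.ext (hL.1 a.1 a.2 b.1 b.2)
      mul_inv_cancel := fun {a} ha => by
        obtain ⟨y, hy, hxy⟩ := hL.2 a.1 a.2 (fun h => ha (Subtype.ext h))
        exact ⟨⟨y, hy⟩, Subtype.ext hxy⟩ }
  letI : Field L := hfield.toField
  let V := Fin n → F
  letI : Module L V :=
    { smul := fun a v => (a : Matrix (Fin n) (Fin n) F) *ᵥ v
      one_smul := fun v => Matrix.one_mulVec v
      mul_smul := fun a b v => (Matrix.mulVec_mulVec v _ _).symm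
      smul_zero := fun a => Matrix.mulVec_zero _
      smul_add := fun a v w => Matrix.mulVec_add _ v w
      add_smul := fun a b v => Matrix.add_mulVec _ _ v
      zero_smul := fun v => Matrix.zero_mulVec v }
  have hsmul : ∀ (a : L) (v : V), a • v = (a : Matrix (Fin n) (Fin n) F) *ᵥ v := fun a v => rfl
  -- a non-zero vector and a vector outside `K v`
  let v : V := fun _ => 1
  have hv : v ≠ 0 := fun h => one_ne_zero (congrFun h 0)
  let ev : K →ₗ[F] V :=
    { toFun := fun k => (k : Matrix (Fin n) (Fin n) F) *ᵥ v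
      map_add' := fun a b => Matrix.add_mulVec _ _ v
      map_smul' := fun c a => Matrix.smul_mulVec c _ v }
  obtain ⟨u, hu⟩ : ∃ u, u ∉ LinearMap.range ev := by
    by_contra hc
    push_neg at hc
    have h1 : Module.finrank F V ≤ Module.finrank F K := by
      have := LinearMap.finrank_range_le ev
      rwa [(eq_top_iff.2 fun z _ => hc z : LinearMap.range ev = ⊤), finrank_top] at this
    rw [Module.finrank_fin_fun] at h1
    omega
  have hKker : ∀ k ∈ K, k *ᵥ v = 0 → k = 0 := by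
    intro k hk h
    by_contra hk0
    obtain ⟨y, hy, hky⟩ := hK.2 k hk hk0
    rw [hK.1 k hk y hy] at hky
    have := congrArg (fun m => m *ᵥ v) hky
    simp only [← Matrix.mulVec_mulVec, h, Matrix.mulVec_zero, Matrix.one_mulVec] at this
    exact hv this.symm
  have hxnot : x *ᵥ v ∉ Submodule.span L ({v, u} : Set V) := by
    intro hmem
    obtain ⟨a, b, hab⟩ := Submodule.mem_span_pair.1 hmem
    rw [hsmul, hsmul] at hab
    by_cases hb : (b : Matrix (Fin n) (Fin n) F) = 0
    · rw [hb, Matrix.zero_mulVec, add_zero] at hab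
      have := hKker ((a : Matrix (Fin n) (Fin n) F) - x) (sub_mem (hLK a.2) hx)
        (by rw [Matrix.sub_mulVec, hab, sub_self])
      exact hxL (sub_eq_zero.1 this ▸ a.2)
    · obtain ⟨y, hy, hby⟩ := hL.2 b.1 b.2 hb
      apply hu
      refine ⟨⟨y * (x - (a : Matrix (Fin n) (Fin n) F)), mul_mem (hLK hy) (sub_mem hx (hLK a.2))⟩, ?_⟩
      show (y * (x - (a : Matrix (Fin n) (Fin n) F))) *ᵥ v = u
      rw [← Matrix.mulVec_mulVec, Matrix.sub_mulVec, ← hab, add_sub_cancel_left, Matrix.mulVec_mulVec,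
        hL.1 y hy b.1 b.2, hby, Matrix.one_mulVec]
  obtain ⟨φ₀, hφ₀, hφle⟩ := Submodule.exists_le_ker_of_notMem hxnot
  let φ : V →ₗ[L] L := (φ₀ (x *ᵥ v))⁻¹ • φ₀
  have hφy : φ (x *ᵥ v) = 1 := by simp [φ, inv_mul_cancel₀ hφ₀]
  have hφv : φ v = 0 := by
    have := LinearMap.mem_ker.1 (hφle (Submodule.subset_span (Set.mem_insert v _)))
    simp [φ, this]
  have hφu : φ u = 0 := by
    have := LinearMap.mem_ker.1 (hφle (Submodule.subset_span (Set.mem_insert_of_mem v rfl)))
    simp [φ, this]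
  have hFL : ∀ (c : F) (w : V), (algebraMap F L c) • w = c • w := fun c w => by
    rw [hsmul, Subalgebra.coe_algebraMap, Matrix.algebraMap_eq_diagonal]
    ext i
    simp [Matrix.mulVec_diagonal]
    rfl
  let A : V →ₗ[F] V :=
    { toFun := fun w => φ w • u
      map_add' := fun a b => by simp [add_smul]
      map_smul' := fun c a => by
        rw [RingHom.id_apply, ← hFL c a, map_smul, smul_eq_mul, mul_smul, hFL] }
  set M := LinearMap.toMatrix' A with hM
  have hMw : ∀ w, M *ᵥ w = φ w • u := fun w => by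
    show (LinearMap.toMatrix' A) *ᵥ w = _
    rw [← Matrix.toLin'_apply, Matrix.toLin'_toMatrix']
    rfl
  have hMM : M * M = 0 := by
    refine Matrix.ext_of_mulVec_single fun i => ?_
    rw [← Matrix.mulVec_mulVec, hMw (M *ᵥ _), hMw, map_smul, hφu, smul_zero, zero_smul, Matrix.zero_mulVec]
  have hML : ∀ l ∈ L, M * l = l * M := by
    intro l hl
    refine Matrix.ext_of_mulVec_single fun i => ?_
    rw [← Matrix.mulVec_mulVec, ← Matrix.mulVec_mulVec, hMw, hMw]
    have : l *ᵥ Pi.single i (1 : F) = (⟨l, hl⟩ : L) • (Pi.single i (1 : F) : V) := rfl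
    rw [this, map_smul, smul_eq_mul, mul_smul]
    rfl
  let g : Matrix.GeneralLinearGroup (Fin n) F :=
    ⟨1 + M, 1 - M, by simp [mul_sub, add_mul, hMM], by simp [mul_add, sub_mul, hMM]⟩
  refine ⟨g, ?_, fun l hl => ?_, ?_⟩
  · obtain ⟨p, hp⟩ := CharP.exists F
    haveI : Fact p.Prime := ⟨CharP.char_is_prime F p⟩
    show Matrix.GeneralLinearGroup.det g = 1
    apply Units.ext
    show Matrix.det (1 + M) = 1
    have h1 : (1 + M) ^ p = 1 := by
      have h2 : ∀ k : ℕ, (1 + M) ^ k = 1 + (k : F) • M := by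
        intro k
        induction k with
        | zero => simp
        | succ k ih =>
          rw [pow_succ, ih, add_mul, one_mul, mul_add, mul_one, Matrix.smul_mul, hMM, smul_zero, add_zero,
            Nat.cast_succ, add_smul, one_smul]
          abel
      rw [h2, CharP.cast_eq_zero, zero_smul, add_zero]
    have h3 : Matrix.det (1 + M) ^ p = 1 ^ p := by rw [← Matrix.det_pow, h1, Matrix.det_one, one_pow]
    exact frobenius_inj F p h3
  · show (1 + M) * l = l * (1 + M)
    rw [add_mul, mul_add, one_mul, mul_one, hML l hl]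
  · intro hg
    have h1 : (1 + M) * x * (1 - M) ∈ K := (hg x).1 hx
    apply hu
    refine ⟨⟨(1 + M) * x * (1 - M) - x, sub_mem h1 hx⟩, ?_⟩
    show ((1 + M) * x * (1 - M) - x) *ᵥ v = u
    rw [Matrix.sub_mulVec, ← Matrix.mulVec_mulVec, ← Matrix.mulVec_mulVec, Matrix.sub_mulVec, Matrix.one_mulVec,
      hMw v, hφv, zero_smul, sub_zero, Matrix.add_mulVec, Matrix.one_mulVec, hMw, hφy, one_smul,
      add_sub_cancel_left]

theorem middle {K : Subalgebra F (Matrix (Fin n) (Fin n) F)} {r s : ℕ} (hK : Cfsg.Geo.IsFieldSubalgebra r K)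
    (hn : 0 < n) (h1s : 1 < s) (hsr : s < r) (hdvd : s ∣ r) :
    ∃ K₁ : Subalgebra F (Matrix (Fin n) (Fin n) F), IsDiv K₁ ∧ K₁ ≤ K ∧ (∃ y ∈ K₁, y ∉ (⊥ : Subalgebra F (Matrix (Fin n) (Fin n) F))) ∧
      (∃ x ∈ K, x ∉ K₁) ∧ Cfsg.Geo.subalgebraNormalizer K ≤ Cfsg.Geo.subalgebraNormalizer K₁ := by
  classical
  haveI : NeZero n := ⟨hn.ne'⟩
  have hfield : IsField K :=
    { exists_pair_ne := ⟨0, 1, fun h => zero_ne_one (α := Matrix (Fin n) (Fin n) F) (congrArg Subtype.val h)⟩
      mul_comm := fun a b => Subtype.ext (hK.comm a.1 a.2 b.1 b.2)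
      mul_inv_cancel := fun {a} ha => by
        obtain ⟨y, hy, hxy⟩ := hK.inv a.1 a.2 (fun h => ha (Subtype.ext h))
        exact ⟨⟨y, hy⟩, Subtype.ext hxy⟩ }
  letI : Field K := hfield.toField
  let e := Fintype.card F ^ s
  obtain ⟨p, hp⟩ := CharP.exists F
  haveI : Fact p.Prime := ⟨CharP.char_is_prime F p⟩
  obtain ⟨a, -, hq⟩ := FiniteField.card F p
  haveI : CharP K p := charP_of_injective_algebraMap (algebraMap F K).injective p
  have hadd : ∀ x y : K, (x + y) ^ e = x ^ e + y ^ e := by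
    intro x y
    show (x + y) ^ (Fintype.card F ^ s) = _
    rw [hq, ← pow_mul]
    have h2 := add_pow_char_pow x y (p := p) (n := (a : ℕ) * s)
    simp only [e, hq, ← pow_mul]
    exact h2
  have halg : ∀ c : F, (algebraMap F K c) ^ e = algebraMap F K c := fun c => by
    rw [← map_pow, FiniteField.pow_card_pow]
  let K₁ : Subalgebra F (Matrix (Fin n) (Fin n) F) :=
    { carrier := {x | x ∈ K ∧ x ^ e = x}
      mul_mem' := fun {x y} hx hy => ⟨mul_mem hx.1 hy.1, by
        rw [(show Commute x y from hK.comm x hx.1 y hy.1).mul_pow, hx.2, hy.2]⟩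
      one_mem' := ⟨one_mem K, one_pow e⟩
      add_mem' := fun {x y} hx hy => ⟨add_mem hx.1 hy.1, by
        have h2 := congrArg Subtype.val (hadd ⟨x, hx.1⟩ ⟨y, hy.1⟩)
        simp only [SubmonoidClass.coe_pow, Subalgebra.coe_add, Subalgebra.coe_pow] at h2
        rw [h2, hx.2, hy.2]⟩
      zero_mem' := ⟨zero_mem K, zero_pow (pow_ne_zero s Fintype.card_ne_zero)⟩
      algebraMap_mem' := fun c => ⟨K.algebraMap_mem c, by
        rw [← map_pow, FiniteField.pow_card_pow]⟩ }
  have hdiv : IsDiv K₁ := by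
    refine ⟨fun x hx y hy => hK.comm x hx.1 y hy.1, fun x hx hx0 => ?_⟩
    obtain ⟨y, hy, hxy⟩ := hK.inv x hx.1 hx0
    refine ⟨y, ⟨hy, ?_⟩, hxy⟩
    have h2 : x * y ^ e = 1 := by
      calc x * y ^ e = x ^ e * y ^ e := by rw [hx.2]
        _ = (x * y) ^ e := ((show Commute x y from hK.comm x hx.1 y hy).mul_pow e).symm
        _ = 1 := by rw [hxy, one_pow]
    calc y ^ e = (y * x) * y ^ e := by rw [← hK.comm x hx.1 y hy, hxy, one_mul]
      _ = y := by rw [mul_assoc, h2, mul_one]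
  -- count
  haveI : Fintype K := Fintype.ofFinite _
  have hcardK : Fintype.card K = Fintype.card F ^ r := by
    rw [Module.card_eq_pow_finrank (K := F) (V := K), hK.finrank_eq]
  obtain ⟨z, hz⟩ := IsCyclic.exists_ofOrder_eq_natCard (α := Kˣ)
  rw [Nat.card_units, Nat.card_eq_fintype_card, hcardK] at hz
  have hq2 : 1 < Fintype.card F := Fintype.one_lt_card
  have hd : Fintype.card F ^ s - 1 ∣ Fintype.card F ^ r - 1 := by
    obtain ⟨t, rfl⟩ := hdvd
    simpa [← pow_mul] using Nat.sub_dvd_pow_sub_pow (Fintype.card F ^ s) 1 t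
  obtain ⟨t, ht⟩ := hd
  have hpos : 0 < Fintype.card F ^ r - 1 := by
    have := Nat.one_lt_pow (by omega : r ≠ 0) hq2
    omega
  have ht0 : t ≠ 0 := by rintro rfl; rw [mul_zero] at ht; omega
  have hord : orderOf (z ^ t) = Fintype.card F ^ s - 1 := by
    rw [orderOf_pow' z ht0, hz, ht, Nat.gcd_mul_left_left, Nat.mul_div_left _ (Nat.pos_of_ne_zero ht0)]
  have hspos : 1 ≤ Fintype.card F ^ s := Nat.one_le_pow _ _ (by omega)
  refine ⟨K₁, hdiv, fun x hx => hx.1, ⟨((z ^ t : Kˣ) : K).1, ⟨((z ^ t : Kˣ) : K).2, ?_⟩, ?_⟩,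
    ⟨((z : Kˣ) : K).1, ((z : Kˣ) : K).2, ?_⟩, ?_⟩
  · have h1 : (z ^ t) ^ e = z ^ t := by
      conv_rhs => rw [← pow_one (z ^ t)]
      rw [pow_eq_pow_iff_modEq, hord]
      exact (Nat.modEq_iff_dvd' hspos).2 dvd_rfl |>.symm
    have h2 := congrArg (fun u : Kˣ => ((u : K) : Matrix (Fin n) (Fin n) F)) h1
    simpa [SubmonoidClass.coe_pow] using h2
  · intro hbot
    obtain ⟨c, hc⟩ := Algebra.mem_bot.1 hbot
    have h1 : ((z ^ t : Kˣ) : K) = algebraMap F K c := Subtype.ext hc.symm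
    have hc0 : c ≠ 0 := by
      rintro rfl
      rw [map_zero] at h1
      exact (z ^ t).ne_zero h1
    have h2 : (z ^ t) ^ (Fintype.card F - 1) = 1 := by
      apply Units.ext
      rw [Units.val_pow_eq_pow_val, h1, ← map_pow, FiniteField.pow_card_sub_one_eq_one c hc0, map_one,
        Units.val_one]
    have h3 := Nat.le_of_dvd (by omega) (orderOf_dvd_of_pow_eq_one h2)
    rw [hord] at h3
    have := Nat.pow_lt_pow_right hq2 h1s
    simp only [pow_one] at this
    omega
  · rintro ⟨-, h⟩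
    have h1 : z ^ e = z ^ 1 := by
      rw [pow_one]
      apply Units.ext
      rw [Units.val_pow_eq_pow_val]
      exact Subtype.ext (by simpa [SubmonoidClass.coe_pow] using h)
    rw [pow_eq_pow_iff_modEq, hz] at h1
    have h2 := Nat.le_of_dvd (by
      have := Nat.one_lt_pow (by omega : s ≠ 0) hq2
      omega) ((Nat.modEq_iff_dvd' hspos).1 h1.symm)
    have := Nat.pow_lt_pow_right hq2 hsr
    omega
  · intro g hg k
    have hpow : ∀ m : Matrix (Fin n) (Fin n) F,
        ((g : Matrix (Fin n) (Fin n) F) * m * ((g⁻¹ : Matrix.GeneralLinearGroup (Fin n) F) : Matrix (Fin n) (Fin n) F)) ^ e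
          = (g : Matrix (Fin n) (Fin n) F) * m ^ e * ((g⁻¹ : Matrix.GeneralLinearGroup (Fin n) F) : Matrix (Fin n) (Fin n) F) :=
      fun m => Units.conj_pow g m e
    show (k ∈ K ∧ k ^ e = k) ↔ (_ ∈ K ∧ _ ^ e = _)
    rw [hpow]
    refine and_congr (hg k) ⟨fun h => by rw [h], fun h => ?_⟩
    have h2 := congrArg (fun m => ((g⁻¹ : Matrix.GeneralLinearGroup (Fin n) F) : Matrix (Fin n) (Fin n) F) * m * (g : Matrix (Fin n) (Fin n) F)) h
    simpa [mul_assoc] using h2

/-- Let F be a finite field, n a positive integer and r a composite number (r > 1, not prime) that divides n with r < n. Let K be a subalgebra of the algebra of n × n matrices over F which is a field of degree r over F (commutative, every non-zero element invertible, of dimension r over F). Then the normaliser N of K in GL_n(F) (a group of type ΓL_{n/r}(F_{q^r})) is not a maximal subgroup of GL_n(F), and N ∩ SL_n(F) is not a maximal subgroup of SL_n(F): both lie properly inside the normaliser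 of an intermediate subfield of prime degree over F. -/
theorem result {F : Type*} [Field F]
    [Fintype F] (n r : ℕ) (hr1 : 1 < r) (hrp : ¬ r.Prime) (hrn : r ∣ n) (hlt : r < n)
    (K : Subalgebra F (Matrix (Fin n) (Fin n) F)) (hK : Cfsg.Geo.IsFieldSubalgebra r K) :
    ¬ IsCoatom (Cfsg.Geo.subalgebraNormalizer K) ∧
      ¬ Cfsg.Geo.IsMaximalIn (Cfsg.Geo.specialLinear (Fin n) F)
        (Cfsg.Geo.subalgebraNormalizer K ⊓ Cfsg.Geo.specialLinear (Fin n) F) := by
  obtain ⟨s, hsd, hs2, hsr⟩ : ∃ s, s ∣ r ∧ 2 ≤ s ∧ s < r := Nat.exists_dvd_of_not_prime2 hr1 hrp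
  have hn : 0 < n := by omega
  obtain ⟨K₁, hdiv, hle, ⟨y, hy, hyb⟩, ⟨x, hx, hxK⟩, hN⟩ := middle hK hn (by omega : 1 < s) hsr hsd
  have hdimK : Module.finrank F K < n := by rw [hK.finrank_eq]; exact hlt
  have hdim₁ : Module.finrank F K₁ < n :=
    lt_of_le_of_lt (Submodule.finrank_mono (s := K₁.toSubmodule) (t := K.toSubmodule) hle) hdimK
  have hbot : IsDiv (⊥ : Subalgebra F (Matrix (Fin n) (Fin n) F)) := by
    refine ⟨fun a ha b hb => ?_, fun a ha ha0 => ?_⟩
    · obtain ⟨c, rfl⟩ := Algebra.mem_bot.1 ha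
      exact Algebra.commutes c b
    · obtain ⟨c, rfl⟩ := Algebra.mem_bot.1 ha
      have hc : c ≠ 0 := fun h => ha0 (by rw [h, map_zero])
      exact ⟨_, Subalgebra.algebraMap_mem _ c⁻¹, by rw [← map_mul, mul_inv_cancel₀ hc, map_one]⟩
  obtain ⟨g, hg1, hg2, hg3⟩ := separate hdiv ⟨hK.comm, hK.inv⟩ hle x hx hxK hdimK
  have hgN : g ∈ Cfsg.Geo.subalgebraNormalizer K₁ := by
    intro k
    constructor
    · intro hk
      rw [hg2 k hk, mul_assoc, ← Units.val_mul, mul_inv_cancel, Units.val_one, mul_one]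
      exact hk
    · intro hk
      have h2 := hg2 _ hk
      have : k = (g : Matrix (Fin n) (Fin n) F) * k * ((g⁻¹ : Matrix.GeneralLinearGroup (Fin n) F) : Matrix (Fin n) (Fin n) F) := by
        have h3 := congrArg (fun m => ((g⁻¹ : Matrix.GeneralLinearGroup (Fin n) F) : Matrix (Fin n) (Fin n) F) * m) h2
        simpa [mul_assoc] using h3.symm
      rwa [← this] at hk
  obtain ⟨h, hh1, -, hh3⟩ := separate hbot hdiv bot_le y hy hyb hdim₁
  refine ⟨fun hco => ?_, fun hmx => ?_⟩
  · rcases hco.le_iff.1 hN with e | e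
    · exact hh3 (e ▸ Subgroup.mem_top h)
    · exact hg3 (e ▸ hgN)
  · rcases hmx.2 (Cfsg.Geo.subalgebraNormalizer K₁ ⊓ Cfsg.Geo.specialLinear (Fin n) F)
      (inf_le_inf_right _ hN) inf_le_right with e | e
    · have : g ∈ Cfsg.Geo.subalgebraNormalizer K₁ ⊓ Cfsg.Geo.specialLinear (Fin n) F := Subgroup.mem_inf.2 ⟨hgN, hg1⟩
      rw [e] at this
      exact hg3 (Subgroup.mem_inf.1 this).1
    · have : h ∈ Cfsg.Geo.specialLinear (Fin n) F := hh1
      rw [← e] at this
      exact hh3 (Subgroup.mem_inf.1 this).1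

end Cfsg.Agent.S5887
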