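import Cfsg.Statements.S5890
import Cfsg.Agent.Lib.PSL2.MaximalPGLMeet
-- import your own Cfsg.Agent.* helpers here

set_option autoImplicit false
open Cfsg

namespace Cfsg.Agent.S5890

/-- Let F be a finite field with q ≥ 4 elements, let L ≤ PGL₂(F) be the image of SL₂(F) (a copy of PSL₂(F), of index gcd(2, q − 1)), and let M be a maximal subgroup of PGL₂(F) that does not contain L. Suppose q ∉ {7, 9, 11} and that q is not a prime congruent to ±11 or ±19 modulo 40. Then M ∩ L is a maximal subgroup of L. (For the excluded q there are maximal subgroups of PGL₂(q) — dihedral groups of order 12 and 16 at q = 7, of order 20 and 16 at q = 9, of order 20 at q = 11, and S₄ at the excluded primes — whose intersection with L is not maximal in L.) -/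
theorem result {F : Type*} [Field F]
    [Fintype F] (h4 : 4 ≤ Fintype.card F) (h7 : Fintype.card F ≠ 7) (h9 : Fintype.card F ≠ 9) (h11 : Fintype.card F ≠ 11)
    (h40 : (Fintype.card F).Prime → Fintype.card F % 40 ∉ ({11, 19, 21, 29} : Finset ℕ))
    (M : Subgroup (Matrix.ProjGenLinGroup (Fin 2) F)) (hM : IsCoatom M)
    (hML : ¬ (Matrix.ProjGenLinGroup.mk.comp Matrix.SpecialLinearGroup.toGL).range ≤ M) :
    IsCoatom ((M ⊓ (Matrix.ProjGenLinGroup.mk.comp Matrix.SpecialLinearGroup.toGL).range).subgroupOf
      (Matrix.ProjGenLinGroup.mk.comp Matrix.SpecialLinearGroup.toGL).range) := by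
  obtain ⟨p, hp⟩ := CharP.exists F
  have : Fact p.Prime := ⟨CharP.char_is_prime F p⟩
  rw [← PSL2.Maximal.range_psi] at hML ⊢
  refine PSL2.Maximal.isCoatom_meet_of_core ?_
  rcases Nat.even_or_odd (Fintype.card F) with heven | hodd
  · exact PSL2.Maximal.isCoatom_core_even heven hM
  · have h5 : 5 ≤ Fintype.card F := by obtain ⟨j, hj⟩ := hodd; omega
    have hs : PSL2.Maximal.Setup M := ⟨hodd, h5, hM, hML⟩
    refine hs.isCoatom_core p h7 h9 h11 fun hq h8 => ?_
    have h := h40 (hq ▸ Fact.out)
    rw [hq] at h
    simp only [Finset.mem_insert, Finset.mem_singleton] at h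
    omega

end Cfsg.Agent.S5890
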