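import Cfsg.Statements.S5904
-- import your own Cfsg.Agent.* helpers here

set_option autoImplicit false
open scoped Pointwise
open Cfsg

namespace Cfsg.Agent.S5904

/-- Let Ω be a finite set with more than two elements and O ⊆ Ω a subset with exactly as many elements as its complement. Then the setwise stabilizer of O in the symmetric group on Ω is not a maximal subgroup (it is properly contained in the stabilizer of the partition {O, Ω ∖ O}, which is proper). -/
theorem result {Ω : Type*} [Fintype Ω] [DecidableEq Ω] (hΩ : 2 < Fintype.card Ω)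
    (O : Set Ω) (hO : Nat.card O = Nat.card ↥Oᶜ) :
    ¬ IsCoatom (MulAction.stabilizer (Equiv.Perm Ω) O) := by
  classical
  let P : Subgroup (Equiv.Perm Ω) := MulAction.stabilizer (Equiv.Perm Ω) ({O, Oᶜ} : Set (Set Ω))
  have hle : MulAction.stabilizer (Equiv.Perm Ω) O ≤ P := by
    intro g hg
    rw [MulAction.mem_stabilizer_iff] at hg ⊢
    rw [Set.smul_set_insert, Set.smul_set_singleton, hg, Set.smul_set_compl, hg]
  have hcard : Nat.card O + Nat.card ↥Oᶜ = Fintype.card Ω := by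
    have := Set.ncard_add_ncard_compl O
    rwa [Nat.card_eq_fintype_card, ← Nat.card_coe_set_eq, ← Nat.card_coe_set_eq] at this
  obtain ⟨o, ho, o', ho', hoo⟩ : ∃ o ∈ O, ∃ o' ∈ O, o ≠ o' := by
    refine (Set.one_lt_ncard_iff O.toFinite).1 ?_ |> fun ⟨a, b, ha, hb, hab⟩ => ⟨a, ha, b, hb, hab⟩
    rw [← Nat.card_coe_set_eq]
    omega
  obtain ⟨c, hc⟩ : Oᶜ.Nonempty := by
    rw [← Set.ncard_pos Oᶜ.toFinite, ← Nat.card_coe_set_eq]
    omega
  obtain ⟨e⟩ : Nonempty (↥O ≃ ↥Oᶜ) := Finite.card_eq.1 hO |> fun h => by exact h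
  obtain ⟨τ, hτ⟩ : ∃ τ : Equiv.Perm Ω, τ • O = Oᶜ := by
    let τ : Equiv.Perm Ω := (Equiv.Set.sumCompl O).symm.trans ((Equiv.sumComm _ _).trans
      ((Equiv.sumCongr e.symm e).trans (Equiv.Set.sumCompl O)))
    have hτO : ∀ a ∈ O, τ a ∈ Oᶜ := fun a ha => by
      simp [τ, Equiv.Set.sumCompl_symm_apply_of_mem ha]
    refine ⟨τ, Set.eq_of_subset_of_ncard_le ?_ ?_ Oᶜ.toFinite⟩
    · rintro _ ⟨a, ha, rfl⟩
      exact hτO a ha
    · rw [Set.ncard_smul_set, ← Nat.card_coe_set_eq, ← Nat.card_coe_set_eq, hO]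
  intro hco
  rcases hco.le_iff.1 hle with h | h
  · have hmem : Equiv.swap o c ∈ P := h ▸ Subgroup.mem_top _
    have h2 : Equiv.swap o c • O ∈ ({O, Oᶜ} : Set (Set Ω)) := by
      rw [MulAction.mem_stabilizer_iff] at hmem
      rw [← hmem]
      exact Set.smul_mem_smul_set (Set.mem_insert _ _)
    have h3 : c ∈ Equiv.swap o c • O := ⟨o, ho, Equiv.swap_apply_left o c⟩
    have h4 : o' ∈ Equiv.swap o c • O := ⟨o', ho', Equiv.swap_apply_of_ne_of_ne hoo.symm (fun h => hc (h ▸ ho'))⟩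
    rcases h2 with h2 | h2
    · rw [h2] at h3; exact hc h3
    · rw [Set.mem_singleton_iff.1 h2] at h4; exact h4 ho'
  · have hmem : τ ∈ P := by
      rw [MulAction.mem_stabilizer_iff, Set.smul_set_insert, Set.smul_set_singleton, hτ,
        Set.smul_set_compl, hτ, compl_compl, Set.pair_comm]
    rw [h, MulAction.mem_stabilizer_iff, hτ] at hmem
    have : o ∈ Oᶜ := hmem.symm ▸ ho
    exact this ho

end Cfsg.Agent.S5904
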