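import Cfsg.Statements.S5894
import Cfsg.Agent.S5904
-- import your own Cfsg.Agent.* helpers here

set_option autoImplicit false
open Cfsg

namespace Cfsg.Agent.S5894

open scoped Pointwise

/-- For every m ≥ 2 the symmetric group on 2m letters has a maximal subgroup M of index 2m together with a maximal subgroup H of M that is not second maximal: some maximal subgroup K of the symmetric group contains H without H being maximal in K. (One may take M the stabiliser of a letter, H ≅ S_m × S_{m−1} inside it, and K ≅ S_m ≀ S₂ the stabiliser of a partition into two m-sets, with H < S_m × S_m < K.) So the prime-index hypothesis in the second-maximality criterion cannot be relaxed to any even index ≥ 4. -/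
theorem result (m : ℕ) (hm : 2 ≤ m) :
    ∃ M H K : Subgroup (Equiv.Perm (Fin (2 * m))), IsCoatom M ∧ M.index = 2 * m ∧ H ≤ M ∧ IsCoatom (H.subgroupOf M) ∧
      IsCoatom K ∧ H ≤ K ∧ ¬ IsCoatom (H.subgroupOf K) := by
  classical
  haveI : NeZero (2 * m) := ⟨by omega⟩
  haveI : Nontrivial (Fin (2 * m)) := Fin.nontrivial_iff_two_le.2 (by omega)
  let a : Fin (2 * m) := 0
  let O : Set (Fin (2 * m)) := {x | x.val < m}
  have haO : a ∈ O := by show (0 : ℕ) < m; omega
  let M := MulAction.stabilizer (Equiv.Perm (Fin (2 * m))) a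
  let S := MulAction.stabilizer (Equiv.Perm (Fin (2 * m))) O
  have hM : IsCoatom M := MulAction.IsPreprimitive.isCoatom_stabilizer_of_isPreprimitive (Equiv.Perm (Fin (2 * m))) a
  have hO : O.ncard = m := by
    have : O = Set.range (Fin.castLE (by omega : m ≤ 2 * m)) := by
      ext x
      refine ⟨fun h => ⟨⟨x.val, h⟩, rfl⟩, ?_⟩
      rintro ⟨y, rfl⟩
      exact y.2
    rw [this, Set.ncard_range_of_injective (Fin.castLE_injective _), Nat.card_fin]
  have hOc : Oᶜ.ncard = m := by
    have := Set.ncard_add_ncard_compl O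
    rw [Nat.card_fin] at this
    omega
  have hSnc : ¬ IsCoatom S := Cfsg.Agent.S5904.result (by rw [Fintype.card_fin]; omega) O
    (by rw [Nat.card_coe_set_eq, Nat.card_coe_set_eq, hO, hOc])
  have hStop : S ≠ ⊤ := by
    intro h
    obtain ⟨c, hc⟩ : Oᶜ.Nonempty := by rw [← Set.ncard_pos Oᶜ.toFinite]; omega
    have hmem : Equiv.swap a c ∈ S := h ▸ Subgroup.mem_top _
    have : c ∈ Equiv.swap a c • O := ⟨a, haO, Equiv.swap_apply_left a c⟩
    rw [MulAction.mem_stabilizer_iff.1 hmem] at this
    exact hc this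
  obtain ⟨K, hK, hSK⟩ := (eq_top_or_exists_le_coatom S).resolve_left hStop
  refine ⟨M, M ⊓ S, K, hM, ?_, inf_le_left, ?_, hK, inf_le_right.trans hSK, ?_⟩
  · rw [MulAction.index_stabilizer_of_transitive, Nat.card_fin]
  · -- identify `M` with the symmetric group on the other points
    let β := {x : Fin (2 * m) // x ≠ a}
    let φ : Equiv.Perm β →* M := MonoidHom.codRestrict (Equiv.Perm.ofSubtype) M
      (fun σ => Equiv.Perm.ofSubtype_apply_of_not_mem σ (fun h => h rfl))
    have hφ : Function.Bijective φ := by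
      refine ⟨fun x y h => Equiv.Perm.ofSubtype_injective (congrArg Subtype.val h), fun g => ?_⟩
      have hga : (g : Equiv.Perm (Fin (2 * m))) a = a := g.2
      have hiff : ∀ x, (g : Equiv.Perm (Fin (2 * m))) x ≠ a ↔ x ≠ a := fun x => by
        constructor
        · rintro h rfl; exact h hga
        · intro h e; exact h ((g : Equiv.Perm (Fin (2 * m))).injective (e.trans hga.symm))
      refine ⟨(g : Equiv.Perm (Fin (2 * m))).subtypePerm hiff, Subtype.ext ?_⟩
      exact Equiv.Perm.ofSubtype_subtypePerm _ (fun x hx h => hx (h ▸ hga))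
    let e := MulEquiv.ofBijective φ hφ
    let s : Set β := {x | x.1 ∈ O}
    have himg : Subtype.val '' s = O \ {a} := by
      ext x
      constructor
      · rintro ⟨y, hy, rfl⟩; exact ⟨hy, y.2⟩
      · rintro ⟨h1, h2⟩; exact ⟨⟨x, h2⟩, h1, rfl⟩
    have hs : s.ncard = m - 1 := by
      rw [← Set.ncard_image_of_injective s Subtype.val_injective, himg,
        Set.ncard_sdiff (by simpa using haO) (Set.toFinite _), hO, Set.ncard_singleton]
    have hβ : Nat.card β = 2 * m - 1 := by
      simp [β, Nat.card_eq_fintype_card, Fintype.card_subtype_compl]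
    have hsc : sᶜ.ncard = m := by
      have := Set.ncard_add_ncard_compl s
      omega
    have hco : IsCoatom (MulAction.stabilizer (Equiv.Perm β) s) :=
      Equiv.Perm.isCoatom_stabilizer (by rw [← Set.ncard_pos s.toFinite]; omega)
        (by rw [← Set.ncard_pos sᶜ.toFinite]; omega) (by omega)
    have heq : (MulAction.stabilizer (Equiv.Perm β) s).map e.toMonoidHom = (M ⊓ S).subgroupOf M := by
      ext g
      obtain ⟨σ, rfl⟩ := e.surjective g
      have hcoe : ((e σ : M) : Equiv.Perm (Fin (2 * m))) = Equiv.Perm.ofSubtype σ := rfl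
      constructor
      · rintro ⟨τ, hτ, hτσ⟩
        obtain rfl : τ = σ := e.injective hτσ
        rw [SetLike.mem_coe, MulAction.mem_stabilizer_set_iff_smul_set_subset s.toFinite] at hτ
        refine Subgroup.mem_inf.2 ⟨(e τ).2, ?_⟩
        rw [MulAction.mem_stabilizer_set_iff_smul_set_subset O.toFinite]
        rintro _ ⟨x, hx, rfl⟩
        show Equiv.Perm.ofSubtype τ x ∈ O
        by_cases hxa : x = a
        · subst hxa; rw [Equiv.Perm.ofSubtype_apply_of_not_mem τ (fun h => h rfl)]; exact haO
        · rw [Equiv.Perm.ofSubtype_apply_of_mem τ hxa]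
          exact hτ ⟨⟨x, hxa⟩, hx, rfl⟩
      · intro h
        refine ⟨σ, ?_, rfl⟩
        rw [SetLike.mem_coe, MulAction.mem_stabilizer_set_iff_smul_set_subset s.toFinite]
        rintro _ ⟨x, hx, rfl⟩
        have h2 := (MulAction.mem_stabilizer_set_iff_smul_set_subset O.toFinite).1 (Subgroup.mem_inf.1 h).2
          ⟨x.1, hx, rfl⟩
        show (σ x).1 ∈ O
        have h3 : Equiv.Perm.ofSubtype σ x.1 ∈ O := h2
        rwa [Equiv.Perm.ofSubtype_apply_of_mem σ x.2] at h3
    rw [← heq]
    exact (OrderIso.isCoatom_iff e.mapSubgroup _).2 hco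
  · intro h
    have hSne : S ≠ K := fun e => hSnc (e ▸ hK)
    have hlt : (M ⊓ S).subgroupOf K < S.subgroupOf K := by
      refine lt_of_le_of_ne (Subgroup.comap_mono inf_le_right) (fun e => ?_)
      rw [Subgroup.subgroupOf_inj, inf_eq_left.2 (inf_le_right.trans hSK), inf_eq_left.2 hSK, inf_eq_right] at e
      -- `S` does not fix `a`
      obtain ⟨b, hbO, hba⟩ : ∃ b ∈ O, b ≠ a := ⟨⟨1, by omega⟩, by show (1 : ℕ) < m; omega,
        fun e => by simp [a, Fin.ext_iff] at e⟩
      have hsw : Equiv.swap a b ∈ S := by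
        rw [MulAction.mem_stabilizer_set_iff_smul_set_subset O.toFinite]
        rintro _ ⟨x, hx, rfl⟩
        show Equiv.swap a b x ∈ O
        rcases eq_or_ne x a with rfl | h1
        · rwa [Equiv.swap_apply_left]
        rcases eq_or_ne x b with rfl | h2
        · rwa [Equiv.swap_apply_right]
        · rwa [Equiv.swap_apply_of_ne_of_ne h1 h2]
      have h4 : Equiv.swap a b a = a := e hsw
      rw [Equiv.swap_apply_left] at h4
      exact hba h4
    exact hSne (le_antisymm hSK (Subgroup.subgroupOf_eq_top.1 (h.2 _ hlt)))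

end Cfsg.Agent.S5894
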