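import Cfsg.Statements.S5895
-- import your own Cfsg.Agent.* helpers here

set_option autoImplicit false
open Cfsg

namespace Cfsg.Agent.S5895

/-- `C` leaves only the trivial subspaces invariant -/
def IrrOn {k V : Type*} [Field k] [AddCommGroup V] [Module k V] (C : Subgroup (V ≃ₗ[k] V)) : Prop :=
  ∀ W : Submodule k V, (∀ c ∈ C, ∀ w ∈ W, c w ∈ W) → W = ⊥ ∨ W = ⊤

/-- For every prime p and every d ≥ 2 there is a finite group G with a maximal subgroup M of index p^d and a maximal subgroup H of M that is not second maximal in G: some maximal subgroup K of G contains H without H being maximal in K. (One may take G the affine group V ⋊ GL(V) of V = 𝔽_p^d, M = GL(V), H the stabiliser in M of a line W of V, and K = V ⋊ H, with H < W ⋊ H < K.) So the prime-index hypothesis in the second-maximality criterion cannot be relaxed to prime-power index. -/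
theorem result (p d : ℕ) (hp : p.Prime)
    (hd : 2 ≤ d) :
    ∃ (G : Type) (_ : Group G) (_ : Finite G) (M H K : Subgroup G), IsCoatom M ∧ M.index = p ^ d ∧ H ≤ M ∧
      IsCoatom (H.subgroupOf M) ∧ IsCoatom K ∧ H ≤ K ∧ ¬ IsCoatom (H.subgroupOf K) := by
  classical
  haveI : Fact p.Prime := ⟨hp⟩
  let V := Fin d → ZMod p
  haveI : Finite (V ≃ₗ[ZMod p] V) := Finite.of_injective (fun e => (e : V → V)) DFunLike.coe_injective
  haveI : Finite (V ≃ᵃ[ZMod p] V) := Finite.of_injective (fun e => (e : V → V)) DFunLike.coe_injective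
  -- the full linear group is irreducible
  have htop : IrrOn (⊤ : Subgroup (V ≃ₗ[ZMod p] V)) := by
    intro W hW
    rcases eq_or_ne W ⊥ with h | h
    · exact Or.inl h
    refine Or.inr ?_
    obtain ⟨w, hw, hw0⟩ := Submodule.exists_mem_ne_zero_of_ne_bot h
    -- transvections move `x` to `x + x i • single j`
    have hstep : ∀ i j : Fin d, i ≠ j → ∀ x ∈ W, x i • (Pi.single j 1 : V) ∈ W := by
      intro i j hij x hx
      let f : V →ₗ[ZMod p] V := (LinearMap.proj i : V →ₗ[ZMod p] ZMod p).smulRight (Pi.single j 1 : V)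
      have hff : f.comp f = 0 := by
        refine LinearMap.ext fun y => ?_
        show (y i • (Pi.single j 1 : V)) i • (Pi.single j 1 : V) = 0
        have : (Pi.single j 1 : V) i = 0 := Pi.single_eq_of_ne hij _
        rw [Pi.smul_apply, this, smul_zero, zero_smul]
      let e : V ≃ₗ[ZMod p] V := LinearEquiv.ofLinear (LinearMap.id + f) (LinearMap.id - f)
        (by simp [LinearMap.add_comp, LinearMap.comp_sub, hff])
        (by simp [LinearMap.sub_comp, LinearMap.comp_add, hff])
      have := W.sub_mem (hW e (Subgroup.mem_top e) x hx) hx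
      have he : e x - x = x i • (Pi.single j 1 : V) := add_sub_cancel_left x (f x)
      rwa [he] at this
    obtain ⟨i, hi⟩ := Function.ne_iff.1 hw0
    haveI : Nontrivial (Fin d) := Fin.nontrivial_iff_two_le.2 hd
    have hothers : ∀ j, i ≠ j → (Pi.single j 1 : V) ∈ W := fun j hj => by
      have := W.smul_mem (w i)⁻¹ (hstep i j hj w hw)
      rwa [smul_smul, inv_mul_cancel₀ hi, one_smul] at this
    have hall : ∀ j, (Pi.single j 1 : V) ∈ W := by
      intro j
      rcases eq_or_ne i j with rfl | hj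
      · obtain ⟨k, hk⟩ := exists_ne i
        simpa using hstep k i hk _ (hothers k hk.symm)
      · exact hothers j hj
    refine eq_top_iff.2 fun v _ => ?_
    rw [← Finset.univ_sum_single v]
    refine W.sum_mem fun j _ => ?_
    have : (Pi.single j (v j) : V) = v j • (Pi.single j 1 : V) := by
      rw [← Pi.single_smul]; simp
    rw [this]
    exact W.smul_mem _ (hall j)
  obtain ⟨C, hC, hCmin⟩ := Set.Finite.exists_minimal
    (Set.toFinite {C : Subgroup (V ≃ₗ[ZMod p] V) | IrrOn C}) ⟨⊤, htop⟩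
  have hdim : Module.finrank (ZMod p) V = d := Module.finrank_fin_fun _
  have hCne : C ≠ ⊥ := by
    intro h
    obtain ⟨v, hv⟩ : ∃ v : V, v ≠ 0 := by
      haveI : Nontrivial V := Module.nontrivial_of_finrank_pos (R := ZMod p) (by omega)
      exact exists_ne 0
    rcases hC (Submodule.span (ZMod p) {v}) (fun c hc w hw => by
      rw [h, Subgroup.mem_bot] at hc; subst hc; exact hw) with h1 | h1
    · exact hv (Submodule.span_singleton_eq_bot.1 h1)
    · have := finrank_span_singleton (K := ZMod p) hv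
      rw [h1, finrank_top, hdim] at this
      omega
  haveI : Nontrivial C := (Subgroup.nontrivial_iff_ne_bot C).2 hCne
  obtain ⟨H₀, hH₀, -⟩ := (eq_top_or_exists_le_coatom (⊥ : Subgroup C)).resolve_left bot_ne_top
  obtain ⟨W, hWinv, hWb, hWt⟩ : ∃ W : Submodule (ZMod p) V,
      (∀ c ∈ H₀, ∀ w ∈ W, (c : V ≃ₗ[ZMod p] V) w ∈ W) ∧ W ≠ ⊥ ∧ W ≠ ⊤ := by
    by_contra hc
    push_neg at hc
    have hirr : IrrOn (H₀.map C.subtype) := by
      intro W hW
      rcases eq_or_ne W ⊥ with h | h
      · exact Or.inl h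
      · exact Or.inr (hc W (fun c hc' w hw => hW _ ⟨c, hc', rfl⟩ w hw) h)
    have hle : C ≤ H₀.map C.subtype := hCmin hirr (Subgroup.map_subtype_le H₀)
    apply hH₀.1
    refine eq_top_iff.2 fun c _ => ?_
    obtain ⟨c', hc', he⟩ := hle c.2
    exact (Subtype.ext he : c' = c) ▸ hc'
  let G₀ : Subgroup (V ≃ᵃ[ZMod p] V) := C.comap AffineEquiv.linearHom
  let G := ↥G₀
  let π : G →* C := (AffineEquiv.linearHom.comp G₀.subtype).codRestrict C (fun g => g.2)
  have hadd : ∀ (g : G) (v : V), (g : V ≃ᵃ[ZMod p] V) v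
      = (π g : V ≃ₗ[ZMod p] V) v + (g : V ≃ᵃ[ZMod p] V) 0 := by
    intro g v
    have := (g : V ≃ᵃ[ZMod p] V).map_vadd 0 v
    rw [vadd_eq_add, vadd_eq_add, add_zero] at this
    exact this
  let τ : V → G := fun v => ⟨AffineEquiv.constVAdd (ZMod p) V v, by
    show (AffineEquiv.constVAdd (ZMod p) V v).linear ∈ C
    rw [AffineEquiv.linear_constVAdd]; exact one_mem C⟩
  have hτ0 : ∀ v, (τ v : V ≃ᵃ[ZMod p] V) 0 = v := fun v => by simp [τ]
  have hτπ : ∀ v, π (τ v) = 1 := fun v => Subtype.ext (AffineEquiv.linear_constVAdd (ZMod p) V v)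
  let lift : C → G := fun c => ⟨(c : V ≃ₗ[ZMod p] V).toAffineEquiv, c.2⟩
  have hl0 : ∀ c, (lift c : V ≃ᵃ[ZMod p] V) 0 = 0 := fun c => by simp [lift]
  have hlπ : ∀ c, π (lift c) = c := fun c => Subtype.ext rfl
  have hπ : Function.Surjective π := fun c => ⟨lift c, hlπ c⟩
  letI : MulAction G V :=
    { smul := fun g v => (g : V ≃ᵃ[ZMod p] V) v
      one_smul := fun _ => rfl
      mul_smul := fun _ _ _ => rfl }
  let M : Subgroup G := MulAction.stabilizer G (0 : V)
  have hMmem : ∀ g : G, g ∈ M ↔ (g : V ≃ᵃ[ZMod p] V) 0 = 0 := fun g => Iff.rfl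
  have hext : ∀ g h : G, π g = π h → (g : V ≃ᵃ[ZMod p] V) 0 = (h : V ≃ᵃ[ZMod p] V) 0 → g = h := by
    intro g h h1 h2
    refine Subtype.ext (AffineEquiv.ext fun v => ?_)
    rw [hadd g v, hadd h v, h1, h2]
  haveI : MulAction.IsPretransitive G V :=
    ⟨fun x y => ⟨τ (y - x), show (AffineEquiv.constVAdd (ZMod p) V (y - x)) x = y by simp⟩⟩
  have hM : IsCoatom M := by
    refine ⟨fun h => ?_, fun T hT => ?_⟩
    · obtain ⟨v, hv⟩ : ∃ v : V, v ≠ 0 := by
        haveI : Nontrivial V := Module.nontrivial_of_finrank_pos (R := ZMod p) (by omega)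
        exact exists_ne 0
      exact hv ((hτ0 v).symm.trans ((hMmem _).1 (h ▸ Subgroup.mem_top (τ v))))
    have hsplit : ∀ g : G, g = τ ((g : V ≃ᵃ[ZMod p] V) 0) * lift (π g) := by
      intro g
      refine hext _ _ ?_ ?_
      · rw [map_mul, hτπ, hlπ, one_mul]
      · rw [Subgroup.coe_mul, AffineEquiv.coe_mul, Function.comp_apply, hl0, hτ0]
    have hτadd : ∀ u v, τ (u + v) = τ u * τ v := fun u v => by
      refine hext _ _ (by rw [map_mul, hτπ, hτπ, hτπ, one_mul]) ?_
      rw [Subgroup.coe_mul, AffineEquiv.coe_mul, Function.comp_apply, hτ0, hτ0, hadd (τ u) v,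
        hτπ, hτ0, add_comm]
      rfl
    let U : AddSubgroup V :=
      { carrier := {v | τ v ∈ T}
        add_mem' := fun ha hb => by show τ _ ∈ T; rw [hτadd]; exact mul_mem ha hb
        zero_mem' := by
          show τ 0 ∈ T
          have : τ 0 = 1 := hext _ _ (by rw [hτπ, map_one]) (by rw [hτ0]; rfl)
          rw [this]; exact one_mem T
        neg_mem' := fun {a} ha => by
          show τ (-a) ∈ T
          have h1 : τ (-a) * τ a = 1 := by
            rw [← hτadd, neg_add_cancel]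
            exact hext _ _ (by rw [hτπ, map_one]) (by rw [hτ0]; rfl)
          rw [eq_inv_of_mul_eq_one_left h1]; exact inv_mem ha }
    have hinv : ∀ c ∈ C, ∀ w ∈ AddSubgroup.toZModSubmodule p U, c w ∈ AddSubgroup.toZModSubmodule p U := by
      intro c hc w hw
      show τ (c w) ∈ T
      have hm := hT.le ((hMmem _).2 (hl0 ⟨c, hc⟩))
      have : τ (c w) = lift ⟨c, hc⟩ * τ w * (lift ⟨c, hc⟩)⁻¹ := by
        rw [eq_mul_inv_iff_mul_eq]
        refine hext _ _ (by rw [map_mul, map_mul, hτπ, hτπ, hlπ, one_mul, mul_one]) ?_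
        rw [Subgroup.coe_mul, Subgroup.coe_mul, AffineEquiv.coe_mul, AffineEquiv.coe_mul,
          Function.comp_apply, Function.comp_apply, hl0, hτ0, hτ0]
        simp [lift]
      rw [this]
      exact mul_mem (mul_mem hm hw) (inv_mem hm)
    rcases hC (AddSubgroup.toZModSubmodule p U) hinv with h | h
    · exfalso
      obtain ⟨t, ht, htM⟩ := SetLike.exists_of_lt hT
      have hmem : τ ((t : V ≃ᵃ[ZMod p] V) 0) ∈ T := by
        have := mul_mem ht (inv_mem (hT.le ((hMmem _).2 (hl0 (π t)))))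
        rwa [← eq_mul_inv_of_mul_eq (hsplit t).symm] at this
      have : (t : V ≃ᵃ[ZMod p] V) 0 ∈ AddSubgroup.toZModSubmodule p U := hmem
      rw [h, Submodule.mem_bot] at this
      exact htM ((hMmem t).2 this)
    · refine eq_top_iff.2 fun g _ => ?_
      rw [hsplit g]
      refine mul_mem ?_ (hT.le ((hMmem _).2 (hl0 _)))
      have : (g : V ≃ᵃ[ZMod p] V) 0 ∈ AddSubgroup.toZModSubmodule p U := h ▸ Submodule.mem_top
      exact this
  let K : Subgroup G := H₀.comap π
  let L : Subgroup G :=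
    { carrier := {g | π g ∈ H₀ ∧ (g : V ≃ᵃ[ZMod p] V) 0 ∈ W}
      one_mem' := ⟨by rw [map_one]; exact one_mem _, W.zero_mem⟩
      mul_mem' := fun {g h} hg hh => ⟨by rw [map_mul]; exact mul_mem hg.1 hh.1, by
        rw [Subgroup.coe_mul, AffineEquiv.coe_mul, Function.comp_apply, hadd g]
        exact W.add_mem (hWinv _ hg.1 _ hh.2) hg.2⟩
      inv_mem' := fun {g} hg => ⟨by rw [map_inv]; exact inv_mem hg.1, by
        have h0 : (g⁻¹ : G).1 ((g : V ≃ᵃ[ZMod p] V) 0) = 0 := by
          show ((g : V ≃ᵃ[ZMod p] V)⁻¹) ((g : V ≃ᵃ[ZMod p] V) 0) = 0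
          exact AffineEquiv.symm_apply_apply _ _
        rw [hadd g⁻¹] at h0
        rw [eq_neg_of_add_eq_zero_right h0]
        exact W.neg_mem (hWinv _ (by rw [map_inv]; exact inv_mem hg.1) _ hg.2)⟩ }
  have hK : IsCoatom K := Subgroup.isCoatom_comap_of_surjective hπ hH₀
  refine ⟨G, inferInstance, inferInstance, M, M ⊓ K, K, hM, ?_, inf_le_left, ?_, hK, inf_le_right, ?_⟩
  · rw [MulAction.index_stabilizer_of_transitive, Nat.card_eq_fintype_card, Fintype.card_fun, ZMod.card,
      Fintype.card_fin]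
  · have he : (M ⊓ K).subgroupOf M = H₀.comap (π.comp M.subtype) := by
      ext g; simp [Subgroup.mem_subgroupOf, K]
    rw [he]
    exact Subgroup.isCoatom_comap_of_surjective (φ := π.comp M.subtype)
      (fun c => ⟨⟨lift c, (hMmem _).2 (hl0 c)⟩, hlπ c⟩) hH₀
  · intro h
    obtain ⟨w, hw, hw0⟩ := Submodule.exists_mem_ne_zero_of_ne_bot hWb
    have hlt : (M ⊓ K).subgroupOf K < L.subgroupOf K := by
      refine lt_of_le_of_ne ?_ ?_
      · intro g hg
        have hg' := Subgroup.mem_inf.1 (Subgroup.mem_subgroupOf.1 hg)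
        exact ⟨g.2, by rw [show ((K.subtype g).1 : V ≃ᵃ[ZMod p] V) 0 = 0 from (hMmem _).1 hg'.1]; exact W.zero_mem⟩
      · intro e
        have hτK : τ w ∈ K := by show π (τ w) ∈ H₀; rw [hτπ]; exact one_mem _
        have : (⟨τ w, hτK⟩ : K) ∈ (M ⊓ K).subgroupOf K := by
          rw [e]; exact ⟨hτK, by show ((τ w : G) : V ≃ᵃ[ZMod p] V) 0 ∈ W; rw [hτ0]; exact hw⟩
        exact hw0 ((hτ0 w).symm.trans ((hMmem _).1 (Subgroup.mem_inf.1 this).1))
    obtain ⟨v, hv⟩ : ∃ v, v ∉ W := by
      by_contra hc; push_neg at hc; exact hWt (eq_top_iff.2 fun v _ => hc v)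
    have hτK : τ v ∈ K := by show π (τ v) ∈ H₀; rw [hτπ]; exact one_mem _
    have : (⟨τ v, hτK⟩ : K) ∈ L.subgroupOf K := h.2 _ hlt ▸ Subgroup.mem_top _
    exact hv (hτ0 v ▸ this.2)

end Cfsg.Agent.S5895
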