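import Cfsg.Statements.S5896
-- import your own Cfsg.Agent.* helpers here

set_option autoImplicit false
open Cfsg

namespace Cfsg.Agent.S5896

open scoped commutatorElement

abbrev C2 : Type := Multiplicative (ZMod 2)
abbrev SS (n : ℕ) : Type := IteratedWreathProduct C2 n

def baseHom (A Q : Type*) [Group A] [Group Q] : (Q → A) →* A ≀ᵣ Q where
  toFun f := ⟨f, 1⟩
  map_one' := rfl
  map_mul' f g := by ext <;> simp

theorem pi_solvable {ι : Type*} {S : Type*} [Group S] (hS : Group.IsSolvable S) :
    Group.IsSolvable (ι → S) := by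
  obtain ⟨n, hn⟩ := hS.solvable
  refine ⟨⟨n, eq_bot_iff.2 fun f hf => ?_⟩⟩
  refine Subgroup.mem_bot.2 (funext fun i => ?_)
  have := map_derivedSeries_le_derivedSeries (Pi.evalMonoidHom (fun _ : ι => S) i) n ⟨f, hf, rfl⟩
  rw [hn] at this
  exact Subgroup.mem_bot.1 this

theorem wreath_solvable {A Q : Type*} [Group A] [CommGroup Q] (hA : Group.IsSolvable A) :
    Group.IsSolvable (A ≀ᵣ Q) := by
  haveI := pi_solvable (ι := Q) hA
  refine Group.isSolvable_of_ker_le_range (baseHom A Q) RegularWreathProduct.rightHom fun x hx => ⟨x.left, ?_⟩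
  refine RegularWreathProduct.ext rfl ?_
  exact (MonoidHom.mem_ker.1 hx).symm

theorem derived_step {A Q : Type*} [Group A] [Group Q] [Nontrivial Q] (k : ℕ) :
    derivedSeries A k ≤ ((derivedSeries (A ≀ᵣ Q) (k + 1)).comap (baseHom A Q)).map
      (Pi.evalMonoidHom (fun _ : Q => A) 1) := by
  classical
  induction k with
  | zero =>
    intro a _
    obtain ⟨t, ht⟩ := exists_ne (1 : Q)
    refine ⟨Pi.mulSingle 1 a * fun x => (Pi.mulSingle 1 a : Q → A)⁻¹ (t⁻¹ * x), ?_, ?_⟩
    · show baseHom A Q _ ∈ derivedSeries (A ≀ᵣ Q) (0 + 1)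
      have : baseHom A Q (Pi.mulSingle 1 a * fun x => (Pi.mulSingle 1 a : Q → A)⁻¹ (t⁻¹ * x))
          = ⁅baseHom A Q (Pi.mulSingle 1 a), (RegularWreathProduct.inl t : A ≀ᵣ Q)⁆ := by
        refine RegularWreathProduct.ext (funext fun x => ?_) ?_
        · simp [commutatorElement_def, baseHom]
        · simp [commutatorElement_def, baseHom]
      rw [this, derivedSeries_succ, derivedSeries_zero]
      exact Subgroup.commutator_mem_commutator (Subgroup.mem_top _) (Subgroup.mem_top _)
    · simp [ht]
  | succ k ih =>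
    rw [derivedSeries_succ]
    refine (Subgroup.commutator_mono ih ih).trans ?_
    rw [← Subgroup.map_commutator]
    refine Subgroup.map_mono (Subgroup.map_le_iff_le_comap.1 ?_)
    rw [Subgroup.map_commutator, derivedSeries_succ _ (k + 1)]
    exact Subgroup.commutator_mono (Subgroup.map_comap_le _ _) (Subgroup.map_comap_le _ _)

theorem SS_props : ∀ n : ℕ, Finite (SS n) ∧ Group.IsSolvable (SS n) ∧
    ∀ k < n, derivedSeries (SS n) k ≠ ⊥
  | 0 => ⟨inferInstanceAs (Finite PUnit), ⟨⟨0, Subsingleton.elim (α := Subgroup PUnit) _ _⟩⟩,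
      fun k hk => absurd hk (Nat.not_lt_zero k)⟩
  | n + 1 => by
    obtain ⟨hf, hs, hd⟩ := SS_props n
    have hf' : Finite ((SS n) ≀ᵣ C2) := inferInstance
    refine ⟨hf', wreath_solvable hs, fun k hk h => ?_⟩
    replace h : derivedSeries ((SS n) ≀ᵣ C2) k = ⊥ := h
    cases k with
    | zero =>
      rw [derivedSeries_zero] at h
      have h1 : (RegularWreathProduct.inl (Multiplicative.ofAdd (1 : ZMod 2)) : (SS n) ≀ᵣ C2) = 1 :=
        Subgroup.mem_bot.1 (h ▸ Subgroup.mem_top _)
      have h2 := congrArg RegularWreathProduct.right h1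
      simp at h2
    | succ k =>
      refine hd k (by omega) (eq_bot_iff.2 ((derived_step (Q := C2) k).trans ?_))
      rw [h]
      rintro _ ⟨f, hf, rfl⟩
      refine Subgroup.mem_bot.2 ?_
      have := congrArg RegularWreathProduct.left (Subgroup.mem_bot.1 hf)
      exact congrFun this 1

abbrev A5 : Type := alternatingGroup (Fin 5)

section
variable (S : Type) [Group S]

def prodHom : (Fin 5 → S) →* Abelianization S where
  toFun f := ∏ i, Abelianization.of (f i)
  map_one' := by simp
  map_mul' f g := by simp [Finset.prod_mul_distrib]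

abbrev DS : Subgroup (Fin 5 → S) := (prodHom S).ker

def permFun (σ : A5) (f : DS S) : DS S :=
  ⟨fun i => f.1 ((σ : Equiv.Perm (Fin 5)).symm i), by
    rw [MonoidHom.mem_ker]
    show ∏ i, Abelianization.of (f.1 ((σ : Equiv.Perm (Fin 5)).symm i)) = 1
    rw [Equiv.prod_comp (σ : Equiv.Perm (Fin 5)).symm (fun i => Abelianization.of (f.1 i))]
    exact MonoidHom.mem_ker.1 f.2⟩

def act : A5 →* MulAut (DS S) where
  toFun σ :=
    { toFun := permFun S σ
      invFun := permFun S σ⁻¹
      left_inv := fun f => Subtype.ext (funext fun i => by simp [permFun, Equiv.Perm.inv_def])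
      right_inv := fun f => Subtype.ext (funext fun i => by simp [permFun, Equiv.Perm.inv_def])
      map_mul' := fun f g => rfl }
  map_one' := rfl
  map_mul' σ τ := rfl

abbrev GS : Type := DS S ⋊[act S] A5

theorem A5_perfect : commutator A5 = ⊤ :=
  commutator_alternatingGroup_eq_top (by simp)

theorem GS_perfect : commutator (GS S) = ⊤ := by
  classical
  set C := commutator (GS S) with hC
  have hA : ∀ σ : A5, (SemidirectProduct.inr σ : GS S) ∈ C := by
    intro σ
    have h1 : (commutator A5).map (SemidirectProduct.inr : A5 →* GS S) ≤ C := by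
      rw [hC, commutator_def, Subgroup.map_commutator]
      exact Subgroup.commutator_mono le_top le_top
    exact h1 ⟨σ, by rw [A5_perfect]; exact Subgroup.mem_top σ, rfl⟩
  let E : Subgroup (DS S) := C.comap (SemidirectProduct.inl : DS S →* GS S)
  haveI hCn : C.Normal := inferInstanceAs (commutator (GS S)).Normal
  have hmove : ∀ (f : DS S) (σ : A5), f * (permFun S σ f)⁻¹ ∈ E := by
    intro f σ
    show (SemidirectProduct.inl (f * (permFun S σ f)⁻¹) : GS S) ∈ C
    have : (SemidirectProduct.inl (f * (permFun S σ f)⁻¹) : GS S)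
        = ⁅(SemidirectProduct.inl f : GS S), SemidirectProduct.inr σ⁆ := by
      show (SemidirectProduct.inl (f * (act S σ f)⁻¹) : GS S) = _
      rw [map_mul, ← map_inv (act S σ), SemidirectProduct.inl_aut, map_inv SemidirectProduct.inl,
        map_inv SemidirectProduct.inr, commutatorElement_def]
      simp [mul_assoc]
    rw [this]
    exact Subgroup.commutator_mem_commutator (Subgroup.mem_top _) (Subgroup.mem_top _)
  have hmem : ∀ (i j : Fin 5) (a : S), (Pi.mulSingle i a * Pi.mulSingle j a⁻¹ : Fin 5 → S) ∈ DS S := by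
    intro i j a
    rw [MonoidHom.mem_ker, map_mul]
    show (∏ k, Abelianization.of ((Pi.mulSingle i a : Fin 5 → S) k)) *
      (∏ k, Abelianization.of ((Pi.mulSingle j a⁻¹ : Fin 5 → S) k)) = 1
    rw [Fintype.prod_eq_single i (fun k hk => by simp [hk]), Fintype.prod_eq_single j (fun k hk => by simp [hk])]
    simp
  let d : Fin 5 → Fin 5 → S → DS S := fun i j a => ⟨_, hmem i j a⟩
  have hd : ∀ i j k : Fin 5, i ≠ j → i ≠ k → j ≠ k → ∀ a, d j k a ∈ E := by
    intro i j k hij hik hjk a
    obtain ⟨l, hli, hlj, hlk⟩ : ∃ l : Fin 5, l ≠ i ∧ l ≠ j ∧ l ≠ k := by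
      revert i j k; decide
    -- a three-cycle fixing `i`, sending `j` to `k`
    let σ : A5 := ⟨Equiv.swap j k * Equiv.swap k l, by
      rw [Equiv.Perm.mem_alternatingGroup, map_mul, Equiv.Perm.sign_swap hjk, Equiv.Perm.sign_swap hlk.symm]; rfl⟩
    have hi : (σ : Equiv.Perm (Fin 5)).symm i = i := by
      rw [Equiv.symm_apply_eq]
      show i = Equiv.swap j k (Equiv.swap k l i)
      rw [Equiv.swap_apply_of_ne_of_ne hik hli.symm, Equiv.swap_apply_of_ne_of_ne hij hik]
    have hk : (σ : Equiv.Perm (Fin 5)).symm k = j := by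
      rw [Equiv.symm_apply_eq]
      show k = Equiv.swap j k (Equiv.swap k l j)
      rw [Equiv.swap_apply_of_ne_of_ne hjk hlj.symm, Equiv.swap_apply_left]
    have := hmove (d i j a⁻¹) σ
    convert this using 1
    refine Subtype.ext (funext fun x => ?_)
    have hx : ∀ y : Fin 5, (σ : Equiv.Perm (Fin 5)).symm x = (σ : Equiv.Perm (Fin 5)).symm y ↔ x = y :=
      fun y => (σ : Equiv.Perm (Fin 5)).symm.injective.eq_iff
    simp only [d, permFun, Subgroup.coe_mul, InvMemClass.coe_inv, Pi.mul_apply, Pi.inv_apply, inv_inv]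
    by_cases h1 : x = i
    · subst h1; simp [hi, hij, hik]
    by_cases h2 : x = k
    · subst h2; simp [hk, hjk.symm, hik.symm, hij.symm, hik]
    have h3 : (σ : Equiv.Perm (Fin 5)).symm x ≠ i := fun e => h1 ((hx i).1 (e.trans hi.symm))
    have h4 : (σ : Equiv.Perm (Fin 5)).symm x ≠ j := fun e => h2 ((hx k).1 (e.trans hk.symm))
    simp [h1, h2, h3, h4]
  have hd' : ∀ j k : Fin 5, j ≠ k → ∀ a, d j k a ∈ E := by
    intro j k hjk a
    obtain ⟨i, hij, hik⟩ : ∃ i : Fin 5, i ≠ j ∧ i ≠ k := by revert j k; decide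
    exact hd i j k hij hik hjk a
  let ev : DS S →* S := (Pi.evalMonoidHom (fun _ : Fin 5 => S) 0).comp (DS S).subtype
  let E0 : Subgroup (DS S) := E
  have hc0 : ∀ a b : S, ∃ e ∈ E, (e : Fin 5 → S) = Pi.mulSingle 0 ⁅a, b⁆ := by
    intro a b
    refine ⟨⁅d 0 1 a, d 0 2 b⁆, ?_, ?_⟩
    · have h1 := hd' 0 1 (by decide) a
      have h2 := hd' 0 2 (by decide) b
      exact mul_mem (mul_mem (mul_mem h1 h2) (inv_mem h1)) (inv_mem h2)
    · funext x
      simp only [d, commutatorElement_def, Subgroup.coe_mul, InvMemClass.coe_inv, Pi.mul_apply, Pi.inv_apply]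
      fin_cases x <;> simp
  let Z : Subgroup S :=
    { carrier := {x | ∃ e ∈ E, (e : Fin 5 → S) = Pi.mulSingle 0 x}
      one_mem' := ⟨1, one_mem _, by simp⟩
      mul_mem' := fun ⟨e, he, he'⟩ ⟨f, hf, hf'⟩ => ⟨e * f, mul_mem he hf, by simp [he', hf', Pi.mulSingle_mul]⟩
      inv_mem' := fun ⟨e, he, he'⟩ => ⟨e⁻¹, inv_mem he, by simp [he', Pi.mulSingle_inv]⟩ }
  have hZ : commutator S ≤ Z := by
    rw [commutator_def, Subgroup.commutator_le]
    exact fun a _ b _ => hc0 a b
  have hE : ∀ f : DS S, f ∈ E := by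
    intro f
    set g := f * d 0 1 (f.1 1) * d 0 2 (f.1 2) * d 0 3 (f.1 3) * d 0 4 (f.1 4) with hg
    have hg' : (g : Fin 5 → S) = Pi.mulSingle 0 (f.1 0 * f.1 1 * f.1 2 * f.1 3 * f.1 4) := by
      funext x
      simp only [hg, d, Subgroup.coe_mul, Pi.mul_apply]
      fin_cases x <;> simp [mul_assoc]
    have hmemC : f.1 0 * f.1 1 * f.1 2 * f.1 3 * f.1 4 ∈ commutator S := by
      rw [← QuotientGroup.eq_one_iff (N := commutator S)]
      have h5 : ∏ i, Abelianization.of (f.1 i) = 1 := MonoidHom.mem_ker.1 f.2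
      rw [Fin.prod_univ_five, ← map_mul, ← map_mul, ← map_mul, ← map_mul] at h5
      exact h5
    obtain ⟨e, he, he'⟩ := hZ hmemC
    have hge : g ∈ E := (Subtype.ext (he'.trans hg'.symm) : e = g) ▸ he
    have : f = g * (d 0 4 (f.1 4))⁻¹ * (d 0 3 (f.1 3))⁻¹ * (d 0 2 (f.1 2))⁻¹ * (d 0 1 (f.1 1))⁻¹ := by
      rw [hg]; group
    rw [this]
    exact mul_mem (mul_mem (mul_mem (mul_mem hge (inv_mem (hd' 0 4 (by decide) _)))
      (inv_mem (hd' 0 3 (by decide) _))) (inv_mem (hd' 0 2 (by decide) _))) (inv_mem (hd' 0 1 (by decide) _))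
  refine eq_top_iff.2 fun x _ => ?_
  rw [← SemidirectProduct.inl_left_mul_inr_right x]
  exact mul_mem (hE x.left) (hA x.right)

end

theorem stab_solvable : Group.IsSolvable (MulAction.stabilizer A5 (0 : Fin 5)) := by
  classical
  let β := {x : Fin 5 // x ≠ 0}
  let M := MulAction.stabilizer A5 (0 : Fin 5)
  have hiff : ∀ (g : M) (x : Fin 5), (g.1 : Equiv.Perm (Fin 5)) x ≠ 0 ↔ x ≠ 0 := by
    intro g x
    have h0 : (g.1 : Equiv.Perm (Fin 5)) 0 = 0 := g.2
    constructor
    · rintro h rfl; exact h h0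
    · intro h e; exact h ((g.1 : Equiv.Perm (Fin 5)).injective (e.trans h0.symm))
  let ψ : M →* Equiv.Perm β :=
    { toFun := fun g => (g.1 : Equiv.Perm (Fin 5)).subtypePerm (hiff g)
      map_one' := Equiv.ext fun x => rfl
      map_mul' := fun a b => Equiv.ext fun x => rfl }
  have hψ : Function.Injective ψ := by
    intro a b h
    refine Subtype.ext (Subtype.ext (Equiv.ext fun x => ?_))
    by_cases hx : x = 0
    · subst hx
      exact (a.2 : (a.1 : Equiv.Perm (Fin 5)) 0 = 0).trans (b.2 : (b.1 : Equiv.Perm (Fin 5)) 0 = 0).symm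
    · exact congrArg Subtype.val (Equiv.congr_fun h ⟨x, hx⟩)
  let ψ' : M →* alternatingGroup β := ψ.codRestrict _ (fun g => by
    rw [Equiv.Perm.mem_alternatingGroup]
    have h0 : ∀ x, (g.1 : Equiv.Perm (Fin 5)) x ≠ x → x ≠ 0 := fun x hx h => hx (by subst h; exact g.2)
    exact (Equiv.Perm.sign_subtypePerm (g.1 : Equiv.Perm (Fin 5)) (p := fun x : Fin 5 => x ≠ 0) (hiff g) h0).trans
      (Equiv.Perm.mem_alternatingGroup.1 g.1.2))
  have h4 : Nat.card β = 4 := by simp [β]
  haveI : Group.IsSolvable (alternatingGroup β) := by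
    refine ⟨⟨2, ?_⟩⟩
    rw [derivedSeries_succ, derivedSeries_one, ← alternatingGroup.kleinFour_eq_commutator h4,
      Subgroup.commutator_eq_bot_iff_le_centralizer]
    haveI := alternatingGroup.kleinFour_isKleinFour h4
    intro x hx
    refine Subgroup.mem_centralizer_iff.2 fun y hy => ?_
    exact congrArg Subtype.val (mul_comm_of_exponent_two IsKleinFour.exponent_two
      (⟨y, hy⟩ : alternatingGroup.kleinFour β) ⟨x, hx⟩)
  exact Group.isSolvable_of_isSolvable_injective (f := ψ') (fun a b h => hψ (congrArg Subtype.val h))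

/-- Finite perfect groups have solvable maximal subgroups of unbounded derived length: for every d there is a finite perfect group G (equal to its commutator subgroup) with a solvable maximal subgroup H whose derived length exceeds d, i.e. the d-th term of the derived series of H is non-trivial. (Take the derived subgroup of a wreath product S ≀ A₅ with S solvable of large derived length, and H the preimage of a maximal subgroup of A₅.) -/
theorem result (d : ℕ) :
    ∃ (G : Type) (_ : Group G) (_ : Finite G) (H : Subgroup G), commutator G = ⊤ ∧ IsCoatom H ∧ Group.IsSolvable H ∧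
      derivedSeries H d ≠ ⊥ := by
  classical
  obtain ⟨hfin, hsol, hder⟩ := SS_props (d + 1)
  let S := SS (d + 1)
  haveI : Finite S := hfin
  haveI : Finite (GS S) := Finite.of_equiv _ SemidirectProduct.equivProd.symm
  have hM : IsCoatom (MulAction.stabilizer A5 (0 : Fin 5)) := by
    haveI := alternatingGroup.isPreprimitive_of_three_le_card (α := Fin 5) (by simp)
    exact MulAction.IsPreprimitive.isCoatom_stabilizer_of_isPreprimitive _ _
  let H : Subgroup (GS S) := (MulAction.stabilizer A5 (0 : Fin 5)).comap (SemidirectProduct.rightHom : GS S →* A5)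
  let ι : DS S →* H := (SemidirectProduct.inl : DS S →* GS S).codRestrict H (fun f => by
    show SemidirectProduct.rightHom (SemidirectProduct.inl f : GS S) ∈ MulAction.stabilizer A5 (0 : Fin 5)
    rw [SemidirectProduct.rightHom_inl]; exact one_mem _)
  refine ⟨GS S, inferInstance, inferInstance, H, GS_perfect S, ?_, ?_, ?_⟩
  · exact Subgroup.isCoatom_comap_of_surjective SemidirectProduct.rightHom_surjective hM
  · haveI := stab_solvable
    haveI : Group.IsSolvable (DS S) := by
      haveI := pi_solvable (ι := Fin 5) hsol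
      infer_instance
    refine Group.isSolvable_of_ker_le_range ι
      ((SemidirectProduct.rightHom.comp H.subtype).codRestrict (MulAction.stabilizer A5 (0 : Fin 5)) (fun x => x.2)) fun x hx => ?_
    have h1 : x.1.right = 1 := congrArg Subtype.val (MonoidHom.mem_ker.1 hx)
    refine ⟨x.1.left, Subtype.ext ?_⟩
    exact SemidirectProduct.ext rfl h1.symm
  · intro h
    apply hder d (by omega)
    have hι : Function.Injective ι := fun a b e =>
      SemidirectProduct.inl_injective (congrArg Subtype.val e)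
    have hD : derivedSeries (DS S) d = ⊥ := by
      have h1 := map_derivedSeries_le_derivedSeries ι d
      rw [h, le_bot_iff, Subgroup.map_eq_bot_iff_of_injective _ hι] at h1
      exact h1
    let ev : DS S →* S := (Pi.evalMonoidHom (fun _ : Fin 5 => S) 0).comp (DS S).subtype
    have hev : Function.Surjective ev := by
      intro a
      refine ⟨⟨Pi.mulSingle 0 a * Pi.mulSingle 1 a⁻¹, ?_⟩, by simp [ev]⟩
      rw [MonoidHom.mem_ker]
      simp [prodHom, Fin.prod_univ_five]
    rw [← map_derivedSeries_eq hev d, hD, Subgroup.map_bot]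

end Cfsg.Agent.S5896
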