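import Cfsg.Statements.S5902
import Cfsg.Agent.S5901
-- import your own Cfsg.Agent.* helpers here

set_option autoImplicit false
open Cfsg

namespace Cfsg.Agent.S5902

/-- a complement of a conjugate gives a complement -/
theorem compl_of_conj {G : Type*} [Group G] (g : G) (H : Subgroup G)
    (h : ∃ C : Subgroup G, H.map (MulAut.conj g).toMonoidHom ⊔ C = ⊤ ∧ H.map (MulAut.conj g).toMonoidHom ⊓ C = ⊥) :
    ∃ C : Subgroup G, H ⊔ C = ⊤ ∧ H ⊓ C = ⊥ := by
  obtain ⟨C, h1, h2⟩ := h
  let e := (MulAut.conj g).mapSubgroup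
  refine ⟨e.symm C, e.injective ?_, e.injective ?_⟩
  · rw [map_sup, e.apply_symm_apply, e.map_top]; exact h1
  · rw [map_inf, e.apply_symm_apply, e.map_bot]; exact h2

/-- Let G be a finite group, X a subgroup whose own subgroup lattice is complemented, and suppose X lies in exactly one maximal subgroup M of G. Then every subgroup H of G not contained in the normal core of M has a complement in the subgroup lattice of G (some C with H ⊔ C = G and H ⊓ C = 1); in particular the subgroup lattice of G modulo the normal core of M is complemented. -/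
theorem result {G : Type*} [Group G] [Finite G] (X M : Subgroup G)
    (hK : ComplementedLattice (Subgroup X))
    (hM : IsCoatom M) (hXM : X ≤ M) (huniq : ∀ M' : Subgroup G, IsCoatom M' → X ≤ M' → M' = M) :
    (∀ H : Subgroup G, ¬ H ≤ M.normalCore → ∃ C : Subgroup G, H ⊔ C = ⊤ ∧ H ⊓ C = ⊥) ∧
    ComplementedLattice (Subgroup (G ⧸ M.normalCore)) := by
  have part1 : ∀ H : Subgroup G, ¬ H ≤ M.normalCore → ∃ C : Subgroup G, H ⊔ C = ⊤ ∧ H ⊓ C = ⊥ := by
    intro H hH
    obtain ⟨g, hg⟩ : ∃ g : G, ¬ H.map (MulAut.conj g).toMonoidHom ≤ M := by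
      by_contra hc
      push_neg at hc
      exact hH fun x hx g => hc g ⟨x, hx, by simp⟩
    refine compl_of_conj g H (Cfsg.Agent.S5901.result ⊥ X M bot_le (fun h => hM.1 (top_le_iff.1 (h ▸ hXM))) ?_ hM hXM huniq _ hg (inf_bot_eq _))
    intro Y _ hYX
    obtain ⟨C, hC⟩ := hK.exists_isCompl (Y.subgroupOf X)
    refine ⟨C.map X.subtype, bot_le, Subgroup.map_subtype_le C, ?_, ?_⟩
    · have := congrArg (Subgroup.map X.subtype) hC.sup_eq_top
      rwa [Subgroup.map_sup, Subgroup.map_subgroupOf_eq_of_le hYX, ← MonoidHom.range_eq_map,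
        Subgroup.range_subtype] at this
    · have := congrArg (Subgroup.map X.subtype) hC.inf_eq_bot
      rwa [Subgroup.map_inf_eq _ _ _ X.subtype_injective, Subgroup.map_subgroupOf_eq_of_le hYX,
        Subgroup.map_bot] at this
  refine ⟨part1, ⟨fun Hq => ?_⟩⟩
  let π := QuotientGroup.mk' M.normalCore
  have hπ : Function.Surjective π := QuotientGroup.mk'_surjective _
  by_cases hb : Hq = ⊥
  · exact ⟨⊤, hb ▸ isCompl_bot_top⟩
  have hle : M.normalCore ≤ Hq.comap π := fun x hx => by
    rw [Subgroup.mem_comap, show π x = 1 from (QuotientGroup.eq_one_iff x).2 hx]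
    exact one_mem _
  obtain ⟨C, h1, h2⟩ := part1 (Hq.comap π) (fun h => hb (by
    rw [← Subgroup.map_comap_eq_self_of_surjective hπ Hq, Subgroup.map_eq_bot_iff,
      QuotientGroup.ker_mk']
    exact h))
  refine ⟨C.map π, IsCompl.of_eq ?_ ?_⟩
  · rw [eq_bot_iff]
    rintro _ ⟨hx, c, hc, rfl⟩
    have hc1 : c ∈ (Hq.comap π) ⊓ C := ⟨hx, hc⟩
    rw [h2] at hc1
    rw [Subgroup.mem_bot.1 hc1, map_one]
    exact one_mem _
  · have := congrArg (Subgroup.map π) h1
    rwa [Subgroup.map_sup, Subgroup.map_comap_eq_self_of_surjective hπ,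
      Subgroup.map_top_of_surjective π hπ] at this

end Cfsg.Agent.S5902
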