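import Cfsg.Statements.S5903
import Cfsg.Agent.S5901
-- import your own Cfsg.Agent.* helpers here

set_option autoImplicit false
open Cfsg

namespace Cfsg.Agent.S5903

/-- a complement of a conjugate gives a complement -/
theorem compl_of_conj {G : Type*} [Group G] (g : G) (H : Subgroup G)
    (h : ∃ C : Subgroup G, H.map (MulAut.conj g).toMonoidHom ⊔ C = ⊤ ∧ H.map (MulAut.conj g).toMonoidHom ⊓ C = ⊥) :
    ∃ C : Subgroup G, H ⊔ C = ⊤ ∧ H ⊓ C = ⊥ := by
  obtain ⟨C, h1, h2⟩ := h
  let e := (MulAut.conj g).mapSubgroup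
  refine ⟨e.symm C, e.injective ?_, e.injective ?_⟩
  · rw [map_sup, e.apply_symm_apply, e.map_top]; exact h1
  · rw [map_inf, e.apply_symm_apply, e.map_bot]; exact h2

/-- Let G be a finite simple group, X a subgroup lying in exactly one maximal subgroup M of G, and N a subgroup of prime order with N ≤ X that is central in M. If the subgroup lattice of X/N is complemented, then the subgroup lattice of G is complemented. -/
theorem result {G : Type*} [Group G] [Finite G] [IsSimpleGroup G] (X M N : Subgroup G)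
    (hM : IsCoatom M) (hXM : X ≤ M) (huniq : ∀ M' : Subgroup G, IsCoatom M' → X ≤ M' → M' = M)
    (hNX : N ≤ X) (hN : (Nat.card N).Prime) (hcen : ∀ n ∈ N, ∀ m ∈ M, m * n = n * m)
    [(N.subgroupOf X).Normal] (hK : ComplementedLattice (Subgroup (X ⧸ N.subgroupOf X))) :
    ComplementedLattice (Subgroup G) := by
  refine ⟨fun H => ?_⟩
  by_cases hHb : H = ⊥
  · exact ⟨⊤, hHb ▸ isCompl_bot_top⟩
  by_cases hHt : H = ⊤
  · exact ⟨⊥, hHt ▸ isCompl_top_bot⟩
  suffices h : ∃ C : Subgroup G, H ⊔ C = ⊤ ∧ H ⊓ C = ⊥ by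
    obtain ⟨C, h1, h2⟩ := h
    exact ⟨C, IsCompl.of_eq h2 h1⟩
  obtain ⟨g, hg1, hg2⟩ : ∃ g : G, ¬ N ≤ H.map (MulAut.conj g).toMonoidHom ∧
      ¬ H.map (MulAut.conj g).toMonoidHom ≤ M := by
    by_contra hc
    push_neg at hc
    have key : Subgroup.normalClosure (N : Set G) ≤ Subgroup.normalizer (H : Set G) := by
      refine (Subgroup.closure_le _).2 ?_
      intro y hy
      obtain ⟨x, hx, hxy⟩ := Group.mem_conjugatesOfSet_iff.1 hy
      obtain ⟨g, rfl⟩ := isConj_iff.1 hxy
      by_cases h : N ≤ H.map (MulAut.conj g⁻¹).toMonoidHom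
      · obtain ⟨z, hz, hzx⟩ := h hx
        apply Subgroup.le_normalizer
        have : g * x * g⁻¹ = z := by rw [← hzx]; simp [mul_assoc]
        rw [this]; exact hz
      · have hM' := hc g⁻¹ h
        have hcomm : ∀ h ∈ H, (g * x * g⁻¹) * h = h * (g * x * g⁻¹) := by
          intro h hh
          have := hcen x hx (g⁻¹ * h * g) (hM' ⟨h, hh, by simp⟩)
          calc (g * x * g⁻¹) * h = g * (x * (g⁻¹ * h * g)) * g⁻¹ := by group
            _ = g * ((g⁻¹ * h * g) * x) * g⁻¹ := by rw [this]
            _ = h * (g * x * g⁻¹) := by group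
        rw [SetLike.mem_coe, Subgroup.mem_normalizer_iff]
        intro h
        constructor
        · intro hh
          rwa [hcomm h hh, mul_inv_cancel_right]
        · intro hh
          generalize hy' : g * x * g⁻¹ = y at hh hcomm
          have h3 := hcomm _ hh
          have h4 : y * h = h * y := mul_right_cancel (b := y⁻¹)
            (mul_left_cancel (a := y) (by simpa [mul_assoc] using h3))
          rwa [h4, mul_inv_cancel_right] at hh
    rcases (Subgroup.normalClosure_normal (s := (N : Set G))).eq_bot_or_eq_top with h | h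
    · have : N = ⊥ := le_bot_iff.1 (h ▸ Subgroup.le_normalClosure)
      rw [this, Subgroup.card_bot] at hN
      exact Nat.not_prime_one hN
    · rw [h] at key
      rcases (Subgroup.normalizer_eq_top_iff.1 (top_le_iff.1 key)).eq_bot_or_eq_top with h | h
      exacts [hHb h, hHt h]
  refine compl_of_conj g H (Cfsg.Agent.S5901.result N X M hNX (fun h => hM.1 (top_le_iff.1 (h ▸ hXM))) ?_ hM hXM huniq _ hg2 ?_)
  · intro Y hNY hYX
    let π := QuotientGroup.mk' (N.subgroupOf X)
    have hπ : Function.Surjective π := QuotientGroup.mk'_surjective _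
    obtain ⟨C, hC⟩ := hK.exists_isCompl ((Y.subgroupOf X).map π)
    have hY : ((Y.subgroupOf X).map π).comap π = Y.subgroupOf X := by
      rw [Subgroup.comap_map_eq, QuotientGroup.ker_mk', sup_eq_left]
      exact Subgroup.comap_mono hNY
    have hker : N.subgroupOf X ≤ C.comap π := fun x hx => by
      rw [Subgroup.mem_comap, show π x = 1 from (QuotientGroup.eq_one_iff x).2 hx]
      exact one_mem _
    refine ⟨(C.comap π).map X.subtype, ?_, Subgroup.map_subtype_le _, ?_, ?_⟩
    · have := Subgroup.map_mono (f := X.subtype) hker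
      rwa [Subgroup.map_subgroupOf_eq_of_le hNX] at this
    · have := congrArg (Subgroup.comap π) hC.sup_eq_top
      rw [← Subgroup.comap_sup_eq _ _ _ hπ, hY, Subgroup.comap_top] at this
      have := congrArg (Subgroup.map X.subtype) this
      rwa [Subgroup.map_sup, Subgroup.map_subgroupOf_eq_of_le hYX, ← MonoidHom.range_eq_map,
        Subgroup.range_subtype] at this
    · have := congrArg (Subgroup.comap π) hC.inf_eq_bot
      rw [Subgroup.comap_inf, hY, MonoidHom.comap_bot, QuotientGroup.ker_mk'] at this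
      have := congrArg (Subgroup.map X.subtype) this
      rwa [Subgroup.map_inf_eq _ _ _ X.subtype_injective, Subgroup.map_subgroupOf_eq_of_le hYX,
        Subgroup.map_subgroupOf_eq_of_le hNX] at this
  · haveI : Fact (Nat.card N).Prime := ⟨hN⟩
    rcases Subgroup.eq_bot_or_eq_top_of_prime_card ((H.map (MulAut.conj g).toMonoidHom).subgroupOf N) with h | h
    · exact disjoint_iff.1 (Subgroup.subgroupOf_eq_bot.1 h)
    · exact absurd (Subgroup.subgroupOf_eq_top.1 h) hg1

end Cfsg.Agent.S5903
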