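import Cfsg.Statements.S5908
import Cfsg.Agent.Lib.Forms.HermCenter
import Cfsg.Agent.S0282
import Mathlib

set_option autoImplicit false
open Cfsg

namespace Cfsg.Agent.S5908

variable {F : Type*} [Field F] [Fintype F]

theorem char_two (hF : Fintype.card F = 4) : (2 : F) = 0 := by
  have h := FiniteField.cast_card_eq_zero F
  rw [hF] at h
  have h' : (2 : F) * 2 = 0 := by norm_num; exact_mod_cast h
  exact mul_self_eq_zero.1 h'

theorem norm_eq_one (hF : Fintype.card F = 4) {x : F} (hx : x ≠ 0) : x * x ^ 2 = 1 := by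
  have h := FiniteField.pow_card_sub_one_eq_one x hx
  rw [hF] at h
  rw [← h]; ring

theorem pow_four (hF : Fintype.card F = 4) (x : F) : x ^ 4 = x := hF ▸ FiniteField.pow_card x

/-- the matrix of an element of `SU` -/
def mat : ↥(Cfsg.SU 3 F 2) →* Matrix (Fin 3) (Fin 3) F := (Cfsg.slToMat 3 F).comp (Cfsg.SU 3 F 2).subtype

theorem mat_inj : Function.Injective (mat (F := F)) := fun _ _ h => Subtype.ext (Subtype.ext h)

theorem cols (g : ↥(Cfsg.SU 3 F 2)) (i j : Fin 3) :
    ∑ l, mat g l i * (mat g l j) ^ 2 = if i = j then 1 else 0 := by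
  have h := g.2 (Pi.single i 1) (Pi.single j 1)
  rw [show Cfsg.slToMat 3 F (g : Matrix.SpecialLinearGroup (Fin 3) F) = mat g from rfl] at h
  simp only [Cfsg.hermForm, Matrix.mulVec_single_one, Matrix.col_apply] at h
  rw [h]
  by_cases hij : i = j
  · subst hij; simp [Pi.single_apply]
  · rw [if_neg hij]
    refine Finset.sum_eq_zero fun l _ => ?_
    by_cases hl : l = i
    · subst hl; simp [Pi.single_apply, hij]
    · simp [Pi.single_apply, hl]

/-- monomial: every column has one non-zero entry -/
def IsMono (g : ↥(Cfsg.SU 3 F 2)) : Prop := ∀ i, ∃ j, ∀ l, l ≠ j → mat g l i = 0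

theorem isMono_one : IsMono (1 : ↥(Cfsg.SU 3 F 2)) := fun i => ⟨i, fun l hl => by simp [hl]⟩

theorem isMono_mul {a b : ↥(Cfsg.SU 3 F 2)} (ha : IsMono a) (hb : IsMono b) : IsMono (a * b) := by
  intro i
  obtain ⟨j, hj⟩ := hb i
  obtain ⟨k, hk⟩ := ha j
  refine ⟨k, fun l hl => ?_⟩
  rw [map_mul, Matrix.mul_apply]
  refine Finset.sum_eq_zero fun m _ => ?_
  by_cases hm : m = j
  · rw [hm, hk l hl, zero_mul]
  · rw [hj m hm, mul_zero]

theorem isMono_pow {a : ↥(Cfsg.SU 3 F 2)} (ha : IsMono a) : ∀ n : ℕ, IsMono (a ^ n)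
  | 0 => by rw [pow_zero]; exact isMono_one
  | n + 1 => by rw [pow_succ]; exact isMono_mul (isMono_pow ha n) ha

/-- the monomial subgroup -/
def monoSub : Subgroup ↥(Cfsg.SU 3 F 2) where
  carrier := {g | IsMono g}
  one_mem' := isMono_one
  mul_mem' := isMono_mul
  inv_mem' {a} ha := by
    obtain ⟨n, hn⟩ : ∃ n, orderOf a = n + 1 := ⟨orderOf a - 1, by have := orderOf_pos a; omega⟩
    have h : a⁻¹ = a ^ n := inv_eq_of_mul_eq_one_left (by rw [← pow_succ, ← hn, pow_orderOf_eq_one])
    show IsMono a⁻¹
    rw [h]; exact isMono_pow ha n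

/-- involutions of `SU₃(2)` are monomial -/
theorem isMono_involution (hF : Fintype.card F = 4) {t : ↥(Cfsg.SU 3 F 2)} (ht : t * t = 1) : IsMono t := by
  classical
  set M := mat t with hM
  have hMM : M * M = 1 := by rw [hM, ← map_mul, ht, map_one]
  have hadj : (M.map (· ^ 2)).transpose * M = 1 := by
    ext i j
    rw [Matrix.mul_apply, Matrix.one_apply]
    have h := cols t j i
    simp only [Matrix.transpose_apply, Matrix.map_apply]
    rw [show (if i = j then (1 : F) else 0) = if j = i then 1 else 0 by simp [eq_comm], ← h]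
    exact Finset.sum_congr rfl fun l _ => mul_comm _ _
  have herm : ∀ i j, M j i = M i j ^ 2 := by
    intro i j
    have h : (M.map (· ^ 2)).transpose = M := by
      rw [← mul_one (M.map (· ^ 2)).transpose, ← hMM, ← mul_assoc, hadj, one_mul]
    exact (congrFun (congrFun h j) i).symm
  have row : ∀ i j, M i 0 * M 0 j + M i 1 * M 1 j + M i 2 * M 2 j = if i = j then 1 else 0 := by
    intro i j
    rw [← Fin.sum_univ_three (f := fun l => M i l * M l j), ← Matrix.mul_apply, hMM, Matrix.one_apply]
  have two := char_two hF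
  have nrm : ∀ x : F, x ≠ 0 → x * x ^ 2 = 1 := fun x hx => norm_eq_one hF hx
  have diag : ∀ i, M i i = 0 ∨ M i i = 1 := by
    intro i
    have h := herm i i
    rcases eq_or_ne (M i i) 0 with h0 | h0
    · exact Or.inl h0
    · right
      exact mul_left_cancel₀ h0 (by rw [mul_one, ← sq]; exact h.symm)
  have full : ∀ i j k : Fin 3, i ≠ j → i ≠ k → j ≠ k → M i i ≠ 0 → M i j ≠ 0 → M i k ≠ 0 → False := by
    intro i j k hij hik hjk h1 h2 h3
    have hsum : ∀ a b, M a i * M i b + M a j * M j b + M a k * M k b = if a = b then 1 else 0 := by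
      intro a b
      have hu : ({i, j, k} : Finset (Fin 3)) = Finset.univ :=
        Finset.eq_univ_of_card _ (by rw [Finset.card_eq_three.2 ⟨i, j, k, hij, hik, hjk, rfl⟩, Fintype.card_fin])
      rw [← row a b, ← Fin.sum_univ_three (f := fun l => M a l * M l b), ← hu,
        Finset.sum_insert (by simp [hij, hik]), Finset.sum_pair hjk, add_assoc]
    have hii := (diag i).resolve_left h1
    have e1 := hsum i j
    rw [if_neg hij, hii] at e1
    have e2 := hsum j j
    rw [if_pos rfl, herm i j] at e2
    rcases diag j with hj | hj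
    · have e2' : M j k * M j k ^ 2 = 0 := by
        rw [← herm j k]
        linear_combination e2 - nrm _ h2 - M j j * hj
      have hjk0 : M j k = 0 := by
        rcases mul_eq_zero.1 e2' with h | h
        · exact h
        · exact pow_eq_zero_iff (by norm_num) |>.1 h
      rw [hj, herm j k, hjk0] at e1
      exact h2 (by linear_combination e1)
    · have hkj0 : M k j = 0 := by
        have : M i k * M k j = 0 := by rw [hj] at e1; linear_combination e1 - M i j * two
        exact (mul_eq_zero.1 this).resolve_left h3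
      rw [hj, hkj0] at e2
      have : M i j * M i j ^ 2 = 0 := by linear_combination e2
      rw [nrm _ h2] at this
      exact one_ne_zero this
  intro i
  have hcol : ∑ l, (if M l i = 0 then (0 : F) else 1) = 1 := by
    refine Eq.trans (Finset.sum_congr rfl fun l _ => ?_) ((cols t i i).trans (if_pos rfl))
    show _ = M l i * M l i ^ 2
    split_ifs with h
    · rw [h, zero_mul]
    · exact (nrm _ h).symm
  rw [Fin.sum_univ_three] at hcol
  have hz : ∀ l, M l i = 0 ↔ M i l = 0 := fun l => by rw [herm i l]; simp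
  by_cases h0 : M 0 i = 0 <;> by_cases h1 : M 1 i = 0 <;> by_cases h2 : M 2 i = 0 <;>
    simp only [h0, h1, h2, if_true, if_false] at hcol
  · exact absurd hcol (by norm_num)
  · exact ⟨2, fun l hl => by fin_cases l <;> first | exact h0 | exact h1 | exact absurd rfl hl⟩
  · exact ⟨1, fun l hl => by fin_cases l <;> first | exact h0 | exact h2 | exact absurd rfl hl⟩
  · exact absurd (show (1 : F) = 0 by linear_combination two - hcol) one_ne_zero
  · exact ⟨0, fun l hl => by fin_cases l <;> first | exact h1 | exact h2 | exact absurd rfl hl⟩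
  · exact absurd (show (1 : F) = 0 by linear_combination two - hcol) one_ne_zero
  · exact absurd (show (1 : F) = 0 by linear_combination two - hcol) one_ne_zero
  · rw [hz] at h0 h1 h2
    fin_cases i
    · exact (full 0 1 2 (by decide) (by decide) (by decide) h0 h1 h2).elim
    · exact (full 1 0 2 (by decide) (by decide) (by decide) h1 h0 h2).elim
    · exact (full 2 0 1 (by decide) (by decide) (by decide) h2 h0 h1).elim

theorem not_eight_dvd (hF : Fintype.card F = 4) : ¬ 8 ∣ Nat.card (monoSub (F := F)) := by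
  classical
  intro h
  haveI : Fact (Nat.Prime 2) := ⟨Nat.prime_two⟩
  obtain ⟨S, hS⟩ := Sylow.exists_subgroup_card_pow_prime 2 (G := monoSub (F := F)) (n := 3) (by simpa [Nat.card_eq_fintype_card] using h)
  have hmono : ∀ g : S, IsMono ((g : monoSub (F := F)) : ↥(Cfsg.SU 3 F 2)) := fun g => (g : monoSub (F := F)).2
  choose f hf using hmono
  have hinj : Function.Injective f := by
    intro a b hab
    set x : ↥(Cfsg.SU 3 F 2) := (b⁻¹ * a : S).1.1 with hx
    have hba : ((a : monoSub (F := F)) : ↥(Cfsg.SU 3 F 2)) = ((b : monoSub (F := F)) : ↥(Cfsg.SU 3 F 2)) * x := by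
      rw [hx, ← Subgroup.coe_mul, ← Subgroup.coe_mul, mul_inv_cancel_left]
    have hdiag : ∀ i l, l ≠ i → mat x l i = 0 := by
      intro i l hl
      obtain ⟨j, hj⟩ := (b⁻¹ * a : S).1.2 i
      by_cases hlj : l = j
      swap
      · exact hj l hlj
      by_contra hne
      have he : mat ((a : monoSub (F := F)) : ↥(Cfsg.SU 3 F 2)) (f b j) i
          = mat ((b : monoSub (F := F)) : ↥(Cfsg.SU 3 F 2)) (f b j) j * mat x j i := by
        rw [hba, map_mul, Matrix.mul_apply]
        refine Finset.sum_eq_single j (fun m _ hm => ?_) (fun h => absurd (Finset.mem_univ _) h)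
        rw [hx] at *
        rw [hj m hm, mul_zero]
      have hbne : mat ((b : monoSub (F := F)) : ↥(Cfsg.SU 3 F 2)) (f b j) j ≠ 0 := by
        intro h0
        have hc := cols ((b : monoSub (F := F)) : ↥(Cfsg.SU 3 F 2)) j j
        rw [if_pos rfl, Finset.sum_eq_zero (fun m _ => ?_)] at hc
        · exact zero_ne_one hc
        · by_cases hm : m = f b j
          · rw [hm, h0, zero_mul]
          · rw [hf b j m hm, zero_mul]
      have hane : mat ((a : monoSub (F := F)) : ↥(Cfsg.SU 3 F 2)) (f b j) i ≠ 0 := by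
        rw [he]; exact mul_ne_zero hbne (hlj ▸ hne)
      have hfi : f b j = f a i := by
        by_contra h'
        exact hane (hf a i _ h')
      rw [hab] at hfi
      have hji : j = i := by
        by_contra hji
        -- two columns of `b` cannot share their non-zero row
        have hc := cols ((b : monoSub (F := F)) : ↥(Cfsg.SU 3 F 2)) j i
        rw [if_neg hji, Finset.sum_eq_single (f b j) (fun m _ hm => by rw [hf b j m hm, zero_mul])
          (fun h => absurd (Finset.mem_univ _) h)] at hc
        refine (mul_ne_zero hbne (pow_ne_zero 2 ?_)) hc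
        intro h0
        have hc2 := cols ((b : monoSub (F := F)) : ↥(Cfsg.SU 3 F 2)) i i
        rw [if_pos rfl, Finset.sum_eq_zero (fun m _ => ?_)] at hc2
        · exact zero_ne_one hc2
        · by_cases hm : m = f b i
          · rw [hm, ← hfi, h0, zero_mul]
          · rw [hf b i m hm, zero_mul]
      exact hl (hlj.trans hji)
    have hd : mat x = Matrix.diagonal fun i => mat x i i := by
      ext l i
      by_cases h : l = i
      · subst h; simp
      · rw [Matrix.diagonal_apply_ne _ h, hdiag i l h]
    have hx8 : x ^ 8 = 1 := by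
      have h8 : (b⁻¹ * a) ^ 8 = 1 := by
        have := pow_card_eq_one' (x := b⁻¹ * a)
        rwa [hS] at this
      rw [hx, ← Subgroup.coe_pow, ← Subgroup.coe_pow, h8]; rfl
    have hxi : ∀ i, mat x i i = 1 := by
      intro i
      have h := congrArg (fun y => mat y i i) hx8
      simp only [map_pow, map_one, Matrix.one_apply_eq] at h
      rw [hd, Matrix.diagonal_pow, Matrix.diagonal_apply_eq, Pi.pow_apply] at h
      have h4 := pow_four hF (mat x i i)
      rw [show (8 : ℕ) = 4 + 4 from rfl, pow_add, h4, ← sq] at h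
      calc mat x i i = (mat x i i) ^ 4 := h4.symm
        _ = ((mat x i i) ^ 2) ^ 2 := by ring
        _ = 1 := by rw [h, one_pow]
    have hx1 : x = 1 := mat_inj (by rw [hd, map_one, ← Matrix.diagonal_one]; congr 1; exact funext hxi)
    rw [hx] at hx1
    have : b⁻¹ * a = 1 := Subtype.ext (Subtype.ext hx1)
    exact (inv_mul_eq_one.1 this).symm
  have hperm : ∀ g : S, Function.Injective (f g) := by
    intro g i i' hii
    by_contra hne
    have hnz : ∀ k, mat ((g : monoSub (F := F)) : ↥(Cfsg.SU 3 F 2)) (f g k) k ≠ 0 := by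
      intro k h0
      have hc := cols ((g : monoSub (F := F)) : ↥(Cfsg.SU 3 F 2)) k k
      rw [if_pos rfl, Finset.sum_eq_zero (fun m _ => ?_)] at hc
      · exact zero_ne_one hc
      · by_cases hm : m = f g k
        · rw [hm, h0, zero_mul]
        · rw [hf g k m hm, zero_mul]
    have hc := cols ((g : monoSub (F := F)) : ↥(Cfsg.SU 3 F 2)) i i'
    rw [if_neg hne, Finset.sum_eq_single (f g i) (fun m _ hm => by rw [hf g i m hm, zero_mul])
      (fun h => absurd (Finset.mem_univ _) h)] at hc
    exact mul_ne_zero (hnz i) (pow_ne_zero 2 (hii ▸ hnz i')) hc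
  have hle := Nat.card_le_card_of_injective (fun g : S => Equiv.ofBijective (f g) (Finite.injective_iff_bijective.1 (hperm g)))
    (fun a b h => hinj (congrArg (fun e : Equiv.Perm (Fin 3) => (e : Fin 3 → Fin 3)) h))
  rw [hS, Nat.card_perm, Nat.card_fin] at hle
  norm_num [Nat.factorial] at hle

/-- The subgroup lattice of PSU₃(2) (the solvable group of order 72, realised over the field with 4 elements) is not complemented: some subgroup H has no subgroup X with H ⊔ X = ⊤ and H ⊓ X = ⊥. -/
theorem result {F : Type*} [Field F] [Fintype F] (hF : Fintype.card F = 4) :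
    ¬ ComplementedLattice (Subgroup (Cfsg.PSU 3 F 2)) := by
  classical
  intro hC
  have h72 := (S0282.result hF).1
  have hcz : Nat.card (Subgroup.center (Cfsg.SU 3 F 2)) = 3 := by
    rw [Forms.card_center_SU (by rw [hF]; norm_num : Fintype.card F = 2 ^ 2) (by norm_num : 1 ≤ 3)]
    rfl
  let mk := QuotientGroup.mk' (Subgroup.center (Cfsg.SU 3 F 2))
  let H : Subgroup (Cfsg.PSU 3 F 2) := Subgroup.normalClosure {x | x * x = 1}
  have hHM : H ≤ (monoSub (F := F)).map mk := by
    rw [show H = Subgroup.closure (Group.conjugatesOfSet {x : Cfsg.PSU 3 F 2 | x * x = 1}) from rfl,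
      Subgroup.closure_le]
    intro y hy
    obtain ⟨a, ha, hc⟩ := Group.mem_conjugatesOfSet_iff.1 hy
    obtain ⟨c, rfl⟩ := isConj_iff.1 hc
    have ha' : a * a = 1 := ha
    have hy2 : (c * a * c⁻¹) * (c * a * c⁻¹) = 1 := by
      calc _ = c * (a * a) * c⁻¹ := by group
        _ = 1 := by rw [ha']; group
    generalize c * a * c⁻¹ = x at hy2
    obtain ⟨g, rfl⟩ := QuotientGroup.mk'_surjective _ x
    have hz : g * g ∈ Subgroup.center (Cfsg.SU 3 F 2) := (QuotientGroup.eq_one_iff _).1 hy2
    have h3 : (g * g) ^ 3 = 1 := by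
      have := pow_card_eq_one' (x := (⟨_, hz⟩ : Subgroup.center (Cfsg.SU 3 F 2)))
      rw [hcz] at this
      exact congrArg Subtype.val this
    refine ⟨g ^ 3, isMono_involution hF (by rw [← h3, ← sq g, ← pow_mul, ← pow_add]), ?_⟩
    show mk (g ^ 3) = mk g
    rw [map_pow, pow_succ, sq, hy2, one_mul]
  obtain ⟨X, hX⟩ := hC.exists_isCompl H
  have hodd : ¬ 2 ∣ Nat.card X := by
    intro h2
    haveI : Fact (Nat.Prime 2) := ⟨Nat.prime_two⟩
    obtain ⟨x, hx⟩ := exists_prime_orderOf_dvd_card' (G := X) 2 h2
    have hx2 : ((x : Cfsg.PSU 3 F 2)) * x = 1 := by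
      have := pow_orderOf_eq_one x
      rw [hx, sq] at this
      exact congrArg Subtype.val this
    have hmem : (x : Cfsg.PSU 3 F 2) ∈ H ⊓ X := ⟨Subgroup.subset_normalClosure hx2, x.2⟩
    rw [hX.inf_eq_bot, Subgroup.mem_bot] at hmem
    rw [show x = 1 from Subtype.ext hmem, orderOf_one] at hx
    omega
  have hidx : H.index ∣ Nat.card X := by
    haveI : H.Normal := Subgroup.normalClosure_normal
    have h := Subgroup.relIndex_sup_left (K := H) (H := X)
    rw [hX.sup_eq_top, Subgroup.relIndex_top_right] at h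
    rw [h]
    exact Subgroup.index_dvd_card _
  have hmul := H.card_mul_index
  rw [h72] at hmul
  have hco : Nat.Coprime 8 H.index := by
    have : ¬ 2 ∣ H.index := fun h => hodd (h.trans hidx)
    exact Nat.Coprime.pow_left 3 ((Nat.Prime.coprime_iff_not_dvd Nat.prime_two).2 this)
  have h8 : 8 ∣ Nat.card H := hco.dvd_of_dvd_mul_right (hmul ▸ (by norm_num : 8 ∣ 72))
  exact not_eight_dvd hF (h8.trans ((Subgroup.card_dvd_of_le hHM).trans (Subgroup.card_map_dvd _ _)))

end Cfsg.Agent.S5908
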