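import Cfsg.Statements.S5909
import Cfsg.Agent.Lib.Perm.BlockPartition
-- import your own Cfsg.Agent.* helpers here

set_option autoImplicit false
open Cfsg

namespace Cfsg.Agent.S5909

open Cfsg.Agent.Perm.BlockPartition

variable {Ω : Type*} [Fintype Ω] [DecidableEq Ω]

/-- the three-cycle `u ↦ v ↦ w ↦ u` -/
def cyc (u v w : Ω) : Equiv.Perm Ω := Equiv.swap u v * Equiv.swap v w

theorem cyc_fst {u v w : Ω} (huv : u ≠ v) (huw : u ≠ w) : cyc u v w u = v := by
  rw [cyc, Equiv.Perm.mul_apply, Equiv.swap_apply_of_ne_of_ne huv huw, Equiv.swap_apply_left]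

theorem cyc_snd {u v w : Ω} (huw : u ≠ w) (hvw : v ≠ w) : cyc u v w v = w := by
  rw [cyc, Equiv.Perm.mul_apply, Equiv.swap_apply_left, Equiv.swap_apply_of_ne_of_ne huw.symm hvw.symm]

theorem cyc_trd {u v w : Ω} : cyc u v w w = u := by
  rw [cyc, Equiv.Perm.mul_apply, Equiv.swap_apply_right, Equiv.swap_apply_right]

theorem cyc_of_ne {u v w z : Ω} (h1 : z ≠ u) (h2 : z ≠ v) (h3 : z ≠ w) : cyc u v w z = z := by
  rw [cyc, Equiv.Perm.mul_apply, Equiv.swap_apply_of_ne_of_ne h2 h3, Equiv.swap_apply_of_ne_of_ne h1 h2]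

theorem cyc_sign {u v w : Ω} (huv : u ≠ v) (hvw : v ≠ w) : Equiv.Perm.sign (cyc u v w) = 1 := by
  rw [cyc, map_mul, Equiv.Perm.sign_swap huv, Equiv.Perm.sign_swap hvw]; rfl

theorem cyc_rot {u v w : Ω} (huv : u ≠ v) (huw : u ≠ w) (hvw : v ≠ w) : cyc u v w = cyc v w u := by
  refine Equiv.ext fun z => ?_
  by_cases h1 : z = u
  · subst h1; rw [cyc_fst huv huw, cyc_trd]
  by_cases h2 : z = v
  · subst h2; rw [cyc_snd huw hvw, cyc_fst hvw huv.symm]
  by_cases h3 : z = w
  · subst h3; rw [cyc_trd, cyc_snd huv.symm huw.symm]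
  rw [cyc_of_ne h1 h2 h3, cyc_of_ne h2 h3 h1]

theorem cyc_conj (g : Equiv.Perm Ω) (u v w : Ω) : g * cyc u v w * g⁻¹ = cyc (g u) (g v) (g w) := by
  rw [cyc, cyc, Equiv.swap_apply_apply g u v, Equiv.swap_apply_apply g v w]
  group

/-- the three-cycles through a fixed pair generate the alternating group -/
theorem gen {T : Subgroup (Equiv.Perm Ω)} (hT : T ≤ alternatingGroup Ω) {u u' : Ω} (huu : u ≠ u')
    (hc : ∀ z, z ≠ u → z ≠ u' → cyc u u' z ∈ T) : alternatingGroup Ω ≤ T := by
  have hc' : ∀ z, z ≠ u' → Equiv.swap u u' * Equiv.swap u' z ∈ T := by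
    intro z hz
    rcases eq_or_ne z u with rfl | h
    · rw [Equiv.swap_comm u' z, Equiv.swap_mul_self]; exact one_mem T
    · exact hc z h hz
  let Q : Equiv.Perm Ω → Prop := fun g => g ∈ T ∨ Equiv.swap u u' * g ∈ T
  have hstep : ∀ z, z ≠ u' → ∀ g, Q g → Q (Equiv.swap u' z * g) := by
    intro z hz g hg
    rcases hg with hg | hg
    · right
      rw [← mul_assoc]
      exact mul_mem (hc' z hz) hg
    · left
      have h := mul_mem (inv_mem (hc' z hz)) hg
      rwa [mul_inv_rev, Equiv.swap_inv, Equiv.swap_inv, mul_assoc, Equiv.swap_mul_self_mul] at h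
  have hswap : ∀ (x y : Ω) g, x ≠ y → Q g → Q (Equiv.swap x y * g) := by
    intro x y g hxy hg
    by_cases hx : x = u'
    · subst hx; exact hstep y (Ne.symm hxy) g hg
    by_cases hy : y = u'
    · subst hy; rw [Equiv.swap_comm]; exact hstep x hx g hg
    have : Equiv.swap x y = Equiv.swap u' x * Equiv.swap u' y * Equiv.swap u' x := by
      have h := Equiv.swap_apply_apply (Equiv.swap u' x) u' y
      rwa [Equiv.swap_apply_left, Equiv.swap_apply_of_ne_of_ne hy hxy.symm, Equiv.swap_inv] at h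
    rw [this, mul_assoc, mul_assoc]
    exact hstep x hx _ (hstep y hy _ (hstep x hx g hg))
  have hall : ∀ g, Q g := fun g => Equiv.Perm.swap_induction_on g (Or.inl (one_mem T))
    (fun g x y hxy hg => hswap x y g hxy hg)
  intro g hg
  rcases hall g with h | h
  · exact h
  · exfalso
    have := Equiv.Perm.mem_alternatingGroup.1 (hT h)
    rw [map_mul, Equiv.Perm.sign_swap huu, Equiv.Perm.mem_alternatingGroup.1 hg] at this
    exact absurd this (by decide)

variable {a b : ℕ} {f : Ω → Fin b}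

/-- a same-label pair, avoiding the labels in `i`, `j` or lying next to a given point -/
theorem adjust (ha : 2 ≤ a) (hf : ∀ i, Nat.card {x : Ω // f x = i} = a) (h : 3 ≤ a ∨ 3 ≤ b) {u u' z : Ω}
    (huu : f u = f u') (hz : f z ≠ f u) :
    ∃ s t, s ≠ t ∧ f s = f t ∧ ∀ w ∈ [u, u', z], w ≠ s ∧ w ≠ t := by
  rcases h with h | h
  · have hcard : 2 < Fintype.card {x : Ω // f x = f z} := by
      rw [← Nat.card_eq_fintype_card, hf]; omega
    obtain ⟨s, t, hst, hsz, htz⟩ : ∃ s t : {x : Ω // f x = f z}, s ≠ t ∧ s ≠ ⟨z, rfl⟩ ∧ t ≠ ⟨z, rfl⟩ := by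
      have h2 : 1 < (Finset.univ.erase (⟨z, rfl⟩ : {x : Ω // f x = f z})).card := by
        rw [Finset.card_erase_of_mem (Finset.mem_univ _), Finset.card_univ]; omega
      obtain ⟨s, hs, t, ht, hst⟩ := Finset.one_lt_card.1 h2
      exact ⟨s, t, hst, Finset.ne_of_mem_erase hs, Finset.ne_of_mem_erase ht⟩
    refine ⟨s.1, t.1, fun e => hst (Subtype.ext e), s.2.trans t.2.symm, fun w hw => ?_⟩
    simp only [List.mem_cons, List.not_mem_nil, or_false] at hw
    rcases hw with rfl | rfl | rfl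
    · exact ⟨fun e => hz (by rw [e, s.2]), fun e => hz (by rw [e, t.2])⟩
    · exact ⟨fun e => hz (by rw [huu, e, s.2]), fun e => hz (by rw [huu, e, t.2])⟩
    · exact ⟨fun e => hsz (Subtype.ext e.symm), fun e => htz (Subtype.ext e.symm)⟩
  · obtain ⟨k, hk1, hk2⟩ : ∃ k : Fin b, k ≠ f u ∧ k ≠ f z := by
      have h2 : ((Finset.univ.erase (f u)).erase (f z)).Nonempty := by
        rw [← Finset.card_pos, Finset.card_erase_of_mem (Finset.mem_erase.2 ⟨hz, Finset.mem_univ _⟩),
          Finset.card_erase_of_mem (Finset.mem_univ _), Finset.card_univ, Fintype.card_fin]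
        omega
      obtain ⟨k, hk⟩ := h2
      exact ⟨k, Finset.ne_of_mem_erase (Finset.mem_of_mem_erase hk), Finset.ne_of_mem_erase hk⟩
    obtain ⟨s, hs⟩ := exists_of_label (by omega) hf k
    obtain ⟨t, hts, ht⟩ := exists_other ha hf s
    refine ⟨s, t, hts.symm, ht.symm, fun w hw => ?_⟩
    simp only [List.mem_cons, List.not_mem_nil, or_false] at hw
    rcases hw with rfl | rfl | rfl
    · exact ⟨fun e => hk1 (by rw [e, hs]), fun e => hk1 (by rw [e, ht, hs])⟩
    · exact ⟨fun e => hk1 (by rw [huu, e, hs]), fun e => hk1 (by rw [huu, e, ht, hs])⟩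
    · exact ⟨fun e => hk2 (by rw [e, hs]), fun e => hk2 (by rw [e, ht, hs])⟩

/-- one three-cycle with exactly two points in a part gives the whole alternating group -/
theorem spread (ha : 2 ≤ a) (hf : ∀ i, Nat.card {x : Ω // f x = i} = a) (h : 3 ≤ a ∨ 3 ≤ b)
    {T : Subgroup (Equiv.Perm Ω)} (hT : T ≤ alternatingGroup Ω) (hPT : stab f ⊓ alternatingGroup Ω ≤ T)
    {x x' y : Ω} (hxx : x ≠ x') (hx : f x = f x') (hy : f y ≠ f x) (hc : cyc x x' y ∈ T) :
    alternatingGroup Ω ≤ T := by
  refine gen hT hxx fun z hzx hzx' => ?_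
  by_cases hz : f z = f x
  · refine hPT (Subgroup.mem_inf.2 ⟨?_, Equiv.Perm.mem_alternatingGroup.2 (cyc_sign hxx hzx'.symm)⟩)
    exact mul_mem (swap_mem hx) (swap_mem (hx.symm.trans hz.symm))
  obtain ⟨q, hq, hqx, hql⟩ := exists_lift hf (Equiv.swap (f y) (f z)) x x
    (Equiv.swap_apply_of_ne_of_ne hy.symm (Ne.symm hz))
  have hqx' : f (q x') = f x' := by
    rw [hql, ← hx, Equiv.swap_apply_of_ne_of_ne hy.symm (Ne.symm hz)]
  set q₁ := Equiv.swap (q x') x' * q with hq₁
  have hq₁x : q₁ x = x := by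
    rw [hq₁, Equiv.Perm.mul_apply, hqx]
    refine Equiv.swap_apply_of_ne_of_ne (fun e => hxx ?_) hxx
    exact q.injective (hqx.trans e)
  have hq₁x' : q₁ x' = x' := by rw [hq₁, Equiv.Perm.mul_apply, Equiv.swap_apply_left]
  have hq₁y : f (q₁ y) = f z := by
    rw [hq₁, Equiv.Perm.mul_apply, label_swap hqx', hql, Equiv.swap_apply_left]
  set q₂ := Equiv.swap (q₁ y) z * q₁ with hq₂
  have hne : ∀ w, f w = f x → w ≠ q₁ y ∧ w ≠ z := fun w hw =>
    ⟨fun e => hz (by rw [← hq₁y, ← e, hw]), fun e => hz (by rw [← e, hw])⟩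
  have h2x : q₂ x = x := by
    rw [hq₂, Equiv.Perm.mul_apply, hq₁x, Equiv.swap_apply_of_ne_of_ne (hne x rfl).1 (hne x rfl).2]
  have h2x' : q₂ x' = x' := by
    rw [hq₂, Equiv.Perm.mul_apply, hq₁x',
      Equiv.swap_apply_of_ne_of_ne (hne x' hx.symm).1 (hne x' hx.symm).2]
  have h2y : q₂ y = z := by rw [hq₂, Equiv.Perm.mul_apply, Equiv.swap_apply_left]
  have h2P : q₂ ∈ stab f := mul_mem (swap_mem hq₁y) (mul_mem (swap_mem hqx') hq)
  obtain ⟨s, t, hst, hfst, hav⟩ := adjust ha hf h hx hz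
  have key : ∀ r : Equiv.Perm Ω, r ∈ stab f → Equiv.Perm.sign r = 1 → r x = x → r x' = x' → r y = z →
      cyc x x' z ∈ T := by
    intro r hr hs h1 h2 h3
    have hrT := hPT (Subgroup.mem_inf.2 ⟨hr, Equiv.Perm.mem_alternatingGroup.2 hs⟩)
    have h4 := mul_mem (mul_mem hrT hc) (inv_mem hrT)
    rwa [cyc_conj, h1, h2, h3] at h4
  rcases Int.units_eq_one_or (Equiv.Perm.sign q₂) with hs | hs
  · exact key q₂ h2P hs h2x h2x' h2y
  · have e1 := hav x (by simp)
    have e2 := hav x' (by simp)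
    have e3 := hav z (by simp)
    refine key (Equiv.swap s t * q₂) (mul_mem (swap_mem hfst) h2P) ?_ ?_ ?_ ?_
    · rw [map_mul, Equiv.Perm.sign_swap hst, hs]; rfl
    · rw [Equiv.Perm.mul_apply, h2x, Equiv.swap_apply_of_ne_of_ne e1.1 e1.2]
    · rw [Equiv.Perm.mul_apply, h2x', Equiv.swap_apply_of_ne_of_ne e2.1 e2.2]
    · rw [Equiv.Perm.mul_apply, h2y, Equiv.swap_apply_of_ne_of_ne e3.1 e3.2]

/-- parts of size at least three -/
theorem large (ha : 3 ≤ a) (hf : ∀ i, Nat.card {x : Ω // f x = i} = a)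
    {T : Subgroup (Equiv.Perm Ω)} (hT : T ≤ alternatingGroup Ω) (hPT : stab f ⊓ alternatingGroup Ω ≤ T)
    {g : Equiv.Perm Ω} (hg : g ∈ T) (hgn : g ∉ stab f) : alternatingGroup Ω ≤ T := by
  have hwithin : ∀ p q r : Ω, p ≠ q → q ≠ r → f p = f q → f q = f r → cyc p q r ∈ T := fun p q r h1 h2 e1 e2 =>
    hPT (Subgroup.mem_inf.2 ⟨mul_mem (swap_mem e1) (swap_mem e2),
      Equiv.Perm.mem_alternatingGroup.2 (cyc_sign h1 h2)⟩)
  have hthird : ∀ p q : Ω, ∃ r, r ≠ p ∧ r ≠ q ∧ f r = f p := by
    intro p q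
    have h2 : ((Finset.univ.filter fun w => f w = f p) \ {p, q}).Nonempty := by
      rw [← Finset.card_pos]
      have h1 := Finset.le_card_sdiff {p, q} (Finset.univ.filter fun w => f w = f p)
      have h3 : (Finset.univ.filter fun w => f w = f p).card = a := by
        rw [← hf (f p), Nat.card_eq_fintype_card, Fintype.card_subtype]
      have h4 := Finset.card_le_two (a := p) (b := q)
      omega
    obtain ⟨r, hr⟩ := h2
    simp at hr
    exact ⟨r, hr.2.1, hr.2.2, hr.1⟩
  obtain ⟨x, y, hxy, hne⟩ := exists_separated hf hgn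
  have hxy' : x ≠ y := fun e => hne (by rw [e])
  obtain ⟨z, hzx, hzy, hz⟩ := hthird x y
  have h1 : cyc (g x) (g y) (g z) ∈ T := by
    have h := mul_mem (mul_mem hg (hwithin x y z hxy' hzy.symm hxy (hxy.symm.trans hz.symm))) (inv_mem hg)
    rwa [cyc_conj] at h
  have nxy : g x ≠ g y := g.injective.ne hxy'
  have nxz : g x ≠ g z := g.injective.ne hzx.symm
  have nyz : g y ≠ g z := g.injective.ne hzy.symm
  by_cases hc1 : f (g z) = f (g x)
  · refine spread (by omega) hf (Or.inl ha) hT hPT nxz.symm hc1 (fun e => hne ?_) (x := g z) (x' := g x) (y := g y) ?_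
    · rw [e, hc1]
    · rw [cyc_rot nxz.symm nyz.symm nxy]; exact h1
  by_cases hc2 : f (g z) = f (g y)
  · refine spread (by omega) hf (Or.inl ha) hT hPT nyz hc2.symm hne (x := g y) (x' := g z) (y := g x) ?_
    rw [← cyc_rot nxy nxz nyz]; exact h1
  obtain ⟨u', hu'x, -, hu'⟩ := hthird (g x) (g x)
  obtain ⟨u'', hu''x, hu''u', hu''⟩ := hthird (g x) u'
  have hd := hwithin (g x) u' u'' hu'x.symm hu''u'.symm hu'.symm (hu'.trans hu''.symm)
  have h2 := mul_mem (mul_mem h1 hd) (inv_mem h1)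
  rw [cyc_conj, cyc_fst nxy nxz,
    cyc_of_ne hu'x (fun e => hne (by rw [← hu', e])) (fun e => hc1 (by rw [← hu', e])),
    cyc_of_ne hu''x (fun e => hne (by rw [← hu'', e])) (fun e => hc1 (by rw [← hu'', e]))] at h2
  have n1 : g y ≠ u' := fun e => hne (by rw [e, hu'])
  have n2 : g y ≠ u'' := fun e => hne (by rw [e, hu''])
  refine spread (by omega) hf (Or.inl ha) hT hPT hu''u'.symm (hu'.trans hu''.symm) (fun e => hne ?_)
    (x := u') (x' := u'') (y := g y) ?_
  · rw [e, hu']
  · rw [← cyc_rot n1 n2 hu''u'.symm]; exact h2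

/-- parts of size two -/
theorem small (hb : 2 ≤ b) (hb4 : b ≠ 4) (hf : ∀ i, Nat.card {x : Ω // f x = i} = 2)
    {T : Subgroup (Equiv.Perm Ω)} (hT : T ≤ alternatingGroup Ω) (hPT : stab f ⊓ alternatingGroup Ω ≤ T)
    {g : Equiv.Perm Ω} (hg : g ∈ T) (hgn : g ∉ stab f) : alternatingGroup Ω ≤ T := by
  have hpair : ∀ p p' : Ω, p' ≠ p → f p' = f p → ∀ z, f z = f p → z = p ∨ z = p' := by
    intro p p' hne hp z hz
    by_contra hc
    push_neg at hc
    have h1 : ({p, p', z} : Finset Ω) ⊆ Finset.univ.filter fun w => f w = f p := by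
      intro w hw; simp at hw ⊢
      rcases hw with rfl | rfl | rfl
      exacts [rfl, hp, hz]
    have h2 := Finset.card_le_card h1
    rw [Finset.card_eq_three.2 ⟨p, p', z, hne.symm, hc.1.symm, hc.2.symm, rfl⟩, ← Fintype.card_subtype,
      ← Nat.card_eq_fintype_card, hf] at h2
    omega
  have hdouble : ∀ p q r s : Ω, p ≠ q → r ≠ s → f p = f q → f r = f s → Equiv.swap p q * Equiv.swap r s ∈ T :=
    fun p q r s h1 h2 e1 e2 => hPT (Subgroup.mem_inf.2 ⟨mul_mem (swap_mem e1) (swap_mem e2),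
      Equiv.Perm.mem_alternatingGroup.2 (by rw [map_mul, Equiv.Perm.sign_swap h1, Equiv.Perm.sign_swap h2]; rfl)⟩)
  have hconj : ∀ p q r s : Ω, p ≠ q → r ≠ s → f p = f q → f r = f s →
      Equiv.swap (g p) (g q) * Equiv.swap (g r) (g s) ∈ T := by
    intro p q r s h1 h2 e1 e2
    have h := mul_mem (mul_mem hg (hdouble p q r s h1 h2 e1 e2)) (inv_mem hg)
    rw [Equiv.swap_apply_apply g p q, Equiv.swap_apply_apply g r s]
    convert h using 1
    group
  obtain ⟨x, x', hxx, hne⟩ := exists_separated hf hgn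
  have hxx' : x ≠ x' := fun e => hne (by rw [e])
  obtain ⟨u, hu⟩ : ∃ u, g x = u := ⟨_, rfl⟩
  obtain ⟨v, hv⟩ : ∃ v, g x' = v := ⟨_, rfl⟩
  rw [hu, hv] at hne
  obtain ⟨u', hu'u, hu'⟩ := exists_other le_rfl hf u
  obtain ⟨v', hv'v, hv'⟩ := exists_other le_rfl hf v
  have nuv : u ≠ v := fun e => hne (by rw [e])
  have nu'v : u' ≠ v := fun e => hne (by rw [← hu', e])
  have nuv' : u ≠ v' := fun e => hne (by rw [e, hv'])
  have nu'v' : u' ≠ v' := fun e => hne (by rw [← hu', e, hv'])
  by_cases hb2 : b = 2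
  · -- four points
    have hcov : ∀ z, z = u ∨ z = u' ∨ z = v ∨ z = v' := by
      intro z
      by_cases h : f z = f u
      · rcases hpair u u' hu'u hu' z h with h | h <;> simp [h]
      · have hzv : f z = f v := by
          subst hb2
          revert h hne
          generalize f z = i
          generalize f u = j
          generalize f v = k
          revert i j k
          decide
        rcases hpair v v' hv'v hv' z hzv with h | h <;> simp [h]
    have hPu : ∀ w, ∃ p ∈ T, p ∈ stab f ∧ p u = w := by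
      intro w
      rcases hcov w with rfl | rfl | rfl | rfl
      · exact ⟨1, one_mem T, one_mem _, rfl⟩
      · refine ⟨_, hdouble u w v v' hu'u.symm hv'v.symm hu'.symm hv'.symm,
          mul_mem (swap_mem hu'.symm) (swap_mem hv'.symm), ?_⟩
        rw [Equiv.Perm.mul_apply, Equiv.swap_apply_of_ne_of_ne nuv nuv', Equiv.swap_apply_left]
      · have hm : Equiv.swap u w * Equiv.swap u' v' ∈ stab f := by
          refine mem_stab.2 fun p q => ?_
          have e : ∀ r, f ((Equiv.swap u w * Equiv.swap u' v') r) = Equiv.swap (f u) (f w) (f r) := by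
            intro r
            rcases hcov r with rfl | rfl | rfl | rfl
            · rw [Equiv.Perm.mul_apply, Equiv.swap_apply_of_ne_of_ne hu'u.symm nuv', Equiv.swap_apply_left,
                Equiv.swap_apply_left]
            · rw [Equiv.Perm.mul_apply, Equiv.swap_apply_left,
                Equiv.swap_apply_of_ne_of_ne nuv'.symm hv'v, hu', Equiv.swap_apply_left, hv']
            · rw [Equiv.Perm.mul_apply, Equiv.swap_apply_of_ne_of_ne nu'v.symm hv'v.symm, Equiv.swap_apply_right,
                Equiv.swap_apply_right]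
            · rw [Equiv.Perm.mul_apply, Equiv.swap_apply_right,
                Equiv.swap_apply_of_ne_of_ne hu'u nu'v, hv', Equiv.swap_apply_right, hu']
          rw [e, e, (Equiv.swap (f u) (f w)).injective.eq_iff]
        refine ⟨_, hPT (Subgroup.mem_inf.2 ⟨hm, Equiv.Perm.mem_alternatingGroup.2 ?_⟩), hm, ?_⟩
        · rw [map_mul, Equiv.Perm.sign_swap nuv, Equiv.Perm.sign_swap nu'v']; rfl
        · rw [Equiv.Perm.mul_apply, Equiv.swap_apply_of_ne_of_ne hu'u.symm nuv', Equiv.swap_apply_left]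
      · have hm : Equiv.swap u w * Equiv.swap u' v ∈ stab f := by
          refine mem_stab.2 fun p q => ?_
          have e : ∀ r, f ((Equiv.swap u w * Equiv.swap u' v) r) = Equiv.swap (f u) (f v) (f r) := by
            intro r
            rcases hcov r with rfl | rfl | rfl | rfl
            · rw [Equiv.Perm.mul_apply, Equiv.swap_apply_of_ne_of_ne hu'u.symm nuv, Equiv.swap_apply_left,
                hv', Equiv.swap_apply_left]
            · rw [Equiv.Perm.mul_apply, Equiv.swap_apply_left,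
                Equiv.swap_apply_of_ne_of_ne nuv.symm hv'v.symm, hu', Equiv.swap_apply_left]
            · rw [Equiv.Perm.mul_apply, Equiv.swap_apply_right,
                Equiv.swap_apply_of_ne_of_ne hu'u nu'v', hu', Equiv.swap_apply_right]
            · rw [Equiv.Perm.mul_apply, Equiv.swap_apply_of_ne_of_ne nu'v'.symm hv'v, Equiv.swap_apply_right,
                hv', Equiv.swap_apply_right]
          rw [e, e, (Equiv.swap (f u) (f v)).injective.eq_iff]
        refine ⟨_, hPT (Subgroup.mem_inf.2 ⟨hm, Equiv.Perm.mem_alternatingGroup.2 ?_⟩), hm, ?_⟩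
        · rw [map_mul, Equiv.Perm.sign_swap nuv', Equiv.Perm.sign_swap nu'v]; rfl
        · rw [Equiv.Perm.mul_apply, Equiv.swap_apply_of_ne_of_ne hu'u.symm nuv, Equiv.swap_apply_left]
    obtain ⟨p, hpT, hpP, hp⟩ := hPu (g⁻¹ u)
    obtain ⟨k, hk⟩ : ∃ k, k = g * p := ⟨_, rfl⟩
    have hkT : k ∈ T := by rw [hk]; exact mul_mem hg hpT
    have hku : k u = u := by
      rw [hk, Equiv.Perm.mul_apply, hp, Equiv.Perm.inv_def, Equiv.apply_symm_apply]
    have hkn : k ∉ stab f := fun h => hgn (by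
      have h2 := mul_mem h (inv_mem hpP)
      rwa [hk, mul_inv_cancel_right] at h2)
    clear hk
    have hsgn := Equiv.Perm.mem_alternatingGroup.1 (hT hkT)
    have himg : ∀ z, z ≠ u → k z = u' ∨ k z = v ∨ k z = v' := fun z hz =>
      (hcov (k z)).resolve_left (fun e => hz (k.injective (e.trans hku.symm)))
    -- `k` permutes the other three points cyclically
    have hk3 : (k v = v' ∧ k v' = u' ∧ k u' = v) ∨ (k v = u' ∧ k u' = v' ∧ k v' = v) := by
      have hswapP : ∀ p q, k = Equiv.swap p q → p ≠ q → False := fun p q e hpq => by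
        rw [e, Equiv.Perm.sign_swap hpq] at hsgn; exact absurd hsgn (by decide)
      have i1 : k v ≠ k v' := k.injective.ne hv'v.symm
      have i2 : k v ≠ k u' := k.injective.ne nu'v.symm
      have i3 : k v' ≠ k u' := k.injective.ne nu'v'.symm
      rcases himg v nuv.symm with h1 | h1 | h1 <;> rcases himg v' nuv'.symm with h2 | h2 | h2 <;>
        rcases himg u' hu'u with h3 | h3 | h3 <;>
        first
        | exact absurd (h1.trans h2.symm) i1
        | exact absurd (h1.trans h3.symm) i2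
        | exact absurd (h2.trans h3.symm) i3
        | exact Or.inl ⟨h1, h2, h3⟩
        | exact Or.inr ⟨h1, h3, h2⟩
        | (exfalso
           have hk1 : k = 1 := by
             refine Equiv.ext fun z => ?_
             rcases hcov z with rfl | rfl | rfl | rfl <;> (simp [*]; done)
           exact hkn (hk1 ▸ one_mem _))
        | (exfalso
           refine hswapP v v' ?_ hv'v.symm
           refine Equiv.ext fun z => ?_
           rcases hcov z with rfl | rfl | rfl | rfl <;> (simp [*, Equiv.swap_apply_of_ne_of_ne, hu'u.symm, nuv.symm, nuv'.symm]; done))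
        | (exfalso
           refine hswapP v u' ?_ nu'v.symm
           refine Equiv.ext fun z => ?_
           rcases hcov z with rfl | rfl | rfl | rfl <;> (simp [*, Equiv.swap_apply_of_ne_of_ne, hu'u.symm, nuv'.symm, hv'v.symm, nu'v'.symm]; done))
        | (exfalso
           refine hswapP v' u' ?_ nu'v'.symm
           refine Equiv.ext fun z => ?_
           rcases hcov z with rfl | rfl | rfl | rfl <;> (simp [*, Equiv.swap_apply_of_ne_of_ne, hu'u.symm, nuv.symm, hv'v.symm, nu'v.symm]; done))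
    have hd : Equiv.swap v v' * Equiv.swap u u' ∈ T := hdouble v v' u u' hv'v.symm hu'u.symm hv'.symm hu'.symm
    have hd1 : (Equiv.swap v v' * Equiv.swap u u') v = v' := by
      rw [Equiv.Perm.mul_apply, Equiv.swap_apply_of_ne_of_ne nuv.symm nu'v.symm, Equiv.swap_apply_left]
    have hd2 : (Equiv.swap v v' * Equiv.swap u u') v' = v := by
      rw [Equiv.Perm.mul_apply, Equiv.swap_apply_of_ne_of_ne nuv'.symm nu'v'.symm, Equiv.swap_apply_right]
    have hd3 : (Equiv.swap v v' * Equiv.swap u u') u' = u := by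
      rw [Equiv.Perm.mul_apply, Equiv.swap_apply_right, Equiv.swap_apply_of_ne_of_ne nuv nuv']
    have hgenvv : ∀ q q' : Ω, q ≠ q' → (∀ z, z = q ∨ z = q' ∨ z = u ∨ z = u') →
        (Equiv.swap v v' * Equiv.swap u u') q = q' → (Equiv.swap v v' * Equiv.swap u u') q' = q →
        u ≠ q → u ≠ q' → cyc q q' u' ∈ T → alternatingGroup Ω ≤ T := by
      intro q q' hqq hcv e1 e2 n1 n2 hc
      refine gen hT hqq fun z hz1 hz2 => ?_
      rcases hcv z with h | h | h | h
      · exact absurd h hz1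
      · exact absurd h hz2
      · subst h
        have h2 := inv_mem (mul_mem (mul_mem hd hc) (inv_mem hd))
        rw [cyc_conj, e1, e2, hd3] at h2
        have e : (cyc q' q z)⁻¹ = cyc q q' z := by
          rw [cyc, mul_inv_rev, Equiv.swap_inv, Equiv.swap_inv, Equiv.swap_comm q z, Equiv.swap_comm q' q, ← cyc,
            cyc_rot n1 n2 hqq]
        rwa [e] at h2
      · subst h; exact hc
    rcases hk3 with ⟨k1, k2, k3⟩ | ⟨k1, k2, k3⟩
    · refine hgenvv v v' hv'v.symm (fun z => by rcases hcov z with h | h | h | h <;> simp [h]) hd1 hd2 nuv nuv' ?_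
      have : k = cyc v v' u' := Equiv.ext fun z => by
        rcases hcov z with rfl | rfl | rfl | rfl
        · rw [hku, cyc_of_ne nuv nuv' hu'u.symm]
        · rw [k3, cyc_trd]
        · rw [k1, cyc_fst hv'v.symm nu'v.symm]
        · rw [k2, cyc_snd nu'v.symm nu'v'.symm]
      rwa [this] at hkT
    · refine hgenvv v' v hv'v (fun z => by rcases hcov z with h | h | h | h <;> simp [h]) hd2 hd1 nuv' nuv ?_
      have : k = cyc v' v u' := Equiv.ext fun z => by
        rcases hcov z with rfl | rfl | rfl | rfl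
        · rw [hku, cyc_of_ne nuv' nuv hu'u.symm]
        · rw [k2, cyc_trd]
        · rw [k1, cyc_snd nu'v'.symm nu'v.symm]
        · rw [k3, cyc_fst hv'v nu'v'.symm]
      rwa [this] at hkT
  have hb3 : 3 ≤ b := by omega
  -- conclude from a double transposition that commutes suitably
  have finish : ∀ B D : Equiv.Perm Ω, B * B = 1 → D * D = 1 → Equiv.swap u v * B ∈ T →
      Equiv.swap u u' * D ∈ T → Commute B (Equiv.swap u v) → Commute B (Equiv.swap u u') → Commute B D →
      Commute D (Equiv.swap u v) → Commute D (Equiv.swap u u') → alternatingGroup Ω ≤ T := by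
    intro B D hB hD hAB hCD c1 c2 c3 c4 c5
    obtain ⟨A, hA⟩ : ∃ A, A = Equiv.swap u v := ⟨_, rfl⟩
    obtain ⟨C, hC⟩ : ∃ C, C = Equiv.swap u u' := ⟨_, rfl⟩
    rw [← hA] at hAB c1 c4
    rw [← hC] at hCD c2 c5
    have hBD : (B * D) * (B * D) = 1 := by
      rw [mul_assoc, ← mul_assoc D, c3.symm.eq, mul_assoc B D, hD, mul_one, hB]
    have hcAC : Commute (B * D) (A * C) := ((c1.mul_left c4).mul_right (c2.mul_left c5))
    have hsq : (A * B * (C * D)) * (A * B * (C * D)) = (A * C) * (A * C) := by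
      have e : A * B * (C * D) = (A * C) * (B * D) := by
        rw [mul_assoc, ← mul_assoc B, c2.eq, mul_assoc C, ← mul_assoc A]
      rw [e, mul_assoc, ← mul_assoc (B * D), hcAC.eq, mul_assoc (A * C) (B * D), hBD, mul_one]
    have h1 : (A * C) * (A * C) ∈ T := hsq ▸ mul_mem (mul_mem hAB hCD) (mul_mem hAB hCD)
    have h2 : (A * C) * (A * C) = cyc u' u v := by
      subst hA hC
      refine Equiv.ext fun z => ?_
      by_cases z1 : z = u
      · subst z1
        rw [cyc_snd nu'v nuv]
        simp [Equiv.swap_apply_of_ne_of_ne, hu'u, nu'v, nuv.symm, nu'v.symm]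
      by_cases z2 : z = u'
      · subst z2
        rw [cyc_fst hu'u nu'v]
        simp [Equiv.swap_apply_of_ne_of_ne, hu'u, nuv.symm, nu'v.symm]
      by_cases z3 : z = v
      · subst z3
        rw [cyc_trd]
        simp [Equiv.swap_apply_of_ne_of_ne, hu'u, nu'v, nuv.symm, nu'v.symm]
      rw [cyc_of_ne z2 z1 z3]
      simp [Equiv.swap_apply_of_ne_of_ne, z1, z2, z3]
    rw [h2] at h1
    exact spread le_rfl hf (Or.inr hb3) hT hPT hu'u hu' (fun e => hne (by rw [← hu', e])) h1
  have hcom : ∀ p q r s : Ω, p ≠ r → p ≠ s → q ≠ r → q ≠ s → p ≠ q →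
      Commute (Equiv.swap p q) (Equiv.swap r s) := by
    intro p q r s h1 h2 h3 h4 _
    refine Equiv.Perm.Disjoint.commute fun z => ?_
    by_cases e1 : z = p
    · subst e1; right; rw [Equiv.swap_apply_of_ne_of_ne h1 h2]
    by_cases e2 : z = q
    · subst e2; right; rw [Equiv.swap_apply_of_ne_of_ne h3 h4]
    left; rw [Equiv.swap_apply_of_ne_of_ne e1 e2]
  obtain ⟨z, hz⟩ := g.surjective u'
  have hzx : f z ≠ f x := by
    intro e
    rcases hpair x x' hxx'.symm hxx.symm z e with rfl | rfl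
    · exact hu'u (hz.symm.trans hu)
    · exact nu'v (hz.symm.trans hv)
  by_cases hb5 : 5 ≤ b
  · obtain ⟨i, hi1, hi2⟩ : ∃ i : Fin b, i ≠ f x ∧ i ≠ f z := by
      obtain ⟨i, -, hi⟩ := Finset.exists_mem_notMem_of_card_lt_card (s := {f x, f z}) (t := Finset.univ)
        (lt_of_le_of_lt Finset.card_le_two (by rw [Finset.card_univ, Fintype.card_fin]; omega))
      simp at hi; exact ⟨i, hi.1, hi.2⟩
    obtain ⟨y, hy⟩ := exists_of_label (by omega) hf i
    obtain ⟨y', hy'y, hy'⟩ := exists_other le_rfl hf y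
    obtain ⟨k, hk⟩ : ∃ k : Fin b, k ∉ ({f u, f v, f (g y), f (g y')} : Finset (Fin b)) := by
      obtain ⟨k, -, hk⟩ := Finset.exists_mem_notMem_of_card_lt_card (s := {f u, f v, f (g y), f (g y')})
        (t := Finset.univ) (lt_of_le_of_lt Finset.card_le_four (by rw [Finset.card_univ, Fintype.card_fin]; omega))
      exact ⟨k, hk⟩
    simp at hk
    obtain ⟨w, hw⟩ := exists_of_label (by omega) hf k
    obtain ⟨w', hw'w, hw'⟩ := exists_other le_rfl hf w
    have hAB : Equiv.swap u v * Equiv.swap (g y) (g y') ∈ T := by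
      rw [← hu, ← hv]; exact hconj x x' y y' hxx' hy'y.symm hxx hy'.symm
    have ny : ∀ q, f q = f y → g q ≠ u ∧ g q ≠ v ∧ g q ≠ u' := by
      intro q hq
      refine ⟨fun e => hi1 ?_, fun e => hi1 ?_, fun e => hi2 ?_⟩
      · rw [← hy, ← hq, g.injective (e.trans hu.symm)]
      · rw [← hy, ← hq, g.injective (e.trans hv.symm), hxx]
      · rw [← hy, ← hq, g.injective (e.trans hz.symm)]
    obtain ⟨y1, y2, y3⟩ := ny y rfl
    obtain ⟨z1, z2, z3⟩ := ny y' hy'
    have nw : ∀ q, f q = f w → ∀ t, f t ∈ ({f u, f v, f (g y), f (g y')} : Set (Fin b)) → q ≠ t := by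
      rintro q hq t ht rfl
      rw [hq, hw] at ht
      simp at ht
      tauto
    refine finish (Equiv.swap (g y) (g y')) (Equiv.swap w w') (Equiv.swap_mul_self _ _) (Equiv.swap_mul_self _ _)
      hAB (hdouble u u' w w' hu'u.symm hw'w.symm hu'.symm hw'.symm)
      (hcom _ _ _ _ y1 y2 z1 z2 (g.injective.ne hy'y.symm)) (hcom _ _ _ _ y1 y3 z1 z3 (g.injective.ne hy'y.symm))
      (hcom _ _ _ _ ?_ ?_ ?_ ?_ (g.injective.ne hy'y.symm))
      (hcom _ _ _ _ ?_ ?_ ?_ ?_ hw'w.symm) (hcom _ _ _ _ ?_ ?_ ?_ ?_ hw'w.symm)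
    · exact (nw w rfl _ (by simp)).symm
    · exact (nw w' hw' _ (by simp)).symm
    · exact (nw w rfl _ (by simp)).symm
    · exact (nw w' hw' _ (by simp)).symm
    · exact nw w rfl _ (by simp)
    · exact nw w rfl _ (by simp)
    · exact nw w' hw' _ (by simp)
    · exact nw w' hw' _ (by simp)
    · exact nw w rfl _ (by simp)
    · exact nw w rfl _ (by simp [hu'])
    · exact nw w' hw' _ (by simp)
    · exact nw w' hw' _ (by simp [hu'])
  -- three parts
  have hb' : b = 3 := by omega
  subst hb'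
  obtain ⟨z', hz'z, hz'⟩ := exists_other le_rfl hf z
  obtain ⟨k, hk1, hk2⟩ : ∃ k : Fin 3, k ≠ f u ∧ k ≠ f v := by
    generalize f u = i; generalize f v = j; revert i j; decide
  have three : ∀ i j k l : Fin 3, i ≠ j → k ≠ i → k ≠ j → l = i ∨ l = j ∨ l = k := by decide
  obtain ⟨q, hq⟩ : ∃ q, g z' = q := ⟨_, rfl⟩
  have qu : q ≠ u := fun e => hzx (by rw [← hz', g.injective (hq.trans (e.trans hu.symm))])
  have qv : q ≠ v := fun e => hzx (by rw [← hz', g.injective (hq.trans (e.trans hv.symm)), hxx])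
  have qu' : q ≠ u' := fun e => hz'z (g.injective (hq.trans (e.trans hz.symm)))
  by_cases hqv : q = v'
  · -- the remaining pair maps to the third part
    obtain ⟨i, hi1, hi2⟩ : ∃ i : Fin 3, i ≠ f x ∧ i ≠ f z := by
      generalize f x = i; generalize f z = j; revert i j; decide
    obtain ⟨y, hy⟩ := exists_of_label (by omega) hf i
    obtain ⟨y', hy'y, hy'⟩ := exists_other le_rfl hf y
    have hk : ∀ r, f r = f y → f (g r) = k := by
      intro r hr
      rcases three (f u) (f v) k (f (g r)) hne hk1 hk2 with h | h | h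
      · rcases hpair u u' hu'u hu' _ h with e | e
        · exact absurd (by rw [← hy, ← hr, g.injective (e.trans hu.symm)]) hi1
        · exact absurd (by rw [← hy, ← hr, g.injective (e.trans hz.symm)]) hi2
      · rcases hpair v v' hv'v hv' _ h with e | e
        · exact absurd (by rw [← hy, ← hr, g.injective (e.trans hv.symm), hxx]) hi1
        · exact absurd (by rw [← hy, ← hr, g.injective (e.trans (hqv.symm.trans hq.symm)), hz']) hi2
      · exact h
    have hff : f (g y) = f (g y') := by rw [hk y rfl, hk y' hy']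
    have hd : g y ≠ g y' := g.injective.ne hy'y.symm
    have nk : ∀ r, f r = f y → ∀ t, f t = f u ∨ f t = f v → g r ≠ t := by
      rintro r hr t ht rfl
      rw [hk r hr] at ht
      tauto
    have hAB : Equiv.swap u v * Equiv.swap (g y) (g y') ∈ T := by
      rw [← hu, ← hv]; exact hconj x x' y y' hxx' hy'y.symm hxx hy'.symm
    have c1 := hcom _ _ u v (nk y rfl u (Or.inl rfl)) (nk y rfl v (Or.inr rfl)) (nk y' hy' u (Or.inl rfl))
      (nk y' hy' v (Or.inr rfl)) hd
    have c2 := hcom _ _ u u' (nk y rfl u (Or.inl rfl)) (nk y rfl u' (Or.inl hu')) (nk y' hy' u (Or.inl rfl))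
      (nk y' hy' u' (Or.inl hu')) hd
    exact finish _ _ (Equiv.swap_mul_self _ _) (Equiv.swap_mul_self _ _) hAB
      (hdouble u u' _ _ hu'u.symm hd hu'.symm hff) c1 c2 (Commute.refl _) c1 c2
  · obtain ⟨q', hq'q, hq'⟩ := exists_other le_rfl hf q
    have hfq : f q = k := by
      rcases three (f u) (f v) k (f q) hne hk1 hk2 with h | h | h
      · rcases hpair u u' hu'u hu' _ h with e | e
        exacts [absurd e qu, absurd e qu']
      · rcases hpair v v' hv'v hv' _ h with e | e
        exacts [absurd e qv, absurd e hqv]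
      · exact h
    have nq : ∀ t, f t = f u ∨ f t = f v → q' ≠ t := by
      rintro t ht rfl
      rw [hq', hfq] at ht
      tauto
    have hcov : ∀ r, r = u ∨ r = u' ∨ r = v ∨ r = v' ∨ r = q ∨ r = q' := by
      intro r
      rcases three (f u) (f v) k (f r) hne hk1 hk2 with h | h | h
      · rcases hpair u u' hu'u hu' _ h with e | e <;> simp [e]
      · rcases hpair v v' hv'v hv' _ h with e | e <;> simp [e]
      · rcases hpair q q' hq'q hq' _ (h.trans hfq.symm) with e | e <;> simp [e]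
    have n1 := nq u (Or.inl rfl)
    have n2 := nq u' (Or.inl hu')
    have n3 := nq v (Or.inr rfl)
    have n4 := nq v' (Or.inr hv')
    have hd : Equiv.swap u v * Equiv.swap u' q ∈ T := by
      rw [← hu, ← hv, ← hz, ← hq]; exact hconj x x' z z' hxx' hz'z.symm hxx hz'.symm
    have hp : Equiv.swap v q * Equiv.swap v' q' ∈ stab f := by
      have e : ∀ r, f ((Equiv.swap v q * Equiv.swap v' q') r) = Equiv.swap (f v) k (f r) := by
        intro r
        rcases hcov r with rfl | rfl | rfl | rfl | rfl | rfl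
        · rw [Equiv.Perm.mul_apply, Equiv.swap_apply_of_ne_of_ne nuv' n1.symm,
            Equiv.swap_apply_of_ne_of_ne nuv qu.symm, Equiv.swap_apply_of_ne_of_ne hne hk1.symm]
        · rw [Equiv.Perm.mul_apply, Equiv.swap_apply_of_ne_of_ne nu'v' n2.symm,
            Equiv.swap_apply_of_ne_of_ne nu'v qu'.symm, hu', Equiv.swap_apply_of_ne_of_ne hne hk1.symm]
        · rw [Equiv.Perm.mul_apply, Equiv.swap_apply_of_ne_of_ne hv'v.symm n3.symm, Equiv.swap_apply_left,
            Equiv.swap_apply_left, hfq]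
        · rw [Equiv.Perm.mul_apply, Equiv.swap_apply_left, Equiv.swap_apply_of_ne_of_ne n3 hq'q, hq', hfq,
            hv', Equiv.swap_apply_left]
        · rw [Equiv.Perm.mul_apply, Equiv.swap_apply_of_ne_of_ne hqv hq'q.symm, Equiv.swap_apply_right, hfq,
            Equiv.swap_apply_right]
        · rw [Equiv.Perm.mul_apply, Equiv.swap_apply_right, Equiv.swap_apply_of_ne_of_ne hv'v (Ne.symm hqv), hv',
            hq', hfq, Equiv.swap_apply_right]
      exact mem_stab.2 fun r r' => by rw [e, e, (Equiv.swap (f v) k).injective.eq_iff]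
    have hpT : Equiv.swap v q * Equiv.swap v' q' ∈ T := hPT (Subgroup.mem_inf.2 ⟨hp,
      Equiv.Perm.mem_alternatingGroup.2 (by rw [map_mul, Equiv.Perm.sign_swap qv.symm, Equiv.Perm.sign_swap n4.symm]; rfl)⟩)
    have hw := mul_mem (mul_mem (mul_mem hd hpT) hd) (hdouble u u' q q' hu'u.symm hq'q.symm hu'.symm hq'.symm)
    have e : Equiv.swap u v * Equiv.swap u' q * (Equiv.swap v q * Equiv.swap v' q') * (Equiv.swap u v * Equiv.swap u' q)
        * (Equiv.swap u u' * Equiv.swap q q') = cyc q' q v' := by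
      refine Equiv.ext fun r => ?_
      rcases hcov r with rfl | rfl | rfl | rfl | rfl | rfl <;>
        simp [cyc, Equiv.swap_apply_of_ne_of_ne, nuv, nuv', nu'v, nu'v', hu'u, hv'v, qu, qv, qu', hqv, hq'q, n1, n2, n3, n4,
          nuv.symm, nuv'.symm, nu'v.symm, nu'v'.symm, hu'u.symm, hv'v.symm, qu.symm, qv.symm, qu'.symm, Ne.symm hqv,
          hq'q.symm, n1.symm, n2.symm, n3.symm, n4.symm]
    rw [e] at hw
    exact spread le_rfl hf (Or.inr hb3) hT hPT hq'q hq' (fun e => hk2 (by rw [← hfq, ← hq', ← e, hv'])) hw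

/-- Let Ω be a finite set whose size is not 8, and f : Ω → Fin b a labelling with b ≥ 2 whose fibres all have the same size a ≥ 2 (a partition into b blocks of size a). Then the even permutations preserving the partition — the intersection of the imprimitive wreath product S_a ≀ S_b with the alternating group — form a maximal subgroup of the alternating group on Ω. -/
theorem result {Ω : Type*} [Fintype Ω] [DecidableEq Ω] (h8 : Fintype.card Ω ≠ 8) (a b : ℕ) (ha : 2 ≤ a) (hb : 2 ≤ b)
    (f : Ω → Fin b) (hf : ∀ i : Fin b, Nat.card {x : Ω // f x = i} = a) :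
    IsCoatom ((Subgroup.closure {g : Equiv.Perm Ω | ∀ x y : Ω, f x = f y ↔ f (g x) = f (g y)} ⊓ alternatingGroup Ω).subgroupOf (alternatingGroup Ω)) := by
  classical
  rw [Cfsg.Agent.Perm.BlockPartition.closure_eq]
  obtain ⟨x, hx⟩ := Cfsg.Agent.Perm.BlockPartition.exists_of_label (by omega) hf ⟨0, by omega⟩
  obtain ⟨y, hy⟩ := Cfsg.Agent.Perm.BlockPartition.exists_of_label (by omega) hf ⟨1, by omega⟩
  obtain ⟨x', hne, hx'⟩ := Cfsg.Agent.Perm.BlockPartition.exists_other ha hf x
  have hxy : f x ≠ f y := by rw [hx, hy]; simp [Fin.ext_iff]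
  refine ⟨fun h => ?_, fun T hT => ?_⟩
  · have hc : cyc x x' y ∈ alternatingGroup Ω :=
      Equiv.Perm.mem_alternatingGroup.2 (cyc_sign hne.symm (fun e => hxy (by rw [← hx', e])))
    have hm : (⟨_, hc⟩ : alternatingGroup Ω) ∈ _ := h.symm ▸ Subgroup.mem_top _
    have h1 := ((Subgroup.mem_inf.1 (Subgroup.mem_subgroupOf.1 hm)).1 x x').1 hx'.symm
    rw [cyc_fst hne.symm (fun e => hxy (by rw [e])),
      cyc_snd (fun e => hxy (by rw [e])) (fun e => hxy (by rw [← hx', e]))] at h1
    exact hxy (hx'.symm.trans h1)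
  · obtain ⟨g, hgT, hgn⟩ := SetLike.exists_of_lt hT
    set T' := T.map (alternatingGroup Ω).subtype with hT'
    have hle : T' ≤ alternatingGroup Ω := Subgroup.map_subtype_le T
    have hPT : Cfsg.Agent.Perm.BlockPartition.stab f ⊓ alternatingGroup Ω ≤ T' := fun p hp =>
      ⟨⟨p, (Subgroup.mem_inf.1 hp).2⟩, hT.le hp, rfl⟩
    have hgn' : (g : Equiv.Perm Ω) ∉ Cfsg.Agent.Perm.BlockPartition.stab f :=
      fun h => hgn (Subgroup.mem_inf.2 ⟨h, g.2⟩)
    have htop : alternatingGroup Ω ≤ T' := by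
      rcases (show a = 2 ∨ 3 ≤ a by omega) with rfl | ha3
      · refine small hb (fun hb4 => h8 ?_) hf hle hPT ⟨g, hgT, rfl⟩ hgn'
        rw [← Nat.card_eq_fintype_card, ← Nat.card_congr (Equiv.sigmaFiberEquiv f), Nat.card_sigma]
        simp only [← Nat.card_eq_fintype_card, hf]
        simp [hb4]
      · exact large ha3 hf hle hPT ⟨g, hgT, rfl⟩ hgn'
    refine eq_top_iff.2 fun k _ => ?_
    obtain ⟨k', hk', e⟩ := htop k.2
    exact (Subtype.ext e : k' = k) ▸ hk'

end Cfsg.Agent.S5909
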