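import Cfsg.Statements.S5910
import Cfsg.Agent.Lib.Perm.BlockPartition
-- import your own Cfsg.Agent.* helpers here

set_option autoImplicit false
open Cfsg

namespace Cfsg.Agent.S5910

abbrev Pt : Type := Fin 4 × Bool

/-- addition on the four labels, as bitwise xor -/
def lxor (i j : Fin 4) : Fin 4 := ![![0, 1, 2, 3], ![1, 0, 3, 2], ![2, 3, 0, 1], ![3, 2, 1, 0]] i j

def tri (x y z : Pt) : Pt := (lxor (lxor x.1 y.1) z.1, xor (xor x.2 y.2) z.2)

/-- the affine group of the eight points -/
def aff : Subgroup (Equiv.Perm Pt) where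
  carrier := {g | ∀ x y z, g (tri x y z) = tri (g x) (g y) (g z)}
  mul_mem' := fun {g h} hg hh x y z => by simp only [Equiv.Perm.mul_apply, hh x y z, hg (h x) (h y) (h z)]
  one_mem' := fun x y z => rfl
  inv_mem' := fun {g} hg x y z => by
    apply g.injective
    rw [hg (g⁻¹ x) (g⁻¹ y) (g⁻¹ z)]
    simp [Equiv.Perm.inv_def]

theorem perm4_affine : ∀ σ : Equiv.Perm (Fin 4), ∀ i j k : Fin 4,
    σ (lxor (lxor i j) k) = lxor (lxor (σ i) (σ j)) (σ k) := by decide

theorem flips_affine : ∀ ε₀ ε₁ ε₂ ε₃ : Bool, xor (xor ε₀ ε₁) (xor ε₂ ε₃) = false → ∀ i j k : Fin 4,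
    ![ε₀, ε₁, ε₂, ε₃] (lxor (lxor i j) k)
      = xor (xor (![ε₀, ε₁, ε₂, ε₃] i) (![ε₀, ε₁, ε₂, ε₃] j)) (![ε₀, ε₁, ε₂, ε₃] k) := by decide

theorem le_aff {g : Equiv.Perm Pt} (hg : g ∈ Cfsg.Agent.Perm.BlockPartition.stab (Prod.fst : Pt → Fin 4))
    (hsign : Equiv.Perm.sign g = 1) : g ∈ aff := by
  classical
  let τ : Fin 4 → Fin 4 := fun i => (g (i, false)).1
  have hτ : Function.Bijective τ := by
    rw [← Finite.injective_iff_bijective]
    exact fun i j h => (hg (i, false) (j, false)).2 h
  let σ : Equiv.Perm (Fin 4) := Equiv.ofBijective τ hτ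
  let ε : Fin 4 → Bool := fun i => (g (i, false)).2
  let sw : Bool → Equiv.Perm Bool := fun c => if c then Equiv.swap false true else 1
  have hb : ∀ i b, g (i, b) = (σ i, xor b (ε i)) := by
    intro i b
    cases b
    · simp [σ, τ, ε]
    · have h1 : (g (i, true)).1 = τ i := ((hg (i, true) (i, false)).1 rfl)
      refine Prod.ext h1 ?_
      have h2 : (g (i, true)).2 ≠ (g (i, false)).2 := fun h => by
        have := g.injective (Prod.ext (h1.trans rfl) h : g (i, true) = g (i, false))
        simp at this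
      revert h2
      show (g (i, true)).2 ≠ ε i → (g (i, true)).2 = xor true (ε i)
      cases (g (i, true)).2 <;> cases ε i <;> simp
  have hfact : g = (Equiv.prodCongrLeft fun _ : Bool => σ) * Equiv.prodCongrRight (fun i => sw (ε i)) := by
    refine Equiv.ext fun ⟨i, b⟩ => ?_
    rw [hb]
    cases b <;> cases hε : ε i <;> simp [sw, hε]
  have hpar : xor (xor (ε 0) (ε 1)) (xor (ε 2) (ε 3)) = false := by
    rw [hfact, map_mul, Equiv.Perm.sign_prodCongrLeft, Equiv.Perm.sign_prodCongrRight,
      Fintype.prod_bool, Int.units_mul_self, one_mul, Fin.prod_univ_four] at hsign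
    revert hsign
    cases ε 0 <;> cases ε 1 <;> cases ε 2 <;> cases ε 3 <;> simp [sw] <;> decide
  rintro ⟨i, a⟩ ⟨j, b⟩ ⟨k, c⟩
  have hε : ∀ l, ε l = ![ε 0, ε 1, ε 2, ε 3] l := fun l => by fin_cases l <;> rfl
  simp only [tri, hb, perm4_affine]
  refine Prod.ext rfl ?_
  show xor (xor (xor a b) c) (ε (lxor (lxor i j) k)) = xor (xor (xor a (ε i)) (xor b (ε j))) (xor c (ε k))
  have hl : ε (lxor (lxor i j) k) = xor (xor (ε i) (ε j)) (ε k) := by
    simpa only [← hε] using flips_affine _ _ _ _ hpar i j k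
  rw [hl]
  cases a <;> cases b <;> cases c <;> cases ε i <;> cases ε j <;> cases ε k <;> rfl

/-- an affine map mixing the pairs: add `1` to the label when the bit is set -/
def shear : Equiv.Perm Pt := Equiv.prodCongrLeft fun b : Bool =>
  if b then Equiv.swap 0 1 * Equiv.swap 2 3 else 1

theorem shear_aff : shear ∈ aff := by
  show ∀ x y z, shear (tri x y z) = tri (shear x) (shear y) (shear z)
  decide

theorem shear_sign : Equiv.Perm.sign shear = 1 := by
  rw [shear, Equiv.Perm.sign_prodCongrLeft, Fintype.prod_bool]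
  decide

theorem shear_not_stab : shear ∉ Cfsg.Agent.Perm.BlockPartition.stab (Prod.fst : Pt → Fin 4) := fun h =>
  absurd ((h (0, false) (0, true)).1 rfl) (by decide)

/-- Let Ω be a set with 8 elements and f : Ω → Fin 4 a labelling whose four fibres all have size 2 (a partition of the 8 points into 4 pairs). Then the group of even permutations preserving this partition, (S₂ ≀ S₄) ∩ A₈, is not a maximal subgroup of the alternating group A₈ (it lies in a subgroup isomorphic to the affine group AGL₃(2)). -/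
theorem result {Ω : Type*} [Fintype Ω] [DecidableEq Ω] (h8 : Fintype.card Ω = 8)
    (f : Ω → Fin 4) (hf : ∀ i : Fin 4, Nat.card {x : Ω // f x = i} = 2) :
    ¬ IsCoatom ((Subgroup.closure {g : Equiv.Perm Ω | ∀ x y : Ω, f x = f y ↔ f (g x) = f (g y)} ⊓ alternatingGroup Ω).subgroupOf (alternatingGroup Ω)) := by
  classical
  rw [Cfsg.Agent.Perm.BlockPartition.closure_eq]
  have he : ∀ i, Nonempty ({x : Ω // f x = i} ≃ Bool) := fun i => by
    refine Finite.card_eq.1 ?_
    rw [hf i, Nat.card_eq_fintype_card (α := Bool), Fintype.card_bool]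
  let e : Ω ≃ Pt := ((Equiv.sigmaFiberEquiv f).symm.trans
    (Equiv.sigmaCongrRight fun i => (he i).some)).trans (Equiv.sigmaEquivProd (Fin 4) Bool)
  have hef : ∀ x, (e x).1 = f x := fun x => rfl
  let π : Equiv.Perm Ω ≃* Equiv.Perm Pt := e.permCongrHom
  have hπ : ∀ g x, π g (e x) = e (g x) := fun g x => by simp [π]
  have hsgn : ∀ g, Equiv.Perm.sign (π g) = Equiv.Perm.sign g := fun g => Equiv.Perm.sign_permCongr e g
  have hstab : ∀ g, g ∈ Cfsg.Agent.Perm.BlockPartition.stab f ↔
      π g ∈ Cfsg.Agent.Perm.BlockPartition.stab (Prod.fst : Pt → Fin 4) := by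
    intro g
    refine ⟨fun h u v => ?_, fun h x y => ?_⟩
    · obtain ⟨x, rfl⟩ := e.surjective u
      obtain ⟨y, rfl⟩ := e.surjective v
      rw [hπ, hπ, hef, hef, hef, hef]
      exact h x y
    · have := h (e x) (e y)
      rwa [hπ, hπ, hef, hef, hef, hef] at this
  set A := alternatingGroup Ω with hA
  set P := Cfsg.Agent.Perm.BlockPartition.stab f with hP
  let L : Subgroup (Equiv.Perm Ω) := aff.comap π.toMonoidHom
  intro hco
  have hle : (P ⊓ A).subgroupOf A ≤ L.subgroupOf A := fun g hg => by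
    have hg' := Subgroup.mem_inf.1 (Subgroup.mem_subgroupOf.1 hg)
    exact le_aff ((hstab _).1 hg'.1) ((hsgn _).trans (Equiv.Perm.mem_alternatingGroup.1 hg'.2))
  rcases hco.le_iff.1 hle with h | h
  · -- a three-cycle is not affine
    let t : Equiv.Perm Ω := π.symm (Equiv.swap (0, false) (0, true) * Equiv.swap (0, true) (1, false))
    have ht : t ∈ A := by
      rw [hA, Equiv.Perm.mem_alternatingGroup, ← hsgn, MulEquiv.apply_symm_apply, map_mul,
        Equiv.Perm.sign_swap (by decide), Equiv.Perm.sign_swap (by decide)]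
      rfl
    have hmem : (⟨t, ht⟩ : A) ∈ L.subgroupOf A := h ▸ Subgroup.mem_top _
    have h2 : π t ∈ aff := hmem
    rw [MulEquiv.apply_symm_apply] at h2
    exact absurd (h2 (2, false) (2, true) (0, false)) (by decide)
  · let t : Equiv.Perm Ω := π.symm shear
    have ht : t ∈ A := by
      rw [hA, Equiv.Perm.mem_alternatingGroup, ← hsgn, MulEquiv.apply_symm_apply]
      exact shear_sign
    have hmem : (⟨t, ht⟩ : A) ∈ L.subgroupOf A := by
      show π t ∈ aff
      rw [MulEquiv.apply_symm_apply]; exact shear_aff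
    rw [h] at hmem
    have h2 := (hstab t).1 (Subgroup.mem_inf.1 (Subgroup.mem_subgroupOf.1 hmem)).1
    rw [MulEquiv.apply_symm_apply] at h2
    exact shear_not_stab h2

end Cfsg.Agent.S5910
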