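import Cfsg.Statements.S5911
-- import your own Cfsg.Agent.* helpers here

set_option autoImplicit false
open Cfsg

namespace Cfsg.Agent.S5911

open scoped Nat

theorem fact_ineq (m : ℕ) : ∀ j : ℕ, (1 ≤ m ∨ 2 ≤ j) →
    m ! * 2 ^ (j + 1) * (j + 2)! < (m + 2 * j + 2)! := by
  intro j hj
  induction j with
  | zero =>
    have hm : 1 ≤ m := hj.resolve_right (by omega)
    simp only [Nat.mul_zero, Nat.add_zero, Nat.factorial_succ, Nat.factorial_zero]
    have h6 : 6 ≤ (m + 1 + 1) * (m + 1) := by nlinarith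
    norm_num
    nlinarith [Nat.factorial_pos m, Nat.mul_le_mul_right (m !) h6]
  | succ j ih =>
    by_cases hbase : m = 0 ∧ j = 1
    · obtain ⟨rfl, rfl⟩ := hbase
      decide
    have h1 := ih (by omega)
    have e : m + 2 * (j + 1) + 2 = ((m + 2 * j + 2) + 1) + 1 := by ring
    rw [e, Nat.factorial_succ (m + 2 * j + 2 + 1), Nat.factorial_succ (m + 2 * j + 2),
      show j + 1 + 2 = (j + 2) + 1 by ring, Nat.factorial_succ (j + 2),
      pow_succ]
    have h2 : 2 * (j + 2 + 1) ≤ ((m + 2 * j + 2) + 1 + 1) * ((m + 2 * j + 2) + 1) := by nlinarith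
    calc m ! * (2 ^ (j + 1) * 2) * ((j + 2 + 1) * (j + 2)!) = (2 * (j + 2 + 1)) * (m ! * 2 ^ (j + 1) * (j + 2)!) := by ring
      _ < (2 * (j + 2 + 1)) * (m + 2 * j + 2)! := Nat.mul_lt_mul_of_pos_left h1 (by omega)
      _ ≤ ((m + 2 * j + 2) + 1 + 1) * ((m + 2 * j + 2) + 1) * (m + 2 * j + 2)! := Nat.mul_le_mul_right _ h2
      _ = _ := by ring

variable {Ω : Type*} [Fintype Ω] [DecidableEq Ω]

theorem swap_image {X : Type*} [Fintype X] [DecidableEq X] (hX : Fintype.card X = Fintype.card Ω)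
    (h6 : Fintype.card Ω ≠ 6) (h5 : 5 ≤ Fintype.card Ω) (Φ : Equiv.Perm Ω ≃* Equiv.Perm X)
    {g : Equiv.Perm Ω} (hg : g.IsSwap) : (Φ g).IsSwap := by
  classical
  have h2 : orderOf g = 2 := by
    obtain ⟨a, b, hab, rfl⟩ := hg
    exact orderOf_eq_prime (by rw [sq, Equiv.swap_mul_self]) (fun h => hab (by
      simpa using congrArg (fun π : Equiv.Perm Ω => π a) h |>.symm))
  have h2' : orderOf (Φ g) = 2 := by rw [MulEquiv.orderOf_eq, h2]
  obtain ⟨j, hj⟩ := Equiv.Perm.cycleType_prime_order (σ := Φ g) (by rw [h2']; exact Nat.prime_two)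
  rw [h2'] at hj
  rcases Nat.eq_zero_or_pos j with rfl | hjpos
  · rw [← Equiv.Perm.card_support_eq_two, ← Equiv.Perm.sum_cycleType, hj]; rfl
  exfalso
  have hcen : Nat.card (Subgroup.centralizer ({Φ g} : Set (Equiv.Perm X)))
      = Nat.card (Subgroup.centralizer ({g} : Set (Equiv.Perm Ω))) := by
    refine (Nat.card_congr (Φ.toEquiv.subtypeEquiv fun x => ?_)).symm
    show x ∈ Subgroup.centralizer ({g} : Set (Equiv.Perm Ω)) ↔ Φ x ∈ Subgroup.centralizer ({Φ g} : Set (Equiv.Perm X))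
    rw [Subgroup.mem_centralizer_singleton_iff, Subgroup.mem_centralizer_singleton_iff, ← map_mul, ← map_mul,
      Φ.injective.eq_iff]
  have hg' : g.cycleType = {2} := by
    obtain ⟨a, b, hab, rfl⟩ := hg
    rw [(Equiv.Perm.swap_isSwap_iff.2 hab).isCycle.cycleType, Equiv.Perm.card_support_eq_two.2 (Equiv.Perm.swap_isSwap_iff.2 hab)]
  rw [Equiv.Perm.nat_card_centralizer, Equiv.Perm.nat_card_centralizer, hj, hg', hX,
    Multiset.sum_replicate, Multiset.prod_replicate, Multiset.toFinset_replicate] at hcen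
  simp only [Nat.succ_ne_zero, ↓reduceIte, Finset.prod_singleton, Multiset.count_replicate_self,
    Multiset.sum_singleton, Multiset.prod_singleton, Multiset.toFinset_singleton, smul_eq_mul,
    Multiset.count_singleton_self, Nat.factorial_one, mul_one] at hcen
  have hle := Equiv.Perm.sum_cycleType_le (Φ g)
  rw [hj, Multiset.sum_replicate, smul_eq_mul, hX] at hle
  obtain ⟨i, rfl⟩ : ∃ i, j = i + 1 := ⟨j - 1, by omega⟩
  obtain ⟨m, hm⟩ : ∃ m, Fintype.card Ω = m + 2 * (i + 2) := ⟨Fintype.card Ω - 2 * (i + 2), by omega⟩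
  have h := fact_ineq m i (by omega)
  rw [hm, show m + 2 * (i + 2) - (i + 1 + 1) * 2 = m by omega,
    show m + 2 * (i + 2) - 2 = m + 2 * i + 2 by omega, show i + 1 + 1 = i + 2 from rfl, pow_succ] at hcen
  generalize (m + 2 * i + 2)! = A at h hcen
  rw [← mul_assoc] at hcen
  generalize m ! * 2 ^ (i + 1) = B at h hcen
  rw [mul_right_comm] at hcen
  omega

/-- ordered pairs of distinct points whose transposition lies in `K` -/
noncomputable def pairs {α : Type*} [Fintype α] [DecidableEq α] (K : Subgroup (Equiv.Perm α)) : Finset (α × α) :=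
  haveI := Classical.decPred fun p : α × α => p.1 ≠ p.2 ∧ Equiv.swap p.1 p.2 ∈ K
  Finset.univ.filter fun p => p.1 ≠ p.2 ∧ Equiv.swap p.1 p.2 ∈ K

theorem mem_pairs {α : Type*} [Fintype α] [DecidableEq α] {K : Subgroup (Equiv.Perm α)} {p : α × α} :
    p ∈ pairs K ↔ p.1 ≠ p.2 ∧ Equiv.swap p.1 p.2 ∈ K := by
  simp [pairs]

theorem card_pairs {α : Type*} [Fintype α] [DecidableEq α] (K : Subgroup (Equiv.Perm α)) :
    (pairs K).card = 2 * Nat.card {g : Equiv.Perm α // g.IsSwap ∧ g ∈ K} := by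
  classical
  rw [Nat.card_eq_fintype_card, Fintype.card_subtype, mul_comm]
  rw [Finset.card_eq_sum_card_fiberwise (f := fun p : α × α => Equiv.swap p.1 p.2)
    (t := Finset.univ.filter fun g : Equiv.Perm α => g.IsSwap ∧ g ∈ K)
    (fun p hp => by
      simp only [Finset.coe_filter, Finset.mem_univ, true_and, Set.mem_ofPred_eq]
      exact ⟨⟨p.1, p.2, (mem_pairs.1 hp).1, rfl⟩, (mem_pairs.1 hp).2⟩)]
  rw [Finset.sum_const_nat (m := 2)]
  intro g hg
  obtain ⟨⟨a, b, hab, rfl⟩, hgK⟩ := (Finset.mem_filter.1 hg).2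
  rw [show ((pairs K).filter fun p => Equiv.swap p.1 p.2 = Equiv.swap a b) = {(a, b), (b, a)} from ?_]
  · exact Finset.card_pair (fun e => hab (congrArg Prod.fst e))
  ext ⟨u, v⟩
  simp only [Finset.mem_filter, Finset.mem_insert, Finset.mem_singleton, Prod.mk.injEq, mem_pairs]
  constructor
  · rintro ⟨⟨huv, -⟩, e⟩
    have hu := congrArg (fun π : Equiv.Perm α => π u) e
    simp only [Equiv.swap_apply_left] at hu
    rcases eq_or_ne u a with rfl | h1
    · rw [Equiv.swap_apply_left] at hu; exact Or.inl ⟨rfl, hu⟩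
    rcases eq_or_ne u b with rfl | h2
    · rw [Equiv.swap_apply_right] at hu; exact Or.inr ⟨rfl, hu⟩
    rw [Equiv.swap_apply_of_ne_of_ne h1 h2] at hu
    exact absurd hu huv.symm
  · rintro (⟨rfl, rfl⟩ | ⟨rfl, rfl⟩)
    · exact ⟨⟨hab, hgK⟩, rfl⟩
    · exact ⟨⟨hab.symm, by rwa [Equiv.swap_comm]⟩, Equiv.swap_comm _ _⟩

theorem pairs_of_iso {X : Type*} [Fintype X] [DecidableEq X] (hX : Fintype.card X = Fintype.card Ω)
    (h6 : Fintype.card Ω ≠ 6) (h5 : 5 ≤ Fintype.card Ω) (Φ : Equiv.Perm Ω ≃* Equiv.Perm X) (q : X)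
    (H : Subgroup (Equiv.Perm Ω)) (hH : ∀ g, g ∈ H ↔ Φ g q = q) :
    (pairs H).card = (Fintype.card Ω - 1) * (Fintype.card Ω - 2) := by
  classical
  have hiff : ∀ g, g.IsSwap ↔ (Φ g).IsSwap := fun g => ⟨swap_image hX h6 h5 Φ, fun h => by
    have := swap_image hX.symm (hX ▸ h6) (hX ▸ h5) Φ.symm h
    rwa [Φ.symm_apply_apply] at this⟩
  rw [card_pairs, Nat.card_congr (Φ.toEquiv.subtypeEquiv
    (q := fun g => g.IsSwap ∧ g ∈ MulAction.stabilizer (Equiv.Perm X) q)
    (fun g => and_congr (hiff g) (hH g))), ← card_pairs]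
  have e : pairs (MulAction.stabilizer (Equiv.Perm X) q) = (Finset.univ.erase q).offDiag := by
    ext ⟨u, v⟩
    rw [mem_pairs, Finset.mem_offDiag, Finset.mem_erase, Finset.mem_erase, MulAction.mem_stabilizer_iff]
    simp only [Finset.mem_univ, and_true, Equiv.Perm.smul_def]
    constructor
    · rintro ⟨huv, h⟩
      refine ⟨fun e => ?_, fun e => ?_, huv⟩
      · rw [e, Equiv.swap_apply_left] at h; exact huv (e.trans h.symm)
      · rw [e, Equiv.swap_apply_right] at h; exact huv (h.trans e.symm)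
    · rintro ⟨h1, h2, huv⟩
      exact ⟨huv, Equiv.swap_apply_of_ne_of_ne h1.symm h2.symm⟩
  rw [e, Finset.offDiag_card, Finset.card_erase_of_mem (Finset.mem_univ q), Finset.card_univ, hX,
    ← Nat.mul_sub_one, Nat.sub_sub]

theorem fixed_large (h6 : Fintype.card Ω ≠ 6) (h5 : 5 ≤ Fintype.card Ω) (H : Subgroup (Equiv.Perm Ω))
    (hH : H.index = Fintype.card Ω) : ∃ x : Ω, ∀ g ∈ H, g x = x := by
  classical
  let X := Equiv.Perm Ω ⧸ H
  haveI : Nontrivial Ω := Fintype.one_lt_card_iff_nontrivial.1 (by omega)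
  have hX : Fintype.card X = Fintype.card Ω := by rw [← Nat.card_eq_fintype_card, ← Subgroup.index_eq_card, hH]
  have hinj : Function.Injective (MulAction.toPermHom (Equiv.Perm Ω) X) := by
    rw [← MonoidHom.ker_eq_bot_iff, ← Subgroup.normalCore_eq_ker]
    by_contra hc
    have hle : alternatingGroup Ω ≤ H :=
      (Equiv.Perm.alternatingGroup_le_of_normal (by rwa [Nat.card_eq_fintype_card])
        ((Subgroup.nontrivial_iff_ne_bot _).2 hc)).trans H.normalCore_le
    have := Subgroup.index_antitone hle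
    rw [alternatingGroup.index_eq_two, hH] at this
    omega
  have hbij : Function.Bijective (MulAction.toPermHom (Equiv.Perm Ω) X) :=
    (Fintype.bijective_iff_injective_and_card _).2 ⟨hinj, by rw [Fintype.card_perm, Fintype.card_perm, hX]⟩
  let Φ := MulEquiv.ofBijective _ hbij
  have hcount := pairs_of_iso hX h6 h5 Φ ((1 : Equiv.Perm Ω) : X) H (fun g => by
    show g ∈ H ↔ g • ((1 : Equiv.Perm Ω) : X) = ((1 : Equiv.Perm Ω) : X)
    rw [← MulAction.mem_stabilizer_iff, MulAction.stabilizer_quotient])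
  have hn1 : 1 ≤ Fintype.card Ω := by omega
  obtain ⟨x₀⟩ : Nonempty Ω := inferInstance
  let O : Finset Ω := Finset.univ.filter fun y => ∃ g ∈ H, g x₀ = y
  have hO : ∀ y, y ∈ O ↔ ∃ g ∈ H, g x₀ = y := by simp [O]
  have hx₀ : x₀ ∈ O := (hO x₀).2 ⟨1, one_mem H, rfl⟩
  have hinv : ∀ g ∈ H, ∀ y, y ∈ O ↔ g y ∈ O := by
    intro g hg y
    rw [hO, hO]
    constructor
    · rintro ⟨k, hk, rfl⟩; exact ⟨g * k, mul_mem hg hk, rfl⟩
    · rintro ⟨k, hk, e⟩
      refine ⟨g⁻¹ * k, mul_mem (inv_mem hg) hk, ?_⟩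
      rw [Equiv.Perm.mul_apply, e, Equiv.Perm.inv_def, Equiv.symm_apply_apply]
  by_cases hOu : O = Finset.univ
  · -- transitive: every point lies in equally many pairs
    exfalso
    let d : Ω → ℕ := fun u => ((pairs H).filter fun p => p.1 = u).card
    have hle : ∀ g ∈ H, ∀ u, d u ≤ d (g u) := by
      intro g hg u
      refine Finset.card_le_card_of_injOn (fun p => (g p.1, g p.2)) (fun p hp => ?_) ?_
      · obtain ⟨h1, h2⟩ := Finset.mem_filter.1 hp
        refine Finset.mem_filter.2 ⟨mem_pairs.2 ⟨g.injective.ne (mem_pairs.1 h1).1, ?_⟩, congrArg g h2⟩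
        rw [Equiv.swap_apply_apply]
        exact mul_mem (mul_mem hg (mem_pairs.1 h1).2) (inv_mem hg)
      · intro p _ p' _ e
        exact Prod.ext (g.injective (congrArg Prod.fst e)) (g.injective (congrArg Prod.snd e))
    have hconst : ∀ u, d u = d x₀ := by
      intro u
      obtain ⟨g, hg, rfl⟩ := (hO u).1 (hOu ▸ Finset.mem_univ u)
      refine le_antisymm ?_ (hle g hg x₀)
      have := hle g⁻¹ (inv_mem hg) (g x₀)
      rwa [Equiv.Perm.inv_def, Equiv.symm_apply_apply] at this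
    have hsum : (pairs H).card = ∑ u : Ω, d u :=
      Finset.card_eq_sum_card_fiberwise (fun p _ => Finset.mem_univ _)
    rw [Finset.sum_congr rfl (fun u _ => hconst u), Finset.sum_const, Finset.card_univ, smul_eq_mul, hcount] at hsum
    obtain ⟨t, ht⟩ : ∃ t, Fintype.card Ω = t + 3 := ⟨Fintype.card Ω - 3, by omega⟩
    rw [ht, show t + 3 - 1 = t + 2 by omega, show t + 3 - 2 = t + 1 by omega] at hsum
    -- `t + 3` divides `2`
    have h2 : (t + 3) * t + 2 = (t + 3) * d x₀ := by rw [← hsum]; ring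
    rcases le_or_gt (d x₀) t with h | h
    · nlinarith
    · nlinarith
  have hsub : pairs H ⊆ O.offDiag ∪ Oᶜ.offDiag := by
    rintro ⟨u, v⟩ hp
    obtain ⟨huv, hs⟩ := mem_pairs.1 hp
    have := hinv _ hs u
    rw [Equiv.swap_apply_left] at this
    rw [Finset.mem_union, Finset.mem_offDiag, Finset.mem_offDiag, Finset.mem_compl, Finset.mem_compl]
    by_cases hu : u ∈ O
    · exact Or.inl ⟨hu, this.1 hu, huv⟩
    · exact Or.inr ⟨hu, fun hv => hu (this.2 hv), huv⟩
  have hle := (Finset.card_le_card hsub).trans (Finset.card_union_le _ _)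
  rw [hcount, Finset.offDiag_card, Finset.offDiag_card, Finset.card_compl] at hle
  have hk1 : 1 ≤ O.card := Finset.card_pos.2 ⟨x₀, hx₀⟩
  have hk2 : O.card < Fintype.card Ω := by
    rw [← Finset.card_univ]
    exact Finset.card_lt_card (Finset.ssubset_univ_iff.2 hOu)
  by_cases hk : O.card = 1
  · obtain ⟨z, hz⟩ := Finset.card_eq_one.1 hk
    refine ⟨x₀, fun g hg => ?_⟩
    have h1 := (hinv g hg x₀).1 hx₀
    rw [hz, Finset.mem_singleton] at h1 hx₀
    rw [h1, hx₀]
  obtain ⟨m, hm⟩ : ∃ m, Fintype.card Ω = O.card + (m + 1) := ⟨Fintype.card Ω - O.card - 1, by omega⟩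
  obtain ⟨k, hk'⟩ : ∃ k, O.card = k + 2 := ⟨O.card - 2, by omega⟩
  rw [hm, hk', show k + 2 + (m + 1) - 1 = k + m + 2 by omega, show k + 2 + (m + 1) - 2 = k + m + 1 by omega,
    show k + 2 + (m + 1) - (k + 2) = m + 1 by omega, ← Nat.mul_sub_one, ← Nat.mul_sub_one,
    show k + 2 - 1 = k + 1 by omega, show m + 1 - 1 = m by omega] at hle
  have hm0 : m = 0 := by nlinarith
  subst hm0
  obtain ⟨z, hz⟩ := Finset.card_eq_one.1 (show Oᶜ.card = 1 by rw [Finset.card_compl]; omega)
  refine ⟨z, fun g hg => ?_⟩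
  have hzO : z ∉ O := Finset.mem_compl.1 (hz ▸ Finset.mem_singleton_self z)
  have h1 : g z ∈ Oᶜ := Finset.mem_compl.2 (fun h => hzO ((hinv g hg z).2 h))
  rw [hz, Finset.mem_singleton] at h1
  exact h1

theorem fixed_small (h4 : Fintype.card Ω ≤ 4) (H : Subgroup (Equiv.Perm Ω))
    (hH : H.index = Fintype.card Ω) : ∃ x : Ω, ∀ g ∈ H, g x = x := by
  classical
  have hcard : Nat.card H * Fintype.card Ω = (Fintype.card Ω)! := by
    rw [← hH, Subgroup.card_mul_index, Nat.card_perm, Nat.card_eq_fintype_card, hH]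
  have hpos : 0 < Fintype.card Ω := hH ▸ Nat.pos_of_ne_zero H.index_ne_zero_of_finite
  obtain ⟨x₀⟩ : Nonempty Ω := Fintype.card_pos_iff.1 hpos
  let O := MulAction.orbit H x₀
  have hdvd : Fintype.card O ∣ Nat.card H := by
    rw [← Nat.card_eq_fintype_card, Nat.card_coe_set_eq, ← MulAction.index_stabilizer]
    exact Subgroup.index_dvd_card _
  by_cases h1 : Fintype.card O = 1
  · refine ⟨x₀, fun g hg => ?_⟩
    haveI := Fintype.card_le_one_iff_subsingleton.1 h1.le
    exact congrArg Subtype.val (Subsingleton.elim (⟨g x₀, ⟨⟨g, hg⟩, rfl⟩⟩ : O) ⟨x₀, MulAction.mem_orbit_self x₀⟩)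
  have hO1 : 1 ≤ Fintype.card O := Fintype.card_pos_iff.2 ⟨⟨x₀, MulAction.mem_orbit_self x₀⟩⟩
  have hOle : Fintype.card O ≤ Fintype.card Ω := Fintype.card_subtype_le _
  have hco : Fintype.card (Oᶜ : Set Ω) = Fintype.card Ω - Fintype.card O := Fintype.card_compl_set O
  have hclosed : ∀ g ∈ H, ∀ y, y ∈ O ↔ g y ∈ O := by
    intro g hg y
    exact (MulAction.mem_orbit_symm.trans (Iff.trans (by
      rw [← MulAction.orbit_eq_iff, ← MulAction.orbit_eq_iff]
      show MulAction.orbit H x₀ = _ ↔ MulAction.orbit H x₀ = MulAction.orbit H ((⟨g, hg⟩ : H) • y)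
      rw [MulAction.orbit_smul]) MulAction.mem_orbit_symm))
  by_cases hc1 : Fintype.card (Oᶜ : Set Ω) = 1
  · obtain ⟨⟨z, hz⟩⟩ : Nonempty (Oᶜ : Set Ω) := Fintype.card_pos_iff.1 (by omega)
    haveI := Fintype.card_le_one_iff_subsingleton.1 hc1.le
    refine ⟨z, fun g hg => ?_⟩
    exact congrArg Subtype.val (Subsingleton.elim (⟨g z, fun h => hz ((hclosed g hg z).2 h)⟩ : (Oᶜ : Set Ω)) ⟨z, hz⟩)
  exfalso
  generalize hn : Fintype.card Ω = n at *
  have hn' : n = 1 ∨ n = 2 ∨ n = 3 ∨ n = 4 := by omega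
  rcases hn' with rfl | rfl | rfl | rfl
  · omega
  · rw [show (2 : ℕ)! = 2 from rfl] at hcard
    have := Nat.le_of_dvd (by omega) hdvd
    omega
  · rw [show (3 : ℕ)! = 6 from rfl] at hcard
    have hH2 : Nat.card H = 2 := by omega
    rw [hH2] at hdvd
    have := Nat.le_of_dvd (by omega) hdvd
    omega
  · rw [show (4 : ℕ)! = 24 from rfl] at hcard
    have hH6 : Nat.card H = 6 := by omega
    have hk2 : Fintype.card O = 2 := by
      rw [hH6] at hdvd
      have hk : Fintype.card O = 2 ∨ Fintype.card O = 4 := by omega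
      rcases hk with h | h
      · exact h
      · rw [h] at hdvd; norm_num at hdvd
    haveI : Fact (Nat.Prime 3) := ⟨Nat.prime_three⟩
    obtain ⟨c, hc⟩ := exists_prime_orderOf_dvd_card' (G := H) 3 (by rw [hH6]; norm_num)
    have hc3 : (c : Equiv.Perm Ω) ^ 3 = 1 := by rw [← hc, ← Subgroup.orderOf_coe]; exact pow_orderOf_eq_one _
    have key : ∀ (S : Set Ω) [Fintype S], Fintype.card S = 2 → (∀ y ∈ S, c.1 y ∈ S) → ∀ y ∈ S, c.1 y = y := by
      intro S _ hS hin y hy
      by_contra hne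
      have h2 : ∀ w ∈ S, w = y ∨ w = c.1 y := by
        intro w hw
        by_contra hcon
        push_neg at hcon
        have h3 : ({⟨y, hy⟩, ⟨c.1 y, hin y hy⟩, ⟨w, hw⟩} : Finset S).card = 3 := by
          refine Finset.card_eq_three.2 ⟨_, _, _, ?_, ?_, ?_, rfl⟩
          · exact fun e => hne (congrArg Subtype.val e).symm
          · exact fun e => hcon.1 (congrArg Subtype.val e).symm
          · exact fun e => hcon.2 (congrArg Subtype.val e).symm
        have := Finset.card_le_univ ({⟨y, hy⟩, ⟨c.1 y, hin y hy⟩, ⟨w, hw⟩} : Finset S)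
        omega
      rcases h2 (c.1 (c.1 y)) (hin _ (hin y hy)) with e | e
      · have h3 : (c.1 ^ 3) y = c.1 y := by
          rw [pow_succ', sq, Equiv.Perm.mul_apply, Equiv.Perm.mul_apply, e]
        rw [hc3] at h3
        exact hne h3.symm
      · exact hne (c.1.injective e)
    have hfix : ∀ y, c.1 y = y := by
      intro y
      by_cases hy : y ∈ O
      · exact key O hk2 (fun w hw => (hclosed _ c.2 w).1 hw) y hy
      · exact key (Oᶜ : Set Ω) (by omega) (fun w hw h => hw ((hclosed _ c.2 w).2 h)) y hy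
    have hone : c = 1 := Subtype.ext (Equiv.ext hfix)
    rw [hone, orderOf_one] at hc
    omega

/-- Let Ω be a finite set whose size n is not 6. Then every subgroup of the symmetric group on Ω of index n is the stabilizer of a point. -/
theorem result {Ω : Type*} [Fintype Ω] [DecidableEq Ω] (h6 : Fintype.card Ω ≠ 6)
    (H : Subgroup (Equiv.Perm Ω)) (hH : H.index = Fintype.card Ω) :
    ∃ x : Ω, H = MulAction.stabilizer (Equiv.Perm Ω) x := by
  obtain ⟨x, hx⟩ : ∃ x : Ω, ∀ g ∈ H, g x = x := by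
    rcases le_or_gt (Fintype.card Ω) 4 with h | h
    · exact fixed_small h H hH
    · exact fixed_large h6 h H hH
  refine ⟨x, Subgroup.eq_of_le_of_card_ge (fun g hg => hx g hg) (le_of_eq ?_)⟩
  have h1 := Subgroup.card_mul_index H
  have h2 := Subgroup.card_mul_index (MulAction.stabilizer (Equiv.Perm Ω) x)
  rw [MulAction.index_stabilizer_of_transitive, Nat.card_eq_fintype_card (α := Ω)] at h2
  rw [hH] at h1
  exact Nat.eq_of_mul_eq_mul_right (Fintype.card_pos_iff.2 ⟨x⟩) (h2.trans h1.symm)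

end Cfsg.Agent.S5911
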