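import Cfsg.Statements.S5944
-- import your own Cfsg.Agent.* helpers here

set_option autoImplicit false
open Cfsg

namespace Cfsg.Agent.S5944

/-- For n ≠ 4, every proper subgroup of the symmetric group S_n other than the alternating group A_n has index at least n. -/
theorem result (n : ℕ) (hn : n ≠ 4) (H : Subgroup (Equiv.Perm (Fin n))) (hH : H ≠ ⊤) (hA : H ≠ alternatingGroup (Fin n)) : n ≤ H.index := by
  by_contra hlt
  push_neg at hlt
  have hsmall : H.index ≤ 2 → False := by
    intro h
    have h0 : H.index ≠ 0 := H.index_ne_zero_of_finite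
    rcases (show H.index = 1 ∨ H.index = 2 by omega) with h1 | h2
    · exact hH (Subgroup.index_eq_one.mp h1)
    · exact hA (Equiv.Perm.eq_alternatingGroup_of_index_eq_two h2)
  have h5 : 5 ≤ Nat.card (Fin n) := by
    rw [Nat.card_fin]
    by_contra h
    exact hsmall (by omega)
  by_cases hc : H.normalCore = ⊥
  · have hinj : Function.Injective (MulAction.toPermHom (Equiv.Perm (Fin n)) (Equiv.Perm (Fin n) ⧸ H)) := by
      rw [← MonoidHom.ker_eq_bot_iff, ← Subgroup.normalCore_eq_ker, hc]
    have := Nat.card_le_card_of_injective _ hinj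
    rw [Nat.card_perm, Nat.card_perm, Nat.card_fin, ← Subgroup.index_eq_card] at this
    have := (Nat.factorial_lt (Nat.pos_of_ne_zero H.index_ne_zero_of_finite)).mpr hlt
    omega
  · have hnt : Nontrivial H.normalCore := (Subgroup.nontrivial_iff_ne_bot _).mpr hc
    have hle : alternatingGroup (Fin n) ≤ H :=
      (Equiv.Perm.alternatingGroup_le_of_normal h5 hnt).trans H.normalCore_le
    have : Nontrivial (Fin n) := Finite.one_lt_card_iff_nontrivial.mp (by omega)
    refine hsmall ?_
    have := Subgroup.index_antitone hle
    rwa [alternatingGroup.index_eq_two] at this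

end Cfsg.Agent.S5944
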