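import Cfsg.Statements.S5912
import Cfsg.Agent.S5944
import Cfsg.Agent.S5945
-- import your own Cfsg.Agent.* helpers here

set_option autoImplicit false
open Cfsg

namespace Cfsg.Agent.S5912

theorem two_classes : ∃ H₁ H₂ : Subgroup (Equiv.Perm (Fin 6)), H₁.index = 6 ∧ H₂.index = 6 ∧
    (¬ ∃ g : Equiv.Perm (Fin 6), Subgroup.map (MulAut.conj g).toMonoidHom H₁ = H₂) ∧
    ∀ H : Subgroup (Equiv.Perm (Fin 6)), H.index = 6 → ∃ g : Equiv.Perm (Fin 6),
      Subgroup.map (MulAut.conj g).toMonoidHom H₁ = H ∨ Subgroup.map (MulAut.conj g).toMonoidHom H₂ = H := by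
  classical
  obtain ⟨hcard, -, K, hK, hKns⟩ := Cfsg.Agent.S5945.result
  have hidx : ∀ (g : (Equiv.Perm (Fin 6))) (L : Subgroup (Equiv.Perm (Fin 6))), (L.map (MulAut.conj g).toMonoidHom).index = L.index := fun g L => by
    exact Subgroup.index_map_equiv L (MulAut.conj g)
  have hstab : ∀ (g : (Equiv.Perm (Fin 6))) (a : Fin 6),
      (MulAction.stabilizer (Equiv.Perm (Fin 6)) a).map (MulAut.conj g).toMonoidHom = MulAction.stabilizer (Equiv.Perm (Fin 6)) (g a) := by
    intro g a
    exact (MulAction.stabilizer_smul_eq_stabilizer_map_conj g a).symm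
  have inj : ∀ a b : Fin 6, MulAction.stabilizer (Equiv.Perm (Fin 6)) a = MulAction.stabilizer (Equiv.Perm (Fin 6)) b → a = b := by
    intro a b h
    by_contra hab
    obtain ⟨c, hca, hcb⟩ := (by decide : ∀ a b : Fin 6, ∃ c, c ≠ a ∧ c ≠ b) a b
    have : Equiv.swap c b ∈ MulAction.stabilizer (Equiv.Perm (Fin 6)) a := Equiv.swap_apply_of_ne_of_ne hca.symm hab
    rw [h] at this
    exact hcb ((Equiv.swap_apply_right c b).symm.trans this)
  have hnorm : Subgroup.normalizer (K : Set (Equiv.Perm (Fin 6))) = K := by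
    have hle : K ≤ Subgroup.normalizer (K : Set (Equiv.Perm (Fin 6))) := Subgroup.le_normalizer
    by_cases htop : Subgroup.normalizer (K : Set (Equiv.Perm (Fin 6))) = ⊤
    · exfalso
      haveI hn : K.Normal := Subgroup.normalizer_eq_top_iff.1 htop
      have hne : K ≠ ⊥ := by
        intro h; rw [h, Subgroup.index_bot, Nat.card_perm, Nat.card_fin] at hK; simp [Nat.factorial] at hK
      have h2 := Subgroup.index_antitone
        (Equiv.Perm.alternatingGroup_le_of_normal (α := Fin 6) (by simp) ((Subgroup.nontrivial_iff_ne_bot _).2 hne))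
      rw [hK, alternatingGroup.index_eq_two] at h2
      omega
    have hA : Subgroup.normalizer (K : Set (Equiv.Perm (Fin 6))) ≠ alternatingGroup (Fin 6) := by
      intro h
      have h1 := Subgroup.relIndex_mul_index hle
      rw [hK, h, alternatingGroup.index_eq_two] at h1
      -- an index three subgroup of A₆ would embed it in S₃
      have h3 : (K.subgroupOf (alternatingGroup (Fin 6))).index = 3 := by
        show K.relIndex (alternatingGroup (Fin 6)) = 3
        omega
      haveI := alternatingGroup.isSimpleGroup (α := Fin 6) (by simp)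
      set L := K.subgroupOf (alternatingGroup (Fin 6))
      have hc : L.normalCore = ⊥ := (L.normalCore_normal.eq_bot_or_eq_top).resolve_right fun e => by
        have := top_le_iff.1 (e ▸ L.normalCore_le)
        rw [this, Subgroup.index_top] at h3
        omega
      have hinj : Function.Injective (MulAction.toPermHom (alternatingGroup (Fin 6)) (alternatingGroup (Fin 6) ⧸ L)) := by
        rw [← MonoidHom.ker_eq_bot_iff, ← Subgroup.normalCore_eq_ker, hc]
      have h4 := Nat.card_le_card_of_injective _ hinj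
      rw [Nat.card_perm, ← Subgroup.index_eq_card, h3, nat_card_alternatingGroup, Nat.card_fin] at h4
      simp [Nat.factorial] at h4
    have h6 := Cfsg.Agent.S5944.result 6 (by norm_num) _ htop hA
    have h1 := Subgroup.relIndex_mul_index hle
    rw [hK] at h1
    refine le_antisymm (Subgroup.relIndex_eq_one.1 ?_) hle
    by_contra hne
    have hpos : 0 < K.relIndex (Subgroup.normalizer (K : Set (Equiv.Perm (Fin 6)))) := by
      rw [Nat.pos_iff_ne_zero]; intro h0; rw [h0, zero_mul] at h1; omega
    have h12 : 2 * 6 ≤ K.relIndex (Subgroup.normalizer (K : Set (Equiv.Perm (Fin 6)))) *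
        (Subgroup.normalizer (K : Set (Equiv.Perm (Fin 6)))).index :=
      Nat.mul_le_mul (by omega) h6
    omega
  refine ⟨MulAction.stabilizer (Equiv.Perm (Fin 6)) (0 : Fin 6), K, by rw [MulAction.index_stabilizer_of_transitive, Nat.card_fin], hK, ?_, ?_⟩
  · rintro ⟨g, hg⟩
    rw [hstab] at hg
    exact hKns _ hg.symm
  let T : Fin 6 ⊕ ((Equiv.Perm (Fin 6)) ⧸ K) → {H : Subgroup (Equiv.Perm (Fin 6)) // H.index = 6} := fun t => t.elim
    (fun a => ⟨MulAction.stabilizer (Equiv.Perm (Fin 6)) a, by rw [MulAction.index_stabilizer_of_transitive, Nat.card_fin]⟩)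
    (fun q => ⟨K.map (MulAut.conj q.out).toMonoidHom, (hidx _ _).trans hK⟩)
  have hT : Function.Injective T := by
    rintro (a | q) (b | q') h <;> replace h := congrArg Subtype.val h
    · exact congrArg Sum.inl (inj a b h)
    · exfalso
      have h2 := congrArg (Subgroup.map (MulAut.conj q'.out⁻¹).toMonoidHom) h
      simp only [T, Sum.elim_inl, Sum.elim_inr, hstab, Subgroup.map_map] at h2
      refine hKns _ (Eq.trans ?_ h2.symm)
      ext x; simp [Subgroup.mem_map, mul_assoc]
    · exfalso
      have h2 := congrArg (Subgroup.map (MulAut.conj q.out⁻¹).toMonoidHom) h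
      simp only [T, Sum.elim_inl, Sum.elim_inr, hstab, Subgroup.map_map] at h2
      refine hKns _ (Eq.trans ?_ h2)
      ext x; simp [Subgroup.mem_map, mul_assoc]
    · refine congrArg Sum.inr ?_
      have h2 := congrArg (Subgroup.map (MulAut.conj q'.out⁻¹).toMonoidHom) h
      simp only [T, Sum.elim_inr, Subgroup.map_map] at h2
      have hn : q'.out⁻¹ * q.out ∈ Subgroup.normalizer (K : Set (Equiv.Perm (Fin 6))) := by
        rw [Subgroup.mem_normalizer_iff]
        intro x
        have h3 : K.map (MulAut.conj (q'.out⁻¹ * q.out)).toMonoidHom = K := by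
          rw [show (MulAut.conj (q'.out⁻¹ * q.out)).toMonoidHom
            = (MulAut.conj q'.out⁻¹).toMonoidHom.comp (MulAut.conj q.out).toMonoidHom from by
              ext y; simp [mul_assoc]]
          rw [h2]
          ext y; simp [Subgroup.mem_map, mul_assoc]
        constructor
        · intro hx
          exact h3.le ⟨x, hx, rfl⟩
        · intro hx
          obtain ⟨y, hy, e⟩ := h3.symm.le hx
          simp only [MulEquiv.coe_toMonoidHom, MulAut.conj_apply] at e
          rwa [mul_left_cancel (mul_right_cancel e)] at hy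
      rw [hnorm] at hn
      rw [← q.out_eq, ← q'.out_eq]
      exact (QuotientGroup.eq.2 hn).symm
  have hbij : Function.Bijective T := (Nat.bijective_iff_injective_and_card T).2 ⟨hT, by
    rw [hcard, Nat.card_sum, Nat.card_fin, ← Subgroup.index_eq_card, hK]⟩
  intro H hH
  obtain ⟨t, ht⟩ := hbij.2 ⟨H, hH⟩
  rcases t with a | q
  · refine ⟨Equiv.swap 0 a, Or.inl ?_⟩
    rw [hstab, Equiv.swap_apply_left]
    exact congrArg Subtype.val ht
  · exact ⟨q.out, Or.inr (congrArg Subtype.val ht)⟩

/-- The symmetric group on a 6-element set Ω has exactly two conjugacy classes of subgroups of index 6: there are two non-conjugate subgroups of index 6 (a point stabilizer and a transitive subgroup isomorphic to S₅), and every subgroup of index 6 is conjugate to one of them. -/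
theorem result {Ω : Type*} [Fintype Ω] [DecidableEq Ω] (h6 : Fintype.card Ω = 6) :
    ∃ H₁ H₂ : Subgroup (Equiv.Perm Ω), H₁.index = 6 ∧ H₂.index = 6 ∧
      (¬ ∃ g : Equiv.Perm Ω, Subgroup.map (MulAut.conj g).toMonoidHom H₁ = H₂) ∧
      ∀ H : Subgroup (Equiv.Perm Ω), H.index = 6 →
        ∃ g : Equiv.Perm Ω, Subgroup.map (MulAut.conj g).toMonoidHom H₁ = H ∨ Subgroup.map (MulAut.conj g).toMonoidHom H₂ = H := by
  let e : Ω ≃ Fin 6 := Fintype.equivFinOfCardEq h6
  let π : Equiv.Perm Ω ≃* Equiv.Perm (Fin 6) := e.permCongrHom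
  obtain ⟨H₁, H₂, h1, h2, hne, hall⟩ := two_classes
  have hcomm : ∀ (g : Equiv.Perm (Fin 6)) (L : Subgroup (Equiv.Perm (Fin 6))),
      (L.map (MulAut.conj g).toMonoidHom).map π.symm.toMonoidHom
        = (L.map π.symm.toMonoidHom).map (MulAut.conj (π.symm g)).toMonoidHom := by
    intro g L
    rw [Subgroup.map_map, Subgroup.map_map]
    congr 1
    refine MonoidHom.ext fun x => ?_
    show π.symm (g * x * g⁻¹) = π.symm g * π.symm x * (π.symm g)⁻¹
    rw [map_mul, map_mul, map_inv]
  have hback : ∀ L : Subgroup (Equiv.Perm Ω), (L.map π.toMonoidHom).map π.symm.toMonoidHom = L := by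
    intro L
    rw [Subgroup.map_map]
    conv_rhs => rw [← Subgroup.map_id L]
    congr 1
    exact MonoidHom.ext fun x => π.symm_apply_apply x
  refine ⟨H₁.map π.symm.toMonoidHom, H₂.map π.symm.toMonoidHom, ?_, ?_, ?_, ?_⟩
  · exact (Subgroup.index_map_equiv H₁ π.symm).trans h1
  · exact (Subgroup.index_map_equiv H₂ π.symm).trans h2
  · rintro ⟨g, hg⟩
    refine hne ⟨π g, Subgroup.map_injective (f := π.symm.toMonoidHom) π.symm.injective ?_⟩
    rw [hcomm, π.symm_apply_apply]
    exact hg
  · intro H hH
    obtain ⟨g, hg⟩ := hall (H.map π.toMonoidHom) ((Subgroup.index_map_equiv H π).trans hH)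
    refine ⟨π.symm g, hg.imp (fun e => ?_) (fun e => ?_)⟩ <;>
    · rw [← hcomm, e, hback]

end Cfsg.Agent.S5912
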