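import Cfsg.Statements.S5913
-- import your own Cfsg.Agent.* helpers here

set_option autoImplicit false
open Cfsg

namespace Cfsg.Agent.S5913

/-- Let S be a non-abelian simple group and n a natural number. Every normal subgroup N of the direct power S^n (functions Fin n → S) is a subproduct: there is a set T of coordinates such that N consists exactly of the elements whose coordinates outside T are trivial. In particular the minimal normal subgroups of S^n are its n factors. -/
theorem result {S : Type*} [Group S] [IsSimpleGroup S] (hS : ¬ IsMulCommutative S) (n : ℕ)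
    (N : Subgroup (Fin n → S)) [N.Normal] :
    ∃ T : Finset (Fin n), ∀ x : Fin n → S, x ∈ N ↔ ∀ i, i ∉ T → x i = 1 := by
  classical
  have hcenter : ∀ a : S, (∀ b, a * b = b * a) → a = 1 := by
    intro a ha
    rcases (inferInstance : (Subgroup.center S).Normal).eq_bot_or_eq_top with h | h
    · exact Subgroup.mem_bot.1 (h ▸ Subgroup.mem_center_iff.2 fun b => (ha b).symm)
    · exact absurd ⟨⟨fun x y => (Subgroup.mem_center_iff.1 (h ▸ Subgroup.mem_top y) x)⟩⟩ hS
  refine ⟨Finset.univ.filter (fun i => ∃ x ∈ N, x i ≠ 1), fun x => ⟨fun hx i hi => ?_, fun hx => ?_⟩⟩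
  · by_contra h
    exact hi (Finset.mem_filter.2 ⟨Finset.mem_univ i, x, hx, h⟩)
  · refine Subgroup.pi_mem_of_mulSingle_mem x fun i => ?_
    by_cases hi : ∃ y ∈ N, y i ≠ 1
    · obtain ⟨y, hy, hyi⟩ := hi
      obtain ⟨s, hs⟩ : ∃ s, y i * s ≠ s * y i := by
        by_contra hc
        push_neg at hc
        exact hyi (hcenter _ hc)
      let φ : S →* (Fin n → S) := MonoidHom.mulSingle (fun _ => S) i
      have hmem : φ (y i * s * (y i)⁻¹ * s⁻¹) ∈ N := by
        have h1 := N.mul_mem hy (Subgroup.Normal.conj_mem inferInstance _ (N.inv_mem hy) (Pi.mulSingle i s))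
        convert h1 using 1
        funext j
        by_cases hj : j = i
        · subst hj; simp [φ, mul_assoc]
        · simp [φ, hj]
      haveI : (N.comap φ).Normal := inferInstance
      rcases (inferInstance : (N.comap φ).Normal).eq_bot_or_eq_top with h | h
      · have : y i * s * (y i)⁻¹ * s⁻¹ = 1 := Subgroup.mem_bot.1 (h ▸ hmem)
        rw [mul_inv_eq_one, mul_inv_eq_iff_eq_mul] at this
        exact absurd this hs
      · exact (h ▸ Subgroup.mem_top (x i) : x i ∈ N.comap φ)
    · rw [hx i (fun h => hi (Finset.mem_filter.1 h).2), Pi.mulSingle_one]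
      exact one_mem _

end Cfsg.Agent.S5913
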