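import Cfsg.Statements.S5914
import Cfsg.Agent.S5913
-- import your own Cfsg.Agent.* helpers here

set_option autoImplicit false
open Cfsg

namespace Cfsg.Agent.S5914

universe u

theorem forward {G : Type u} [Group G] [Finite G] [Nontrivial G]
    (hchar : ∀ H : Subgroup G, H.Characteristic → H = ⊥ ∨ H = ⊤) :
    ∃ (S : Type) (_ : Group S) (_ : IsSimpleGroup S) (n : ℕ), 1 ≤ n ∧ Nonempty (G ≃* (Fin n → S)) := by
  classical
  obtain ⟨N, ⟨hNn, hNb⟩, hNmin⟩ :=
    Set.Finite.exists_minimal (s := {N : Subgroup G | N.Normal ∧ N ≠ ⊥}) (Set.toFinite _)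
      ⟨⊤, inferInstance, top_ne_bot⟩
  let Orb : Set (Subgroup G) := {K | ∃ φ : G ≃* G, N.map φ.toMonoidHom = K}
  have hOn : ∀ K ∈ Orb, K.Normal := by
    rintro _ ⟨φ, rfl⟩
    exact Subgroup.Normal.map hNn _ φ.surjective
  have hOmin : ∀ K ∈ Orb, ∀ L : Subgroup G, L.Normal → L ≤ K → L = ⊥ ∨ L = K := by
    rintro _ ⟨φ, rfl⟩ L hL hle
    by_cases hb : L = ⊥
    · exact Or.inl hb
    refine Or.inr (le_antisymm hle ?_)
    have h1 : L.map φ.symm.toMonoidHom ≤ N := by
      rintro _ ⟨x, hx, rfl⟩
      obtain ⟨y, hy, hyx⟩ := hle hx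
      rw [← hyx]
      simpa using hy
    have h2 : N ≤ L.map φ.symm.toMonoidHom :=
      hNmin ⟨Subgroup.Normal.map hL _ φ.symm.surjective,
        fun h => hb ((Subgroup.map_eq_bot_iff_of_injective _ φ.symm.injective).1 h)⟩ h1
    rintro _ ⟨y, hy, rfl⟩
    obtain ⟨x, hx, hxy⟩ := h2 hy
    rw [← hxy]
    simpa using hx
  have hOb : ∀ K ∈ Orb, K ≠ ⊥ := by
    rintro _ ⟨φ, rfl⟩ h
    exact hNb ((Subgroup.map_eq_bot_iff_of_injective _ φ.injective).1 h)
  obtain ⟨s, ⟨hsO, hsI⟩, hsmax⟩ :=
    Set.Finite.exists_maximal (s := {s : Set (Subgroup G) | s ⊆ Orb ∧ sSupIndep s}) (Set.toFinite _)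
      ⟨∅, Set.empty_subset _, fun K hK => hK.elim⟩
  haveI hsn : (sSup s).Normal := Subgroup.sSup_normal s fun K hK => hOn K (hsO hK)
  have hall : ∀ K ∈ Orb, K ≤ sSup s := by
    intro M hM
    by_contra hle
    haveI := hOn M hM
    have hdis : M ⊓ sSup s = ⊥ :=
      (hOmin M hM _ inferInstance inf_le_left).resolve_right (fun h => hle (inf_eq_left.1 h))
    have hins : insert M s ∈ {s : Set (Subgroup G) | s ⊆ Orb ∧ sSupIndep s} := by
      refine ⟨Set.insert_subset hM hsO, ?_⟩
      intro K hK
      rcases Set.mem_insert_iff.1 hK with rfl | hKs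
      · refine Disjoint.mono_right (sSup_le_sSup fun x hx => ?_) (disjoint_iff.2 hdis)
        exact (Set.mem_insert_iff.1 hx.1).resolve_left hx.2
      · rw [Subgroup.disjoint_def]
        intro x hx hx'
        have hsub : sSup (insert M s \ {K}) ≤ M ⊔ sSup (s \ {K}) :=
          sSup_le fun L hL => (Set.mem_insert_iff.1 hL.1).elim (fun h => h ▸ le_sup_left)
            (fun h => le_sup_of_le_right (le_sSup ⟨h, hL.2⟩))
        obtain ⟨m, hm, y, hy, rfl⟩ := Subgroup.mem_sup_of_normal_left.1 (hsub hx')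
        have hy' : y ∈ sSup s := (sSup_le_sSup Set.sdiff_subset : sSup (s \ {K}) ≤ sSup s) hy
        have hm1 : m ∈ M ⊓ sSup s := by
          refine Subgroup.mem_inf.2 ⟨hm, ?_⟩
          have := mul_mem (le_sSup hKs hx) (inv_mem hy')
          simpa using this
        rw [hdis, Subgroup.mem_bot] at hm1
        subst hm1
        rw [one_mul] at hx ⊢
        exact Subgroup.disjoint_def.1 (hsI hKs) hx hy
    exact hle (le_sSup (hsmax hins (Set.subset_insert M s) (Set.mem_insert M s)))
  have htop : sSup s = ⊤ := by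
    refine le_antisymm le_top ?_
    let T := sSup Orb
    have hT : T.Characteristic := by
      rw [Subgroup.characteristic_iff_map_le]
      intro φ
      show T.map φ.toMonoidHom ≤ T
      rw [Subgroup.map_le_iff_le_comap]
      refine sSup_le ?_
      rintro _ ⟨ψ, rfl⟩
      rw [← Subgroup.map_le_iff_le_comap, Subgroup.map_map]
      exact le_sSup ⟨ψ.trans φ, rfl⟩
    rcases hchar T hT with h | h
    · exfalso
      apply hNb
      rw [eq_bot_iff, ← h]
      exact le_sSup ⟨MulEquiv.refl G, Subgroup.map_id N⟩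
    · rw [← h]; exact sSup_le hall
  let n := Nat.card s
  let e : Fin n ≃ s := (Finite.equivFin s).symm
  let H : Fin n → Subgroup G := fun i => (e i).1
  have hHO : ∀ i, H i ∈ Orb := fun i => hsO (e i).2
  have hind : iSupIndep H := ((sSupIndep_iff s).1 hsI).comp e.injective
  have hcomm : Pairwise fun i j => ∀ x y : G, x ∈ H i → y ∈ H j → Commute x y := fun i j hij x y hx hy =>
    Subgroup.commute_of_normal_of_disjoint _ _ (hOn _ (hHO i)) (hOn _ (hHO j)) (hind.pairwiseDisjoint hij) x y hx hy
  let Φ : (∀ i, H i) →* G := Subgroup.noncommPiCoprod hcomm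
  have hΦinj : Function.Injective Φ := Subgroup.injective_noncommPiCoprod_of_iSupIndep hind
  have hrange : Φ.range = ⊤ := by
    rw [Subgroup.noncommPiCoprod_range, ← htop, sSup_eq_iSup']
    exact Equiv.iSup_congr e (fun _ => rfl)
  have hn : 1 ≤ n := by
    by_contra h
    haveI : IsEmpty s := Finite.card_eq_zero_iff.1 (by omega) |> fun h => h
    rw [sSup_eq_iSup', iSup_of_empty] at htop
    exact bot_ne_top htop
  -- every factor is simple
  have hsimple : ∀ i, IsSimpleGroup (H i) := by
    intro i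
    haveI := (Subgroup.nontrivial_iff_ne_bot (H i)).2 (hOb _ (hHO i))
    refine ⟨fun L hL => ?_⟩
    have hLn : (L.map (H i).subtype).Normal := by
      rw [← Subgroup.normalizer_eq_top_iff, eq_top_iff, ← hrange, Subgroup.noncommPiCoprod_range]
      refine iSup_le fun j x hx => ?_
      rw [Subgroup.mem_normalizer_iff]
      intro y
      rcases eq_or_ne j i with rfl | hji
      · constructor
        · rintro ⟨z, hz, rfl⟩
          exact ⟨⟨x, hx⟩ * z * ⟨x, hx⟩⁻¹, hL.conj_mem z hz _, rfl⟩
        · rintro ⟨z, hz, hzy⟩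
          exact ⟨⟨x, hx⟩⁻¹ * z * ⟨x, hx⟩⁻¹⁻¹, hL.conj_mem z hz _, by
            simp only [map_mul, map_inv, hzy, inv_inv]; simp [mul_assoc]⟩
      · constructor
        · rintro ⟨z, hz, rfl⟩
          exact ⟨z, hz, ((hcomm hji x _ hx z.2).eq.symm ▸ by simp [mul_assoc] : _)⟩
        · rintro ⟨z, hz, hzy⟩
          refine ⟨z, hz, ?_⟩
          have hc := (hcomm hji x _ hx z.2).eq
          rw [Subgroup.coe_subtype] at hzy ⊢
          rw [hzy] at hc
          calc (z : G) = x * y * x⁻¹ := hzy
            _ = y := by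
              have h2 : x * (x * y * x⁻¹) = (x * y) := by rw [hc]; group
              have h3 : x * y * x⁻¹ = y := mul_left_cancel (a := x) h2
              exact h3
    rcases hOmin _ (hHO i) _ hLn (Subgroup.map_subtype_le L) with h | h
    · exact Or.inl ((Subgroup.map_eq_bot_iff_of_injective _ (H i).subtype_injective).1 h)
    · refine Or.inr (Subgroup.map_injective (H i).subtype_injective ?_)
      rw [h, ← MonoidHom.range_eq_map, Subgroup.range_subtype]
  haveI : Small.{0} N := Countable.toSmall N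
  let g : N ≃* Shrink.{0} N := Shrink.mulEquiv.symm
  have hiso : ∀ i, Nonempty (N ≃* H i) := fun i => by
    obtain ⟨φ, hφ⟩ := hHO i
    exact ⟨(N.equivMapOfInjective φ.toMonoidHom φ.injective).trans (MulEquiv.subgroupCongr hφ)⟩
  have hS : IsSimpleGroup (Shrink.{0} N) := by
    haveI := hsimple ⟨0, hn⟩
    obtain ⟨q⟩ := hiso ⟨0, hn⟩
    exact (g.symm.trans q).isSimpleGroup
  refine ⟨Shrink.{0} N, inferInstance, hS, n, hn, ⟨?_⟩⟩
  refine (MulEquiv.ofBijective Φ ⟨hΦinj, MonoidHom.range_eq_top.1 hrange⟩).symm.trans ?_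
  exact MulEquiv.piCongrRight fun i => (hiso i).some.symm.trans g

theorem backward {S : Type} [Group S] [IsSimpleGroup S] (n : ℕ) (H : Subgroup (Fin n → S))
    (hH : H.Characteristic) : H = ⊥ ∨ H = ⊤ := by
  classical
  by_cases hb : H = ⊥
  · exact Or.inl hb
  refine Or.inr ?_
  obtain ⟨x, hx, hx1⟩ := (H.bot_or_exists_ne_one).resolve_left hb
  obtain ⟨i, hi⟩ : ∃ i, x i ≠ 1 := Function.ne_iff.1 hx1
  have hmap : ∀ φ : (Fin n → S) ≃* (Fin n → S), ∀ y ∈ H, φ y ∈ H := fun φ y hy =>
    Subgroup.characteristic_iff_map_le.1 hH φ ⟨y, hy, rfl⟩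
  haveI := Subgroup.normal_of_characteristic H
  suffices h : ∀ j (a : S), Pi.mulSingle j a ∈ H by
    refine eq_top_iff.2 fun y _ => Subgroup.pi_mem_of_mulSingle_mem y fun j => h j _
  -- some coordinate embeds completely
  suffices h : ∃ j, Pi.mulSingle j (x i) ∈ H by
    obtain ⟨j, hj⟩ := h
    intro l a
    have hperm : Pi.mulSingle l (x i) ∈ H := by
      let σ := Equiv.swap j l
      let φ : (Fin n → S) ≃* (Fin n → S) :=
        { toFun := fun y m => y (σ m)
          invFun := fun y m => y (σ m)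
          left_inv := fun y => funext fun m => by simp [σ]
          right_inv := fun y => funext fun m => by simp [σ]
          map_mul' := fun _ _ => rfl }
      have := hmap φ _ hj
      convert this using 1
      funext m
      simp only [φ, MulEquiv.coe_mk, Equiv.coe_fn_mk]
      by_cases hm : m = l
      · subst hm; simp [σ]
      · have : σ m ≠ j := fun e => hm (by
          have := congrArg σ e
          simpa [σ] using this)
        simp [hm, this]
    let ι : S →* (Fin n → S) := MonoidHom.mulSingle (fun _ => S) l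
    rcases (inferInstance : (H.comap ι).Normal).eq_bot_or_eq_top with h | h
    · exact absurd (Subgroup.mem_bot.1 (h ▸ (hperm : x i ∈ H.comap ι))) hi
    · exact (h ▸ Subgroup.mem_top a : a ∈ H.comap ι)
  by_cases hS : IsMulCommutative S
  swap
  · obtain ⟨T, hT⟩ := Cfsg.Agent.S5913.result hS n H
    refine ⟨i, (hT _).2 fun j hj => ?_⟩
    rcases eq_or_ne j i with rfl | hji
    · exact absurd ((hT x).1 hx j hj) hi
    · exact Pi.mulSingle_eq_of_ne hji _
  have hc : ∀ a b : S, a * b = b * a := fun a b => hS.is_comm.comm a b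
  by_cases hn : ∃ j, j ≠ i
  · obtain ⟨j, hj⟩ := hn
    refine ⟨j, ?_⟩
    let φ : (Fin n → S) ≃* (Fin n → S) :=
      { toFun := fun y => y * Pi.mulSingle j (y i)
        invFun := fun y => y * Pi.mulSingle j (y i)⁻¹
        left_inv := fun y => by simp [Pi.mulSingle_eq_of_ne hj.symm, Pi.mulSingle_inv, mul_assoc]
        right_inv := fun y => by simp [Pi.mulSingle_eq_of_ne hj.symm, Pi.mulSingle_inv, mul_assoc]
        map_mul' := fun y z => funext fun m => by
          by_cases hm : m = j
          · subst hm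
            simp only [Pi.mul_apply, Pi.mulSingle_eq_same]
            rw [mul_assoc, mul_assoc, ← mul_assoc (z m), hc (z m) (y i), mul_assoc]
          · simp [hm] }
    have h1 : φ x = x * Pi.mulSingle j (x i) := rfl
    have := mul_mem (inv_mem hx) (hmap φ x hx)
    rwa [h1, inv_mul_cancel_left] at this
  · push_neg at hn
    refine ⟨i, ?_⟩
    have : Pi.mulSingle i (x i) = x := funext fun m => by rw [hn m]; simp
    rwa [this]

/-- A non-trivial finite group G is characteristically simple (its only characteristic subgroups are 1 and G) if and only if G is isomorphic to a direct power S^n (n ≥ 1) of some simple group S (possibly cyclic of prime order). -/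
theorem result {G : Type*} [Group G] [Finite G] [Nontrivial G] :
    (∀ H : Subgroup G, H.Characteristic → H = ⊥ ∨ H = ⊤) ↔
    ∃ (S : Type) (_ : Group S) (_ : IsSimpleGroup S) (n : ℕ), 1 ≤ n ∧ Nonempty (G ≃* (Fin n → S)) := by
  refine ⟨forward, fun ⟨S, _, _, n, _, ⟨e⟩⟩ H hH => ?_⟩
  have hH' : (H.map e.toMonoidHom).Characteristic := by
    rw [Subgroup.characteristic_iff_map_le]
    intro φ
    rintro _ ⟨_, ⟨x, hx, rfl⟩, rfl⟩
    refine ⟨(e.trans (φ.trans e.symm)) x, Subgroup.characteristic_iff_map_le.1 hH _ ⟨x, hx, rfl⟩, ?_⟩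
    simp
  rcases backward n _ hH' with h | h
  · exact Or.inl ((Subgroup.map_eq_bot_iff_of_injective _ e.injective).1 h)
  · refine Or.inr (Subgroup.map_injective (f := e.toMonoidHom) e.injective ?_)
    rw [h, Subgroup.map_top_of_surjective _ e.surjective]

end Cfsg.Agent.S5914
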