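import Cfsg.Statements.S5938
import Cfsg.Agent.Lib.PSL2.MaximalExist
import Cfsg.Agent.S0799

set_option autoImplicit false
open Cfsg

namespace Cfsg.Agent.S5938

/-- Let p be a prime with p ≡ ±1 (mod 8) and F a field with p elements. Then PSL_2(F) has a maximal subgroup isomorphic to the symmetric group S_4. -/
theorem result {F : Type*} [Field F] [Fintype F] (p : ℕ) [Fact p.Prime] (hF : Fintype.card F = p) (hp : p % 8 = 1 ∨ p % 8 = 7) : ∃ H : Subgroup (Matrix.ProjectiveSpecialLinearGroup (Fin 2) F), IsCoatom H ∧ Nonempty (H ≃* Equiv.Perm (Fin 4)) := by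
  obtain ⟨p', hp'⟩ := CharP.exists F
  obtain ⟨n, hpp, hn⟩ := FiniteField.card F p'
  obtain rfl : p' = p := ((Fact.out : p.Prime).eq_one_or_self_of_dvd p' (hF ▸ hn ▸ dvd_pow_self p' n.ne_zero)).resolve_left hpp.ne_one
  have hD : ∀ H, PSL2.Maximal.IsDicksonType (F := F) p' H := fun H => S0799.result rfl p' H
  exact PSL2.Maximal.permFour_maximal p' hF hp hD

end Cfsg.Agent.S5938
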