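import Cfsg.Statements.S5946
-- import your own Cfsg.Agent.* helpers here

set_option autoImplicit false
open Cfsg

namespace Cfsg.Agent.S5946

/-- Let F ⊆ K be finite fields with [K : F] = n ≥ 2 and regard K as an n-dimensional F-vector space. The Singer group M ≤ GL_F(K) of multiplications by the non-zero elements of K is self-centralizing: every F-linear automorphism of K commuting with all of M lies in M. -/
theorem result {F K : Type*} [Field F] [Fintype F] [Field K] [Fintype K] [Algebra F K] (n : ℕ) (hn : 2 ≤ n) (hdim : Module.finrank F K = n) :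
    Subgroup.centralizer (((Units.map ((Algebra.lmul F K : K →ₐ[F] Module.End F K) : K →* Module.End F K)).range : Subgroup (Module.End F K)ˣ) : Set (Module.End F K)ˣ) = (Units.map ((Algebra.lmul F K : K →ₐ[F] Module.End F K) : K →* Module.End F K)).range := by
  apply le_antisymm
  · intro f hf
    rw [Subgroup.mem_centralizer_iff] at hf
    have hne : (f : Module.End F K) 1 ≠ 0 := by
      intro h
      have h1 : ((f⁻¹ * f : (Module.End F K)ˣ) : Module.End F K) 1 = 0 := by
        rw [Units.val_mul, Module.End.mul_apply, h, map_zero]
      rw [inv_mul_cancel, Units.val_one, Module.End.one_apply] at h1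
      exact one_ne_zero h1
    refine ⟨Units.mk0 _ hne, ?_⟩
    apply Units.ext
    apply LinearMap.ext
    intro x
    show (f : Module.End F K) 1 * x = (f : Module.End F K) x
    by_cases hx : x = 0
    · simp [hx]
    have h := congrArg (fun z : (Module.End F K)ˣ => (z : Module.End F K) 1) (hf _ ⟨Units.mk0 x hx, rfl⟩)
    have h' : x * (f : Module.End F K) 1 = (f : Module.End F K) (x * 1) := h
    rw [mul_one] at h'
    rw [← h', mul_comm]
  · rintro _ ⟨a, rfl⟩
    rw [Subgroup.mem_centralizer_iff]
    rintro _ ⟨b, rfl⟩
    rw [← map_mul, ← map_mul, mul_comm]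

end Cfsg.Agent.S5946
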