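import Cfsg.Statements.S5947
-- import your own Cfsg.Agent.* helpers here

set_option autoImplicit false
open Cfsg

namespace Cfsg.Agent.S5947

/-- Let F ⊆ K be finite fields with |F| = q and [K : F] = n ≥ 2, regard K as an n-dimensional F-vector space, and let M ≤ GL_F(K) be the Singer group of multiplications by non-zero elements of K (cyclic of order q^n − 1). Assume (n, q) ≠ (6, 2), and that it is not the case that n = 2 with q a prime such that q + 1 is a power of 2. Then every abelian subgroup of GL_F(K) of order q^n − 1 is conjugate to M. -/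
theorem result {F K : Type*} [Field F] [Fintype F] [Field K] [Fintype K] [Algebra F K] (n : ℕ) (hn : 2 ≤ n) (hdim : Module.finrank F K = n)
    (hex1 : ¬ (n = 6 ∧ Fintype.card F = 2))
    (hex2 : ¬ (n = 2 ∧ (Fintype.card F).Prime ∧ ∃ a : ℕ, Fintype.card F + 1 = 2 ^ a))
    (U : Subgroup (Module.End F K)ˣ) (hU : IsMulCommutative U) (hcard : Nat.card U = Fintype.card K - 1) :
    ∃ g : (Module.End F K)ˣ, U.map (MulAut.conj g).toMonoidHom = (Units.map ((Algebra.lmul F K : K →ₐ[F] Module.End F K) : K →* Module.End F K)).range := by
  classical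
  haveI : Finite (Module.End F K) := Finite.of_injective (fun f : Module.End F K => (f : K → K)) DFunLike.coe_injective
  let S : Set (Module.End F K) := Units.val '' (U : Set (Module.End F K)ˣ)
  let A : Subalgebra F (Module.End F K) := Algebra.adjoin F S
  have hS : ∀ x ∈ S, ∀ y ∈ S, x * y = y * x := by
    rintro _ ⟨u, hu, rfl⟩ _ ⟨w, hw, rfl⟩
    have := congrArg (fun z : U => ((z : (Module.End F K)ˣ) : Module.End F K))
      (hU.is_comm.comm ⟨u, hu⟩ ⟨w, hw⟩)
    simpa using this
  haveI hAc : IsMulCommutative A := Algebra.isMulCommutative_adjoin F hS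
  letI : CommRing A := { (inferInstance : Ring A) with mul_comm := fun a b => hAc.is_comm.comm a b }
  haveI : Finite A := Subtype.finite
  obtain ⟨p, hp⟩ := CharP.exists F
  haveI := hp
  haveI hpp : Fact p.Prime := ⟨CharP.char_is_prime F p⟩
  haveI : Nontrivial A := Subsemiring.nontrivial A.toSubsemiring
  haveI : CharP A p := charP_of_injective_algebraMap (algebraMap F A).injective p
  obtain ⟨n', hn'prime, hcF⟩ := FiniteField.card F p
  have hcK : Fintype.card K = Fintype.card F ^ n := by rw [Module.card_eq_pow_finrank (K := F), hdim]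
  obtain ⟨m, hm⟩ : ∃ m, Fintype.card K = p ^ m := ⟨(n' : ℕ) * n, by rw [hcK, hcF, pow_mul]⟩
  have hKpos : 1 ≤ Fintype.card K := Fintype.card_pos
  -- every element of A is fixed by the |K|-th power map
  have hpow : ∀ a : A, a ^ Fintype.card K = a := by
    intro a
    let φ : A →+* A := iterateFrobenius A p m
    have hφ : ∀ b, φ b = b ^ Fintype.card K := fun b => by rw [hm]; exact iterateFrobenius_def p m b
    suffices h : ∀ x (hx : x ∈ A), φ ⟨x, hx⟩ = ⟨x, hx⟩ by
      rw [← hφ]; exact h a.1 a.2
    intro x hx
    induction hx using Algebra.adjoin_induction with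
    | mem x hx =>
      obtain ⟨u, hu, rfl⟩ := hx
      rw [hφ]
      apply Subtype.ext
      have h1 : (⟨u, hu⟩ : U) ^ Nat.card U = 1 := pow_card_eq_one'
      rw [hcard] at h1
      have h2 : u ^ (Fintype.card K - 1) = 1 := by simpa using congrArg Subtype.val h1
      rw [SubmonoidClass.coe_pow]
      show (u : Module.End F K) ^ Fintype.card K = u
      rw [← Units.val_pow_eq_pow_val, ← Nat.sub_add_cancel hKpos, pow_succ, h2, one_mul]
    | algebraMap c =>
      rw [hφ]
      have : (algebraMap F A c) ^ Fintype.card K = algebraMap F A c := by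
        rw [← map_pow, hcK, FiniteField.pow_card_pow]
      exact this
    | add x y hx' hy' ihx ihy =>
      rw [show (⟨x + y, _⟩ : A) = ⟨x, hx'⟩ + ⟨y, hy'⟩ from rfl, map_add, ihx, ihy]
    | mul x y hx' hy' ihx ihy =>
      rw [show (⟨x * y, _⟩ : A) = ⟨x, hx'⟩ * ⟨y, hy'⟩ from rfl, map_mul, ihx, ihy]
  have hK2 : 2 ≤ Fintype.card K := Fintype.one_lt_card
  -- a vector with trivial annihilator
  obtain ⟨v, hv⟩ : ∃ v : K, ∀ a : A, (a : Module.End F K) v = 0 → a = 0 := by
    by_contra hcon
    push Not at hcon
    haveI : Fintype A := Fintype.ofFinite A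
    obtain ⟨v, -, hvmin⟩ := Finset.exists_min_image (Finset.univ : Finset K)
      (fun v => (Finset.univ.filter fun a : A => (a : Module.End F K) v = 0).card) Finset.univ_nonempty
    obtain ⟨a, hav, ha⟩ := hcon v
    let e : A := a ^ (Fintype.card K - 1)
    have hea : e * a = a := by rw [← pow_succ, Nat.sub_add_cancel hKpos, hpow]
    have hee : e * e = e := by
      show a ^ (Fintype.card K - 1) * a ^ (Fintype.card K - 1) = a ^ (Fintype.card K - 1)
      obtain ⟨j, hj⟩ : ∃ j, Fintype.card K - 1 = j + 1 := ⟨Fintype.card K - 2, by omega⟩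
      rw [hj, ← pow_add, show j + 1 + (j + 1) = (j + 1 + 1) + j by ring, pow_add, ← hj,
        Nat.sub_add_cancel hKpos, hpow, hj, pow_succ, mul_comm]
    have hev : (e : Module.End F K) v = 0 := by
      have he : e = a ^ (Fintype.card K - 2) * a := by
        have h12 : Fintype.card K - 2 + 1 = Fintype.card K - 1 := by omega
        rw [← pow_succ, h12]
      rw [he, MulMemClass.coe_mul, Module.End.mul_apply, hav, map_zero]
    obtain ⟨w, hw⟩ : ∃ w, (e : Module.End F K) w ≠ 0 := by
      by_contra hall
      push Not at hall
      have he0 : e = 0 := Subtype.ext (LinearMap.ext hall)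
      exact ha (by rw [← hea, he0, zero_mul])
    set v' := v + (e : Module.End F K) w with hv'
    have hsub : (Finset.univ.filter fun b : A => (b : Module.End F K) v' = 0) ⊂
        (Finset.univ.filter fun b : A => (b : Module.End F K) v = 0) := by
      rw [Finset.ssubset_iff_of_subset]
      · refine ⟨e, by simp [hev], ?_⟩
        simp only [Finset.mem_filter, Finset.mem_univ, true_and, hv', map_add, hev, zero_add]
        rwa [← Module.End.mul_apply, ← MulMemClass.coe_mul, hee]
      · intro b
        simp only [Finset.mem_filter, Finset.mem_univ, true_and]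
        intro hb
        have h1 : ((b * e : A) : Module.End F K) w = 0 := by
          have : ((e * b : A) : Module.End F K) v' = 0 := by
            rw [MulMemClass.coe_mul, Module.End.mul_apply, hb, map_zero]
          rw [hv', map_add, mul_comm e b] at this
          rw [MulMemClass.coe_mul, Module.End.mul_apply, hev, map_zero, zero_add,
            ← MulMemClass.coe_mul, ← Module.End.mul_apply, ← MulMemClass.coe_mul, mul_assoc, hee] at this
          exact this
        rw [MulMemClass.coe_mul, Module.End.mul_apply] at h1
        simpa [hv', map_add, h1] using hb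
    exact absurd (hvmin v' (Finset.mem_univ _)) (not_le.mpr (Finset.card_lt_card hsub))
  -- evaluation at v is a bijection, and A consists of U and 0
  let ev : A →ₗ[F] K :=
    { toFun := fun a => (a : Module.End F K) v
      map_add' := fun a b => by simp
      map_smul' := fun c a => by simp }
  have hevinj : Function.Injective ev := (injective_iff_map_eq_zero ev).mpr hv
  haveI : Fintype A := Fintype.ofFinite A
  let ι : U → A := fun u => ⟨((u : (Module.End F K)ˣ) : Module.End F K), Algebra.subset_adjoin ⟨u, u.2, rfl⟩⟩
  have hιinj : Function.Injective ι := fun u w h => Subtype.ext (Units.ext (congrArg Subtype.val h))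
  have hιne : ∀ u, ι u ≠ 0 := fun u h => Units.ne_zero _ (congrArg Subtype.val h)
  haveI : Fintype U := Fintype.ofFinite U
  have himg : (Finset.univ.image ι) = (Finset.univ.erase (0 : A)) := by
    apply Finset.eq_of_subset_of_card_le
    · intro x hx
      obtain ⟨u, -, rfl⟩ := Finset.mem_image.mp hx
      exact Finset.mem_erase.mpr ⟨hιne u, Finset.mem_univ _⟩
    · rw [Finset.card_erase_of_mem (Finset.mem_univ _), Finset.card_image_of_injective _ hιinj,
        Finset.card_univ, Finset.card_univ, ← Nat.card_eq_fintype_card (α := U), hcard]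
      have := Fintype.card_le_of_injective ev hevinj
      omega
  have hAK : Fintype.card A = Fintype.card K := by
    have := congrArg Finset.card himg
    rw [Finset.card_erase_of_mem (Finset.mem_univ _), Finset.card_image_of_injective _ hιinj,
      Finset.card_univ, Finset.card_univ, ← Nat.card_eq_fintype_card (α := U), hcard] at this
    have := Fintype.card_pos (α := A)
    omega
  have hfield : IsField A := by
    refine ⟨⟨0, 1, zero_ne_one⟩, mul_comm, fun {a} ha => ?_⟩
    have : a ∈ Finset.univ.image ι := by rw [himg]; exact Finset.mem_erase.mpr ⟨ha, Finset.mem_univ _⟩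
    obtain ⟨u, -, rfl⟩ := Finset.mem_image.mp this
    exact ⟨ι u⁻¹, Subtype.ext (by simp [ι])⟩
  letI : Field A := hfield.toField
  haveI : NeZero n := ⟨by omega⟩
  have hfA : Module.finrank F A = n := by
    have h := Module.card_eq_pow_finrank (K := F) (V := A)
    rw [hAK, hcK] at h
    exact (Nat.pow_right_injective (Fintype.one_lt_card) h).symm
  let θ : A ≃ₐ[F] K := (FiniteField.algEquivExtension F p n A hfA).trans (FiniteField.algEquivExtension F p n K hdim).symm
  have hevbij : Function.Bijective ev := (Fintype.bijective_iff_injective_and_card _).mpr ⟨hevinj, hAK⟩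
  let g₀ : K ≃ₗ[F] K := (LinearEquiv.ofBijective ev hevbij).symm.trans θ.toLinearEquiv
  let g : (Module.End F K)ˣ := (LinearMap.GeneralLinearGroup.generalLinearEquiv F K).symm g₀
  refine ⟨g, ?_⟩
  have hg : ∀ b : A, (g : Module.End F K) ((b : Module.End F K) v) = θ b := by
    intro b
    show θ ((LinearEquiv.ofBijective ev hevbij).symm (ev b)) = θ b
    rw [show (LinearEquiv.ofBijective ev hevbij).symm (ev b) = b from
      (LinearEquiv.ofBijective ev hevbij).symm_apply_apply b]
  have hle : U.map (MulAut.conj g).toMonoidHom ≤ (Units.map ((Algebra.lmul F K : K →ₐ[F] Module.End F K) : K →* Module.End F K)).range := by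
    rintro _ ⟨u, hu, rfl⟩
    refine ⟨Units.mk0 (θ (ι ⟨u, hu⟩)) ((map_ne_zero_iff θ θ.injective).mpr (hιne _)), ?_⟩
    have hh : (g * u : (Module.End F K)ˣ) =
        Units.map ((Algebra.lmul F K : K →ₐ[F] Module.End F K) : K →* Module.End F K)
          (Units.mk0 (θ (ι ⟨u, hu⟩)) ((map_ne_zero_iff θ θ.injective).mpr (hιne _))) * g := by
      apply Units.ext
      apply LinearMap.ext
      intro x
      obtain ⟨b, rfl⟩ := hevbij.2 x
      show (g : Module.End F K) ((u : Module.End F K) ((b : Module.End F K) v)) =
        θ (ι ⟨u, hu⟩) * (g : Module.End F K) ((b : Module.End F K) v)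
      rw [hg b, ← map_mul, ← hg]
      rfl
    simp only [MulEquiv.coe_toMonoidHom, MulAut.conj_apply]
    rw [hh, mul_inv_cancel_right]
  apply Subgroup.eq_of_le_of_card_ge hle
  rw [Nat.card_congr (U.equivMapOfInjective _ (MulAut.conj g).injective).toEquiv.symm, hcard]
  calc Nat.card _ ≤ Nat.card Kˣ := Nat.card_le_card_of_surjective _ (MonoidHom.rangeRestrict_surjective _)
    _ = Fintype.card K - 1 := by rw [Nat.card_units, Nat.card_eq_fintype_card]

end Cfsg.Agent.S5947
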