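import Cfsg.Statements.S5950
import Cfsg.Agent.Lib.Elusive.Subspaces
import Cfsg.Agent.Lib.UnipClasses.Basic

set_option autoImplicit false
set_option linter.style.haveILetI false
open scoped MatrixGroups
open Cfsg

namespace Cfsg.Agent.S5950

open Module LinRep.JordanType in
theorem exists_nilpotent_of_type {F : Type*} [Field F] (n p : ℕ) (μ : Multiset ℕ)
    (hμ : ∀ b ∈ μ, b ≤ p) (hsum : μ.sum = n) :
    ∃ N : Module.End F (Fin n → F), N ^ p = 0 ∧ HasType N μ := by
  classical
  obtain ⟨l, rfl⟩ : ∃ l : List ℕ, μ = (l : Multiset ℕ) := ⟨μ.toList, μ.coe_toList.symm⟩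
  let size : Fin l.length → ℕ := fun j => l.get j
  have hval : Finset.univ.val.map size = (l : Multiset ℕ) := by
    rw [Fin.univ_val_map, List.ofFn_get]
  have hcard : finrank F ((Σ j, Fin (size j)) → F) = finrank F (Fin n → F) := by
    rw [Module.finrank_fintype_fun_eq_card, Module.finrank_fin_fun, Fintype.card_sigma, ← hsum, ← hval]
    simp [Finset.sum]
  let L := LinearEquiv.ofFinrankEq ((Σ j, Fin (size j)) → F) (Fin n → F) hcard
  refine ⟨L.conjAlgEquiv F (shiftFun size), ?_, ?_⟩
  · rw [← map_pow, show (shiftFun (F := F) size) ^ p = 0 from LinearMap.ext fun f => funext fun q => by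
      have h1 := q.2.isLt
      have h2 : size q.1 ≤ p := hμ _ (by simp [size])
      rw [shiftFun_pow_apply, dif_neg (by omega)]
      rfl, map_zero]
  · rw [← hval]
    exact UnipClasses.hasType_of_shift size L.symm fun v => by simp [LinearEquiv.conjAlgEquiv_apply]

open Module LinRep.JordanType in
/-- The Jordan type of a summand is a partition of its dimension inside the type of the whole. -/
theorem exists_subpartition {F : Type*} [Field F] {V : Type*} [AddCommGroup V] [Module F V]
    [FiniteDimensional F V] (N : End F V) (p : ℕ) (hNp : N ^ p = 0) {μ : Multiset ℕ} (hT : HasType N μ)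
    {U W : Submodule F V} (hUW : IsCompl U W) (hU : U.map N ≤ U) (hW : W.map N ≤ W) :
    ∃ ν : Multiset ℕ, ν ≤ μ ∧ ν.sum = finrank F U := by
  let E : Fin 2 → Submodule F V := ![U, W]
  have hind : iSupIndep E := by
    intro j
    fin_cases j
    · refine hUW.disjoint.mono_right (iSup₂_le fun k hk => ?_)
      fin_cases k
      · exact absurd rfl hk
      · exact le_rfl
    · refine hUW.disjoint.symm.mono_right (iSup₂_le fun k hk => ?_)
      fin_cases k
      · exact le_rfl
      · exact absurd rfl hk
  have htop : iSup E = ⊤ := by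
    refine eq_top_iff.2 (hUW.sup_eq_top.ge.trans (sup_le (le_iSup E 0) (le_iSup E 1)))
  have hinv : ∀ j, (E j).map N ≤ E j := by
    intro j; fin_cases j <;> assumption
  exact ⟨jordanType N U p, (count_summand_le hind htop hinv 0 p).trans (hT.jordanType_le p),
    sum_jordanType_eq hU (by rw [hNp, Submodule.map_zero])⟩

open Module LinRep.JordanType in
/-- A map with blocks containing a partition of `m` has invariant complementary summands. -/
theorem exists_summands {F : Type*} [Field F] {V : Type*} [AddCommGroup V] [Module F V]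
    [FiniteDimensional F V] (N : End F V) (p : ℕ) (hNp : N ^ p = 0) (m : ℕ)
    (h : ∀ μ : Multiset ℕ, (∀ a ∈ μ, 0 < a ∧ a ≤ p) → μ.sum = finrank F V →
      ∃ ν : Multiset ℕ, ν ≤ μ ∧ ν.sum = m) :
    ∃ U W : Submodule F V, IsCompl U W ∧ finrank F U = m ∧ U.map N ≤ U ∧ W.map N ≤ W := by
  classical
  obtain ⟨d, k, L, hL⟩ := UnipClasses.exists_shift N ⟨p, hNp⟩
  have hkp : ∀ j, k j ≤ p := by
    intro j
    by_contra hlt
    push Not at hlt
    have h1 := UnipClasses.pow_conj L hL p
      (L.symm (Pi.single ⟨j, ⟨0, by omega⟩⟩ 1))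
    rw [hNp, LinearMap.zero_apply, map_zero, L.apply_symm_apply] at h1
    have h2 := congrFun h1 ⟨j, ⟨p, hlt⟩⟩
    rw [shiftFun_pow_apply, dif_pos le_rfl] at h2
    simp at h2
  set μ := (Finset.univ.val.map k).filter (0 < ·) with hμ
  have hμsum : μ.sum = finrank F V := by
    rw [L.finrank_eq, Module.finrank_fintype_fun_eq_card, Fintype.card_sigma]
    simp only [Fintype.card_fin]
    rw [hμ, Multiset.filter_map, show ∑ x, k x = (Finset.univ.val.map k).sum from rfl]
    exact Finset.sum_filter_of_ne (s := Finset.univ) (f := k) (p := fun x => 0 < k x)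
      fun x _ hx => Nat.pos_of_ne_zero hx
  obtain ⟨ν, hν, hνm⟩ := h μ (fun a ha => by
    obtain ⟨ha1, ha2⟩ := Multiset.mem_filter.1 ha
    obtain ⟨j, -, rfl⟩ := Multiset.mem_map.1 ha1
    exact ⟨ha2, hkp j⟩) hμsum
  have hsub : ∀ (ν : Multiset ℕ) (s : Multiset (Fin d)), ν ≤ s.map k → ∃ t ≤ s, t.map k = ν := by
    intro ν
    induction ν using Multiset.induction with
    | empty => exact fun s _ => ⟨0, Multiset.zero_le _, rfl⟩
    | cons a ν ih =>
      intro s hs
      obtain ⟨j, hj, rfl⟩ := Multiset.mem_map.1 (Multiset.mem_of_le hs (Multiset.mem_cons_self a ν))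
      obtain ⟨s', rfl⟩ := Multiset.exists_cons_of_mem hj
      rw [Multiset.map_cons, Multiset.cons_le_cons_iff] at hs
      obtain ⟨t, ht, rfl⟩ := ih s' hs
      exact ⟨j ::ₘ t, Multiset.cons_le_cons j ht, Multiset.map_cons k j t⟩
  obtain ⟨t, ht, htν⟩ := hsub ν _ (hν.trans (Multiset.filter_le _ _))
  let S : Finset (Fin d) := ⟨t, Multiset.nodup_of_le ht Finset.univ.nodup⟩
  let part : (Fin d → Prop) → Submodule F ((Σ j, Fin (k j)) → F) := fun P =>
    { carrier := {f | ∀ q, ¬ P q.1 → f q = 0}
      add_mem' := fun ha hb q hq => by simp [ha q hq, hb q hq]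
      zero_mem' := fun q _ => rfl
      smul_mem' := fun c f hf q hq => by simp [hf q hq] }
  have hpart : ∀ P, ∀ f ∈ part P, shiftFun k f ∈ part P := by
    intro P f hf q hq
    show (if h : 0 < q.2.val then f ⟨q.1, ⟨q.2.val - 1, by omega⟩⟩ else 0) = 0
    split
    · exact hf _ hq
    · rfl
  have hcompl : IsCompl (part (· ∈ S)) (part (· ∉ S)) := by
    refine ⟨Submodule.disjoint_def.2 fun f h1 h2 => funext fun q => ?_, codisjoint_iff.2 ?_⟩
    · by_cases hq : q.1 ∈ S
      · exact h2 q (not_not.2 hq)
      · exact h1 q hq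
    · refine eq_top_iff.2 fun f _ => Submodule.mem_sup.2 ⟨fun q => if q.1 ∈ S then f q else 0,
        fun q hq => if_neg hq, fun q => if q.1 ∈ S then 0 else f q,
        fun q hq => if_pos (not_not.1 hq), funext fun q => ?_⟩
      simp only [Pi.add_apply]
      split_ifs <;> simp
  have hdim : finrank F (part (· ∈ S)) = m := by
    let e : part (· ∈ S) ≃ₗ[F] ({q : Σ j, Fin (k j) // q.1 ∈ S} → F) :=
      { toFun := fun f q => f.1 q.1
        map_add' := fun f g => rfl
        map_smul' := fun c f => rfl
        invFun := fun g => ⟨fun q => if h : q.1 ∈ S then g ⟨q, h⟩ else 0, fun q hq => dif_neg hq⟩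
        left_inv := fun f => Subtype.ext (funext fun q => by
          by_cases h : q.1 ∈ S
          · exact dif_pos h
          · exact (dif_neg h).trans (f.2 q h).symm)
        right_inv := fun g => funext fun q => dif_pos q.2 }
    rw [e.finrank_eq, Module.finrank_fintype_fun_eq_card, ← hνm, ← htν,
      show (t.map k).sum = ∑ j ∈ S, k j from rfl,
      Fintype.card_subtype]
    rw [show (Finset.univ.filter fun q : Σ j, Fin (k j) => q.1 ∈ S) =
      S.sigma fun _ => Finset.univ by ext q; simp, Finset.card_sigma]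
    simp
  refine ⟨(part (· ∈ S)).map L.symm.toLinearMap, (part (· ∉ S)).map L.symm.toLinearMap, ?_, ?_, ?_, ?_⟩
  · exact hcompl.map (Submodule.orderIsoMapComap L.symm)
  · rw [LinearEquiv.finrank_map_eq, hdim]
  all_goals
    rintro _ ⟨_, ⟨f, hf, rfl⟩, rfl⟩
    refine ⟨shiftFun k f, ?_, L.injective ?_⟩
  · exact hpart (· ∈ S) f hf
  · simp [hL]
  · exact hpart (· ∉ S) f hf
  · simp [hL]

/-- Elements of prime order of PSL_n(q) fixing no decomposition `F^n = U ⊕ W` with `dim U = m`. Here `T = PSL_n(F)` for a field `F` with `q = p^f` elements (`n ≥ 2`, `(n, q) ≠ (2, 2), (2, 3)`); an element of `T` of prime order `r` is represented by a matrix `x` of determinant 1 with `x^r` scalar and `x` not scalar; `i` denotes the multiplicative order of `q` modulo `r` (when `r ≠ p`), and `(a)_r` the `r`-part of `a`. Let `n ≥ 3`, `1 ≤ m < n/2`, and let `r` be a prime dividing the number of such decompositions (unordered pairs `{U, W}` of complementary subspaces with `dim U = m`; since `m ≠ n − m` these are the ordered pairs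 with `dim U = m`). Then every element of `T` of order `r` fixes such a pair (fixes both `U` and `W` for some complementary `U, W` with `dim U = m`) if and only if one of: (i) `r = p > 2` and every partition of `n` into parts of size at most `p` contains, as a sub-multiset, a partition of `m`; (ii) `r = p = 2` and `n` is odd or `m` is even; (iii) `r ≠ p`, `i = 1`, and `r ∣ m` or `(q−1)_r ≥ (n)_r` (with `q ≡ 1 (mod 4)` required when `r = 2` and `n` is even); (iv) `r ≠ p`, `2 ≤ i ≤ m` and `n mod i ≥ m mod i`. -/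
theorem result {F : Type*} [Field F] [Fintype F] {p : ℕ} [Fact p.Prime] [CharP F p] {q : ℕ} (hq : Fintype.card F = q)
    (n m : ℕ) (hn : 3 ≤ n) (hm : 1 ≤ m) (hmn : 2 * m < n)
    (r : ℕ) [Fact r.Prime]
    (hrΩ : r ∣ Nat.card {P : Submodule F (Fin n → F) × Submodule F (Fin n → F) // IsCompl P.1 P.2 ∧ Module.finrank F ↥P.1 = m}) :
    (∀ x : Matrix.SpecialLinearGroup (Fin n) F,
      (∃ c : F, ((x ^ r : Matrix.SpecialLinearGroup (Fin n) F) : Matrix (Fin n) (Fin n) F) = c • (1 : Matrix (Fin n) (Fin n) F)) →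
      (∀ c : F, (x : Matrix (Fin n) (Fin n) F) ≠ c • (1 : Matrix (Fin n) (Fin n) F)) →
      ∃ U W : Submodule F (Fin n → F), IsCompl U W ∧ Module.finrank F ↥U = m ∧
        U.map (Matrix.toLin' (x : Matrix (Fin n) (Fin n) F)) ≤ U ∧ W.map (Matrix.toLin' (x : Matrix (Fin n) (Fin n) F)) ≤ W) ↔
    ((r = p ∧ 2 < p ∧ (∀ μ : Multiset ℕ, (∀ a ∈ μ, 0 < a ∧ a ≤ p) → μ.sum = n → ∃ ν : Multiset ℕ, ν ≤ μ ∧ ν.sum = m)) ∨
     (r = p ∧ p = 2 ∧ (Odd n ∨ Even m)) ∨
     (r ≠ p ∧
      ((orderOf (q : ZMod r) = 1 ∧ (r ∣ m ∨ (padicValNat r n ≤ padicValNat r (q - 1) ∧ (r = 2 → Even n → q % 4 = 1)))) ∨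
       (2 ≤ orderOf (q : ZMod r) ∧ orderOf (q : ZMod r) ≤ m ∧ m % orderOf (q : ZMod r) ≤ n % orderOf (q : ZMod r))))) := by
  classical
  subst hq
  have hn0 : 0 < n := by omega
  have hmn' : m ≤ n := by omega
  rw [Elusive.card_compl_pairs (Module.finrank_fin_fun F (n := n))] at hrΩ
  by_cases hrp : r = p
  · subst hrp
    rw [show (r ≠ r) = False from propext ⟨fun h => h rfl, False.elim⟩, false_and, or_false]
    haveI : Nonempty (Fin n) := ⟨⟨0, hn0⟩⟩
    haveI : CharP (Module.End F (Fin n → F)) r :=
      charP_of_injective_algebraMap (algebraMap F (Module.End F (Fin n → F))).injective r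
    have hcore : (∀ μ : Multiset ℕ, (∀ a ∈ μ, 0 < a ∧ a ≤ r) → μ.sum = n → ∃ ν : Multiset ℕ, ν ≤ μ ∧ ν.sum = m) →
        ∀ x : Matrix.SpecialLinearGroup (Fin n) F,
        (∃ c : F, ((x ^ r : Matrix.SpecialLinearGroup (Fin n) F) : Matrix (Fin n) (Fin n) F) = c • (1 : Matrix (Fin n) (Fin n) F)) →
        ∃ U W : Submodule F (Fin n → F), IsCompl U W ∧ Module.finrank F ↥U = m ∧
          U.map (Elusive.endOf x) ≤ U ∧ W.map (Elusive.endOf x) ≤ W := by
      rintro hall x ⟨c, hc⟩
      obtain ⟨e, he⟩ := bijective_frobenius F r |>.2 c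
      have hNp : (Elusive.endOf x - e • 1) ^ r = 0 := by
        rw [sub_pow_char_of_commute (p := r) ((Commute.one_right _).smul_right e),
          (Elusive.endOf_pow_iff x r c).2 hc, _root_.smul_pow, one_pow, ← he, frobenius_def, sub_self]
      obtain ⟨U, W, hUW, hUm, hU, hW⟩ := exists_summands _ r hNp m (fun μ h1 h2 =>
        hall μ h1 (h2.trans (Module.finrank_fin_fun F)))
      refine ⟨U, W, hUW, hUm, ?_, ?_⟩
      all_goals
        rintro _ ⟨v, hv, rfl⟩
      · simpa using U.add_mem (hU ⟨v, hv, rfl⟩) (U.smul_mem e hv)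
      · simpa using W.add_mem (hW ⟨v, hv, rfl⟩) (W.smul_mem e hv)
    constructor
    · intro H
      have hall : ∀ μ : Multiset ℕ, (∀ a ∈ μ, 0 < a ∧ a ≤ r) → μ.sum = n →
          ∃ ν : Multiset ℕ, ν ≤ μ ∧ ν.sum = m := by
        intro μ hμ hsum
        by_cases hone : ∀ a ∈ μ, a = 1
        · obtain ⟨k, rfl⟩ : ∃ k, μ = Multiset.replicate k 1 := ⟨_, Multiset.eq_replicate.mpr ⟨rfl, hone⟩⟩
          simp at hsum
          exact ⟨Multiset.replicate m 1, (Multiset.replicate_le_replicate 1).2 (by omega), by simp⟩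
        push Not at hone
        obtain ⟨a, ha, ha1⟩ := hone
        obtain ⟨N, hNp, hTy⟩ := exists_nilpotent_of_type (F := F) n r μ (fun b hb => (hμ b hb).2) hsum
        have hpow : (1 + N : Module.End F (Fin n → F)) ^ r = 1 := by
          rw [add_pow_char_of_commute (p := r) (Commute.one_left N), one_pow, hNp, add_zero]
        have hdet : LinearMap.det (1 + N : Module.End F (Fin n → F)) = 1 := by
          have h1 := congrArg LinearMap.det hpow
          rw [map_pow, map_one] at h1
          have h2 : (LinearMap.det (1 + N : Module.End F (Fin n → F)) - 1) ^ r = 0 := by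
            rw [sub_pow_char, one_pow, h1, sub_self]
          exact sub_eq_zero.mp (eq_zero_of_pow_eq_zero h2)
        let x : Matrix.SpecialLinearGroup (Fin n) F :=
          ⟨LinearMap.toMatrix' (1 + N), by rw [LinearMap.det_toMatrix', hdet]⟩
        have hx : Elusive.endOf x = 1 + N := Matrix.toLin'_toMatrix' _
        obtain ⟨U, W, hUW, hUm, hU, hW⟩ := H x
          ⟨1, (Elusive.endOf_pow_iff x r 1).1 (by rw [hx, hpow, one_smul])⟩ (fun c hc => by
            have h1 := (Elusive.endOf_scalar_iff x c).2 hc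
            rw [hx] at h1
            have hN : N = (c - 1) • (1 : Module.End F (Fin n → F)) := by
              have e2 : (c - 1) • (1 : Module.End F (Fin n → F)) = c • 1 - 1 := by module
              rw [e2, ← h1]; abel
            have hN0 : N = 0 := by
              rw [hN, _root_.smul_pow, one_pow, smul_eq_zero] at hNp
              rw [hN, eq_zero_of_pow_eq_zero (hNp.resolve_right one_ne_zero), zero_smul]
            have h := hTy 1
            rw [LinRep.JordanType.rankDim, hN0, pow_one, Submodule.map_zero, finrank_bot] at h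
            have hle := Multiset.le_sum_of_mem (Multiset.mem_map_of_mem (fun y => y - 1) ha)
            have := (hμ a ha).1
            omega)
        obtain ⟨ν, hν, hs⟩ := exists_subpartition N r hNp hTy hUW (U := U) (W := W) (by
            rintro _ ⟨v, hv, rfl⟩
            have h1 := hU ⟨v, hv, rfl⟩
            rw [show Matrix.toLin' (x : Matrix (Fin n) (Fin n) F) = 1 + N from hx] at h1
            simpa using U.sub_mem h1 hv) (by
            rintro _ ⟨v, hv, rfl⟩
            have h1 := hW ⟨v, hv, rfl⟩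
            rw [show Matrix.toLin' (x : Matrix (Fin n) (Fin n) F) = 1 + N from hx] at h1
            simpa using W.sub_mem h1 hv)
        exact ⟨ν, hν, hs.trans hUm⟩
      rcases (Fact.out : r.Prime).eq_two_or_odd' with h2 | hodd
      · refine Or.inr ⟨rfl, h2, ?_⟩
        by_contra hne
        rw [not_or, Nat.not_odd_iff_even, Nat.not_even_iff_odd] at hne
        obtain ⟨⟨k, hk⟩, hodd'⟩ := hne
        obtain ⟨ν, hν, hs⟩ := hall (Multiset.replicate k 2) (fun a ha => by
          rw [Multiset.eq_of_mem_replicate ha]; omega) (by simp; omega)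
        obtain ⟨l, -, rfl⟩ := Multiset.le_replicate_iff.1 hν
        simp at hs
        exact Nat.not_even_iff_odd.2 hodd' ⟨l, by omega⟩
      · exact Or.inl ⟨rfl, by
          have := (Fact.out : r.Prime).two_le
          rcases hodd with ⟨k, hk⟩
          omega, hall⟩
    · intro hcases x hx1 _
      refine hcore ?_ x hx1
      rcases hcases with ⟨-, -, hall⟩ | ⟨-, h2, hpar⟩
      · exact hall
      intro μ hμ hsum
      have hμ2 : μ = Multiset.replicate (μ.count 2) 2 + Multiset.replicate (μ.count 1) 1 := by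
        ext a
        rw [Multiset.count_add, Multiset.count_replicate, Multiset.count_replicate]
        by_cases ha : a ∈ μ
        · obtain ⟨h0, ha2⟩ := hμ a ha
          have : a = 1 ∨ a = 2 := by omega
          rcases this with rfl | rfl <;> simp
        · rw [Multiset.count_eq_zero.2 ha]
          split_ifs with h1 h2 h3 <;> subst_vars <;> simp_all
      rw [hμ2] at hsum ⊢
      simp at hsum
      refine ⟨Multiset.replicate (min (μ.count 2) (m / 2)) 2 +
        Multiset.replicate (m - 2 * min (μ.count 2) (m / 2)) 1,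
        add_le_add ((Multiset.replicate_le_replicate 2).2 (min_le_left _ _))
          ((Multiset.replicate_le_replicate 1).2 ?_), by simp; omega⟩
      rcases hpar with ⟨l, hl⟩ | ⟨l, hl⟩ <;> omega
  · simp only [ne_eq, hrp, not_false_eq_true, true_and, false_and, false_or]
    have hcard : r ∣ Nat.card {W : Submodule F (Fin n → F) // Module.finrank F ↥W = m} := by
      refine ((Fact.out : r.Prime).dvd_mul.1 hrΩ).resolve_right fun h => hrp ?_
      obtain ⟨k, hp', hk⟩ := FiniteField.card F p
      have := (Fact.out : r.Prime).dvd_of_dvd_pow h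
      rw [hk] at this
      exact (Nat.prime_dvd_prime_iff_eq Fact.out hp').1 ((Fact.out : r.Prime).dvd_of_dvd_pow this)
    have h : r ∣ Elusive.fallProd (Fintype.card F) n m := by
      rw [← Elusive.card_subspace_mul (Module.finrank_fin_fun F (n := n)) hmn']
      exact hcard.mul_right _
    rw [← Elusive.subspace_iff p hn0 hm (by omega) h]
    constructor
    · intro H x h1 h2
      obtain ⟨U, W, -, hUm, hU, -⟩ := H x h1 h2
      exact ⟨U, hUm, hU⟩
    · intro H x h1 h2
      obtain ⟨U, hUm, hU⟩ := H x h1 h2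
      obtain ⟨W, hW, hUW⟩ := Elusive.exists_compl
        (Elusive.isSemisimple_of_scalar (Elusive.ne_zero_of_order (Elusive.order_facts hmn' h).2.1) hn0 x h1)
        (Elusive.inv_iff_map.2 hU)
      exact ⟨U, W, hUW, hUm, hU, Elusive.inv_iff_map.1 hW⟩

end Cfsg.Agent.S5950
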