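import Cfsg.Statements.S5952
-- import your own Cfsg.Agent.* helpers here

set_option autoImplicit false
open Cfsg

namespace Cfsg.Agent.S5952

/-- Which dimensions of invariant subspaces a semisimple linear map has. Let `V` be a finite-dimensional vector space over a field `F` and `f` an invertible semisimple linear map of `V`. Suppose `V` is the internal direct sum of the fixed space `C_V(f)` (the eigenspace for 1) and subspaces `U_1, …, U_s`, each `f`-invariant of dimension `a ≥ 1` on which `f` acts irreducibly (no `f`-invariant subspaces other than 0 and `U_j`). Let `0 < m < dim V` and `ℓ = m mod a`. Then `f` leaves some `m`-dimensional subspace invariant if and only if `dim C_V(f) ≥ m`, or `a ≤ m` and `dim C_V(f) ≥ ℓ`. -/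
theorem result {F V : Type*} [Field F] [AddCommGroup V] [Module F V]
    [FiniteDimensional F V] (f : V →ₗ[F] V) (hf : Function.Bijective f) (hss : Module.End.IsSemisimple f)
    {s a : ℕ} (ha : 1 ≤ a) (U : Fin s → Submodule F V)
    (hUinv : ∀ j, (U j).map f ≤ U j) (hUdim : ∀ j, Module.finrank F ↥(U j) = a)
    (hUirr : ∀ j, ∀ W : Submodule F V, W ≤ U j → W.map f ≤ W → W = ⊥ ∨ W = U j)
    (hdec : DirectSum.IsInternal (fun o : Option (Fin s) => o.elim (Module.End.eigenspace f 1) U))
    (m : ℕ) (hm : 0 < m) (hmV : m < Module.finrank F V) :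
    (∃ W : Submodule F V, Module.finrank F ↥W = m ∧ W.map f ≤ W) ↔
    (m ≤ Module.finrank F ↥(Module.End.eigenspace f 1) ∨
      (a ≤ m ∧ m % a ≤ Module.finrank F ↥(Module.End.eigenspace f 1))) := by
  classical
  set C := Module.End.eigenspace f 1 with hC
  have hCfix : ∀ x ∈ C, f x = x := fun x hx => by
    rw [hC, Module.End.mem_eigenspace_iff, one_smul] at hx; exact hx
  have hCinv : ∀ W : Submodule F V, W ≤ C → W.map f ≤ W := by
    rintro W hW _ ⟨x, hx, rfl⟩
    rw [hCfix x (hW hx)]; exact hx
  let Φ : Option (Fin s) → Submodule F V := fun o => o.elim C U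
  have hindep : iSupIndep Φ := hdec.submodule_iSupIndep
  let P : Finset (Fin s) → Submodule F V := fun T => T.sup U ⊔ C
  have hTinv : ∀ T : Finset (Fin s), (T.sup U).map f ≤ T.sup U := by
    intro T
    induction T using Finset.induction with
    | empty => simp
    | insert j T hj ih => rw [Finset.sup_insert, Submodule.map_sup]; exact sup_le_sup (hUinv j) ih
  have hPinv : ∀ T, (P T).map f ≤ P T := fun T => by
    rw [Submodule.map_sup]; exact sup_le_sup (hTinv T) (hCinv C le_rfl)
  have hdisj : ∀ T : Finset (Fin s), ∀ j ∉ T, U j ⊓ P T = ⊥ := by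
    intro T j hj
    have h := hindep (some j)
    rw [← disjoint_iff]
    refine h.mono le_rfl (sup_le (Finset.sup_le fun k hk => ?_) ?_)
    · exact le_iSup_of_le (some k) (le_iSup_of_le (by simp; rintro rfl; exact hj hk) le_rfl)
    · exact le_iSup_of_le none (le_iSup_of_le (by simp) le_rfl)
  have hPdim : ∀ T : Finset (Fin s), Module.finrank F ↥(P T) = a * T.card + Module.finrank F C := by
    intro T
    induction T using Finset.induction with
    | empty => rw [show P ∅ = C by simp [P]]; simp
    | insert j T hj ih =>
      have h := Submodule.finrank_sup_add_finrank_inf_eq (U j) (P T)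
      rw [hdisj T j hj, finrank_bot, add_zero, hUdim] at h
      rw [show P (insert j T) = U j ⊔ P T by simp [P, Finset.sup_insert, sup_assoc], h, ih,
        Finset.card_insert_of_notMem hj]
      ring
  have htop : P Finset.univ = ⊤ := by
    rw [← hdec.submodule_iSup_eq_top, iSup_option]
    show Finset.univ.sup U ⊔ C = C ⊔ ⨆ b, U b
    rw [Finset.sup_univ_eq_iSup, sup_comm]
  constructor
  · rintro ⟨W, hWm, hWinv⟩
    have key : ∀ T : Finset (Fin s), ∃ j, Module.finrank F ↥(W ⊓ P T) = Module.finrank F ↥(W ⊓ C) + a * j := by
      intro T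
      induction T using Finset.induction with
      | empty => exact ⟨0, by rw [show P ∅ = C by simp [P]]; simp⟩
      | insert j T hj ih =>
        obtain ⟨i, hi⟩ := ih
        have hP' : P (insert j T) = P T ⊔ U j := by
          simp [P, Finset.sup_insert]; ac_rfl
        set Y := W ⊓ P (insert j T) with hY
        have hYinv : (Y ⊔ P T).map f ≤ Y ⊔ P T := by
          rw [Submodule.map_sup]
          exact sup_le_sup ((Submodule.map_inf_le f).trans (inf_le_inf hWinv (hPinv _))) (hPinv T)
        have hmod : P T ⊔ ((Y ⊔ P T) ⊓ U j) = Y ⊔ P T := by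
          rw [inf_comm, ← sup_inf_assoc_of_le (U j) (le_sup_right : P T ≤ Y ⊔ P T), inf_eq_right, ← hP']
          exact sup_le (inf_le_right) (by rw [hP']; exact le_sup_left)
        have hinv2 : ((Y ⊔ P T) ⊓ U j).map f ≤ (Y ⊔ P T) ⊓ U j :=
          (Submodule.map_inf_le f).trans (inf_le_inf hYinv (hUinv j))
        have h := Submodule.finrank_sup_add_finrank_inf_eq Y (P T)
        rw [show Y ⊓ P T = W ⊓ P T by
          rw [hY, inf_assoc, inf_eq_right.mpr (show P T ≤ P (insert j T) by rw [hP']; exact le_sup_left)], hi] at h
        rcases hUirr j _ inf_le_right hinv2 with h0 | h0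
        · rw [h0, sup_bot_eq] at hmod
          rw [← hmod] at h
          exact ⟨i, by omega⟩
        · rw [h0, sup_comm] at hmod
          have h2 := Submodule.finrank_sup_add_finrank_inf_eq (U j) (P T)
          rw [hdisj T j hj, finrank_bot, add_zero, hUdim, hmod] at h2
          exact ⟨i + 1, by rw [Nat.mul_succ]; omega⟩
    obtain ⟨j, hj⟩ := key Finset.univ
    rw [htop, inf_top_eq, hWm] at hj
    have hle : Module.finrank F ↥(W ⊓ C) ≤ Module.finrank F C := Submodule.finrank_mono inf_le_right
    rcases Nat.eq_zero_or_pos j with rfl | hjpos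
    · exact Or.inl (by omega)
    · refine Or.inr ⟨?_, ?_⟩
      · have : a ≤ a * j := Nat.le_mul_of_pos_right a hjpos
        omega
      · rw [hj, Nat.add_mul_mod_self_left]
        exact (Nat.mod_le _ _).trans hle
  · intro h
    obtain ⟨j, hjs, hja, hrest⟩ : ∃ j, j ≤ s ∧ a * j ≤ m ∧ m - a * j ≤ Module.finrank F C := by
      rcases h with h | ⟨-, h⟩
      · exact ⟨0, Nat.zero_le _, by simp, by simpa using h⟩
      · by_cases hs : m / a ≤ s
        · refine ⟨m / a, hs, Nat.mul_div_le m a, ?_⟩
          have := Nat.div_add_mod m a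
          omega
        · push Not at hs
          refine ⟨s, le_rfl, ?_, ?_⟩
          · exact (Nat.mul_le_mul_left a hs.le).trans (Nat.mul_div_le m a)
          · have := hPdim Finset.univ
            rw [htop, finrank_top, Finset.card_univ, Fintype.card_fin] at this
            omega
    obtain ⟨T, -, hT⟩ := Finset.exists_subset_card_eq (s := (Finset.univ : Finset (Fin s))) (n := j)
      (by simpa using hjs)
    obtain ⟨W₀, hW₀C, hW₀⟩ : ∃ W₀ : Submodule F V, W₀ ≤ C ∧ Module.finrank F W₀ = m - a * j := by
      let b := Module.finBasis F C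
      let g : (Fin (m - a * j) → F) →ₗ[F] V :=
        C.subtype ∘ₗ Fintype.linearCombination F (fun i => b (Fin.castLE hrest i))
      refine ⟨LinearMap.range g, ?_, ?_⟩
      · rintro _ ⟨x, rfl⟩; exact Subtype.coe_prop _
      · rw [LinearMap.finrank_range_of_inj, Module.finrank_fin_fun]
        exact C.injective_subtype.comp (linearIndependent_iff_injective_fintypeLinearCombination.mp
          (b.linearIndependent.comp _ (Fin.castLE_injective hrest)))
    refine ⟨W₀ ⊔ T.sup U, ?_, by rw [Submodule.map_sup]; exact sup_le_sup (hCinv _ hW₀C) (hTinv T)⟩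
    have hd : C ⊓ T.sup U = ⊥ := by
      have h1 := Submodule.finrank_sup_add_finrank_inf_eq (T.sup U) C
      have h2 := hPdim T
      have h3 : Module.finrank F ↥(T.sup U) ≤ a * T.card := by
        clear h1 h2 hT
        induction T using Finset.induction with
        | empty => simp
        | insert i T hi ih =>
          rw [Finset.sup_insert, Finset.card_insert_of_notMem hi, Nat.mul_succ]
          have := Submodule.finrank_sup_add_finrank_inf_eq (U i) (T.sup U)
          have := hUdim i
          omega
      rw [inf_comm, ← Submodule.finrank_eq_zero]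
      change Module.finrank F ↥(T.sup U ⊔ C) = _ at h2
      omega
    have h1 := Submodule.finrank_sup_add_finrank_inf_eq W₀ (T.sup U)
    have hd' : W₀ ⊓ T.sup U = ⊥ := le_bot_iff.mp (hd ▸ inf_le_inf_right _ hW₀C)
    have h2 := Submodule.finrank_sup_add_finrank_inf_eq (T.sup U) C
    have h4 := hPdim T
    change Module.finrank F ↥(T.sup U ⊔ C) = _ at h4
    rw [inf_comm (T.sup U) C, hd, finrank_bot] at h2
    rw [hd', finrank_bot] at h1
    rw [hT] at h4
    omega

end Cfsg.Agent.S5952
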