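import Cfsg.Statements.S5953
import Cfsg.Agent.Lib.Elusive.UnitaryIsoPrime

set_option autoImplicit false
open scoped MatrixGroups
open Cfsg

namespace Cfsg.Agent.S5953

/-- Elements of prime order of PSU_n(q) with no fixed totally isotropic `m`-space. Here `T = PSU_n(q)` (`n ≥ 3`, `(n, q) ≠ (3, 2)`), realised through the matrices of determinant 1 over the field `F` with `q²` elements preserving the Hermitian form `h(u, v) = Σ u_i v_i^q`; an element of `T` of prime order `r` is such a matrix `x` with `x^r` scalar and `x` not scalar. For `r ≠ p` let `i` be the multiplicative order of `q` modulo `r`, `b = i/2` for `i` even and `b = i` for `i` odd, `c = i, i/2, 2i` according as `i ≡ 0, 2 (mod 4)` or `i` odd, and write `k = n mod c`, `ℓ = m mod b`, `ℓ' = m mod c`, `n' = ⌊n/b⌋`, `m' = ⌊m/b⌋`, `s = (r−1)/b`; `(a)_r` is the `r`-part of `a`. Let `1 ≤ m ≤ n/2` and let `r` be a prime dividing the number of totally isotropic `m`-spaces. Then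 every element of `T` of order `r` fixes a totally isotropic `m`-space if and only if either (i) `r = 2`, `p ≠ 2`, and (`m < n/2` or `(q+1)_2 ≤ (n)_2`); or (ii) `r ≠ p`, `r > 2`, `b ≤ m`, `k ≥ 2ℓ`, and either `i ≢ 2 (mod 4)`, or `i ≡ 2 (mod 4)`, `n' − 2m' ≥ s` and (`i > 2`, or `i = 2` and (`r ∣ m` or `(q+1)_r ≥ (n)_r`)). -/
theorem result {F : Type*} [Field F] [Fintype F] {p : ℕ} [Fact p.Prime] [CharP F p] {q : ℕ} (hq : Fintype.card F = q ^ 2)
    (n m : ℕ) (hn : 3 ≤ n) (hT : (n, q) ≠ (3, 2)) (hm : 1 ≤ m) (hmn : 2 * m ≤ n)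
    (r : ℕ) [Fact r.Prime]
    (hrΩ : r ∣ Nat.card {W : Submodule F (Fin n → F) // Module.finrank F ↥W = m ∧ (∀ u ∈ W, ∀ v ∈ W, Cfsg.hermForm n F q u v = 0)})
    (i b c : ℕ) (hi : i = orderOf (q : ZMod r)) (hb : b = if Even i then i / 2 else i)
    (hc : c = if i % 4 = 0 then i else if i % 4 = 2 then i / 2 else 2 * i) :
    (∀ x : Matrix.SpecialLinearGroup (Fin n) F, x ∈ Cfsg.SU n F q →
      (∃ z : F, ((x ^ r : Matrix.SpecialLinearGroup (Fin n) F) : Matrix (Fin n) (Fin n) F) = z • (1 : Matrix (Fin n) (Fin n) F)) →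
      (∀ z : F, (x : Matrix (Fin n) (Fin n) F) ≠ z • (1 : Matrix (Fin n) (Fin n) F)) →
      ∃ W : Submodule F (Fin n → F), Module.finrank F ↥W = m ∧ (∀ u ∈ W, ∀ v ∈ W, Cfsg.hermForm n F q u v = 0) ∧
        W.map (Matrix.toLin' (x : Matrix (Fin n) (Fin n) F)) ≤ W) ↔
    ((r = 2 ∧ p ≠ 2 ∧ (2 * m < n ∨ padicValNat 2 (q + 1) ≤ padicValNat 2 n)) ∨
     (r ≠ p ∧ 2 < r ∧ b ≤ m ∧ 2 * (m % b) ≤ n % c ∧
       (i % 4 ≠ 2 ∨ (i % 4 = 2 ∧ (r - 1) / b + 2 * (m / b) ≤ n / b ∧
         (2 < i ∨ (i = 2 ∧ (r ∣ m ∨ padicValNat r n ≤ padicValNat r (q + 1)))))))) := by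
  classical
  have hrp' : r.Prime := Fact.out
  have hp : p.Prime := Fact.out
  obtain ⟨hrq, hcd⟩ := Elusive.UnitaryIso.facts_of_dvd hq hmn hrΩ
  have hrp : r ≠ p := by
    rintro rfl
    obtain ⟨k, -, hk⟩ := FiniteField.card F r
    refine hrq ((ZMod.natCast_eq_zero_iff _ _).2 (hrp'.dvd_of_dvd_pow (n := 2) ?_))
    rw [← hq, hk]
    exact dvd_pow_self r (PNat.ne_zero k)
  have hr : (r : F) ≠ 0 := fun h =>
    hrp ((Nat.prime_dvd_prime_iff_eq hp hrp').1 ((CharP.cast_eq_zero_iff F p r).1 h)).symm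
  show Elusive.UnitaryIso.AllFix F q n m r ↔ _
  by_cases h2 : r = 2
  · subst h2
    have h2F : (2 : F) ≠ 0 := by exact_mod_cast hr
    constructor
    · intro hall
      exact Or.inl ⟨rfl, Ne.symm hrp, Elusive.UnitaryIso.crit_two hq h2F hn hmn hall⟩
    · rintro (⟨-, -, h⟩ | ⟨-, h, -⟩)
      · exact Elusive.UnitaryIso.allFix_two hq h2F (by omega) hmn h
      · omega
  obtain ⟨K, _, _, _, ζ, hK⟩ := Semisimple.exists_rootField (F := F) (r := r) p hrp
  have hr2 : 2 < r := lt_of_le_of_ne hrp'.two_le (Ne.symm h2)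
  have hi0 : 0 < i := hi ▸ orderOf_pos_iff.2 (Ne.isUnit hrq).isOfFinOrder
  have hb0 : orderOf (Fintype.card F : ZMod r) = b := by
    rw [hq, Nat.cast_pow, orderOf_pow' _ two_ne_zero, ← hi, hb, Nat.gcd_comm, Nat.gcd_rec]
    split
    · rename_i hev
      rw [Nat.even_iff.1 hev]
      rfl
    · rename_i hev
      rw [Nat.not_even_iff.1 hev, Nat.gcd_one_left, Nat.div_one]
  have htw : Semisimple.twistOrb F q r = 1 ↔ i % 4 = 2 := by rw [hK.twist_eq_one_iff hq h2, ← hi]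
  have hcn : orderOf (-(q : ZMod r)) = c := by rw [Elusive.Unitary.order_neg h2 hi hi0, hc]
  have hcB : (if Semisimple.twistOrb F q r = 1 then orderOf (Fintype.card F : ZMod r)
      else 2 * orderOf (Fintype.card F : ZMod r)) = c := by
    rw [hb0, hb, hc]
    by_cases h4 : i % 4 = 2
    · rw [if_pos (htw.2 h4), if_neg (show ¬ i % 4 = 0 by omega), if_pos h4, if_pos (Nat.even_iff.2 (by omega))]
    · rw [if_neg (mt htw.1 h4), if_neg h4]
      simp only [Nat.even_iff]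
      split_ifs <;> omega
  have hi2 : r ∣ q + 1 ↔ i = 2 := by
    rw [← ZMod.natCast_eq_zero_iff, Nat.cast_add, Nat.cast_one, hi]
    refine ⟨fun h => ?_, fun h => ?_⟩
    · rw [eq_neg_of_add_eq_zero_left h, orderOf_neg_one, ringChar.eq (ZMod r) r, if_neg h2]
    · have hsq : (q : ZMod r) * q = 1 := by rw [← sq, ← h, pow_orderOf_eq_one]
      rcases mul_self_eq_one_iff.1 hsq with h1 | h1
      · rw [h1, orderOf_one] at h; omega
      · rw [h1, neg_add_cancel]
  by_cases hdvd : r ∣ q + 1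
  · have hiv := hi2.1 hdvd
    have hb1 : b = 1 := by subst hiv; simpa using hb
    have htw1 := htw.2 (by omega)
    rw [hb1] at hb0
    have hcond : Elusive.Unitary.Roots F q r n ↔ _ :=
      Elusive.Unitary.roots_iff_odd hq (show n ≠ 0 by omega) h2 hdvd
    constructor
    · intro hall
      refine Or.inr ⟨hrp, hr2, by omega, by rw [hb1, Nat.mod_one]; omega, Or.inr ⟨by omega, ?_, Or.inr ⟨hiv, ?_⟩⟩⟩
      · rw [hb1, Nat.div_one, Nat.div_one, Nat.div_one]
        exact Elusive.UnitaryIso.criterion_of_fixes_dvd hq hK h2 hb0 htw1 hm hmn hall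
      · exact (Elusive.UnitaryIso.cond_of_fixes hq h2 hdvd (show 0 < n by omega) hall).elim
          (fun h => Or.inr (hcond.1 h)) Or.inl
    · rintro (⟨h, -⟩ | ⟨-, -, -, -, h | ⟨-, hs, h | ⟨-, h⟩⟩⟩)
      · exact absurd h h2
      · omega
      · omega
      · rw [hb1, Nat.div_one, Nat.div_one, Nat.div_one] at hs
        exact Elusive.UnitaryIso.allFix_dvd hq hK h2 hdvd hb0 (by omega) hmn (Or.inr hs)
          (h.elim Or.inr fun h => Or.inl (hcond.2 h))
  constructor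
  · intro hall
    obtain ⟨h1, h3, h4⟩ := Elusive.UnitaryIso.criterion_of_fixes hq hK h2 (show 0 < n by omega) hm hdvd
      (by rw [hcB, ← hcn]; exact hcd) hall
    rw [hcB, hb0] at h3
    rw [hb0] at h1 h4
    refine Or.inr ⟨hrp, hr2, h1, h3, ?_⟩
    by_cases h : i % 4 = 2
    · refine Or.inr ⟨h, h4.resolve_left (not_not.2 (htw.2 h)), Or.inl ?_⟩
      have : i ≠ 2 := fun h' => hdvd (hi2.2 h')
      omega
    · exact Or.inl h
  · rintro (⟨h, -⟩ | ⟨-, -, -, hk, h⟩)
    · exact absurd h h2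
    refine Elusive.UnitaryIso.allFix_ndvd hq hK h2 hdvd (by omega) hmn (by rw [hcB, hb0]; exact hk) ?_
    rw [hb0]
    exact h.imp (fun h h' => h (htw.1 h')) fun h => h.2.1

end Cfsg.Agent.S5953
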