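import Cfsg.Statements.S5954
import Cfsg.Agent.Lib.Elusive.UnitaryNdPrime

set_option autoImplicit false
open scoped MatrixGroups
open Cfsg

namespace Cfsg.Agent.S5954

/-- Elements of prime order of PSU_n(q) with no fixed nondegenerate `m`-space. Here `T = PSU_n(q)` (`n ≥ 3`, `(n, q) ≠ (3, 2)`), realised through the matrices of determinant 1 over the field `F` with `q²` elements preserving the Hermitian form `h(u, v) = Σ u_i v_i^q`; an element of `T` of prime order `r` is such a matrix `x` with `x^r` scalar and `x` not scalar. For `r ≠ p` let `i` be the multiplicative order of `q` modulo `r`, `b = i/2` for `i` even and `b = i` for `i` odd, `c = i, i/2, 2i` according as `i ≡ 0, 2 (mod 4)` or `i` odd, and write `k = n mod c`, `ℓ = m mod b`, `ℓ' = m mod c`, `n' = ⌊n/b⌋`, `m' = ⌊m/b⌋`, `s = (r−1)/b`; `(a)_r` is the `r`-part of `a`. Let `1 ≤ m < n/2` and let `r` be a prime dividing the number of nondegenerate `m`-spaces. Then every element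 of `T` of order `r` fixes a nondegenerate `m`-space if and only if one of: (i) `r = p > 2` and every partition of `n` into parts of size at most `p` contains (as a sub-multiset) a partition of `m`; (ii) `r = p = 2` and (`n` is odd or `m` is even); (iii) `r = 2 ≠ p` and (`n` is odd, or `m` is even, or `(q+1)_2 ≥ (n)_2` and `q ≡ 3 (mod 4)`); (iv) `r ≠ p`, `r > 2`, and either `i ≠ 2`, `c ≤ m` and `k ≥ ℓ'`, or `i = 2` and (`r ∣ m` or `(q+1)_r ≥ (n)_r`). -/
theorem result {F : Type*} [Field F] [Fintype F] {p : ℕ} [Fact p.Prime] [CharP F p] {q : ℕ} (hq : Fintype.card F = q ^ 2)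
    (n m : ℕ) (hn : 3 ≤ n) (hT : (n, q) ≠ (3, 2)) (hm : 1 ≤ m) (hmn : 2 * m < n)
    (r : ℕ) [Fact r.Prime]
    (hrΩ : r ∣ Nat.card {W : Submodule F (Fin n → F) // Module.finrank F ↥W = m ∧ (∀ u ∈ W, u ≠ 0 → ∃ v ∈ W, Cfsg.hermForm n F q u v ≠ 0)})
    (i b c : ℕ) (hi : i = orderOf (q : ZMod r)) (hb : b = if Even i then i / 2 else i)
    (hc : c = if i % 4 = 0 then i else if i % 4 = 2 then i / 2 else 2 * i) :
    (∀ x : Matrix.SpecialLinearGroup (Fin n) F, x ∈ Cfsg.SU n F q →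
      (∃ z : F, ((x ^ r : Matrix.SpecialLinearGroup (Fin n) F) : Matrix (Fin n) (Fin n) F) = z • (1 : Matrix (Fin n) (Fin n) F)) →
      (∀ z : F, (x : Matrix (Fin n) (Fin n) F) ≠ z • (1 : Matrix (Fin n) (Fin n) F)) →
      ∃ W : Submodule F (Fin n → F), Module.finrank F ↥W = m ∧ (∀ u ∈ W, u ≠ 0 → ∃ v ∈ W, Cfsg.hermForm n F q u v ≠ 0) ∧
        W.map (Matrix.toLin' (x : Matrix (Fin n) (Fin n) F)) ≤ W) ↔
    ((r = p ∧ 2 < p ∧ (∀ μ : Multiset ℕ, (∀ a ∈ μ, 0 < a ∧ a ≤ p) → μ.sum = n → ∃ ν : Multiset ℕ, ν ≤ μ ∧ ν.sum = m)) ∨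
     (r = p ∧ p = 2 ∧ (Odd n ∨ Even m)) ∨
     (r = 2 ∧ p ≠ 2 ∧ (Odd n ∨ Even m ∨ (padicValNat 2 n ≤ padicValNat 2 (q + 1) ∧ q % 4 = 3))) ∨
     (r ≠ p ∧ 2 < r ∧ ((i ≠ 2 ∧ c ≤ m ∧ m % c ≤ n % c) ∨ (i = 2 ∧ (r ∣ m ∨ padicValNat r n ≤ padicValNat r (q + 1)))))) := by
  classical
  have hrp' : r.Prime := Fact.out
  have hp : p.Prime := Fact.out
  have hm' : m ≤ n := by omega
  by_cases hrp : r = p
  · subst hrp
    constructor
    · intro hall
      have hcrit := Elusive.Unitary.crit_of_fixes (p := r) hq (show 0 < n by omega) hm' hall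
      rcases hp.two_le.lt_or_eq with h | h
      · exact Or.inl ⟨rfl, h, hcrit⟩
      · subst h
        exact Or.inr (Or.inl ⟨rfl, rfl, (Elusive.Unitary.typeCrit_two hm').1 hcrit⟩)
    · intro h x hx hz _
      obtain ⟨z, hz⟩ := hz
      have hcrit : Elusive.Unitary.TypeCrit r n m := by
        rcases h with ⟨-, -, h⟩ | ⟨-, h2, h⟩ | ⟨h1, h2, -⟩ | ⟨h1, -⟩
        · exact h
        · subst h2; exact (Elusive.Unitary.typeCrit_two hm').2 h
        · exact absurd h1 h2
        · exact absurd rfl h1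
      exact Elusive.Unitary.fixes_unipotent (p := r) hq (by omega) hcrit x hx hz
  have hr : (r : F) ≠ 0 := fun h =>
    hrp ((Nat.prime_dvd_prime_iff_eq hp hrp').1 ((CharP.cast_eq_zero_iff F p r).1 h)).symm
  have hrq : (q : ZMod r) ≠ 0 := fun h => by
    rw [ZMod.natCast_eq_zero_iff] at h
    obtain ⟨k, -, hk⟩ := FiniteField.card F p
    have h' : r ∣ p ^ (k : ℕ) := by
      rw [← hk, hq]
      exact dvd_pow h two_ne_zero
    exact hrp ((Nat.prime_dvd_prime_iff_eq hrp' hp).1 (hrp'.dvd_of_dvd_pow h'))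
  by_cases h2 : r = 2
  · subst h2
    have hodd : Odd q := Nat.odd_iff.2 (by
      by_contra h
      exact hrq ((ZMod.natCast_eq_zero_iff _ _).2 ⟨q / 2, by omega⟩))
    have hc1 : orderOf (-(q : ZMod 2)) = 1 := by
      rw [orderOf_eq_one_iff, ZMod.neg_eq_self_mod_two]
      exact (ZMod.natCast_eq_one_iff_odd).2 hodd
    have hcond : Elusive.Unitary.Roots F q 2 n ↔ _ :=
      Elusive.Unitary.roots_iff_two hq (show n ≠ 0 by omega) hodd (by exact_mod_cast hr)
    constructor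
    · intro hall
      refine Or.inr (Or.inr (Or.inl ⟨rfl, Ne.symm hrp, ?_⟩))
      rcases Elusive.Unitary.cond_of_fixes hq (show 0 < n by omega) hall with h | h
      · exact (hcond.1 h).elim Or.inl fun h => Or.inr (Or.inr h)
      · exact Or.inr (Or.inl (even_iff_two_dvd.2 h))
    · intro h x hx hz _
      obtain ⟨z, hz⟩ := hz
      refine Elusive.Unitary.fixes_one hq hr hrq hc1 (by omega) hm' ?_ x hx hz
      rcases h with ⟨h, -⟩ | ⟨h, -⟩ | ⟨-, -, h⟩ | ⟨-, h, -⟩
      · exact absurd h hrp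
      · exact absurd h hrp
      · rcases h with h | h | h
        · exact Or.inl (hcond.2 (Or.inl h))
        · exact Or.inr (even_iff_two_dvd.1 h)
        · exact Or.inl (hcond.2 (Or.inr h))
      · omega
  have hr2 : 2 < r := lt_of_le_of_ne hrp'.two_le (Ne.symm h2)
  have hi0 : 0 < i := hi ▸ orderOf_pos_iff.2 (Ne.isUnit hrq).isOfFinOrder
  have hcn : orderOf (-(q : ZMod r)) = c := by rw [Elusive.Unitary.order_neg h2 hi hi0, hc]
  have hi2 : r ∣ q + 1 ↔ i = 2 := by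
    rw [← ZMod.natCast_eq_zero_iff, Nat.cast_add, Nat.cast_one, hi]
    refine ⟨fun h => ?_, fun h => ?_⟩
    · rw [eq_neg_of_add_eq_zero_left h, orderOf_neg_one, ringChar.eq (ZMod r) r, if_neg h2]
    · have hsq : (q : ZMod r) * q = 1 := by rw [← sq, ← h, pow_orderOf_eq_one]
      rcases mul_self_eq_one_iff.1 hsq with h1 | h1
      · rw [h1, orderOf_one] at h; omega
      · rw [h1, neg_add_cancel]
  by_cases hdvd : r ∣ q + 1
  · have hiv := hi2.1 hdvd
    have hc1 : orderOf (-(q : ZMod r)) = 1 := by rw [hcn, hc, hiv]; rfl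
    have hcond : Elusive.Unitary.Roots F q r n ↔ _ :=
      Elusive.Unitary.roots_iff_odd hq (show n ≠ 0 by omega) h2 hdvd
    constructor
    · intro hall
      refine Or.inr (Or.inr (Or.inr ⟨hrp, hr2, Or.inr ⟨hiv, ?_⟩⟩))
      exact (Elusive.Unitary.cond_of_fixes hq (show 0 < n by omega) hall).elim (fun h => Or.inr (hcond.1 h)) Or.inl
    · intro h x hx hz _
      obtain ⟨z, hz⟩ := hz
      refine Elusive.Unitary.fixes_one hq hr hrq hc1 (by omega) hm' ?_ x hx hz
      rcases h with ⟨h, -⟩ | ⟨h, -⟩ | ⟨h, -⟩ | ⟨-, -, ⟨h, -⟩ | ⟨-, h⟩⟩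
      · exact absurd h hrp
      · exact absurd h hrp
      · exact absurd h h2
      · exact absurd hiv h
      · exact h.elim Or.inr fun h => Or.inl (hcond.2 h)
  constructor
  · intro hall
    obtain ⟨h1, h3⟩ := Elusive.Unitary.criterion_of_fixes hq hr hrq hdvd (show m < n by omega) hrΩ hall
    rw [hcn] at h1 h3
    exact Or.inr (Or.inr (Or.inr ⟨hrp, hr2, Or.inl ⟨fun h => hdvd (hi2.2 h), h1, h3⟩⟩))
  · intro h x hx hz _
    obtain ⟨z, hz⟩ := hz
    obtain ⟨hzq, hxr⟩ := Elusive.Unitary.scalar_facts hq (show 0 < n by omega) hx hz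
    obtain ⟨w, hw, hwr⟩ := Elusive.Unitary.exists_root_of_not_dvd hq hdvd hzq
    refine Elusive.Unitary.fixes_of_root hq hr hrq hm' ?_ x hx hxr hw hwr
    rw [hcn]
    rcases h with ⟨h, -⟩ | ⟨h, -⟩ | ⟨h, -⟩ | ⟨-, -, ⟨-, -, h⟩ | ⟨h, -⟩⟩
    · exact absurd h hrp
    · exact absurd h hrp
    · exact absurd h h2
    · exact h
    · exact absurd (hi2.2 h) hdvd

end Cfsg.Agent.S5954
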