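import Cfsg.Statements.S5955
import Cfsg.Agent.Lib.Elusive.SympIsotropicPrime

set_option autoImplicit false
open scoped MatrixGroups
open Cfsg

namespace Cfsg.Agent.S5955

open Module Cfsg.Agent.Elusive Cfsg.Agent.Elusive.SympIsotropic

/-- Elements of prime order of PSp_n(q) with no fixed totally isotropic `m`-space. Here `T = PSp_n(q)` with `n = 2d ≥ 4`, `(n, q) ≠ (4, 2)`, realised through the symplectic matrices over the field `F` with `q` elements (preserving the standard alternating form); an element of `T` of prime order `r` is such a matrix `x` with `x^r` scalar and `x` not scalar. For `r ≠ p` let `i` be the multiplicative order of `q` modulo `r`, `c = i` for `i` even and `c = 2i` for `i` odd, and write `k = n mod c`, `ℓ = m mod i`, `ℓ' = m mod c`, `n' = ⌊n/i⌋`, `m' = ⌊m/i⌋`, `t = (r−1)/i`. Let `1 ≤ m ≤ n/2` and let `r` be a prime dividing the number of totally isotropic `m`-spaces. Then every element of `T` of order `r` fixes a totally isotropic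 `m`-space if and only if either (i) `r = 2 ≠ p` and (`m` is even or `q ≡ 1 (mod 4)`); or (ii) `r ≠ p`, `r > 2`, `i ≤ m`, `k ≥ 2ℓ`, and (`i` is odd or `n' − 2m' ≥ t`). -/
theorem result {F : Type*} [Field F] [Fintype F] {p : ℕ} [Fact p.Prime] [CharP F p] {q : ℕ} (hq : Fintype.card F = q)
    (d m : ℕ) (hd : 2 ≤ d) (hT : (d, q) ≠ (2, 2)) (hm : 1 ≤ m) (hmd : m ≤ d)
    (r : ℕ) [Fact r.Prime]
    (hrΩ : r ∣ Nat.card {W : Submodule F (Fin d ⊕ Fin d → F) // Module.finrank F ↥W = m ∧ (∀ u ∈ W, ∀ v ∈ W, Cfsg.sympForm d F u v = 0)})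
    (i c : ℕ) (hi : i = orderOf (q : ZMod r)) (hc : c = if Even i then i else 2 * i) :
    (∀ x : ↥(Matrix.symplecticGroup (Fin d) F),
      (∃ z : F, ((x ^ r : ↥(Matrix.symplecticGroup (Fin d) F)) : Matrix (Fin d ⊕ Fin d) (Fin d ⊕ Fin d) F) = z • (1 : Matrix (Fin d ⊕ Fin d) (Fin d ⊕ Fin d) F)) →
      (∀ z : F, (x : Matrix (Fin d ⊕ Fin d) (Fin d ⊕ Fin d) F) ≠ z • (1 : Matrix (Fin d ⊕ Fin d) (Fin d ⊕ Fin d) F)) →
      ∃ W : Submodule F (Fin d ⊕ Fin d → F), Module.finrank F ↥W = m ∧ (∀ u ∈ W, ∀ v ∈ W, Cfsg.sympForm d F u v = 0) ∧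
        W.map (Matrix.toLin' (x : Matrix (Fin d ⊕ Fin d) (Fin d ⊕ Fin d) F)) ≤ W) ↔
    ((r = 2 ∧ p ≠ 2 ∧ (Even m ∨ q % 4 = 1)) ∨
     (r ≠ p ∧ 2 < r ∧ i ≤ m ∧ 2 * (m % i) ≤ (2 * d) % c ∧ (Odd i ∨ (r - 1) / i + 2 * (m / i) ≤ (2 * d) / i))) := by
  classical
  subst hq
  obtain ⟨hrp, hcm⟩ := facts_of_dvd (p := p) hmd hrΩ
  have hr := (Fact.out : r.Prime)
  have hr0 : (r : F) ≠ 0 := fun h => by
    rw [CharP.cast_eq_zero_iff F p] at h
    exact hrp ((Nat.prime_dvd_prime_iff_eq (Fact.out : p.Prime) hr).1 h).symm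
  show (∀ x : ↥(Matrix.symplecticGroup (Fin d) F), _ → _ → Fixes m x) ↔ _
  by_cases hr2 : r = 2
  · subst hr2
    have h2 : (2 : F) ≠ 0 := by simpa using hr0
    have hodd : Fintype.card F % 2 = 1 := FiniteField.odd_card_of_char_ne_two fun h => h2 (by
      haveI : CharP F 2 := ringChar.of_eq h
      exact CharTwo.two_eq_zero)
    constructor
    · intro hall
      by_contra hnot
      have hno : ¬ (Even m ∨ Fintype.card F % 4 = 1) := fun h => hnot (Or.inl ⟨rfl, Ne.symm hrp, h⟩)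
      push Not at hno
      obtain ⟨x, hx1, hx2, hx3⟩ := not_all_fix (F := F) (m := m) h2 (show 0 < d by omega)
        (Nat.not_even_iff_odd.1 hno.1) (by omega)
      exact hx3 (hall x ⟨-1, hx1⟩ hx2)
    · rintro (⟨-, -, hcrit⟩ | ⟨-, h, -⟩)
      swap
      · omega
      rintro x ⟨z, hz⟩ -
      have hzz : z * z = 1 := GL.symp_scalar_sq (n := d) (by omega) fun u v => by
        rw [← hz]; exact Forms.mem_symplecticGroup_iff_form.1 (x ^ 2).2 u v
      have hx : SympDecomp.spEnd x ^ 2 = z • (1 : End F (Fin d ⊕ Fin d → F)) := by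
        rw [← map_pow]
        show Matrix.toLin' ((x ^ 2 : Matrix.symplecticGroup (Fin d) F) : Matrix (Fin d ⊕ Fin d) (Fin d ⊕ Fin d) F) = _
        rw [hz, map_smul, Matrix.toLin'_one]
        rfl
      rcases mul_self_eq_one_iff.1 hzz with rfl | rfl
      · exact fixes_of_sq_one h2 hmd x (by rw [hx, one_smul])
      · refine fixes_of_sq_neg h2 hmd hcrit x fun v => ?_
        rw [← Module.End.mul_apply, ← pow_two, hx]
        simp
  · obtain ⟨K, _, _, _, ζ, hK⟩ := Semisimple.exists_rootField (F := F) (r := r) p hrp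
    constructor
    · intro hall
      obtain ⟨h1, h2, h3⟩ := criterion_of_fixes hK hr2 hm hmd hcm fun x hx hxs =>
        hall x ⟨1, by rw [hx, one_smul]; rfl⟩ hxs
      rw [hi, hc, hi]
      exact Or.inr ⟨hrp, lt_of_le_of_ne hr.two_le (Ne.symm hr2), h1, h2, h3⟩
    · rintro (⟨h, -, -⟩ | ⟨-, -, -, hk, ht⟩)
      · exact absurd h hr2
      rw [hi, hc, hi] at hk
      rw [hi] at ht
      rintro x ⟨z, hz⟩ -
      have hzz : z * z = 1 := GL.symp_scalar_sq (n := d) (by omega) fun u v => by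
        rw [← hz]; exact Forms.mem_symplecticGroup_iff_form.1 (x ^ r).2 u v
      have hx : SympDecomp.spEnd x ^ r = z • (1 : End F (Fin d ⊕ Fin d → F)) := by
        rw [← map_pow]
        show Matrix.toLin' ((x ^ r : Matrix.symplecticGroup (Fin d) F) : Matrix (Fin d ⊕ Fin d) (Fin d ⊕ Fin d) F) = _
        rw [hz, map_smul, Matrix.toLin'_one]
        rfl
      obtain ⟨k, hk'⟩ := hr.odd_of_ne_two hr2
      have hzr : z ^ r * z = 1 := by
        rw [← pow_succ, show r + 1 = 2 * (k + 1) by omega, pow_mul, sq, hzz, one_pow]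
      obtain ⟨W, hW, hiso, hWd⟩ := fixes_of_criterion hK hr2 hmd hk ht (z • SympDecomp.spEnd x)
        (fun u v => by
          rw [LinearMap.smul_apply, LinearMap.smul_apply, map_smul, map_smul, LinearMap.smul_apply, smul_smul, hzz,
            one_smul, SympDecomp.spEnd_isom])
        (by rw [_root_.smul_pow, hx, smul_smul, hzr, one_smul])
      refine (fixes_iff x).2 ⟨W, fun v hv => ?_, hiso, hWd⟩
      have h := Submodule.smul_mem W z (hW v hv)
      rwa [LinearMap.smul_apply, smul_smul, hzz, one_smul] at h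

end Cfsg.Agent.S5955
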