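import Cfsg.Statements.S5956
import Cfsg.Agent.Lib.Elusive.SympNdPrime

set_option autoImplicit false
open scoped MatrixGroups
open Cfsg

namespace Cfsg.Agent.S5956

open Cfsg.Agent.Elusive Cfsg.Agent.Elusive.SympNdPrime

/-- Elements of prime order of PSp_n(q) with no fixed nondegenerate `m`-space. Here `T = PSp_n(q)` with `n = 2d ≥ 4`, `(n, q) ≠ (4, 2)`, realised through the symplectic matrices over the field `F` with `q` elements (preserving the standard alternating form); an element of `T` of prime order `r` is such a matrix `x` with `x^r` scalar and `x` not scalar. For `r ≠ p` let `i` be the multiplicative order of `q` modulo `r`, `c = i` for `i` even and `c = 2i` for `i` odd, and write `k = n mod c`, `ℓ = m mod i`, `ℓ' = m mod c`, `n' = ⌊n/i⌋`, `m' = ⌊m/i⌋`, `t = (r−1)/i`. Let `m` be even with `2 ≤ m < n/2` and let `r` be a prime dividing the number of nondegenerate `m`-spaces. Then every element of `T` of order `r`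 fixes a nondegenerate `m`-space if and only if one of: (i) `r = p > 2` and every partition of `n` into parts of size at most `p` in which every odd part has even multiplicity contains (as a sub-multiset) a partition of `m` in which every odd part has even multiplicity; (ii) `r = p = 2` and (`n ≡ 2 (mod 4)` or `m ≡ 0 (mod 4)`); (iii) `r = 2 ≠ p`; (iv) `r ≠ p`, `r > 2`, `c ≤ m` and `k ≥ ℓ'`. -/
theorem result {F : Type*} [Field F] [Fintype F] {p : ℕ} [Fact p.Prime] [CharP F p] {q : ℕ} (hq : Fintype.card F = q)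
    (d m : ℕ) (hd : 2 ≤ d) (hT : (d, q) ≠ (2, 2)) (hm : 2 ≤ m) (hme : Even m) (hmd : m < d)
    (r : ℕ) [Fact r.Prime]
    (hrΩ : r ∣ Nat.card {W : Submodule F (Fin d ⊕ Fin d → F) // Module.finrank F ↥W = m ∧ (∀ u ∈ W, u ≠ 0 → ∃ v ∈ W, Cfsg.sympForm d F u v ≠ 0)})
    (i c : ℕ) (hi : i = orderOf (q : ZMod r)) (hc : c = if Even i then i else 2 * i) :
    (∀ x : ↥(Matrix.symplecticGroup (Fin d) F),
      (∃ z : F, ((x ^ r : ↥(Matrix.symplecticGroup (Fin d) F)) : Matrix (Fin d ⊕ Fin d) (Fin d ⊕ Fin d) F) = z • (1 : Matrix (Fin d ⊕ Fin d) (Fin d ⊕ Fin d) F)) →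
      (∀ z : F, (x : Matrix (Fin d ⊕ Fin d) (Fin d ⊕ Fin d) F) ≠ z • (1 : Matrix (Fin d ⊕ Fin d) (Fin d ⊕ Fin d) F)) →
      ∃ W : Submodule F (Fin d ⊕ Fin d → F), Module.finrank F ↥W = m ∧ (∀ u ∈ W, u ≠ 0 → ∃ v ∈ W, Cfsg.sympForm d F u v ≠ 0) ∧
        W.map (Matrix.toLin' (x : Matrix (Fin d ⊕ Fin d) (Fin d ⊕ Fin d) F)) ≤ W) ↔
    ((r = p ∧ 2 < p ∧ (∀ μ : Multiset ℕ, (∀ a ∈ μ, 0 < a ∧ a ≤ p) → (∀ a : ℕ, Odd a → Even (μ.count a)) → μ.sum = 2 * d →
        ∃ ν : Multiset ℕ, ν ≤ μ ∧ ν.sum = m ∧ ∀ a : ℕ, Odd a → Even (ν.count a))) ∨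
     (r = p ∧ p = 2 ∧ ((2 * d) % 4 = 2 ∨ m % 4 = 0)) ∨
     (r = 2 ∧ p ≠ 2) ∨
     (r ≠ p ∧ 2 < r ∧ c ≤ m ∧ m % c ≤ (2 * d) % c)) := by
  classical
  subst hq hi hc
  have hp' := (Fact.out : p.Prime)
  have hr' := (Fact.out : r.Prime)
  have h2r := hr'.two_le
  show (∀ x : ↥(Matrix.symplecticGroup (Fin d) F), _ → _ → Fixes m x) ↔
    ((r = p ∧ 2 < p ∧ TypeCrit p d m) ∨ _)
  by_cases hrp : r = p
  · subst hrp
    rcases h2r.lt_or_eq with h2 | h2
    · constructor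
      · intro hall
        exact Or.inl ⟨rfl, h2, crit_of_fixes hme (by omega) fun x hx hxs => hall x ⟨1, by rw [hx, one_smul]; rfl⟩ hxs⟩
      · rintro (⟨-, -, hcrit⟩ | ⟨-, h, -⟩ | ⟨h, -⟩ | ⟨h, -⟩)
        · rintro x ⟨z, hz⟩ -
          exact fixes_unipotent (by omega) h2 hcrit x hz
        all_goals omega
    · subst h2
      constructor
      · intro hall
        by_contra hnot
        have hno : ¬ ((2 * d) % 4 = 2 ∨ m % 4 = 0) := fun h => hnot (Or.inr (Or.inl ⟨rfl, rfl, h⟩))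
        obtain ⟨x, hx1, hx2, hx3⟩ := not_all_two (F := F) (m := m) (show Even d from Nat.even_iff.2 (by omega))
          (by omega) (fun h => hno (Or.inr (Nat.dvd_iff_mod_eq_zero.1 h)))
        exact hx3 (hall x ⟨1, by rw [hx1, one_smul]; rfl⟩ hx2)
      · rintro (⟨-, h, -⟩ | ⟨-, -, hcond⟩ | ⟨-, h⟩ | ⟨h, -⟩)
        · omega
        · rintro x ⟨z, hz⟩ -
          exact fixes_two (by omega) hme (by omega) hcond x hz
        all_goals exact absurd rfl h
  have hr0 : (r : F) ≠ 0 := fun h => by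
    rw [CharP.cast_eq_zero_iff F p] at h
    exact hrp ((Nat.prime_dvd_prime_iff_eq hp' hr').1 h).symm
  by_cases hr2 : r = 2
  · subst hr2
    refine iff_of_true (fun x ⟨z, hz⟩ _ => ?_) (Or.inr (Or.inr (Or.inl ⟨rfl, Ne.symm hrp⟩)))
    exact fixes_involution (by simpa using hr0) (by omega) hme (by omega) x hz
  have hq0 : (Fintype.card F : ZMod r) ≠ 0 := fun h0 => by
    obtain ⟨k, -, hk⟩ := FiniteField.card F p
    rw [hk, Nat.cast_pow] at h0
    have h1 := (ZMod.natCast_eq_zero_iff p r).1 (eq_zero_of_pow_eq_zero h0)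
    exact hrp ((Nat.prime_dvd_prime_iff_eq hr' hp').1 h1)
  have hord : 0 < orderOf (Fintype.card F : ZMod r) := orderOf_pos_iff.2 (Ne.isUnit hq0).isOfFinOrder
  constructor
  · intro hall
    obtain ⟨h, hh⟩ := hme
    subst hh
    obtain ⟨h1, h2⟩ := criterion_of_fixes (p := p) hrp hr0 hr2 (show h + h ≤ d by omega) hrΩ
      fun x hx hxs => hall x ⟨1, by rw [hx, one_smul]; rfl⟩ hxs
    exact Or.inr (Or.inr (Or.inr ⟨hrp, lt_of_le_of_ne h2r (Ne.symm hr2), h1, h2⟩))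
  · rintro (⟨h, -⟩ | ⟨h, -⟩ | ⟨h, -⟩ | ⟨-, -, -, hcrit⟩)
    · exact absurd h hrp
    · exact absurd h hrp
    · exact absurd h hr2
    rintro x ⟨z, hz⟩ -
    exact fixes_block hr0 hr2 hord (by omega) hme (by omega) hcrit x hz

end Cfsg.Agent.S5956
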