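import Cfsg.Statements.S5957
import Cfsg.Agent.Lib.Perm.InvolutionBlocks

set_option autoImplicit false
open scoped MatrixGroups
open Cfsg

namespace Cfsg.Agent.S5957

section
variable {F V : Type*} [Field F] [AddCommGroup V] [Module F V] [FiniteDimensional F V]

/-- A basis permuted up to scalars by `f` through an involution. -/
def HasMonomialBasis (f : V →ₗ[F] V) : Prop :=
  ∃ (k l : ℕ) (b : Module.Basis ((Fin k ⊕ Fin k) ⊕ Fin l) F V), ∀ i,
    ∃ c : F, c ≠ 0 ∧ f (b i) = c • b (Equiv.sumCongr (Equiv.sumComm (Fin k) (Fin k)) (Equiv.refl _) i)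

theorem monomial_of_diag {f : V →ₗ[F] V} {w : F} (hw : w ≠ 0) (h2 : (2 : F) ≠ 0)
    (hf : ∀ v, f (f v) = (w * w) • v) : HasMonomialBasis f := by
  have htop : Submodule.span F {v : V | f v = w • v ∨ f v = (-w) • v} = ⊤ := by
    rw [eq_top_iff]
    intro v _
    have h1 : f (f v + w • v) = w • (f v + w • v) := by
      rw [map_add, map_smul, hf, smul_add, smul_smul, add_comm]
    have h2' : f (f v - w • v) = (-w) • (f v - w • v) := by
      rw [map_sub, map_smul, hf, smul_sub, smul_smul, neg_smul, neg_mul, neg_smul]; abel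
    have hv : v = (2 * w)⁻¹ • ((f v + w • v) - (f v - w • v)) := by
      rw [show (f v + w • v) - (f v - w • v) = (2 * w) • v by module,
        smul_smul, inv_mul_cancel₀ (mul_ne_zero h2 hw), one_smul]
    rw [hv]
    exact Submodule.smul_mem _ _ (sub_mem (Submodule.subset_span (Or.inl h1))
      (Submodule.subset_span (Or.inr h2')))
  obtain ⟨S, hS, hSspan, hSli⟩ := exists_linearIndependent F {v : V | f v = w • v ∨ f v = (-w) • v}
  have : Finite S := hSli.finite
  let b₀ : Module.Basis S F V := Module.Basis.mk hSli (by rw [Subtype.range_coe_subtype, Set.setOf_mem_eq, hSspan, htop])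
  let e : S ≃ ((Fin 0 ⊕ Fin 0) ⊕ Fin (Nat.card S)) :=
    (Finite.equivFin S).trans (Equiv.emptySum _ _).symm
  refine ⟨0, Nat.card S, b₀.reindex e, fun i => ?_⟩
  rcases i with (i | i) | i
  · exact i.elim0
  · exact i.elim0
  · have hmem := hS (e.symm (Sum.inr i)).2
    simp only [Equiv.sumCongr_apply, Sum.map_inr, Equiv.refl_apply, Module.Basis.reindex_apply, b₀,
      Module.Basis.mk_apply]
    rcases hmem with h | h
    · exact ⟨w, hw, h⟩
    · exact ⟨-w, neg_ne_zero.mpr hw, h⟩

theorem monomial_of_nonsquare {f : V →ₗ[F] V} {z : F} (hz : ∀ w : F, w * w ≠ z)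
    (hf : ∀ v, f (f v) = z • v) : HasMonomialBasis f := by
  have hz0 : z ≠ 0 := fun h => hz 0 (by simp [h])
  have step : ∀ k, 2 * k ≤ Module.finrank F V + 1 → ∃ v : Fin k → V,
      LinearIndependent F (Sum.elim v (f ∘ v)) := by
    intro k
    induction k with
    | zero => exact fun _ => ⟨Fin.elim0, linearIndependent_empty_type⟩
    | succ k ih =>
      intro hk
      obtain ⟨v, hv⟩ := ih (by omega)
      set P := Submodule.span F (Set.range (Sum.elim v (f ∘ v))) with hP
      have hPinv : ∀ y ∈ P, f y ∈ P := by
        intro y hy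
        induction hy using Submodule.span_induction with
        | mem y hy =>
          obtain ⟨i | i, rfl⟩ := hy
          · exact Submodule.subset_span ⟨Sum.inr i, rfl⟩
          · show f (f (v i)) ∈ P
            rw [hf]
            exact Submodule.smul_mem _ _ (Submodule.subset_span ⟨Sum.inl i, rfl⟩)
        | zero => rw [map_zero]; exact zero_mem _
        | add a b _ _ ha hb => rw [map_add]; exact add_mem ha hb
        | smul c a _ ha => rw [map_smul]; exact Submodule.smul_mem _ c ha
      obtain ⟨u, hu⟩ : ∃ u, u ∉ P := by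
        by_contra hall
        push Not at hall
        have := finrank_span_eq_card hv
        rw [← hP, show P = ⊤ from eq_top_iff.mpr fun y _ => hall y, finrank_top, Fintype.card_sum,
          Fintype.card_fin] at this
        omega
      refine ⟨Fin.cons u v, ?_⟩
      have key : ∀ a c : F, a • u + c • f u ∈ P → a = 0 ∧ c = 0 := by
        intro a c hm
        have hm' := hPinv _ hm
        rw [map_add, map_smul, map_smul, hf] at hm'
        have h2 : (a * a - c * c * z) • u ∈ P := by
          have : (a * a - c * c * z) • u = a • (a • u + c • f u) - c • (a • f u + c • z • u) := by module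
          rw [this]; exact sub_mem (Submodule.smul_mem _ _ hm) (Submodule.smul_mem _ _ hm')
        have h3 : a * a - c * c * z = 0 := by
          by_contra h
          exact hu (by simpa [smul_smul, inv_mul_cancel₀ h] using Submodule.smul_mem P (a * a - c * c * z)⁻¹ h2)
        by_cases hc : c = 0
        · subst hc
          exact ⟨mul_self_eq_zero.mp (by linear_combination h3), rfl⟩
        · exact absurd (by field_simp; linear_combination h3) (hz (a / c))
      have hind : LinearIndependent F (Sum.elim (Sum.elim v (f ∘ v)) ![u, f u]) := by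
        refine hv.sum_type ?_ ?_
        · rw [LinearIndependent.pair_iff]
          intro a c h
          exact key a c (h ▸ zero_mem P)
        · rw [Submodule.disjoint_def]
          intro y hy hy'
          rw [Matrix.range_cons, Matrix.range_cons, Matrix.range_empty, Set.union_empty,
            Set.singleton_union, Submodule.mem_span_pair] at hy'
          obtain ⟨a, c, rfl⟩ := hy'
          obtain ⟨rfl, rfl⟩ := key a c hy
          simp
      let g : Fin (k + 1) ⊕ Fin (k + 1) → (Fin k ⊕ Fin k) ⊕ Fin 2 :=
        Sum.elim (Fin.cons (Sum.inr 0) (fun i => Sum.inl (Sum.inl i)))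
          (Fin.cons (Sum.inr 1) (fun i => Sum.inl (Sum.inr i)))
      have hg : Function.Injective g := by
        rintro (i | i) (j | j) h <;> cases i using Fin.cases <;> cases j using Fin.cases <;>
          simp [g] at h ⊢ <;> try exact h
      convert hind.comp g hg using 1
      funext i
      rcases i with i | i <;> cases i using Fin.cases <;> simp [g]
  set k := (Module.finrank F V + 1) / 2 with hk
  obtain ⟨v, hv⟩ := step k (by omega)
  have hle := hv.fintype_card_le_finrank
  rw [Fintype.card_sum, Fintype.card_fin] at hle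
  have hcard : Fintype.card ((Fin k ⊕ Fin k) ⊕ Fin 0) = Module.finrank F V := by simp; omega
  have hli : LinearIndependent F (Sum.elim (Sum.elim v (f ∘ v)) Fin.elim0) :=
    hv.sum_type linearIndependent_empty_type (by simp)
  let b := Module.Basis.mk hli (hli.span_eq_top_of_card_eq_finrank' hcard).ge
  refine ⟨k, 0, b, fun i => ?_⟩
  rcases i with (i | i) | i
  · exact ⟨1, one_ne_zero, by simp [b]⟩
  · exact ⟨z, hz0, by simp [b, hf]⟩
  · exact i.elim0

theorem monomial_of_char_two {f : V →ₗ[F] V} {w : F} (hw : w ≠ 0) (h2 : (2 : F) = 0)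
    (hf : ∀ v, f (f v) = (w * w) • v) : HasMonomialBasis f := by
  set N : V →ₗ[F] V := f - w • LinearMap.id with hN
  have hfN : ∀ v, f v = N v + w • v := fun v => by simp [hN]
  have hNN : ∀ v, N (N v) = 0 := by
    intro v
    simp only [hN, LinearMap.sub_apply, LinearMap.smul_apply, LinearMap.id_coe, id_eq, map_sub, map_smul, hf]
    rw [show (w * w) • v - w • f v - w • (f v - w • v) = (2 : F) • ((w * w) • v - w • f v) by module,
      h2, zero_smul]
  let bR := Module.finBasis F (LinearMap.range N)
  set k := Module.finrank F (LinearMap.range N)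
  choose v hv using fun i => LinearMap.mem_range.mp (bR i).2
  have hRK : LinearMap.range N ≤ LinearMap.ker N := by
    rintro _ ⟨y, rfl⟩; exact hNN y
  obtain ⟨C, hC⟩ := Submodule.exists_isCompl (LinearMap.range N)
  let L : Submodule F V := LinearMap.ker N ⊓ C
  let bL := Module.finBasis F L
  set l := Module.finrank F L
  have hker : LinearMap.range N ⊔ L = LinearMap.ker N := by
    show LinearMap.range N ⊔ (LinearMap.ker N ⊓ C) = _
    rw [inf_comm, ← sup_inf_assoc_of_le C hRK, hC.sup_eq_top, top_inf_eq]
  let g : (Fin k ⊕ Fin k) ⊕ Fin l → V :=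
    Sum.elim (Sum.elim v (fun i => f (v i))) (fun i => (bL i : V))
  have hspan : ⊤ ≤ Submodule.span F (Set.range g) := by
    intro y _
    have hN_mem : ∀ y ∈ LinearMap.range N, y ∈ Submodule.span F (Set.range g) := by
      intro y hy
      rw [show y = ∑ i, bR.repr ⟨y, hy⟩ i • (bR i : V) by
        refine (congrArg Subtype.val (bR.sum_repr ⟨y, hy⟩)).symm.trans ?_
        simp only [AddSubmonoidClass.coe_finsetSum, SetLike.val_smul]]
      refine Submodule.sum_mem _ fun i _ => Submodule.smul_mem _ _ ?_
      rw [← hv i, show N (v i) = f (v i) - w • v i by simp [hN]]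
      exact sub_mem (Submodule.subset_span ⟨Sum.inl (Sum.inr i), rfl⟩)
        (Submodule.smul_mem _ _ (Submodule.subset_span ⟨Sum.inl (Sum.inl i), rfl⟩))
    have hy' : y - ∑ i, bR.repr ⟨N y, LinearMap.mem_range_self N y⟩ i • v i ∈ LinearMap.ker N := by
      rw [LinearMap.mem_ker, map_sub, map_sum]
      simp only [map_smul, hv]
      have := congrArg Subtype.val (bR.sum_repr ⟨N y, LinearMap.mem_range_self N y⟩)
      simp only [AddSubmonoidClass.coe_finsetSum, SetLike.val_smul] at this
      rw [this, sub_self]
    rw [← hker, Submodule.mem_sup] at hy'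
    obtain ⟨r, hr, c, hc, hrc⟩ := hy'
    rw [show y = r + c + ∑ i, bR.repr ⟨N y, LinearMap.mem_range_self N y⟩ i • v i by rw [hrc]; abel]
    refine add_mem (add_mem (hN_mem r hr) ?_)
      (Submodule.sum_mem _ fun i _ => Submodule.smul_mem _ _ (Submodule.subset_span ⟨Sum.inl (Sum.inl i), rfl⟩))
    rw [show c = ∑ i, bL.repr ⟨c, hc⟩ i • (bL i : V) by
      refine (congrArg Subtype.val (bL.sum_repr ⟨c, hc⟩)).symm.trans ?_
      simp only [AddSubmonoidClass.coe_finsetSum, SetLike.val_smul]]
    exact Submodule.sum_mem _ fun i _ => Submodule.smul_mem _ _ (Submodule.subset_span ⟨Sum.inr i, rfl⟩)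
  have hcard : Fintype.card ((Fin k ⊕ Fin k) ⊕ Fin l) = Module.finrank F V := by
    have h1 := LinearMap.finrank_range_add_finrank_ker N
    have h3 := Submodule.finrank_sup_add_finrank_inf_eq (LinearMap.range N) L
    have h4 : LinearMap.range N ⊓ L = ⊥ := le_bot_iff.mp
      (le_trans (inf_le_inf_left _ inf_le_right) hC.inf_eq_bot.le)
    rw [hker, h4, finrank_bot] at h3
    simp only [Fintype.card_sum, Fintype.card_fin]
    omega
  let b := basisOfTopLeSpanOfCardEqFinrank g hspan hcard
  have hb : ⇑b = g := coe_basisOfTopLeSpanOfCardEqFinrank g hspan hcard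
  refine ⟨k, l, b, fun i => ?_⟩
  rw [hb]
  rcases i with (i | i) | i
  · exact ⟨1, one_ne_zero, by simp [g]⟩
  · exact ⟨w * w, mul_ne_zero hw hw, by simp [g, hf]⟩
  · refine ⟨w, hw, ?_⟩
    have h0 : N (bL i : V) = 0 := (bL i).2.1
    simp [g, hfN, h0]

end

/-- Involutions of PSL_n(q) and imprimitive subgroups. Here `T = PSL_n(F)` for a field `F` with `q = p^f` elements (`n ≥ 2`, `(n, q) ≠ (2, 2), (2, 3)`), `n = a·t` with `t ≥ 2`, and Ω is the set of direct-sum decompositions of `F^n` into `t` subspaces of dimension `a` (unordered; their number is the number of ordered ones divided by `t!`), whose stabilizers are the imprimitive subgroups of type GL_a(q) ≀ S_t (maximal except in some small cases; maximality is not assumed); an element of `T` of prime order `r` (a matrix `x` of determinant 1 with `x^r` scalar, `x` not scalar) fixes a point of Ω when it permutes the summands of some such decomposition. If the number of such decompositions is even, then every involution of `T` stabilizes one of them (the action is 2-elusive). -/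
theorem result {F : Type*} [Field F] [Fintype F] {p : ℕ} [Fact p.Prime] [CharP F p] {q : ℕ} (hq : Fintype.card F = q)
    (n a t : ℕ) (hn : 2 ≤ n) (hT : (n, q) ≠ (2, 2) ∧ (n, q) ≠ (2, 3)) (hat : n = a * t) (ha : 1 ≤ a) (ht : 2 ≤ t)
    (hΩ : 2 ∣ Nat.card {D : Fin t → Submodule F (Fin n → F) // Cfsg.Geo.IsMDecomposition a D} / Nat.factorial t)
    (x : Matrix.SpecialLinearGroup (Fin n) F)
    (hx1 : ∃ z : F, ((x ^ 2 : Matrix.SpecialLinearGroup (Fin n) F) : Matrix (Fin n) (Fin n) F) = z • (1 : Matrix (Fin n) (Fin n) F))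
    (hx2 : ∀ z : F, (x : Matrix (Fin n) (Fin n) F) ≠ z • (1 : Matrix (Fin n) (Fin n) F)) :
    ∃ D : Fin t → Submodule F (Fin n → F), Cfsg.Geo.IsMDecomposition a D ∧
        ∃ σ : Equiv.Perm (Fin t), ∀ j, (D j).map (Matrix.toLin' (x : Matrix (Fin n) (Fin n) F)) = D (σ j) := by
  classical
  set M := (x : Matrix (Fin n) (Fin n) F) with hM
  set f := Matrix.toLin' M with hfdef
  obtain ⟨z, hz⟩ := hx1
  have hMM : M * M = z • (1 : Matrix (Fin n) (Fin n) F) := by
    rw [← hz, sq]; rfl
  have hf : ∀ v, f (f v) = z • v := by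
    intro v
    rw [← LinearMap.comp_apply, hfdef, ← Matrix.toLin'_mul, hMM]
    simp [Matrix.toLin'_apply, Matrix.smul_mulVec]
  have hz0 : z ≠ 0 := by
    intro h
    haveI : Nonempty (Fin n) := ⟨⟨0, by omega⟩⟩
    have := congrArg Matrix.det hMM
    rw [Matrix.det_mul, show M.det = 1 from x.2, h, zero_smul, Matrix.det_zero, one_mul] at this
    exact one_ne_zero this
  have hmono : HasMonomialBasis f := by
    by_cases hsq : ∃ w : F, w * w = z
    · obtain ⟨w, hw⟩ := hsq
      have hw0 : w ≠ 0 := fun h => hz0 (by rw [← hw, h, zero_mul])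
      by_cases h2 : (2 : F) = 0
      · exact monomial_of_char_two hw0 h2 (by rw [hw]; exact hf)
      · exact monomial_of_diag hw0 h2 (by rw [hw]; exact hf)
    · push Not at hsq
      exact monomial_of_nonsquare hsq hf
  obtain ⟨k, l, b, hb⟩ := hmono
  set π : Equiv.Perm ((Fin k ⊕ Fin k) ⊕ Fin l) :=
    Equiv.sumCongr (Equiv.sumComm (Fin k) (Fin k)) (Equiv.refl _) with hπ
  have hπ2 : π * π = 1 := by
    ext i : 1
    rcases i with (i | i) | i <;> simp [hπ]
  have hcard : Fintype.card ((Fin k ⊕ Fin k) ⊕ Fin l) = t * a := by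
    rw [← Module.finrank_eq_card_basis b, Module.finrank_fin_fun, hat, mul_comm]
  obtain ⟨e, σ, hσ⟩ := Perm.InvolutionBlocks.exists_blocks π hπ2 a t hcard
  let D : Fin t → Submodule F (Fin n → F) := fun j => Submodule.span F (b '' {i | (e i).1 = j})
  have hdim : ∀ j, Module.finrank F (D j) = a := by
    intro j
    show Module.finrank F (Submodule.span F (b '' {i | (e i).1 = j})) = a
    rw [show b '' {i | (e i).1 = j} = Set.range (fun p : Fin a => b (e.symm (j, p))) by
      ext y
      constructor
      · rintro ⟨i, hi, rfl⟩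
        exact ⟨(e i).2, by simp only; rw [← hi]; simp⟩
      · rintro ⟨p, rfl⟩
        exact ⟨_, by simp, rfl⟩]
    rw [finrank_span_eq_card, Fintype.card_fin]
    exact b.linearIndependent.comp _ (e.symm.injective.comp (Prod.mk_right_injective j))
  refine ⟨D, ⟨ht, ha, hdim, ?_, ?_⟩, σ, fun j => ?_⟩
  · intro j
    refine (b.linearIndependent.disjoint_span_image (s := {i | (e i).1 = j}) (t := {i | (e i).1 ≠ j})
      (Set.disjoint_left.mpr fun i hi hi' => hi' hi)).mono le_rfl ?_
    exact iSup₂_le fun j' hj' => Submodule.span_mono (Set.image_mono fun i hi => by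
      intro h; exact hj' (hi.symm.trans h))
  · rw [eq_top_iff, ← b.span_eq, Submodule.span_le]
    rintro _ ⟨i, rfl⟩
    exact (le_iSup D (e i).1) (Submodule.subset_span ⟨i, rfl, rfl⟩)
  · have hle : (D j).map f ≤ D (σ j) := by
      rw [Submodule.map_span_le]
      rintro _ ⟨i, hi, rfl⟩
      obtain ⟨c, -, hc⟩ := hb i
      rw [hc]
      refine Submodule.smul_mem _ _ (Submodule.subset_span ⟨π i, ?_, rfl⟩)
      show (e (π i)).1 = σ j
      rw [hσ, show (e i).1 = j from hi]
    have hinj : Function.Injective f := by
      intro u v huv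
      have := congrArg f huv
      rw [hf, hf] at this
      exact smul_right_injective _ hz0 this
    refine Submodule.eq_of_le_of_finrank_eq hle ?_
    rw [hdim, ← LinearEquiv.finrank_eq (Submodule.equivMapOfInjective f hinj (D j)), hdim]

end Cfsg.Agent.S5957
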