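import Cfsg.Statements.S5958
import Cfsg.Agent.Lib.Elusive.Decompositions
import Cfsg.Agent.Lib.Elusive.Subspaces

set_option autoImplicit false
open scoped MatrixGroups
open Cfsg

namespace Cfsg.Agent.S5958

section

open Polynomial Module Cfsg.Agent.Elusive

variable {F : Type*} [Field F] [Fintype F] {n a t : ℕ} {r : ℕ} [Fact r.Prime]

theorem toLin_injective (x : Matrix.SpecialLinearGroup (Fin n) F) :
    Function.Injective (Matrix.toLin' (x : Matrix (Fin n) (Fin n) F)) := by
  intro u w h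
  rw [Matrix.toLin'_apply, Matrix.toLin'_apply] at h
  have hu : IsUnit (x : Matrix (Fin n) (Fin n) F) := (Matrix.isUnit_iff_isUnit_det _).2 (by rw [x.2]; exact isUnit_one)
  exact (Matrix.mulVec_injective_iff_isUnit.2 hu) h

theorem root_eq_one (hc : 2 ≤ orderOf (Fintype.card F : ZMod r)) (μ : F) (h : μ ^ r = 1) : μ = 1 := by
  by_contra hne
  have h0 : μ ≠ 0 := fun h0 => by
    rw [h0, zero_pow (Fact.out : r.Prime).ne_zero] at h; exact zero_ne_one h
  have h2 := FiniteField.pow_card_sub_one_eq_one μ h0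
  rw [← orderOf_dvd_iff_pow_eq_one, orderOf_eq_prime h hne] at h2
  exact not_dvd_card_sub_one hc h2

/-- A scalar multiple of `x` permuting a spanning family is enough. -/
theorem of_smul (hat : n = a * t) (ht : 2 ≤ t) (ha : 1 ≤ a) (x : Matrix.SpecialLinearGroup (Fin n) F) {e : F}
    (he : e ≠ 0) (v : Fin t × Fin a → (Fin n → F)) (hv : Submodule.span F (Set.range v) = ⊤) (σ : Equiv.Perm (Fin t))
    (hσ : ∀ l i, (e • endOf x) (v (l, i)) ∈ Submodule.span F (Set.range fun i' => v (σ l, i'))) :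
    ∃ D : Fin t → Submodule F (Fin n → F), Cfsg.Geo.IsMDecomposition a D ∧
      ∃ σ : Equiv.Perm (Fin t), ∀ j, (D j).map (Matrix.toLin' (x : Matrix (Fin n) (Fin n) F)) = D (σ j) := by
  refine Decomp.decomp_of_spanning hat ht ha _ (toLin_injective x) v hv σ fun l i => ?_
  have h := Submodule.smul_mem _ e⁻¹ (hσ l i)
  rwa [LinearMap.smul_apply, inv_smul_smul₀ he] at h

theorem succ_pow {V : Type*} [AddCommGroup V] [Module F V] {f : End F V} {lam : F} (hpow : f ^ r = lam • 1)
    (j : Fin r) (w : V) : ∃ μ : F, f ((f ^ (j : ℕ)) w) = μ • (f ^ ((j + 1 : Fin r) : ℕ)) w := by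
  have hr := (Fact.out : r.Prime)
  haveI : NeZero r := ⟨hr.ne_zero⟩
  rw [← Module.End.mul_apply, ← pow_succ', Fin.val_add, Fin.val_one', Nat.mod_eq_of_lt hr.one_lt]
  by_cases hj : (j : ℕ) + 1 < r
  · exact ⟨1, by rw [Nat.mod_eq_of_lt hj, one_smul]⟩
  · refine ⟨lam, ?_⟩
    rw [show (j : ℕ) + 1 = r by omega, Nat.mod_self, hpow, pow_zero]
    rfl

/-- The case `c = 1`. -/
theorem order_one (hat : n = a * t) (ht : 2 ≤ t) (ha : 1 ≤ a)
    (h1 : orderOf (Fintype.card F : ZMod r) = 1) (x : Matrix.SpecialLinearGroup (Fin n) F)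
    (hx : ∃ z : F, ((x ^ r : Matrix.SpecialLinearGroup (Fin n) F) : Matrix (Fin n) (Fin n) F) =
      z • (1 : Matrix (Fin n) (Fin n) F)) :
    ∃ D : Fin t → Submodule F (Fin n → F), Cfsg.Geo.IsMDecomposition a D ∧
      ∃ σ : Equiv.Perm (Fin t), ∀ j, (D j).map (Matrix.toLin' (x : Matrix (Fin n) (Fin n) F)) = D (σ j) := by
  have hr := (Fact.out : r.Prime)
  haveI : NeZero r := ⟨hr.ne_zero⟩
  have hr0 : (r : F) ≠ 0 := ne_zero_of_order h1.ge
  have hn : 0 < n := by rw [hat]; exact Nat.mul_pos ha (by omega)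
  obtain ⟨z, hz⟩ := hx
  have hz' := (endOf_pow_iff x r z).2 hz
  have hz0 : z ≠ 0 := by
    intro h0
    haveI := Fin.pos_iff_nonempty.1 hn
    have h2 := (x ^ r).2
    rw [hz, h0, zero_smul, Matrix.det_zero] at h2
    exact zero_ne_one h2
  have htop : finrank F (⊤ : Submodule F (Fin n → F)) = n := by rw [finrank_top, Module.finrank_fin_fun]
  by_cases hp : ∃ b : F, b ^ r = z
  · obtain ⟨b, hb⟩ := hp
    have hb0 : b ≠ 0 := fun h => hz0 (by rw [← hb, h, zero_pow hr.ne_zero])
    have hpow : (b⁻¹ • endOf x) ^ r = 1 := by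
      rw [_root_.smul_pow, hz', smul_smul, inv_pow, hb, inv_mul_cancel₀ hz0, one_smul]
    obtain ⟨v, hv, hinv⟩ := Decomp.exists_inv_family hr0 hpow (a := a) t ⊤ (fun _ _ => trivial)
      (by rw [htop, hat, mul_comm]) (by rw [h1, Nat.mod_one, mul_zero]; exact Nat.zero_le _)
    exact of_smul hat ht ha x (inv_ne_zero hb0) v hv 1 hinv
  push Not at hp
  have hirr : Irreducible (X ^ r - C z : F[X]) := X_pow_sub_C_irreducible_of_prime hr hp
  obtain ⟨s, hs, -⟩ := det_of_single_factor z hirr (endOf x) hz'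
  rw [Module.finrank_fin_fun] at hs
  have hss : (endOf x).IsSemisimple := isSemisimple_of_scalar hr0 hn x ⟨z, hz⟩
  have hdeg : FactorDeg (X ^ r - C z : F[X]) r := by
    simpa using factorDeg_irreducible (V := Fin n → F) hirr
  obtain ⟨w, -, hw⟩ := Decomp.exists_cyclic_family hss hdeg hr.pos hz' s ⊤ (fun _ _ => trivial)
    (fun v _ => by simp [hz', Algebra.algebraMap_eq_smul_one]) (by rw [htop, hs, mul_comm])
  rcases hr.dvd_mul.1 (show r ∣ a * t by rw [← hat, hs]; exact dvd_mul_right r s) with ⟨a', ha'⟩ | ⟨t', ht'⟩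
  · -- cyclic spaces inside the blocks
    obtain ⟨ea⟩ : Nonempty (Fin a ≃ Fin a' × Fin r) :=
      ⟨(finCongr (by rw [ha', mul_comm])).trans finProdFinEquiv.symm⟩
    obtain ⟨es⟩ : Nonempty (Fin t × Fin a' ≃ Fin s) := ⟨finProdFinEquiv.trans (finCongr (by
      refine Nat.eq_of_mul_eq_mul_left hr.pos ?_
      rw [← hs, hat, ha']; ring))⟩
    refine of_smul hat ht ha x one_ne_zero
      (fun p => (endOf x ^ ((ea p.2).2 : ℕ)) (w (es (p.1, (ea p.2).1)))) ?_ 1 fun l i => ?_
    · rw [eq_top_iff, ← hw]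
      refine Submodule.span_mono ?_
      rintro _ ⟨⟨m, j⟩, rfl⟩
      exact ⟨((es.symm m).1, ea.symm ((es.symm m).2, j)), by simp⟩
    · obtain ⟨μ, hμ⟩ := succ_pow hz' (ea i).2 (w (es (l, (ea i).1)))
      rw [one_smul, hμ]
      exact Submodule.smul_mem _ μ (Submodule.subset_span ⟨ea.symm ((ea i).1, (ea i).2 + 1), by simp⟩)
  · -- blocks in cycles
    obtain ⟨et⟩ : Nonempty (Fin t ≃ Fin t' × Fin r) :=
      ⟨(finCongr (by rw [ht', mul_comm])).trans finProdFinEquiv.symm⟩
    obtain ⟨es⟩ : Nonempty (Fin t' × Fin a ≃ Fin s) := ⟨finProdFinEquiv.trans (finCongr (by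
      refine Nat.eq_of_mul_eq_mul_left hr.pos ?_
      rw [← hs, hat, ht']; ring))⟩
    refine of_smul hat ht ha x one_ne_zero
      (fun p => (endOf x ^ ((et p.1).2 : ℕ)) (w (es ((et p.1).1, p.2)))) ?_
      ((et.trans (Equiv.prodCongr (Equiv.refl _) (Equiv.addRight (1 : Fin r)))).trans et.symm) fun l i => ?_
    · rw [eq_top_iff, ← hw]
      refine Submodule.span_mono ?_
      rintro _ ⟨⟨m, j⟩, rfl⟩
      exact ⟨(et.symm ((es.symm m).1, j), (es.symm m).2), by simp⟩
    · obtain ⟨μ, hμ⟩ := succ_pow hz' (et l).2 (w (es ((et l).1, i)))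
      rw [one_smul, hμ]
      exact Submodule.smul_mem _ μ (Submodule.subset_span ⟨i, by simp⟩)

/-- Sufficiency when `c ≥ 2`. -/
theorem order_large (hat : n = a * t) (ht : 2 ≤ t) (ha : 1 ≤ a)
    (h2 : 2 ≤ orderOf (Fintype.card F : ZMod r))
    (hcrit : (a = 1 ∧ orderOf (Fintype.card F : ZMod r) = r - 1 ∧ n ≤ (n % orderOf (Fintype.card F : ZMod r)) * r) ∨
      n % orderOf (Fintype.card F : ZMod r) = t * (a % orderOf (Fintype.card F : ZMod r)))
    (x : Matrix.SpecialLinearGroup (Fin n) F)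
    (hx1 : ∃ z : F, ((x ^ r : Matrix.SpecialLinearGroup (Fin n) F) : Matrix (Fin n) (Fin n) F) =
      z • (1 : Matrix (Fin n) (Fin n) F))
    (hx2 : ∀ z : F, (x : Matrix (Fin n) (Fin n) F) ≠ z • (1 : Matrix (Fin n) (Fin n) F)) :
    ∃ D : Fin t → Submodule F (Fin n → F), Cfsg.Geo.IsMDecomposition a D ∧
      ∃ σ : Equiv.Perm (Fin t), ∀ j, (D j).map (Matrix.toLin' (x : Matrix (Fin n) (Fin n) F)) = D (σ j) := by
  have hr := (Fact.out : r.Prime)
  haveI : NeZero r := ⟨hr.ne_zero⟩
  have hr0 : (r : F) ≠ 0 := ne_zero_of_order (by omega)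
  have hn : 0 < n := by rw [hat]; exact Nat.mul_pos ha (by omega)
  obtain ⟨e, he, hpow, -⟩ := exists_normalised (not_dvd_card_sub_one h2) x hx1 hx2 hn
  set f := e • endOf x
  set c := orderOf (Fintype.card F : ZMod r)
  set K := LinearMap.ker (f - 1) with hK
  obtain ⟨b, hb⟩ := dim_eq hr0 hpow (W := ⊤) (fun _ _ => trivial)
  rw [finrank_top, Module.finrank_fin_fun, inf_top_eq, ← hK] at hb
  change n = finrank F K + b * c at hb
  have hkj : n % c ≤ finrank F K := by
    have h : n % c = finrank F K % c := by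
      have h' := congrArg (· % c) hb
      simp only [Nat.add_mul_mod_self_right] at h'
      exact h'
    exact h.le.trans (Nat.mod_le _ _)
  rcases hcrit with ⟨rfl, hcr, hle⟩ | hk
  · -- lines
    rw [one_mul] at hat
    subst hat
    set W := LinearMap.ker (aeval f (∑ j ∈ Finset.range r, X ^ j : F[X])) with hW
    have hKW : IsCompl K W := isCompl_parts hr0 hpow
    have hdimW : finrank F K + finrank F W = n := by
      rw [Submodule.finrank_add_eq_of_isCompl hKW, Module.finrank_fin_fun]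
    have hWd : finrank F W = b * c := by omega
    set j := finrank F K
    have hbj : b ≤ j := by
      have h' : b * c + j ≤ (n % c) * c + n % c + (j - n % c) := by
        have : (n % c) * r = (n % c) * c + n % c := by
          rw [← Nat.mul_succ, show c.succ = r by omega]
        omega
      have h3 : b * c ≤ (n % c) * c := by omega
      exact (Nat.le_of_mul_le_mul_right h3 (by omega)).trans hkj
    have hWinv : Inv f W := fun v hv => by
      rw [hW, LinearMap.mem_ker] at hv ⊢
      have hcm : aeval f (∑ j ∈ Finset.range r, X ^ j : F[X]) * f = f * aeval f (∑ j ∈ Finset.range r, X ^ j : F[X]) := by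
        conv_lhs => arg 2; rw [← aeval_X (R := F) f]
        conv_rhs => arg 1; rw [← aeval_X (R := F) f]
        rw [← map_mul, ← map_mul, mul_comm]
      rw [← Module.End.mul_apply, hcm, Module.End.mul_apply, hv, map_zero]
    obtain ⟨w, hwW, hw⟩ := Decomp.exists_cyclic_family (isSemisimple_of_pow hr0 hpow) (factorDeg_geom hr0)
      (by omega) (show f ^ r = (1 : F) • 1 by rw [one_smul, hpow]) b W hWinv (fun v hv => hv) hWd
    let u := Module.finBasisOfFinrankEq F K (rfl : finrank F K = j)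
    let y : (Fin b × Fin r) ⊕ Fin (j - b) → (Fin n → F) :=
      Sum.elim (fun p => (f ^ (p.2 : ℕ)) ((u ⟨p.1, by omega⟩ : Fin n → F) + w p.1))
        fun m => (u ⟨b + m, by omega⟩ : Fin n → F)
    obtain ⟨et⟩ : Nonempty (Fin n ≃ (Fin b × Fin r) ⊕ Fin (j - b)) := ⟨(Fintype.equivFinOfCardEq (by
      rw [Fintype.card_sum, Fintype.card_prod, Fintype.card_fin, Fintype.card_fin, Fintype.card_fin,
        show r = c + 1 by omega, Nat.mul_succ]
      omega)).symm⟩
    have hfu : ∀ (i : ℕ) (m : Fin j), (f ^ i) (u m : Fin n → F) = u m := fun i m => by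
      induction i with
      | zero => simp
      | succ i ih =>
        rw [pow_succ', Module.End.mul_apply, ih]
        exact sub_eq_zero.1 (show (f - 1) (u m : Fin n → F) = 0 from (u m).2)
    have hspan : Submodule.span F (Set.range y) = ⊤ := by
      set T := Submodule.span F (Set.range y)
      have huT : ∀ m : Fin j, (u m : Fin n → F) ∈ T := by
        intro m
        by_cases hm : (m : ℕ) < b
        · have hsum : ∑ i : Fin r, y (.inl (⟨m, hm⟩, i)) = (r : F) • (u m : Fin n → F) := by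
            have hgeom : ∑ i : Fin r, (f ^ (i : ℕ)) (w ⟨m, hm⟩) = 0 := by
              have h := LinearMap.mem_ker.1 (hwW ⟨m, hm⟩)
              rw [map_sum, LinearMap.sum_apply] at h
              simp only [map_pow, aeval_X] at h
              rw [← h, Fin.sum_univ_eq_sum_range (fun i => (f ^ i) (w ⟨m, hm⟩))]
            simp only [y, Sum.elim_inl, map_add, Finset.sum_add_distrib, hgeom, add_zero]
            exact (Finset.sum_congr rfl fun (i : Fin r) _ => hfu i m).trans (by
              rw [Finset.sum_const, Finset.card_univ, Fintype.card_fin, ← Nat.cast_smul_eq_nsmul F])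
          have h := Submodule.smul_mem T (r : F)⁻¹ (hsum ▸ Submodule.sum_mem T fun i _ =>
            (Submodule.subset_span ⟨_, rfl⟩ : y (.inl (⟨m, hm⟩, i)) ∈ T))
          rwa [inv_smul_smul₀ hr0] at h
        · have h : y (.inr ⟨m - b, by omega⟩) ∈ T := Submodule.subset_span ⟨_, rfl⟩
          simp only [y, Sum.elim_inr] at h
          convert h using 3
          exact Fin.ext (by dsimp only; omega)
      have hKT : K ≤ T := by
        intro v hv
        have e := congrArg Subtype.val (u.sum_repr ⟨v, hv⟩)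
        rw [Submodule.coe_sum] at e
        rw [show v = _ from e.symm]
        exact Submodule.sum_mem _ fun m _ => Submodule.smul_mem _ _ (huT m)
      have hWT : W ≤ T := by
        rw [← hw, Submodule.span_le]
        rintro _ ⟨⟨l, i⟩, rfl⟩
        have h1 : y (.inl (l, i)) ∈ T := Submodule.subset_span ⟨_, rfl⟩
        have h2 := Submodule.sub_mem T h1 (huT ⟨l, by omega⟩)
        simp only [y, Sum.elim_inl, map_add, hfu] at h2
        simpa using h2
      exact eq_top_iff.2 (hKW.sup_eq_top ▸ sup_le hKT hWT)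
    refine of_smul (one_mul n).symm ht le_rfl x he (fun p => y (et p.1)) ?_
      ((et.trans (Equiv.sumCongr (Equiv.prodCongr (Equiv.refl _) (Equiv.addRight (1 : Fin r))) (Equiv.refl _))).trans
        et.symm) fun l i => ?_
    · rw [eq_top_iff, ← hspan]
      refine Submodule.span_mono ?_
      rintro _ ⟨k, rfl⟩
      exact ⟨(et.symm k, 0), by simp⟩
    · refine Submodule.mem_span_singleton.2 ?_ |> fun h => (Submodule.span_mono (Set.singleton_subset_iff.2
        ⟨0, rfl⟩) : _ ≤ Submodule.span F (Set.range fun _ : Fin 1 => _)) h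
      cases hl : et l with
      | inl p =>
        obtain ⟨μ, hμ⟩ := succ_pow (show f ^ r = (1 : F) • 1 by rw [one_smul, hpow]) p.2
          ((u ⟨p.1, by omega⟩ : Fin n → F) + w p.1)
        refine ⟨μ, ?_⟩
        simp only [Equiv.trans_apply, hl, Equiv.apply_symm_apply, y, Sum.elim_inl, Sum.map_inl,
          Equiv.sumCongr_apply, Equiv.prodCongr_apply, Prod.map, Equiv.refl_apply, Equiv.coe_addRight]
        exact hμ.symm
      | inr m =>
        refine ⟨1, ?_⟩
        have h := hfu 1 ⟨b + m, by omega⟩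
        rw [pow_one] at h
        simp only [Equiv.trans_apply, hl, Equiv.apply_symm_apply, one_smul, y, Sum.elim_inr, Sum.map_inr,
          Equiv.sumCongr_apply, Equiv.refl_apply]
        exact h.symm
  · obtain ⟨v, hv, hinv⟩ := Decomp.exists_inv_family hr0 hpow (a := a) t ⊤ (fun _ _ => trivial)
      (by rw [finrank_top, Module.finrank_fin_fun, hat, mul_comm]) (by rw [inf_top_eq, ← hk]; exact hkj)
    exact of_smul hat ht ha x he v hv 1 hinv

/-- Necessity when `c ≥ 2`. -/
theorem necessary (p : ℕ) [Fact p.Prime] [CharP F p] (hrp : r ≠ p) (hat : n = a * t) (ht : 2 ≤ t) (ha : 1 ≤ a)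
    (h2 : 2 ≤ orderOf (Fintype.card F : ZMod r)) (hcn : orderOf (Fintype.card F : ZMod r) ≤ n)
    (hall : ∀ x : Matrix.SpecialLinearGroup (Fin n) F,
      (∃ z : F, ((x ^ r : Matrix.SpecialLinearGroup (Fin n) F) : Matrix (Fin n) (Fin n) F) =
        z • (1 : Matrix (Fin n) (Fin n) F)) →
      (∀ z : F, (x : Matrix (Fin n) (Fin n) F) ≠ z • (1 : Matrix (Fin n) (Fin n) F)) →
      ∃ D : Fin t → Submodule F (Fin n → F), Cfsg.Geo.IsMDecomposition a D ∧
        ∃ σ : Equiv.Perm (Fin t), ∀ j, (D j).map (Matrix.toLin' (x : Matrix (Fin n) (Fin n) F)) = D (σ j)) :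
    (a = 1 ∧ orderOf (Fintype.card F : ZMod r) = r - 1 ∧ n ≤ (n % orderOf (Fintype.card F : ZMod r)) * r) ∨
      (orderOf (Fintype.card F : ZMod r) ≤ a ∧
        n % orderOf (Fintype.card F : ZMod r) = t * (a % orderOf (Fintype.card F : ZMod r))) := by
  set c := orderOf (Fintype.card F : ZMod r) with hc
  have hr := (Fact.out : r.Prime)
  have hr0 : (r : F) ≠ 0 := ne_zero_of_order (by omega)
  have hcr : c ≤ r - 1 := by
    refine Nat.le_of_dvd (by have := hr.two_le; omega) (ZMod.orderOf_dvd_card_sub_one fun h0 => ?_)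
    rw [hc, h0] at h2
    have hz : orderOf (0 : ZMod r) = 0 := orderOf_eq_zero fun hf => by simpa using hf.isUnit
    omega
  have hD : ∀ x : Matrix.SpecialLinearGroup (Fin n) F, endOf x ^ r = 1 → endOf x ≠ 1 →
      ∃ (D : Fin t → Submodule F (Fin n → F)) (σ : Equiv.Perm (Fin t)), Cfsg.Geo.IsMDecomposition a D ∧
        ∀ j, (D j).map (endOf x) = D (σ j) := fun x hpow hne => by
    obtain ⟨D, hD, σ, hσ⟩ := hall x ⟨1, (endOf_pow_iff x r 1).1 (by rw [hpow, one_smul])⟩ fun z hz => hne (by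
      have hzz := (endOf_scalar_iff x z).2 hz
      rw [hzz]
      rw [hzz, _root_.smul_pow, one_pow] at hpow
      haveI : Nonempty (Fin n) := ⟨⟨0, by omega⟩⟩
      have hzr : z ^ r = 1 := by
        have := congrArg (fun g : End F (Fin n → F) => g (fun _ => 1) ⟨0, by omega⟩) hpow
        simpa using this
      rw [root_eq_one h2 z hzr, one_smul])
    exact ⟨D, σ, hD, hσ⟩
  obtain ⟨x1, hx1, hx1ne, hx1r⟩ := Decomp.exists_single_block (n := n) p hrp h2 hcn
  obtain ⟨x2, -, hx2s, hx2, hfix2, -⟩ := exists_witness (n := n) p hrp h2 hcn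
  have hx2ne : endOf x2 ≠ 1 := fun h => hx2s 1 ((endOf_scalar_iff x2 1).1 (by rw [h, one_smul]))
  obtain ⟨D1, σ1, hD1, hσ1⟩ := hD x1 hx1 hx1ne
  obtain ⟨D2, σ2, hD2, hσ2⟩ := hD x2 hx2 hx2ne
  have hklt : n % c < c := Nat.mod_lt _ (by omega)
  by_cases hmv : ∃ l, σ1 l ≠ l
  · obtain ⟨l, hl⟩ := hmv
    obtain ⟨-, hb⟩ := Decomp.moved_bounds hD1.indep hD1.finrank_eq ha σ1 hσ1 hr hx1 hl
    have h3 : (r - 1) * a ≤ (r - 1) * 1 := by
      rw [mul_one]; exact (hb.trans hx1r).trans hcr
    have ha1 : a = 1 := le_antisymm (Nat.le_of_mul_le_mul_left h3 (by have := hr.two_le; omega)) ha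
    have hce : c = r - 1 := by
      have := hb.trans hx1r
      rw [ha1, mul_one] at this
      omega
    refine Or.inl ⟨ha1, hce, ?_⟩
    have h := Decomp.lines_bound hD2.indep hD2.finrank_eq ha σ2 hσ2 hr0 (root_eq_one h2) hx2 ha1 hD2.iSup_eq_top
    rw [hfix2, ← hc, mul_comm] at h
    rw [hat, ha1, one_mul] at h ⊢
    exact h
  push Not at hmv
  have hinv1 : ∀ l, Inv (endOf x1) (D1 l) := fun l => inv_iff_map.2 (by rw [hσ1, hmv])
  have hca := (Decomp.invariant_bounds hD1.indep hD1.finrank_eq hr0 hx1 hinv1 hD1.iSup_eq_top).2 hx1ne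
  refine Or.inr ⟨hca, ?_⟩
  have hinv2 : ∀ l, Inv (endOf x2) (D2 l) := fun l => inv_iff_map.2 (by
    rw [hσ2]
    by_cases hl : σ2 l = l
    · rw [hl]
    · have hb := (Decomp.moved_bounds hD2.indep hD2.finrank_eq ha σ2 hσ2 hr hx2 hl).1
      rw [hfix2, ← hc] at hb
      omega)
  have hle := (Decomp.invariant_bounds hD2.indep hD2.finrank_eq hr0 hx2 hinv2 hD2.iSup_eq_top).1
  rw [hfix2, ← hc] at hle
  have hmod : n % c = (t * (a % c)) % c := by rw [hat, mul_comm a t, Nat.mul_mod_mod]
  rw [hmod, Nat.mod_eq_of_lt (by omega)]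

end

/-- Elements of odd prime order of PSL_n(q) and imprimitive subgroups. Here `T = PSL_n(F)` for a field `F` with `q = p^f` elements (`n ≥ 2`, `(n, q) ≠ (2, 2), (2, 3)`), `n = a·t` with `t ≥ 2`, and Ω is the set of direct-sum decompositions of `F^n` into `t` subspaces of dimension `a` (unordered; their number is the number of ordered ones divided by `t!`), whose stabilizers are the imprimitive subgroups of type GL_a(q) ≀ S_t (maximal except in some small cases; maximality is not assumed); an element of `T` of prime order `r` (a matrix `x` of determinant 1 with `x^r` scalar, `x` not scalar) fixes a point of Ω when it permutes the summands of some such decomposition. Let `r ≠ p` be an odd prime dividing the number of such decompositions, let `c` be the multiplicative order of `q` modulo `r`, and write `k = n mod c`, `ℓ = a mod c`. Then every element of `T` of order `r` stabilizes such a decomposition if and only if either `a = 1`, `c = r − 1 > 1` and `n ≤ k·r`, or `c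 ≤ a` and `k = t·ℓ`. -/
theorem result {F : Type*} [Field F] [Fintype F] {p : ℕ} [Fact p.Prime] [CharP F p] {q : ℕ} (hq : Fintype.card F = q)
    (n a t : ℕ) (hn : 2 ≤ n) (hT : (n, q) ≠ (2, 2) ∧ (n, q) ≠ (2, 3)) (hat : n = a * t) (ha : 1 ≤ a) (ht : 2 ≤ t)
    (r : ℕ) [Fact r.Prime] (hr2 : r ≠ 2) (hrp : r ≠ p) (hΩ : r ∣ Nat.card {D : Fin t → Submodule F (Fin n → F) // Cfsg.Geo.IsMDecomposition a D} / Nat.factorial t)
    (c : ℕ) (hc : c = orderOf (q : ZMod r)) :
    (∀ x : Matrix.SpecialLinearGroup (Fin n) F,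
      (∃ z : F, ((x ^ r : Matrix.SpecialLinearGroup (Fin n) F) : Matrix (Fin n) (Fin n) F) = z • (1 : Matrix (Fin n) (Fin n) F)) →
      (∀ z : F, (x : Matrix (Fin n) (Fin n) F) ≠ z • (1 : Matrix (Fin n) (Fin n) F)) →
      ∃ D : Fin t → Submodule F (Fin n → F), Cfsg.Geo.IsMDecomposition a D ∧
        ∃ σ : Equiv.Perm (Fin t), ∀ j, (D j).map (Matrix.toLin' (x : Matrix (Fin n) (Fin n) F)) = D (σ j)) ↔
    ((a = 1 ∧ 1 < c ∧ c = r - 1 ∧ n ≤ (n % c) * r) ∨ (c ≤ a ∧ n % c = t * (a % c))) := by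
  subst hc hq
  have hq0 : (Fintype.card F : ZMod r) ≠ 0 := fun h0 => by
    obtain ⟨k, -, hk⟩ := FiniteField.card F p
    rw [hk, Nat.cast_pow] at h0
    have h1 := (ZMod.natCast_eq_zero_iff p r).1 (eq_zero_of_pow_eq_zero h0)
    exact hrp ((Nat.prime_dvd_prime_iff_eq Fact.out Fact.out).1 h1)
  have hc0 : 0 < orderOf (Fintype.card F : ZMod r) := orderOf_pos_iff.2 (Ne.isUnit hq0).isOfFinOrder
  rcases (show orderOf (Fintype.card F : ZMod r) = 1 ∨ 2 ≤ orderOf (Fintype.card F : ZMod r) by omega) with h1 | h2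
  · refine iff_of_true (fun x hx _ => order_one hat ht ha h1 x hx) (Or.inr ?_)
    rw [h1, Nat.mod_one, Nat.mod_one, mul_zero]
    exact ⟨ha, rfl⟩
  have hr0 : (r : F) ≠ 0 := Agent.Elusive.ne_zero_of_order (by omega)
  have hcn : orderOf (Fintype.card F : ZMod r) ≤ n := by
    obtain ⟨g, hg⟩ := Agent.Elusive.Decomp.exists_aut_of_dvd hat ht ha hΩ
    set f : Module.End F (Fin n → F) := g.toLinearMap with hf
    have hfp : ∀ k : ℕ, f ^ k = (g ^ k : (Fin n → F) ≃ₗ[F] (Fin n → F)).toLinearMap := fun k => by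
      induction k with
      | zero => rfl
      | succ k ih => rw [pow_succ, ih, pow_succ]; rfl
    have hpow : f ^ r = 1 := by rw [hfp, ← hg, pow_orderOf_eq_one]; rfl
    obtain ⟨b, hb⟩ := Agent.Elusive.dim_eq hr0 hpow (W := ⊤) (fun _ _ => trivial)
    rw [finrank_top, Module.finrank_fin_fun, inf_top_eq] at hb
    rcases Nat.eq_zero_or_pos b with rfl | hb'
    · exfalso
      rw [zero_mul, add_zero] at hb
      have htop : LinearMap.ker (f - 1) = ⊤ := Submodule.eq_top_of_finrank_eq (by rw [Module.finrank_fin_fun, ← hb])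
      have : g = 1 := LinearEquiv.toLinearMap_injective (LinearMap.ext fun v =>
        sub_eq_zero.1 (show (f - 1) v = 0 from htop.ge trivial))
      rw [this, orderOf_one] at hg
      exact (Fact.out : r.Prime).one_lt.ne hg
    · have := Nat.le_mul_of_pos_left (orderOf (Fintype.card F : ZMod r)) hb'
      omega
  constructor
  · intro hall
    rcases necessary p hrp hat ht ha h2 hcn hall with ⟨h3, h4, h5⟩ | h
    · exact Or.inl ⟨h3, by omega, h4, h5⟩
    · exact Or.inr h
  · intro hcrit x hx1 hx2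
    exact order_large hat ht ha h2 (hcrit.imp (fun h => ⟨h.1, h.2.2.1, h.2.2.2⟩) fun h => h.2) x hx1 hx2

end Cfsg.Agent.S5958
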