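import Cfsg.Statements.S5959
import Cfsg.Agent.Lib.LinRep.JordanType

set_option autoImplicit false
open scoped MatrixGroups
open Cfsg

namespace Cfsg.Agent.S5959

open LinRep.JordanType

theorem exists_nilpotent_of_type {F : Type*} [Field F] (n p : ℕ) (μ : Multiset ℕ)
    (hμ : ∀ b ∈ μ, b ≤ p) (hsum : μ.sum = n) :
    ∃ N : Module.End F (Fin n → F), N ^ p = 0 ∧ HasType N μ := by
  classical
  obtain ⟨l, rfl⟩ : ∃ l : List ℕ, μ = (l : Multiset ℕ) := ⟨μ.toList, μ.coe_toList.symm⟩
  let size : Fin l.length → ℕ := fun j => l.get j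
  have hval : Finset.univ.val.map size = (l : Multiset ℕ) := by
    rw [Fin.univ_val_map, List.ofFn_get]
  have hcard : Fintype.card (Σ j, Fin (size j)) = n := by
    rw [Fintype.card_sigma, ← hsum, ← hval]
    simp [Finset.sum]
  let e : (Σ j, Fin (size j)) ≃ Fin n := Fintype.equivFinOfCardEq hcard
  let L : (Fin n → F) ≃ₗ[F] ((Σ j, Fin (size j)) → F) := LinearEquiv.funCongrLeft F F e
  let N : Module.End F (Fin n → F) := L.symm.toLinearMap ∘ₗ shiftFun size ∘ₗ L.toLinearMap
  have hpow : ∀ (k : ℕ) (v : Fin n → F), (N ^ k) v = L.symm ((shiftFun size ^ k) (L v)) := by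
    intro k
    induction k with
    | zero => intro v; simp
    | succ k ih =>
      intro v
      rw [pow_succ', Module.End.mul_apply, ih]
      show L.symm (shiftFun size (L (L.symm _))) = _
      rw [L.apply_symm_apply, pow_succ', Module.End.mul_apply]
  refine ⟨N, ?_, fun k => ?_⟩
  · refine LinearMap.ext fun v => ?_
    rw [hpow]
    have : (shiftFun size ^ p) (L v) = 0 := by
      funext q
      rw [shiftFun_pow_apply, dif_neg]
      · rfl
      · have h1 := q.2.isLt
        have h2 : size q.1 ≤ p := hμ _ (by simp [size])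
        omega
    rw [this, map_zero]
    rfl
  · rw [← hval, ← shiftFun_hasType (F := F) size k, rankDim, rankDim]
    have : (⊤ : Submodule F (Fin n → F)).map (N ^ k) =
        ((⊤ : Submodule F ((Σ j, Fin (size j)) → F)).map (shiftFun size ^ k)).map L.symm.toLinearMap := by
      ext v
      simp only [Submodule.mem_map, Submodule.mem_top, true_and]
      constructor
      · rintro ⟨u, rfl⟩; exact ⟨_, ⟨L u, rfl⟩, (hpow k u).symm⟩
      · rintro ⟨_, ⟨w, rfl⟩, rfl⟩
        exact ⟨L.symm w, by rw [hpow, L.apply_symm_apply]; rfl⟩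
    rw [this, ← LinearEquiv.finrank_eq (Submodule.equivMapOfInjective _ L.symm.injective _)]

theorem geom_sum_eq_sub_one_pow {F A : Type*} [Field F] [Ring A] [Algebra F A] (p : ℕ) [Fact p.Prime]
    [CharP F p] (X : A) : ∑ i ∈ Finset.range p, X ^ i = (X - 1) ^ (p - 1) := by
  open Polynomial in
  have key : (∑ i ∈ Finset.range p, (Polynomial.X : F[X]) ^ i) = (Polynomial.X - 1) ^ (p - 1) := by
    have h0 : (Polynomial.X - 1 : F[X]) ≠ 0 := by
      simpa using Polynomial.X_sub_C_ne_zero (1 : F)
    apply mul_right_cancel₀ h0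
    rw [geom_sum_mul, ← pow_succ, Nat.sub_add_cancel (Fact.out : p.Prime).one_le, sub_pow_char, one_pow]
  simpa using congrArg (Polynomial.aeval X) key

/-- Elements of order `p` of PSL_n(q) and imprimitive subgroups: a necessary condition. Here `T = PSL_n(F)` for a field `F` with `q = p^f` elements (`n ≥ 2`, `(n, q) ≠ (2, 2), (2, 3)`), `n = a·t` with `t ≥ 2`, and Ω is the set of direct-sum decompositions of `F^n` into `t` subspaces of dimension `a` (unordered; their number is the number of ordered ones divided by `t!`), whose stabilizers are the imprimitive subgroups of type GL_a(q) ≀ S_t (maximal except in some small cases; maximality is not assumed); an element of `T` of prime order `r` (a matrix `x` of determinant 1 with `x^r` scalar, `x` not scalar) fixes a point of Ω when it permutes the summands of some such decomposition. Suppose `p > 2` divides the number of such decompositions. If every element of `T` of order `p` stabilizes such a decomposition, then every partition of `n` into parts of size at most `p` in which the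 part `p` occurs fewer than `a` times contains (as a sub-multiset) a partition of `a`. -/
theorem result {F : Type*} [Field F] [Fintype F] {p : ℕ} [Fact p.Prime] [CharP F p] {q : ℕ} (hq : Fintype.card F = q)
    (n a t : ℕ) (hn : 2 ≤ n) (hT : (n, q) ≠ (2, 2) ∧ (n, q) ≠ (2, 3)) (hat : n = a * t) (ha : 1 ≤ a) (ht : 2 ≤ t)
    (hp : 2 < p) (hΩ : p ∣ Nat.card {D : Fin t → Submodule F (Fin n → F) // Cfsg.Geo.IsMDecomposition a D} / Nat.factorial t)
    (h : ∀ x : Matrix.SpecialLinearGroup (Fin n) F,
      (∃ z : F, ((x ^ p : Matrix.SpecialLinearGroup (Fin n) F) : Matrix (Fin n) (Fin n) F) = z • (1 : Matrix (Fin n) (Fin n) F)) →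
      (∀ z : F, (x : Matrix (Fin n) (Fin n) F) ≠ z • (1 : Matrix (Fin n) (Fin n) F)) →
      ∃ D : Fin t → Submodule F (Fin n → F), Cfsg.Geo.IsMDecomposition a D ∧
        ∃ σ : Equiv.Perm (Fin t), ∀ j, (D j).map (Matrix.toLin' (x : Matrix (Fin n) (Fin n) F)) = D (σ j)) :
    (∀ μ : Multiset ℕ, (∀ b ∈ μ, 0 < b ∧ b ≤ p) → μ.sum = n → μ.count p < a → ∃ ν : Multiset ℕ, ν ≤ μ ∧ ν.sum = a) := by
  classical
  intro μ hμ hsum hcount
  have han : a ≤ n := by rw [hat]; exact Nat.le_mul_of_pos_right a (by omega)
  by_cases hone : ∀ b ∈ μ, b = 1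
  · have hrep : μ = Multiset.replicate μ.card 1 := Multiset.eq_replicate.mpr ⟨rfl, hone⟩
    have hcard : μ.card = n := by rw [← hsum]; conv_rhs => rw [hrep]; simp
    refine ⟨Multiset.replicate a 1, ?_, by simp⟩
    rw [hrep, Multiset.replicate_le_replicate]
    omega
  push Not at hone
  obtain ⟨b, hb, hb1⟩ := hone
  obtain ⟨N, hNp, hT⟩ := exists_nilpotent_of_type (F := F) n p μ (fun c hc => (hμ c hc).2) hsum
  set M : Matrix (Fin n) (Fin n) F := LinearMap.toMatrix' (1 + N) with hM
  have hlin : Matrix.toLin' M = 1 + N := Matrix.toLin'_toMatrix' _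
  have hXp : (1 + N : Module.End F (Fin n → F)) ^ p = 1 := by
    haveI : Nonempty (Fin n) := ⟨⟨0, by omega⟩⟩
    haveI : CharP (Module.End F (Fin n → F)) p :=
      charP_of_injective_algebraMap (algebraMap F (Module.End F (Fin n → F))).injective p
    rw [add_pow_char_of_commute (p := p) (Commute.one_left N), one_pow, hNp, add_zero]
  have hMp : M ^ p = 1 := by
    have h := map_pow (LinearMap.toMatrixAlgEquiv' (R := F) (n := Fin n)) (1 + N) p
    rw [hXp, map_one] at h
    exact h.symm
  have hdet : M.det = 1 := by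
    have h1 : M.det ^ p = 1 := by rw [← Matrix.det_pow, hMp, Matrix.det_one]
    have h2 : (M.det - 1) ^ p = 0 := by rw [sub_pow_char, one_pow, h1, sub_self]
    exact sub_eq_zero.mp (eq_zero_of_pow_eq_zero h2)
  have hNne : N ≠ 0 := by
    intro h0
    have h := hT 1
    rw [rankDim, h0, pow_one, Submodule.map_zero, finrank_bot] at h
    have hle : b - 1 ≤ (μ.map (· - 1)).sum := Multiset.le_sum_of_mem (Multiset.mem_map_of_mem (fun x => x - 1) hb)
    have := (hμ b hb).1
    omega
  obtain ⟨D, hD, σ, hσ⟩ := h ⟨M, hdet⟩ ⟨1, by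
      rw [one_smul]; exact hMp⟩ (by
    intro c hc
    have hc' : (1 + N : Module.End F (Fin n → F)) = c • 1 := by
      rw [← hlin, show M = c • (1 : Matrix (Fin n) (Fin n) F) from hc, map_smul, Matrix.toLin'_one]
      rfl
    have hN : N = (c - 1) • (1 : Module.End F (Fin n → F)) := by
      have e2 : (c - 1) • (1 : Module.End F (Fin n → F)) = c • 1 - 1 := by module
      rw [e2, ← hc']; abel
    apply hNne
    rw [hN] at hNp
    rw [smul_pow, one_pow, smul_eq_zero] at hNp
    haveI : Nonempty (Fin n) := ⟨⟨0, by omega⟩⟩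
    rw [hN, eq_zero_of_pow_eq_zero (hNp.resolve_right one_ne_zero), zero_smul])
  have hσ' : ∀ j, (D j).map (1 + N) = D (σ j) := fun j => by rw [← hlin]; exact hσ j
  have hiter : ∀ (k : ℕ) (j : Fin t), (D j).map ((1 + N : Module.End F (Fin n → F)) ^ k) = D ((⇑σ)^[k] j) := by
    intro k
    induction k with
    | zero => intro j; rw [pow_zero]; exact Submodule.map_id _
    | succ k ih =>
      intro j
      rw [pow_succ', Module.End.mul_eq_comp, Submodule.map_comp, ih, hσ', Function.iterate_succ_apply']
  have hDinj : Function.Injective D := by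
    intro i j hij
    by_contra hne
    have h1 : Disjoint (D i) (D j) :=
      (hD.indep i).mono le_rfl (le_iSup₂_of_le (f := fun k (_ : k ≠ i) => D k) j (fun hh => hne hh.symm) le_rfl)
    rw [hij, disjoint_self] at h1
    have := hD.finrank_eq j
    rw [h1, finrank_bot] at this
    omega
  have hfix : ∀ j, σ j = j := by
    intro j
    by_contra hj
    have hper : Function.IsPeriodicPt (⇑σ) p j := by
      show (⇑σ)^[p] j = j
      apply hDinj
      rw [← hiter, hXp]
      exact Submodule.map_id _
    have hmin : Function.minimalPeriod (⇑σ) j = p := Function.minimalPeriod_eq_prime hper hj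
    have hinjD : ∀ v ∈ D j, (N ^ (p - 1)) v = 0 → v = 0 := by
      intro v hv hv0
      rw [show N = (1 + N : Module.End F (Fin n → F)) - 1 by abel,
        ← geom_sum_eq_sub_one_pow (F := F), LinearMap.sum_apply,
        ← Finset.sum_erase_add _ _ (Finset.mem_range.mpr (Fact.out : p.Prime).pos), pow_zero,
        Module.End.one_apply] at hv0
      have hmem : v ∈ ⨆ (i) (_ : i ≠ j), D i := by
        rw [eq_neg_of_add_eq_zero_right hv0]
        refine neg_mem (Submodule.sum_mem _ fun i hi => ?_)
        simp only [Finset.mem_erase, Finset.mem_range] at hi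
        have hne : (⇑σ)^[i] j ≠ j := by
          intro hh
          have hle := Function.IsPeriodicPt.minimalPeriod_le (by omega) (show Function.IsPeriodicPt (⇑σ) i j from hh)
          omega
        refine Submodule.mem_iSup_of_mem ((⇑σ)^[i] j) (Submodule.mem_iSup_of_mem hne ?_)
        rw [← hiter]
        exact ⟨v, hv, rfl⟩
      exact Submodule.disjoint_def.mp (hD.indep j) v hv hmem
    have hdim : Module.finrank F ↥((D j).map (N ^ (p - 1))) = a := by
      have h1 := finrank_map_add (N ^ (p - 1)) (D j)
      have h0 : LinearMap.ker (N ^ (p - 1)) ⊓ D j = ⊥ :=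
        (Submodule.eq_bot_iff _).mpr fun v hv => hinjD v hv.2 hv.1
      rw [h0, finrank_bot, add_zero, hD.finrank_eq] at h1
      exact h1
    have hle : a ≤ rankDim N ⊤ (p - 1) := hdim.symm.le.trans (Submodule.finrank_mono (Submodule.map_mono le_top))
    rw [hT] at hle
    have hc : (μ.map (· - (p - 1))).sum = μ.count p := by
      clear hle hcount hsum hT hb
      induction μ using Multiset.induction with
      | empty => simp
      | cons c μ ih =>
        have hc1 := hμ c (Multiset.mem_cons_self _ _)
        rw [Multiset.map_cons, Multiset.sum_cons, Multiset.count_cons,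
          ih (fun d hd => hμ d (Multiset.mem_cons_of_mem hd))]
        split_ifs <;> omega
    omega
  have hinv : ∀ j, (D j).map N ≤ D j := by
    rintro j _ ⟨v, hv, rfl⟩
    have h1 : (1 + N : Module.End F (Fin n → F)) v ∈ D (σ j) := hσ' j ▸ ⟨v, hv, rfl⟩
    rw [hfix j, LinearMap.add_apply, Module.End.one_apply] at h1
    simpa using sub_mem h1 hv
  let j₀ : Fin t := ⟨0, by omega⟩
  refine ⟨jordanType N (D j₀) p, (count_summand_le hD.indep hD.iSup_eq_top hinv j₀ p).trans (hT.jordanType_le p), ?_⟩
  rw [sum_jordanType_eq (hinv j₀) (by rw [hNp, Submodule.map_zero]), hD.finrank_eq]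

end Cfsg.Agent.S5959
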