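import Cfsg.Statements.S5961
import Cfsg.Agent.Lib.Elusive.SympDecompositionOrbit

set_option autoImplicit false
open scoped MatrixGroups
open Cfsg

namespace Cfsg.Agent.S5961

section

open Module Cfsg.Agent.Elusive Cfsg.Agent.Elusive.SympDecomp
open Forms (sympB sympB_apply sympB_isAlt)

variable {F : Type*} [Field F] [Fintype F] {d r a t : ℕ} [Fact r.Prime]

/-- The value of `x ^ r` is `±1` and `±x` has order dividing `r`. -/
theorem normalise (hd : 0 < d) (hr2 : r ≠ 2) (x : Matrix.symplecticGroup (Fin d) F) {z : F}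
    (hz : ((x ^ r : Matrix.symplecticGroup (Fin d) F) : Matrix (Fin d ⊕ Fin d) (Fin d ⊕ Fin d) F) =
      z • (1 : Matrix (Fin d ⊕ Fin d) (Fin d ⊕ Fin d) F)) :
    z * z = 1 ∧ (z • spEnd x) ^ r = 1 ∧
      ∀ u v, sympB d F ((z • spEnd x) u) ((z • spEnd x) v) = sympB d F u v := by
  have h1 : z * z = 1 := GL.symp_scalar_sq (n := d) hd fun u v => by
    rw [← hz]
    exact Forms.mem_symplecticGroup_iff_form.1 (x ^ r).2 u v
  refine ⟨h1, ?_, fun u v => ?_⟩
  · have hx : spEnd x ^ r = z • (1 : End F (Fin d ⊕ Fin d → F)) := by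
      rw [← map_pow]
      show Matrix.toLin' ((x ^ r : Matrix.symplecticGroup (Fin d) F) : Matrix (Fin d ⊕ Fin d) (Fin d ⊕ Fin d) F) = _
      rw [hz, map_smul, Matrix.toLin'_one]
      rfl
    obtain ⟨k, hk⟩ := ((Fact.out : r.Prime).odd_of_ne_two hr2)
    have hzr : z ^ r * z = 1 := by
      rw [← pow_succ, show r + 1 = 2 * (k + 1) by omega, pow_mul, sq, h1, one_pow]
    rw [_root_.smul_pow, hx, smul_smul, hzr, one_smul]
  · rw [LinearMap.smul_apply, LinearMap.smul_apply, map_smul, map_smul, LinearMap.smul_apply, smul_smul, h1,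
      one_smul, spEnd_isom]

/-- Sufficiency. -/
theorem sufficient (hr : (r : F) ≠ 0) (hr2 : r ≠ 2) (hi : 0 < orderOf (Fintype.card F : ZMod r))
    (hat : 2 * d = a * t) (ha : 2 ≤ a) (hae : Even a) (ht : 2 ≤ t)
    (hcrit : (2 * d) % blockDim (Fintype.card F) r = t * (a % blockDim (Fintype.card F) r))
    (x : Matrix.symplecticGroup (Fin d) F)
    (hx1 : ∃ z : F, ((x ^ r : Matrix.symplecticGroup (Fin d) F) : Matrix (Fin d ⊕ Fin d) (Fin d ⊕ Fin d) F) =
      z • (1 : Matrix (Fin d ⊕ Fin d) (Fin d ⊕ Fin d) F)) :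
    ∃ D : Fin t → Submodule F (Fin d ⊕ Fin d → F), IsOrth a D ∧
      ∃ σ : Equiv.Perm (Fin t), ∀ j, (D j).map (spEnd x) = D (σ j) := by
  have hd : 0 < d := by
    have := Nat.mul_le_mul ha ht
    omega
  obtain ⟨z, hz⟩ := hx1
  obtain ⟨hzz, hpow, hf⟩ := normalise hd hr2 x hz
  have hz0 : z ≠ 0 := fun h => by simp [h] at hzz
  obtain ⟨b, hb⟩ := dim_symp (sympB_isAlt d) hf hr hpow (S := ⊤) (fun _ _ => trivial) nd_top
  have hfix : t * (a % blockDim (Fintype.card F) r) ≤
      finrank F ↥(LinearMap.ker (z • spEnd x - 1) ⊓ (⊤ : Submodule F (Fin d ⊕ Fin d → F))) := by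
    rw [← hcrit, ← finrank_top_eq (F := F) (d := d), hb, Nat.add_mul_mod_self_right]
    exact Nat.mod_le _ _
  obtain ⟨D, hD, horth, hsup⟩ := exists_family (sympB_isAlt d) hf hr hpow hr2 hi hae t ⊤ (fun _ _ => trivial)
    nd_top (by rw [finrank_top_eq, hat, mul_comm]) hfix
  refine ⟨D, ⟨⟨ht, by omega, fun l => (hD l).2.2.2, indep_of_orth (fun l => (hD l).2.2.1) horth, hsup⟩,
    fun j u hu h0 => by simpa only [sympB_apply] using (hD j).2.2.1 u hu h0,
    fun j j' hjj u hu v hv => by simpa only [sympB_apply] using horth j j' hjj u hu v hv⟩, 1, fun j => ?_⟩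
  refine Submodule.eq_of_le_of_finrank_eq ?_
    (Submodule.equivMapOfInjective _ (spEnd_injective x) (D j)).finrank_eq.symm
  rintro _ ⟨v, hv, rfl⟩
  have h := Submodule.smul_mem (D j) z⁻¹ ((hD j).2.1 v hv)
  rwa [LinearMap.smul_apply, inv_smul_smul₀ hz0] at h

/-- Necessity. -/
theorem necessary (hr : (r : F) ≠ 0) (hr2 : r ≠ 2) (hi : 0 < orderOf (Fintype.card F : ZMod r))
    (hq0 : (Fintype.card F : ZMod r) ≠ 0) (hat : 2 * d = a * t) (ha : 2 ≤ a)
    (hcd : blockDim (Fintype.card F) r ≤ 2 * d)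
    (hall : ∀ x : Matrix.symplecticGroup (Fin d) F,
      (∃ z : F, ((x ^ r : Matrix.symplecticGroup (Fin d) F) : Matrix (Fin d ⊕ Fin d) (Fin d ⊕ Fin d) F) =
        z • (1 : Matrix (Fin d ⊕ Fin d) (Fin d ⊕ Fin d) F)) →
      (∀ z : F, (x : Matrix (Fin d ⊕ Fin d) (Fin d ⊕ Fin d) F) ≠ z • (1 : Matrix (Fin d ⊕ Fin d) (Fin d ⊕ Fin d) F)) →
      ∃ D : Fin t → Submodule F (Fin d ⊕ Fin d → F), IsOrth a D ∧
        ∃ σ : Equiv.Perm (Fin t), ∀ j, (D j).map (spEnd x) = D (σ j)) :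
    blockDim (Fintype.card F) r ≤ a ∧
      (2 * d) % blockDim (Fintype.card F) r = t * (a % blockDim (Fintype.card F) r) := by
  set c := blockDim (Fintype.card F) r with hc
  have hr' := (Fact.out : r.Prime)
  obtain ⟨e, he⟩ := even_blockDim (Fintype.card F) r
  rw [← hc] at he
  have hc0 : 0 < c := Nat.pos_of_ne_zero fun h => by
    have := order_dvd_blockDim (Fintype.card F) r
    unfold blockDim at hc
    split at hc <;> omega
  have hcr : c ≤ r - 1 := Nat.le_of_dvd (by have := hr'.two_le; omega)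
    (blockDim_dvd (ZMod.orderOf_dvd_card_sub_one hq0) (Nat.Prime.even_sub_one hr' hr2))
  have hD : ∀ x : Matrix.symplecticGroup (Fin d) F, x ^ r = 1 →
      finrank F (LinearMap.ker (spEnd x - 1)) < 2 * d →
      ∃ (D : Fin t → Submodule F (Fin d ⊕ Fin d → F)) (σ : Equiv.Perm (Fin t)), IsOrth a D ∧
        ∀ j, (D j).map (spEnd x) = D (σ j) := fun x hpow hlt => by
    obtain ⟨D, hD, σ, hσ⟩ := hall x ⟨1, by rw [hpow, one_smul]; rfl⟩ fun z hz => by
      have hzz : z * z = 1 := GL.symp_scalar_sq (n := d) (by omega) fun u v => by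
        rw [← hz]; exact Forms.mem_symplecticGroup_iff_form.1 x.2 u v
      have hxr : ((x ^ r : Matrix.symplecticGroup (Fin d) F) : Matrix (Fin d ⊕ Fin d) (Fin d ⊕ Fin d) F) = 1 := by
        rw [hpow]; rfl
      rw [SubmonoidClass.coe_pow, hz, _root_.smul_pow, one_pow] at hxr
      obtain ⟨k, hk⟩ := hr'.odd_of_ne_two hr2
      have hzr : z = 1 := by
        have h1 := congrFun (congrFun hxr (Sum.inl ⟨0, by omega⟩)) (Sum.inl ⟨0, by omega⟩)
        rw [Matrix.smul_apply, Matrix.one_apply_eq, smul_eq_mul, mul_one, hk, pow_succ, pow_mul, sq, hzz,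
          one_pow, one_mul] at h1
        exact h1
      have hx : spEnd x = 1 := by
        show Matrix.toLin' (x : Matrix (Fin d ⊕ Fin d) (Fin d ⊕ Fin d) F) = 1
        rw [hz, hzr, one_smul, Matrix.toLin'_one]
        rfl
      rw [hx, sub_self, LinearMap.ker_zero, finrank_top_eq] at hlt
      omega
    exact ⟨D, σ, hD, hσ⟩
  obtain ⟨x1, hx1, hfix1⟩ := exists_witness (d := d) hr he (by omega) (M := 1) (by omega)
  have hMd : e * (d / e) ≤ d := Nat.mul_div_le d e
  obtain ⟨x2, hx2, hfix2⟩ := exists_witness (d := d) hr he (by omega) hMd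
  have hmodlt := Nat.mod_lt d (show e > 0 by omega)
  have hmd := Nat.mod_add_div d e
  have hfix2' : finrank F (LinearMap.ker (spEnd x2 - 1)) = (2 * d) % c := by
    rw [hfix2, he, ← two_mul, Nat.mul_mod_mul_left]
    omega
  obtain ⟨D1, σ1, hD1, hσ1⟩ := hD x1 hx1 (by omega)
  obtain ⟨D2, σ2, hD2, hσ2⟩ := hD x2 hx2 (by omega)
  have hp1 : spEnd x1 ^ r = 1 := by rw [← map_pow, hx1, map_one]
  have hp2 : spEnd x2 ^ r = 1 := by rw [← map_pow, hx2, map_one]
  have hmv1 : ∀ l, σ1 l = l := fun l => by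
    by_contra hl
    obtain ⟨-, hb⟩ := Decomp.moved_bounds hD1.1.indep hD1.1.finrank_eq hD1.1.pos σ1 hσ1 hr' hp1 hl
    have h := LinearMap.finrank_range_add_finrank_ker (spEnd x1 - 1)
    rw [hfix1, Module.finrank_fintype_fun_eq_card, Fintype.card_sum, Fintype.card_fin] at h
    have h3 : (r - 1) * 2 ≤ (r - 1) * a := Nat.mul_le_mul_left _ ha
    have := hr'.two_le
    omega
  have hca : c ≤ a := by
    refine (invariant_bounds (sympB_isAlt d) (spEnd_isom x1) hr hp1 hD1.1.indep hD1.1.finrank_eq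
      (nd_of_isOrth hD1) (fun l => inv_iff_map.2 (by rw [hσ1, hmv1])) hD1.1.iSup_eq_top).2 fun h => ?_
    rw [h, sub_self, LinearMap.ker_zero, finrank_top_eq] at hfix1
    omega
  have hmv2 : ∀ l, σ2 l = l := fun l => by
    by_contra hl
    have hb := (Decomp.moved_bounds hD2.1.indep hD2.1.finrank_eq hD2.1.pos σ2 hσ2 hr' hp2 hl).1
    rw [hfix2'] at hb
    have := Nat.mod_lt (2 * d) hc0
    omega
  refine ⟨hca, ?_⟩
  have hle := (invariant_bounds (sympB_isAlt d) (spEnd_isom x2) hr hp2 hD2.1.indep hD2.1.finrank_eq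
      (nd_of_isOrth hD2) (fun l => inv_iff_map.2 (by rw [hσ2, hmv2])) hD2.1.iSup_eq_top).1
  rw [hfix2', ← hc] at hle
  have hmod : (2 * d) % c = (t * (a % c)) % c := by rw [hat, mul_comm a t, Nat.mul_mod_mod]
  rw [hmod, Nat.mod_eq_of_lt (by
    have := Nat.mod_lt (2 * d) hc0
    omega)]

end

/-- Elements of odd prime order of PSp_n(q) and imprimitive subgroups. Here `T = PSp_n(q)`, `n = 2d ≥ 4`, `(n, q) ≠ (4, 2)`, realised through the symplectic matrices over the field `F` with `q` elements and the standard alternating form; `n = a·t` with `a` even and `t ≥ 2`, and Ω is the (nonempty) set of orthogonal decompositions of `F^n` into `t` nondegenerate subspaces of dimension `a` (unordered; counted as ordered ones divided by `t!`), whose stabilizers are the imprimitive subgroups of type Sp_a(q) ≀ S_t (maximality is not assumed); an element of `T` of prime order `r` (a symplectic matrix `x` with `x^r` scalar, `x` not scalar) fixes a point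 of Ω when it permutes the summands of some such decomposition. Let `r ≠ p` be an odd prime dividing the number of such decompositions, let `i` be the multiplicative order of `q` modulo `r`, `c = i` if `i` is even and `c = 2i` if `i` is odd, and write `k = n mod c`, `ℓ = a mod c`. Then every element of `T` of order `r` stabilizes such a decomposition if and only if `c ≤ a` and `k = t·ℓ`. -/
theorem result {F : Type*} [Field F] [Fintype F] {p : ℕ} [Fact p.Prime] [CharP F p] {q : ℕ} (hq : Fintype.card F = q)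
    (d : ℕ) (hd : 2 ≤ d) (hT : (d, q) ≠ (2, 2))
    (a t : ℕ) (hat : 2 * d = a * t) (ha : 2 ≤ a) (hae : Even a) (ht : 2 ≤ t)
    (r : ℕ) [Fact r.Prime] (hr2 : r ≠ 2) (hrp : r ≠ p) (hΩ : r ∣ Nat.card {D : Fin t → Submodule F (Fin d ⊕ Fin d → F) // (Cfsg.Geo.IsMDecomposition a D ∧ (∀ j, ∀ u ∈ D j, u ≠ 0 → ∃ v ∈ D j, Cfsg.sympForm d F u v ≠ 0) ∧
          (∀ j j', j ≠ j' → ∀ u ∈ D j, ∀ v ∈ D j', Cfsg.sympForm d F u v = 0))} / Nat.factorial t)
    (i c : ℕ) (hi : i = orderOf (q : ZMod r)) (hc : c = if Even i then i else 2 * i) :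
    (∀ x : ↥(Matrix.symplecticGroup (Fin d) F),
      (∃ z : F, ((x ^ r : ↥(Matrix.symplecticGroup (Fin d) F)) : Matrix (Fin d ⊕ Fin d) (Fin d ⊕ Fin d) F) = z • (1 : Matrix (Fin d ⊕ Fin d) (Fin d ⊕ Fin d) F)) →
      (∀ z : F, (x : Matrix (Fin d ⊕ Fin d) (Fin d ⊕ Fin d) F) ≠ z • (1 : Matrix (Fin d ⊕ Fin d) (Fin d ⊕ Fin d) F)) →
      ∃ D : Fin t → Submodule F (Fin d ⊕ Fin d → F), (Cfsg.Geo.IsMDecomposition a D ∧ (∀ j, ∀ u ∈ D j, u ≠ 0 → ∃ v ∈ D j, Cfsg.sympForm d F u v ≠ 0) ∧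
          (∀ j j', j ≠ j' → ∀ u ∈ D j, ∀ v ∈ D j', Cfsg.sympForm d F u v = 0)) ∧
        ∃ σ : Equiv.Perm (Fin t), ∀ j, (D j).map (Matrix.toLin' (x : Matrix (Fin d ⊕ Fin d) (Fin d ⊕ Fin d) F)) = D (σ j)) ↔
    (c ≤ a ∧ (2 * d) % c = t * (a % c)) := by
  subst hq
  classical
  have hr' := (Fact.out : r.Prime)
  have hp := (Fact.out : p.Prime)
  have hr : (r : F) ≠ 0 := fun h => by
    rw [CharP.cast_eq_zero_iff F p] at h
    exact hrp ((Nat.prime_dvd_prime_iff_eq hp hr').1 h).symm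
  have hq0 : (Fintype.card F : ZMod r) ≠ 0 := fun h => by
    rw [ZMod.natCast_eq_zero_iff] at h
    obtain ⟨n, -, hn⟩ := FiniteField.card F p
    rw [hn] at h
    exact hrp ((Nat.prime_dvd_prime_iff_eq hr' hp).1 (hr'.dvd_of_dvd_pow h))
  have hi0 : 0 < orderOf (Fintype.card F : ZMod r) :=
    (isOfFinOrder_iff_pow_eq_one.2 ⟨r - 1, by have := hr'.two_le; omega, ZMod.pow_card_sub_one_eq_one hq0⟩).orderOf_pos
  obtain rfl : c = Elusive.SympDecomp.blockDim (Fintype.card F) r := by rw [hc, hi]; rfl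
  refine ⟨fun h => ?_, fun h x hx1 _ => sufficient hr hr2 hi0 hat ha hae ht h.2 x hx1⟩
  obtain ⟨x, b, -, hb, hdim⟩ := Elusive.SympDecomp.exists_of_dvd_card hr
    (Elusive.SympDecomp.dvd_card_sp (F := F) hr hr2 hi0 hat (by omega) hae ht hΩ)
  have hcd : Elusive.SympDecomp.blockDim (Fintype.card F) r ≤ 2 * d := by
    have := Nat.le_mul_of_pos_left (Elusive.SympDecomp.blockDim (Fintype.card F) r) hb
    omega
  exact necessary hr hr2 hi0 hq0 hat ha hcd h

end Cfsg.Agent.S5961
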