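import Cfsg.Statements.S5962
import Cfsg.Agent.Lib.Forms.InvolutionLagrangian

set_option autoImplicit false
open scoped MatrixGroups
open Cfsg

namespace Cfsg.Agent.S5962

/-- Involutions of PSp_n(q), q odd, and the subgroups GL_{n/2}(q).2. Here `T = PSp_n(q)`, `n = 2d ≥ 4`, `q` odd, realised through the symplectic matrices over the field `F` with `q` elements; Ω is the set of unordered pairs `{U, W}` of complementary totally isotropic `d`-spaces (`F^n = U ⊕ W`), whose stabilizers are the subgroups of type GL_d(q).2 (maximal except in some small cases; maximality is not assumed); an element of `T` of prime order `r` (a symplectic matrix `x` with `x^r` scalar, `x` not scalar) fixes such a pair when it fixes or interchanges `U` and `W`. If the number of such pairs is even, every involution of `T` fixes one of them (the action is 2-elusive). -/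
theorem result {F : Type*} [Field F] [Fintype F] {p : ℕ} [Fact p.Prime] [CharP F p] {q : ℕ} (hq : Fintype.card F = q)
    (d : ℕ) (hd : 2 ≤ d) (hT : (d, q) ≠ (2, 2)) (hodd : Odd q)
    (hΩ : 2 ∣ Nat.card {P : Submodule F (Fin d ⊕ Fin d → F) × Submodule F (Fin d ⊕ Fin d → F) // IsCompl P.1 P.2 ∧ (∀ u ∈ P.1, ∀ v ∈ P.1, Cfsg.sympForm d F u v = 0) ∧ (∀ u ∈ P.2, ∀ v ∈ P.2, Cfsg.sympForm d F u v = 0)} / 2)
    (x : ↥(Matrix.symplecticGroup (Fin d) F))
    (hx1 : ∃ z : F, ((x ^ 2 : ↥(Matrix.symplecticGroup (Fin d) F)) : Matrix (Fin d ⊕ Fin d) (Fin d ⊕ Fin d) F) = z • (1 : Matrix (Fin d ⊕ Fin d) (Fin d ⊕ Fin d) F))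
    (hx2 : ∀ z : F, (x : Matrix (Fin d ⊕ Fin d) (Fin d ⊕ Fin d) F) ≠ z • (1 : Matrix (Fin d ⊕ Fin d) (Fin d ⊕ Fin d) F)) :
    ∃ U W : Submodule F (Fin d ⊕ Fin d → F), IsCompl U W ∧ (∀ u ∈ U, ∀ v ∈ U, Cfsg.sympForm d F u v = 0) ∧ (∀ u ∈ W, ∀ v ∈ W, Cfsg.sympForm d F u v = 0) ∧
        ((U.map (Matrix.toLin' (x : Matrix (Fin d ⊕ Fin d) (Fin d ⊕ Fin d) F)) = U ∧ W.map (Matrix.toLin' (x : Matrix (Fin d ⊕ Fin d) (Fin d ⊕ Fin d) F)) = W) ∨
         (U.map (Matrix.toLin' (x : Matrix (Fin d ⊕ Fin d) (Fin d ⊕ Fin d) F)) = W ∧ W.map (Matrix.toLin' (x : Matrix (Fin d ⊕ Fin d) (Fin d ⊕ Fin d) F)) = U)) := by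
  classical
  set M : Matrix (Fin d ⊕ Fin d) (Fin d ⊕ Fin d) F :=
    (x : Matrix (Fin d ⊕ Fin d) (Fin d ⊕ Fin d) F) with hM
  let B : LinearMap.BilinForm F (Fin d ⊕ Fin d → F) := Matrix.toBilin' (Matrix.J (Fin d) F)
  have hBapp : ∀ u v, B u v = Cfsg.sympForm d F u v := fun u v => Matrix.toBilin'_apply' _ u v
  have hB : B.IsAlt := by
    intro u
    rw [hBapp, Cfsg.sympForm, Matrix.J, Matrix.fromBlocks_mulVec]
    simp [dotProduct, Fintype.sum_sum_type, Matrix.neg_mulVec]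
    rw [neg_add_eq_zero]
    exact Finset.sum_congr rfl fun i _ => mul_comm _ _
  have hn : B.Nondegenerate :=
    LinearMap.BilinForm.nondegenerate_toBilin'_iff_det_ne_zero.mpr (Matrix.isUnit_det_J _ _).ne_zero
  have hxiso : ∀ u v, B (Matrix.toLin' M u) (Matrix.toLin' M v) = B u v := by
    intro u v
    have h : M.transpose * Matrix.J (Fin d) F * M = Matrix.J (Fin d) F := SymplecticGroup.mem_iff'.mp x.2
    calc B (Matrix.toLin' M u) (Matrix.toLin' M v)
        = (Matrix.toBilin' (Matrix.J (Fin d) F)).comp (Matrix.toLin' M) (Matrix.toLin' M) u v := rfl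
      _ = B u v := by rw [Matrix.toBilin'_comp, h]
  have h2 : (2 : F) ≠ 0 := by
    refine Ring.two_ne_zero ?_
    intro hc
    have : CharP F 2 := ringChar.of_eq hc
    have h1 : 2 ∣ Fintype.card F := by
      obtain ⟨n, -, hn⟩ := FiniteField.card F 2
      rw [hn]; exact dvd_pow_self 2 n.pos.ne'
    rw [hq] at h1
    exact (Nat.not_even_iff_odd.mpr hodd) (even_iff_two_dvd.mpr h1)
  obtain ⟨z, hz⟩ := hx1
  have hsq : ∀ v, Matrix.toLin' M (Matrix.toLin' M v) = z • v := by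
    intro v
    have hMM : M * M = z • (1 : Matrix (Fin d ⊕ Fin d) (Fin d ⊕ Fin d) F) := by
      rw [← hz, sq]; rfl
    rw [← LinearMap.comp_apply, ← Matrix.toLin'_mul, hMM]
    simp [Matrix.toLin'_apply, Matrix.smul_mulVec]
  have hz1 : z = 1 ∨ z = -1 := by
    haveI : Nonempty (Fin d ⊕ Fin d) := ⟨Sum.inl ⟨0, by omega⟩⟩
    obtain ⟨u, hu⟩ := exists_ne (0 : Fin d ⊕ Fin d → F)
    obtain ⟨v, hv⟩ : ∃ v, B u v ≠ 0 := by
      by_contra hall; push Not at hall; exact hu (hn.1 u hall)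
    have h := hxiso (Matrix.toLin' M u) (Matrix.toLin' M v)
    rw [hsq, hsq, hxiso] at h
    simp only [map_smul, LinearMap.smul_apply, smul_eq_mul, ← mul_assoc] at h
    exact mul_self_eq_one_iff.mp ((mul_left_eq_self₀.mp h).resolve_right hv)
  rcases hz1 with rfl | rfl
  · obtain ⟨U, W, hc, hp', hU, hW⟩ := Forms.InvolutionLagrangian.exists_fixed_pair hB hn h2
      (Matrix.toLin' M) hxiso (fun v => by rw [hsq, one_smul])
    exact ⟨U, W, hc, fun u hu v hv => hBapp u v ▸ hp'.isoU u hu v hv,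
      fun u hu v hv => hBapp u v ▸ hp'.isoW u hu v hv, Or.inl ⟨hU, hW⟩⟩
  · obtain ⟨U, W, hc, hp', hU, hW⟩ := Forms.InvolutionLagrangian.exists_swapped_pair hB hn h2
      (Matrix.toLin' M) hxiso (fun v => by rw [hsq, neg_one_smul])
    exact ⟨U, W, hc, fun u hu v hv => hBapp u v ▸ hp'.isoU u hu v hv,
      fun u hu v hv => hBapp u v ▸ hp'.isoW u hu v hv, Or.inr ⟨hU, hW⟩⟩

end Cfsg.Agent.S5962
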