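import Cfsg.Statements.S5963
import Cfsg.Agent.Lib.Forms.Symp
import Cfsg.Agent.Lib.GL.SympOrders

set_option autoImplicit false
set_option linter.unusedSectionVars false
open scoped MatrixGroups Matrix
open Cfsg

namespace Cfsg.Agent.S5963

variable {F : Type*} [Field F] {d : ℕ}

local notation "Vd" => (Fin d ⊕ Fin d → F)
local notation "Md" => Matrix (Fin d ⊕ Fin d) (Fin d ⊕ Fin d) F

/-- A polarisation. -/
def Polar (P : Submodule F Vd × Submodule F Vd) : Prop :=
  IsCompl P.1 P.2 ∧ (∀ u ∈ P.1, ∀ v ∈ P.1, Cfsg.sympForm d F u v = 0) ∧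
    (∀ u ∈ P.2, ∀ v ∈ P.2, Cfsg.sympForm d F u v = 0)

/-- The standard `inl` half. -/
def stdL : Submodule F Vd where
  carrier := {v | ∀ i, v (Sum.inr i) = 0}
  add_mem' := fun ha hb i => by simp [ha i, hb i]
  zero_mem' := fun i => rfl
  smul_mem' := fun c a ha i => by simp [ha i]

/-- The standard `inr` half. -/
def stdR : Submodule F Vd where
  carrier := {v | ∀ i, v (Sum.inl i) = 0}
  add_mem' := fun ha hb i => by simp [ha i, hb i]
  zero_mem' := fun i => rfl
  smul_mem' := fun c a ha i => by simp [ha i]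

theorem polar_std : Polar ((stdL, stdR) : Submodule F Vd × Submodule F Vd) := by
  refine ⟨IsCompl.of_eq ?_ ?_, ?_, ?_⟩
  · rw [Submodule.eq_bot_iff]
    rintro v ⟨h1, h2⟩
    funext i; rcases i with i | i
    · exact h2 i
    · exact h1 i
  · rw [eq_top_iff]
    intro v _
    rw [Submodule.mem_sup]
    exact ⟨Sum.elim (fun i => v (Sum.inl i)) 0, fun i => rfl, Sum.elim 0 (fun i => v (Sum.inr i)),
      fun i => rfl, by funext i; rcases i with i | i <;> simp⟩
  · intro u hu v hv
    rw [Forms.sympForm_eq_sum]; exact Finset.sum_eq_zero fun i _ => by simp [hu i, hv i]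
  · intro u hu v hv
    rw [Forms.sympForm_eq_sum]; exact Finset.sum_eq_zero fun i _ => by simp [hu i, hv i]

theorem sympForm_skew (u v : Vd) : Cfsg.sympForm d F u v = -Cfsg.sympForm d F v u := by
  rw [Forms.sympForm_eq_sum, Forms.sympForm_eq_sum, ← Finset.sum_neg_distrib]
  exact Finset.sum_congr rfl fun i _ => by ring

/-- The symplectic group is transitive on polarisations. -/
theorem exists_map_polar {P : Submodule F Vd × Submodule F Vd} (hP : Polar P) :
    ∃ A : Matrix.symplecticGroup (Fin d) F, stdL.map (Matrix.toLin' (A : Md)) = P.1 ∧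
      stdR.map (Matrix.toLin' (A : Md)) = P.2 := by
  obtain ⟨⟨U, W⟩, rfl⟩ : ∃ Q, Q = P := ⟨P, rfl⟩
  obtain ⟨hc, hU, hW⟩ := hP
  simp only at hc hU hW ⊢
  set B := Forms.sympB d F with hBdef
  have hB : ∀ u v, B u v = Cfsg.sympForm d F u v := Forms.sympB_apply
  let Ψ : ↥U →ₗ[F] Module.Dual F ↥W := (B.domRestrict₁₂ U W)
  let Ψ' : ↥W →ₗ[F] Module.Dual F ↥U := (B.domRestrict₁₂ W U)
  have hz : ∀ {S T : Submodule F Vd}, IsCompl S T → (∀ u ∈ S, ∀ v ∈ S, Cfsg.sympForm d F u v = 0) →
      Function.Injective (B.domRestrict₁₂ S T) := by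
    intro S T hST hS
    rw [injective_iff_map_eq_zero]
    intro u hu
    refine Subtype.ext ((Forms.sympB_nondegenerate d).1 u.1 fun x => ?_)
    obtain ⟨a, ha, b, hb, rfl⟩ := Submodule.mem_sup.1 (show x ∈ S ⊔ T by rw [hST.sup_eq_top]; trivial)
    have := LinearMap.congr_fun hu ⟨b, hb⟩
    simp only [LinearMap.domRestrict₁₂_apply, LinearMap.zero_apply] at this
    change B u.1 (a + b) = 0
    rw [map_add, hB u.1 a, hS _ u.2 _ ha, this, add_zero]
  have h1 : Module.finrank F U ≤ Module.finrank F W := by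
    have := LinearMap.finrank_le_finrank_of_injective (hz hc hU)
    rwa [Subspace.dual_finrank_eq] at this
  have h2 : Module.finrank F W ≤ Module.finrank F U := by
    have := LinearMap.finrank_le_finrank_of_injective (hz hc.symm hW)
    rwa [Subspace.dual_finrank_eq] at this
  have h3 := Submodule.finrank_add_eq_of_isCompl hc
  simp at h3
  have hWd : Module.finrank F W = d := by omega
  let e : ↥U ≃ₗ[F] Module.Dual F ↥W := LinearEquiv.ofBijective Ψ ⟨hz hc hU,
    (LinearMap.injective_iff_surjective_of_finrank_eq_finrank (by rw [Subspace.dual_finrank_eq]; omega)).1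
      (hz hc hU)⟩
  let f : Module.Basis (Fin d) F ↥W := Module.finBasisOfFinrankEq F W hWd
  let φ : (Fin d → F) →ₗ[F] Module.Dual F ↥W :=
    { toFun := fun a => ∑ i, a i • f.coord i
      map_add' := fun a b => by simp [add_smul, Finset.sum_add_distrib]
      map_smul' := fun c a => by simp [Finset.smul_sum, smul_smul] }
  let pl : Vd →ₗ[F] (Fin d → F) := LinearMap.funLeft F F Sum.inl
  let pr : Vd →ₗ[F] (Fin d → F) := LinearMap.funLeft F F Sum.inr
  let T : Vd →ₗ[F] Vd :=
    -(U.subtype ∘ₗ e.symm.toLinearMap ∘ₗ φ ∘ₗ pl) + W.subtype ∘ₗ f.equivFun.symm.toLinearMap ∘ₗ pr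
  have hT : ∀ x, T x = -((e.symm (φ (pl x)) : ↥U) : Vd) + ((f.equivFun.symm (pr x) : ↥W) : Vd) := fun x => rfl
  have key : ∀ a b, Cfsg.sympForm d F (((e.symm (φ a)) : ↥U) : Vd) ((f.equivFun.symm b : ↥W) : Vd) =
      ∑ i, a i * b i := by
    intro a b
    have h0 : e (e.symm (φ a)) (f.equivFun.symm b) = φ a (f.equivFun.symm b) := by rw [e.apply_symm_apply]
    rw [← hB]
    refine h0.trans ?_
    simp [φ, LinearMap.sum_apply, Module.Basis.equivFun_symm_apply, Finsupp.single_apply, mul_comm]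
  have hpres : ∀ x y, Cfsg.sympForm d F (T x) (T y) = Cfsg.sympForm d F x y := by
    intro x y
    rw [← hB, hT, hT]
    simp only [map_add, map_neg, LinearMap.add_apply, LinearMap.neg_apply, hB]
    rw [hU _ (e.symm _).2 _ (e.symm _).2, hW _ (f.equivFun.symm _).2 _ (f.equivFun.symm _).2, key,
      sympForm_skew ((f.equivFun.symm (pr x) : ↥W) : Vd), key, Forms.sympForm_eq_sum, Finset.sum_sub_distrib]
    simp only [pl, pr, LinearMap.funLeft_apply, mul_comm]
    ring
  have hmem : LinearMap.toMatrix' T ∈ Matrix.symplecticGroup (Fin d) F :=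
    Forms.mem_symplecticGroup_iff_form.2 fun u v => by
      rw [LinearMap.toMatrix'_mulVec, LinearMap.toMatrix'_mulVec, hpres]
  have hinj : Function.Injective T := by
    rw [injective_iff_map_eq_zero]
    intro x hx
    refine (Forms.sympB_nondegenerate d).1 x fun y => ?_
    rw [hB, ← hpres, hx, ← hB, map_zero]; rfl
  refine ⟨⟨_, hmem⟩, ?_, ?_⟩
  · show stdL.map (Matrix.toLin' (LinearMap.toMatrix' T)) = U
    rw [Matrix.toLin'_toMatrix']
    refine Submodule.eq_of_le_of_finrank_le ?_ ?_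
    · rintro _ ⟨x, hx, rfl⟩
      rw [hT, show pr x = 0 from funext hx, map_zero, ZeroMemClass.coe_zero, add_zero]
      exact U.neg_mem (e.symm _).2
    · rw [← (Submodule.equivMapOfInjective _ hinj _).finrank_eq]
      have : LinearMap.ker pr = stdL := by
        ext v; exact ⟨fun h i => congrFun h i, fun h => funext h⟩
      have h5 := LinearMap.finrank_range_add_finrank_ker pr
      rw [this, LinearMap.range_eq_top.2 (LinearMap.funLeft_surjective_of_injective _ _ _ Sum.inr_injective),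
        finrank_top] at h5
      simp at h5
      omega
  · show stdR.map (Matrix.toLin' (LinearMap.toMatrix' T)) = W
    rw [Matrix.toLin'_toMatrix']
    refine Submodule.eq_of_le_of_finrank_le ?_ ?_
    · rintro _ ⟨x, hx, rfl⟩
      rw [hT, show pl x = 0 from funext hx, map_zero, map_zero, ZeroMemClass.coe_zero, neg_zero, zero_add]
      exact (f.equivFun.symm _).2
    · rw [← (Submodule.equivMapOfInjective _ hinj _).finrank_eq]
      have : LinearMap.ker pl = stdR := by
        ext v; exact ⟨fun h i => congrFun h i, fun h => funext h⟩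
      have h5 := LinearMap.finrank_range_add_finrank_ker pl
      rw [this, LinearMap.range_eq_top.2 (LinearMap.funLeft_surjective_of_injective _ _ _ Sum.inl_injective),
        finrank_top] at h5
      simp at h5
      omega

/-- The Levi embedding. -/
def levi : GL (Fin d) F →* Matrix.symplecticGroup (Fin d) F where
  toFun P := ⟨Matrix.fromBlocks (P : Matrix _ _ F) 0 0 ((P⁻¹ : GL (Fin d) F) : Matrix _ _ F)ᵀ,
    SymplecticGroup.fromBlocks_mem_iff.2 (by
      refine ⟨by simp, by simp, ?_⟩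
      rw [← Matrix.transpose_mul, Units.inv_mul]; simp)⟩
  map_one' := by
    apply Subtype.ext
    simp [Matrix.fromBlocks_one]
  map_mul' P Q := by
    apply Subtype.ext
    simp [Matrix.fromBlocks_multiply, Matrix.transpose_mul, _root_.mul_inv_rev, Units.val_mul]

theorem levi_injective : Function.Injective (levi : GL (Fin d) F → _) := fun P Q h =>
  Units.ext (Matrix.fromBlocks_inj.1 (congrArg Subtype.val h)).1

theorem mem_levi_iff (A : Matrix.symplecticGroup (Fin d) F) :
    A ∈ (levi : GL (Fin d) F →* _).range ↔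
      stdL.map (Matrix.toLin' (A : Md)) ≤ stdL ∧ stdR.map (Matrix.toLin' (A : Md)) ≤ stdR := by
  constructor
  · rintro ⟨P, rfl⟩
    constructor
    · rintro _ ⟨x, hx, rfl⟩ i
      show ((Matrix.fromBlocks _ _ _ _ : Md) *ᵥ x) _ = 0
      rw [Matrix.fromBlocks_mulVec]
      simp [show x ∘ Sum.inr = 0 from funext hx]
    · rintro _ ⟨x, hx, rfl⟩ i
      show ((Matrix.fromBlocks _ _ _ _ : Md) *ᵥ x) _ = 0
      rw [Matrix.fromBlocks_mulVec]
      simp [show x ∘ Sum.inl = 0 from funext hx]
  · rintro ⟨hL, hR⟩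
    set M : Md := (A : Md) with hM
    have hC : M.toBlocks₂₁ = 0 := by
      ext i j
      have := hL ⟨Pi.single (Sum.inl j) 1, fun i => Pi.single_eq_of_ne Sum.inr_ne_inl _, rfl⟩ i
      simpa [Matrix.toLin'_apply, Matrix.toBlocks₂₁] using this
    have hBz : M.toBlocks₁₂ = 0 := by
      ext i j
      have := hR ⟨Pi.single (Sum.inr j) 1, fun i => Pi.single_eq_of_ne Sum.inl_ne_inr _, rfl⟩ i
      simpa [Matrix.toLin'_apply, Matrix.toBlocks₁₂] using this
    have hMb : M = Matrix.fromBlocks M.toBlocks₁₁ 0 0 M.toBlocks₂₂ := by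
      conv_lhs => rw [← Matrix.fromBlocks_toBlocks M, hC, hBz]
    have hmem : Matrix.fromBlocks M.toBlocks₁₁ 0 0 M.toBlocks₂₂ ∈ Matrix.symplecticGroup (Fin d) F := hMb ▸ A.2
    have h3 := (SymplecticGroup.fromBlocks_mem_iff.1 hmem).2.2
    rw [Matrix.transpose_zero, Matrix.zero_mul, sub_zero] at h3
    have h4 : M.toBlocks₂₂ᵀ * M.toBlocks₁₁ = 1 := by
      rw [← Matrix.transpose_transpose M.toBlocks₁₁, ← Matrix.transpose_mul, h3, Matrix.transpose_one]
    let P : GL (Fin d) F := ⟨M.toBlocks₁₁, M.toBlocks₂₂ᵀ, mul_eq_one_comm.1 h4, h4⟩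
    refine ⟨P, Subtype.ext ?_⟩
    show Matrix.fromBlocks M.toBlocks₁₁ 0 0 (M.toBlocks₂₂ᵀ)ᵀ = M
    rw [Matrix.transpose_transpose]; exact hMb.symm

variable [Fintype F]

/-- The number of polarisations times the order of `GL_d`. -/
theorem card_polar_mul :
    Nat.card {P : Submodule F Vd × Submodule F Vd // Polar P} * Nat.card (GL (Fin d) F) =
      Nat.card (Matrix.symplecticGroup (Fin d) F) := by
  classical
  let K := (levi : GL (Fin d) F →* Matrix.symplecticGroup (Fin d) F).range
  have hiso : ∀ (A : Matrix.symplecticGroup (Fin d) F) (u v : Vd),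
      Cfsg.sympForm d F (Matrix.toLin' (A : Md) u) (Matrix.toLin' (A : Md) v) = Cfsg.sympForm d F u v :=
    fun A u v => Forms.mem_symplecticGroup_iff_form.1 A.2 u v
  have hcomp : ∀ (A B : Matrix.symplecticGroup (Fin d) F) (S : Submodule F Vd),
      S.map (Matrix.toLin' ((A * B : Matrix.symplecticGroup (Fin d) F) : Md)) =
        (S.map (Matrix.toLin' (B : Md))).map (Matrix.toLin' (A : Md)) := fun A B S => by
    rw [Submonoid.coe_mul, Matrix.toLin'_mul, Submodule.map_comp]
  have hone : ∀ (S : Submodule F Vd), S.map (Matrix.toLin' ((1 : Matrix.symplecticGroup (Fin d) F) : Md)) = S :=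
    fun S => by rw [Submonoid.coe_one, Matrix.toLin'_one, Submodule.map_id]
  let f : Matrix.symplecticGroup (Fin d) F → {P : Submodule F Vd × Submodule F Vd // Polar P} := fun A =>
    ⟨(stdL.map (Matrix.toLin' (A : Md)), stdR.map (Matrix.toLin' (A : Md))), by
      obtain ⟨hc, h1, h2⟩ := polar_std (F := F) (d := d)
      have hinj : Function.Injective (Matrix.toLin' (A : Md)) := fun x y h => by
        have h' := congrArg (Matrix.toLin' ((A⁻¹ : Matrix.symplecticGroup (Fin d) F) : Md)) h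
        rwa [← LinearMap.comp_apply, ← LinearMap.comp_apply, ← Matrix.toLin'_mul, ← Submonoid.coe_mul,
          inv_mul_cancel, Submonoid.coe_one, Matrix.toLin'_one] at h'
      refine ⟨IsCompl.of_eq ?_ ?_, ?_, ?_⟩
      · rw [← Submodule.map_inf _ hinj, hc.inf_eq_bot, Submodule.map_bot]
      · rw [← Submodule.map_sup, hc.sup_eq_top, Submodule.map_top, LinearMap.range_eq_top]
        exact LinearMap.surjective_of_injective hinj
      · rintro _ ⟨u, hu, rfl⟩ _ ⟨v, hv, rfl⟩; rw [hiso]; exact h1 u hu v hv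
      · rintro _ ⟨u, hu, rfl⟩ _ ⟨v, hv, rfl⟩; rw [hiso]; exact h2 u hu v hv⟩
  have hsurj : Function.Surjective f := by
    rintro ⟨P, hP⟩
    obtain ⟨A, h1, h2⟩ := exists_map_polar hP
    exact ⟨A, Subtype.ext (Prod.ext h1 h2)⟩
  have hrel : ∀ A B, f A = f B ↔ A⁻¹ * B ∈ K := by
    intro A B
    simp only [f, Subtype.mk.injEq, Prod.mk.injEq, K, mem_levi_iff]
    constructor
    · rintro ⟨e1, e2⟩
      constructor
      · rw [hcomp, ← e1, ← hcomp, inv_mul_cancel, hone]
      · rw [hcomp, ← e2, ← hcomp, inv_mul_cancel, hone]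
    · rintro ⟨e1, e2⟩
      have h : ∀ (S : Submodule F Vd), S.map (Matrix.toLin' ((A⁻¹ * B : Matrix.symplecticGroup (Fin d) F) : Md)) ≤ S →
          S.map (Matrix.toLin' (A : Md)) = S.map (Matrix.toLin' (B : Md)) := by
        intro S hS
        have hinj : Function.Injective (Matrix.toLin' ((A⁻¹ * B : Matrix.symplecticGroup (Fin d) F) : Md)) :=
          fun x y h => by
            have h' := congrArg (Matrix.toLin' (((A⁻¹ * B)⁻¹ : Matrix.symplecticGroup (Fin d) F) : Md)) h
            rwa [← LinearMap.comp_apply, ← LinearMap.comp_apply, ← Matrix.toLin'_mul, ← Submonoid.coe_mul,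
              inv_mul_cancel, Submonoid.coe_one, Matrix.toLin'_one] at h'
        have he := Submodule.eq_of_le_of_finrank_le hS (Submodule.equivMapOfInjective _ hinj S).finrank_eq.le
        conv_lhs => rw [← he]
        rw [← hcomp, mul_inv_cancel_left]
      exact ⟨h _ e1, h _ e2⟩
  let e : Matrix.symplecticGroup (Fin d) F ⧸ K ≃ {P : Submodule F Vd × Submodule F Vd // Polar P} :=
    Equiv.ofBijective (Quotient.lift f fun A B h => (hrel A B).2 (QuotientGroup.leftRel_apply.1 h))
      ⟨fun a b => Quotient.inductionOn₂ a b fun A B h =>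
          Quotient.sound (QuotientGroup.leftRel_apply.2 ((hrel A B).1 h)),
        fun P => by obtain ⟨A, hA⟩ := hsurj P; exact ⟨Quotient.mk _ A, hA⟩⟩
  have hK : Nat.card K = Nat.card (GL (Fin d) F) :=
    (Nat.card_congr (MonoidHom.ofInjective levi_injective).toEquiv).symm
  rw [← hK, ← Nat.card_congr e, Subgroup.card_eq_card_quotient_mul_card_subgroup K]

theorem exists_dvd_pow_add_one {q : ℕ} (hq : Fintype.card F = q) (hd : 1 ≤ d) (hodd : Odd q)
    (r : ℕ) [hr : Fact r.Prime] (hrq : ¬ r ∣ q)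
    (hΩ : r ∣ Nat.card {P : Submodule F Vd × Submodule F Vd // Polar P} / 2) :
    ∃ i, 1 ≤ i ∧ i ≤ d ∧ r ∣ q ^ i + 1 := by
  subst hq
  set q := Fintype.card F
  set N := Nat.card {P : Submodule F Vd × Submodule F Vd // Polar P}
  have h := card_polar_mul (F := F) (d := d)
  rw [Matrix.card_GL_field, Forms.card_symplecticGroup] at h
  have hGL : ∏ i : Fin d, (q ^ d - q ^ (i : ℕ)) =
      q ^ (∑ i ∈ Finset.range d, i) * ∏ i ∈ Finset.range d, (q ^ (i + 1) - 1) := by
    rw [Fin.prod_univ_eq_prod_range (fun i => q ^ d - q ^ i) d, ← Finset.prod_pow_eq_pow_sum,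
      ← Finset.prod_range_reflect (fun i => q ^ (i + 1) - 1) d, ← Finset.prod_mul_distrib]
    refine Finset.prod_congr rfl fun i hi => ?_
    have := Finset.mem_range.1 hi
    rw [Nat.mul_sub, mul_one, ← pow_add, show i + (d - 1 - i + 1) = d by omega]
  have hSp : ∏ i ∈ Finset.range d, (q ^ (2 * (i + 1)) - 1) =
      (∏ i ∈ Finset.range d, (q ^ (i + 1) - 1)) * ∏ i ∈ Finset.range d, (q ^ (i + 1) + 1) := by
    rw [← Finset.prod_mul_distrib]
    refine Finset.prod_congr rfl fun i _ => ?_
    rw [mul_comm 2, pow_mul, mul_comm, ← Nat.sq_sub_sq, one_pow]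
  rw [hGL, hSp] at h
  have hP : 0 < ∏ i ∈ Finset.range d, (q ^ (i + 1) - 1) :=
    Finset.prod_pos fun i _ => Nat.sub_pos_of_lt (Nat.one_lt_pow (by omega) Fintype.one_lt_card)
  have h' : N * q ^ (∑ i ∈ Finset.range d, i) = q ^ d ^ 2 * ∏ i ∈ Finset.range d, (q ^ (i + 1) + 1) := by
    refine Nat.eq_of_mul_eq_mul_right hP ?_
    rw [mul_assoc, h]; ring
  have heven : 2 ∣ N := by
    have h2 : 2 ∣ q ^ d ^ 2 * ∏ i ∈ Finset.range d, (q ^ (i + 1) + 1) :=
      Dvd.dvd.mul_left ((even_iff_two_dvd.1 ((hodd.pow (n := 0 + 1)).add_one)).trans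
        (Finset.dvd_prod_of_mem (fun i => q ^ (i + 1) + 1) (Finset.mem_range.2 (show 0 < d by omega)))) _
    rw [← h'] at h2
    refine (Nat.prime_two.dvd_mul.1 h2).resolve_right fun h3 => ?_
    exact Nat.not_even_iff_odd.2 hodd (even_iff_two_dvd.2 (Nat.prime_two.dvd_of_dvd_pow h3))
  have hN : r ∣ N := hΩ.trans (Nat.div_dvd_of_dvd heven)
  have h2 := hN.mul_right (q ^ (∑ i ∈ Finset.range d, i))
  rw [h'] at h2
  have h3 := (hr.out.dvd_mul.1 h2).resolve_left fun h3 => hrq (hr.out.dvd_of_dvd_pow h3)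
  obtain ⟨i, hi, h4⟩ := (hr.out.prime.dvd_finsetProd_iff _).1 h3
  exact ⟨i + 1, by omega, by simpa using hi, h4⟩

/-- An element of order `r` with small `im (x - 1)` fixes no polarisation. -/
theorem no_polar {r c e : ℕ} [hr : Fact r.Prime] (hr2 : r ≠ 2) (hrF : (r : F) ≠ 0)
    (hc : c = orderOf (Fintype.card F : ZMod r)) (hce : c = 2 * e)
    (x : Matrix.symplecticGroup (Fin d) F) (hx : ((x : Md)) ^ r = 1) (hx1 : (x : Md) ≠ 1)
    (hdim : Module.finrank F (LinearMap.range (Matrix.toLin' ((x : Md) - 1))) ≤ 2 * e) :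
    ¬ ∃ U W : Submodule F Vd, IsCompl U W ∧ (∀ u ∈ U, ∀ v ∈ U, Cfsg.sympForm d F u v = 0) ∧
      (∀ u ∈ W, ∀ v ∈ W, Cfsg.sympForm d F u v = 0) ∧
        ((U.map (Matrix.toLin' (x : Md)) = U ∧ W.map (Matrix.toLin' (x : Md)) = W) ∨
         (U.map (Matrix.toLin' (x : Md)) = W ∧ W.map (Matrix.toLin' (x : Md)) = U)) := by
  classical
  rintro ⟨U, W, hc', hU, hW, hor⟩
  set L := Matrix.toLin' (x : Md) with hL
  have hLr : L ^ r = 1 := by
    rw [hL, show Matrix.toLin' (x : Md) = Matrix.toLinAlgEquiv' (x : Md) from rfl, ← map_pow, hx, map_one]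
  have hLi : ∀ u v, Cfsg.sympForm d F (L u) (L v) = Cfsg.sympForm d F u v :=
    fun u v => Forms.mem_symplecticGroup_iff_form.1 x.2 u v
  have hfix : U.map L = U ∧ W.map L = W := by
    rcases hor with h | ⟨h1, h2⟩
    · exact h
    · obtain ⟨k, hk⟩ := hr.out.odd_of_ne_two hr2
      have h3 : ∀ k, U.map (L ^ (2 * k)) = U := by
        intro k
        induction k with
        | zero => rw [mul_zero, pow_zero]; exact Submodule.map_id U
        | succ k ih =>
          rw [Nat.mul_succ, pow_add, Module.End.mul_eq_comp, Submodule.map_comp, pow_two,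
            Module.End.mul_eq_comp, Submodule.map_comp, h1, h2, ih]
      have h4 : U = W := by
        have : U.map (L ^ r) = W := by
          rw [hk, pow_succ', Module.End.mul_eq_comp, Submodule.map_comp, h3, h1]
        rwa [hLr, Module.End.one_eq_id, Submodule.map_id] at this
      subst h4
      exact ⟨h1, h2⟩
  -- invariant subspaces without fixed vectors have dimension divisible by `c`
  have hdvd : ∀ K : Submodule F Vd, (∀ v ∈ K, L v ∈ K) → (∀ v ∈ K, L v = v → v = 0) → K ≠ ⊥ →
      2 * e ≤ Module.finrank F K := by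
    intro K hK hfree hne
    have hinjL : Function.Injective L := fun a b h => by
      have h' := congrArg (fun v => (L ^ (r - 1)) v) h
      simpa [← Module.End.mul_apply, ← pow_succ, Nat.sub_add_cancel hr.out.one_le, hLr] using h'
    let σf : ↥K → ↥K := fun v => ⟨L v, hK v v.2⟩
    have hσf : Function.Bijective σf :=
      Finite.injective_iff_bijective.1 fun a b h => Subtype.ext (hinjL (congrArg Subtype.val h))
    let σ : Equiv.Perm ↥K := Equiv.ofBijective σf hσf
    haveI := Fintype.ofFinite ↥K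
    have hpow : ∀ k (v : ↥K), (((σ ^ k) v : ↥K) : Vd) = (L ^ k) v := by
      intro k
      induction k with
      | zero => intro v; rfl
      | succ k ih => intro v; rw [pow_succ, pow_succ, Equiv.Perm.mul_apply, ih, Module.End.mul_apply]; rfl
    have hσr : σ ^ r ^ 1 = 1 := by
      ext v : 1
      rw [pow_one]
      exact Subtype.ext (by rw [hpow, hLr]; rfl)
    have h := Equiv.Perm.card_compl_support_modEq hσr
    have hsupp : σ.supportᶜ = {0} := by
      ext v
      simp only [Finset.mem_compl, Equiv.Perm.mem_support, not_not, Finset.mem_singleton]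
      refine ⟨fun h => Subtype.ext (hfree v v.2 (congrArg Subtype.val h)), ?_⟩
      rintro rfl; exact Subtype.ext (map_zero L)
    rw [hsupp, Finset.card_singleton, Module.card_eq_pow_finrank (K := F), ← ZMod.natCast_eq_natCast_iff] at h
    push_cast at h
    have h5 : c ∣ Module.finrank F K := hc ▸ orderOf_dvd_of_pow_eq_one h.symm
    rw [hce] at h5
    refine Nat.le_of_dvd (Nat.pos_of_ne_zero fun h0 => hne (Submodule.finrank_eq_zero.1 h0)) h5
  set N := Matrix.toLin' ((x : Md) - 1) with hN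
  have hNapp : ∀ v, N v = L v - v := fun v => by
    rw [hN, map_sub, Matrix.toLin'_one]; rfl
  have hfreeM : ∀ v ∈ LinearMap.range N, L v = v → v = 0 := by
    rintro _ ⟨v, rfl⟩ h
    have hk : ∀ k : ℕ, (L ^ k) v = v + (k : F) • N v := by
      intro k
      induction k with
      | zero => simp
      | succ k ih =>
        rw [pow_succ', Module.End.mul_apply, ih, map_add, map_smul, h, Nat.cast_succ, add_smul, one_smul]
        rw [hNapp]; abel
    have := hk r
    rw [hLr, Module.End.one_apply, left_eq_add] at this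
    exact (smul_eq_zero.1 this).resolve_left hrF
  have hinv : ∀ S : Submodule F Vd, S.map L = S → ∀ v ∈ S.map N, L v ∈ S.map N := by
    rintro S hS _ ⟨v, hv, rfl⟩
    exact ⟨L v, hS ▸ Submodule.mem_map_of_mem hv, by simp only [hNapp, map_sub]⟩
  have hsub : ∀ S : Submodule F Vd, S.map L = S → S.map N ≤ S := by
    rintro S hS _ ⟨v, hv, rfl⟩
    rw [hNapp]; exact S.sub_mem (hS ▸ Submodule.mem_map_of_mem hv) hv
  have hone : U.map N = ⊥ ∨ W.map N = ⊥ := by
    by_contra hne
    push Not at hne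
    have h1 := hdvd _ (hinv U hfix.1) (fun v hv => hfreeM v (LinearMap.map_le_range hv)) hne.1
    have h2 := hdvd _ (hinv W hfix.2) (fun v hv => hfreeM v (LinearMap.map_le_range hv)) hne.2
    have h3 := Submodule.finrank_sup_add_finrank_inf_eq (U.map N) (W.map N)
    have h4 : U.map N ⊓ W.map N = ⊥ :=
      le_bot_iff.1 ((inf_le_inf (hsub U hfix.1) (hsub W hfix.2)).trans hc'.inf_eq_bot.le)
    rw [h4, finrank_bot, add_zero, ← Submodule.map_sup, hc'.sup_eq_top, Submodule.map_top] at h3
    have hr' : 0 < Module.finrank F (U.map N) :=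
      Nat.pos_of_ne_zero fun h0 => hne.1 (Submodule.finrank_eq_zero.1 h0)
    omega
  have key : ∀ A B : Submodule F Vd, IsCompl A B → A.map L = A → B.map N = ⊥ →
      (∀ u ∈ A, ∀ v ∈ A, Cfsg.sympForm d F u v = 0) → False := by
    intro A B hAB hA hB hiso
    have hM : LinearMap.range N ≤ A := by
      rw [← Submodule.map_top, ← hAB.sup_eq_top, Submodule.map_sup, hB, sup_bot_eq]; exact hsub A hA
    have hN0 : N ≠ 0 := fun h0 => hx1 (sub_eq_zero.1 ((LinearEquiv.map_eq_zero_iff Matrix.toLin').1 h0))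
    obtain ⟨w, hw⟩ : ∃ w, N w ≠ 0 := by
      by_contra h0
      push Not at h0
      exact hN0 (LinearMap.ext h0)
    -- every element of the image is fixed
    refine hw (hfreeM _ (LinearMap.mem_range_self N w) ?_)
    refine sub_eq_zero.1 ((Forms.sympB_nondegenerate d).1 _ fun v => ?_)
    rw [← hNapp, Forms.sympB_apply]
    obtain ⟨v', rfl⟩ : ∃ v', L v' = v := by
      refine ⟨(L ^ (r - 1)) v, ?_⟩
      rw [← Module.End.mul_apply, ← pow_succ', Nat.sub_add_cancel hr.out.one_le, hLr]; rfl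
    have h0 := hiso _ (hM (LinearMap.mem_range_self N w)) _ (hM (LinearMap.mem_range_self N v'))
    rw [hNapp v', ← Forms.sympB_apply, map_sub, Forms.sympB_apply, Forms.sympB_apply, sub_eq_zero] at h0
    rw [hNapp (N w), ← Forms.sympB_apply, map_sub, LinearMap.sub_apply, Forms.sympB_apply, Forms.sympB_apply,
      hLi, h0, sub_self]
  rcases hone with h | h
  · exact key W U hc'.symm hfix.2 h hW
  · exact key U W hc' hfix.1 h hU

/-- Derangements of odd prime order of PSp_n(q), q odd, on pairs of complementary totally isotropic subspaces. Here `T = PSp_n(q)`, `n = 2d ≥ 4`, `q` odd, realised through the symplectic matrices over the field `F` with `q` elements; Ω is the set of unordered pairs `{U, W}` of complementary totally isotropic `d`-spaces (`F^n = U ⊕ W`), whose stabilizers are the subgroups of type GL_d(q).2 (maximal except in some small cases; maximality is not assumed); an element of `T` of prime order `r` (a symplectic matrix `x` with `x^r` scalar, `x` not scalar)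 fixes such a pair when it fixes or interchanges `U` and `W`. For every odd prime `r ≠ p` dividing the number of such pairs, some element of `T` of order `r` fixes no such pair (the action is never `r`-elusive for odd `r ≠ p`). -/
theorem result {F : Type*} [Field F] [Fintype F] {p : ℕ} [Fact p.Prime] [CharP F p] {q : ℕ} (hq : Fintype.card F = q)
    (d : ℕ) (hd : 2 ≤ d) (hT : (d, q) ≠ (2, 2)) (hodd : Odd q)
    (r : ℕ) [Fact r.Prime] (hr2 : r ≠ 2) (hrp : r ≠ p) (hΩ : r ∣ Nat.card {P : Submodule F (Fin d ⊕ Fin d → F) × Submodule F (Fin d ⊕ Fin d → F) // IsCompl P.1 P.2 ∧ (∀ u ∈ P.1, ∀ v ∈ P.1, Cfsg.sympForm d F u v = 0) ∧ (∀ u ∈ P.2, ∀ v ∈ P.2, Cfsg.sympForm d F u v = 0)} / 2) :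
    ∃ x : ↥(Matrix.symplecticGroup (Fin d) F),
      (∃ z : F, ((x ^ r : ↥(Matrix.symplecticGroup (Fin d) F)) : Matrix (Fin d ⊕ Fin d) (Fin d ⊕ Fin d) F) = z • (1 : Matrix (Fin d ⊕ Fin d) (Fin d ⊕ Fin d) F)) ∧
      (∀ z : F, (x : Matrix (Fin d ⊕ Fin d) (Fin d ⊕ Fin d) F) ≠ z • (1 : Matrix (Fin d ⊕ Fin d) (Fin d ⊕ Fin d) F)) ∧
      ¬ (∃ U W : Submodule F (Fin d ⊕ Fin d → F), IsCompl U W ∧ (∀ u ∈ U, ∀ v ∈ U, Cfsg.sympForm d F u v = 0) ∧ (∀ u ∈ W, ∀ v ∈ W, Cfsg.sympForm d F u v = 0) ∧
        ((U.map (Matrix.toLin' (x : Matrix (Fin d ⊕ Fin d) (Fin d ⊕ Fin d) F)) = U ∧ W.map (Matrix.toLin' (x : Matrix (Fin d ⊕ Fin d) (Fin d ⊕ Fin d) F)) = W) ∨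
         (U.map (Matrix.toLin' (x : Matrix (Fin d ⊕ Fin d) (Fin d ⊕ Fin d) F)) = W ∧ W.map (Matrix.toLin' (x : Matrix (Fin d ⊕ Fin d) (Fin d ⊕ Fin d) F)) = U))) := by
  classical
  have hrP : r.Prime := Fact.out
  have hpP : p.Prime := Fact.out
  obtain ⟨n, -, hn⟩ := FiniteField.card F p
  have hrq : ¬ r ∣ q := fun h => hrp ((Nat.prime_dvd_prime_iff_eq hrP hpP).1 (hrP.dvd_of_dvd_pow (hn ▸ hq ▸ h)))
  have hrF : (r : F) ≠ 0 := fun h =>
    hrp ((Nat.prime_dvd_prime_iff_eq hpP hrP).1 ((CharP.cast_eq_zero_iff F p r).1 h)).symm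
  have hex := exists_dvd_pow_add_one hq (show 1 ≤ d by omega) hodd r hrq hΩ
  set e := Nat.find hex with he
  obtain ⟨he1, hed, hre⟩ := Nat.find_spec hex
  rw [← he] at he1 hed hre
  set c := orderOf (Fintype.card F : ZMod r) with hc
  have hqe : (Fintype.card F : ZMod r) ^ e = -1 := by
    rw [hq, eq_neg_iff_add_eq_zero]
    have := (ZMod.natCast_eq_zero_iff (q ^ e + 1) r).2 hre
    push_cast at this
    exact this
  have hne : (-1 : ZMod r) ≠ 1 := by
    haveI : Fact (2 < r) := ⟨lt_of_le_of_ne hrP.two_le (Ne.symm hr2)⟩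
    exact ZMod.neg_one_ne_one
  have hce : c = 2 * e := by
    have h1 : c ∣ 2 * e := orderOf_dvd_of_pow_eq_one (by rw [mul_comm, pow_mul, hqe, neg_one_sq])
    have h2 : ¬ c ∣ e := fun h => hne (hqe ▸ orderOf_dvd_iff_pow_eq_one.1 h)
    rcases Nat.even_or_odd c with ⟨s, hs⟩ | ho
    · have hse : s ∣ e := by rw [hs, ← two_mul] at h1; exact Nat.dvd_of_mul_dvd_mul_left two_pos h1
      have hs0 : s ≠ 0 := fun h0 => by rw [h0] at hse; simp at hse; omega
      have hqs : (Fintype.card F : ZMod r) ^ s = -1 := by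
        refine (sq_eq_one_iff.1 (by rw [← pow_mul, show s * 2 = c by omega, hc, pow_orderOf_eq_one])).resolve_left
          fun h => ?_
        have := Nat.le_of_dvd (Nat.pos_of_ne_zero hs0) (orderOf_dvd_of_pow_eq_one h)
        omega
      have hle : e ≤ s := Nat.find_min' hex ⟨by omega, (Nat.le_of_dvd (by omega) hse).trans hed, by
        rw [← ZMod.natCast_eq_zero_iff]; push_cast; rw [← hq, hqs, neg_add_cancel]⟩
      have := Nat.le_of_dvd (by omega) hse
      omega
    · exact absurd ((Nat.Coprime.dvd_mul_left (Nat.coprime_two_right.2 ho)).1 h1) h2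
  obtain ⟨Z, hZp, hZo, -⟩ := GL.exists_nonsplit_torus_symp_any (F := F) (show 0 < e by omega)
  rw [hq] at hZo
  set T := Z ^ ((q ^ e + 1) / r) with hT'
  have hTr : T ^ r = 1 := by rw [hT', ← pow_mul, Nat.div_mul_cancel hre]; exact (hZo _).2 dvd_rfl
  have hT1 : T ≠ 1 := fun h => by
    have := Nat.le_of_dvd (Nat.div_pos (Nat.le_of_dvd (by omega) hre) hrP.pos) ((hZo _).1 h)
    have := Nat.div_lt_self (show 0 < q ^ e + 1 by omega) hrP.one_lt
    omega
  have hTmem : T ∈ Matrix.symplecticGroup (Fin e) F :=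
    pow_mem (GL.mem_symplectic_iff_preserves.2 hZp) _
  have hsum : e + (d - e) = d := by omega
  set X := GL.sympBlock (F := F) hsum (T, 1) with hX
  have hXmem : X ∈ Matrix.symplecticGroup (Fin d) F :=
    GL.mem_symplectic_iff_preserves.2 (GL.preserves_sympBlock hsum (GL.mem_symplectic_iff_preserves.1 hTmem)
      (GL.mem_symplectic_iff_preserves.1 (one_mem _)))
  have hXr : X ^ r = 1 := by rw [hX, ← map_pow, Prod.pow_mk, hTr, one_pow]; exact map_one _
  have hX1 : X ≠ 1 := fun h => by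
    have := ((GL.sympBlock_eq_smul_one hsum (T, 1) 1).1 (by rw [one_smul]; exact h)).1
    exact hT1 (by simpa using this)
  have hdim : Module.finrank F (LinearMap.range (Matrix.toLin' (X - 1))) ≤ 2 * e := by
    have hX' : X - 1 = Matrix.reindex (GL.sympBlockEquiv hsum) (GL.sympBlockEquiv hsum)
        (Matrix.fromRows (T - 1) (0 : Matrix (Fin (d - e) ⊕ Fin (d - e)) (Fin e ⊕ Fin e) F) *
          Matrix.fromCols (1 : Matrix (Fin e ⊕ Fin e) (Fin e ⊕ Fin e) F) 0) := by
      rw [hX, Matrix.fromRows_mul_fromCols]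
      change Matrix.reindexAlgEquiv F F _ (Matrix.fromBlocks T 0 0 1) - 1 =
        Matrix.reindexAlgEquiv F F (GL.sympBlockEquiv hsum) _
      rw [← map_one (Matrix.reindexAlgEquiv F F (GL.sympBlockEquiv hsum)), ← map_sub]
      congr 1
      ext (i | i) (j | j) <;> simp [Matrix.one_apply]
    rw [Matrix.toLin'_apply']
    change (X - 1).rank ≤ 2 * e
    rw [hX', Matrix.rank_reindex]
    refine ((Matrix.rank_mul_le_left _ _).trans (Matrix.rank_le_card_width _)).trans ?_
    simp [two_mul]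
  refine ⟨⟨X, hXmem⟩, ⟨1, by rw [one_smul, SubmonoidClass.coe_pow]; exact hXr⟩, fun z hz => ?_,
    no_polar hr2 hrF hc hce ⟨X, hXmem⟩ hXr hX1 hdim⟩
  change X = z • 1 at hz
  have hzz : z * z = 1 := GL.symp_scalar_sq (show 0 < d by omega) (hz ▸ GL.mem_symplectic_iff_preserves.1 hXmem)
  obtain ⟨k, hk⟩ := hrP.odd_of_ne_two hr2
  apply hX1
  rw [hz] at hXr ⊢
  rw [smul_pow, one_pow, hk, pow_succ, mul_comm 2, pow_mul', pow_two, hzz, one_pow, one_mul] at hXr
  exact hXr

end Cfsg.Agent.S5963
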