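import Cfsg.Statements.S5964
import Cfsg.Agent.Lib.Elusive.Subfield

set_option autoImplicit false
open scoped MatrixGroups
open Cfsg

namespace Cfsg.Agent.S5964

set_option linter.unusedSectionVars false

open Module

variable {F : Type*} [Field F] [Fintype F] {n : ℕ} (F₀ : Subfield F)

theorem conj_of_square (hn : 0 < n) (x : Matrix.SpecialLinearGroup (Fin n) F) {w : F}
    (h : ((x ^ 2 : Matrix.SpecialLinearGroup (Fin n) F) : Matrix (Fin n) (Fin n) F) =
      (w * w) • (1 : Matrix (Fin n) (Fin n) F)) :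
    ∃ Q : Matrix.SpecialLinearGroup (Fin n) F,
      Q⁻¹ * x * Q ∈ (Geo.subfieldSubgroup F₀ 1).comap Matrix.SpecialLinearGroup.toGL := by
  have hds := Elusive.detSurj_of_sq hn x h
  have hw : w ≠ 0 := left_ne_zero_of_mul (Elusive.ne_zero_of_sq hn x h)
  have hf := Elusive.endOf_mul_self x h
  by_cases h2 : (2 : F) = 0
  · obtain ⟨k, l, b, e0, e1, e2⟩ := Elusive.exists_unipotent_basis h2 hf
    let u : (Fin 2 × Fin k) ⊕ Fin l → Fˣ := Sum.elim
      (fun p => if p.1 = 0 then 1 else (Units.mk0 w hw)⁻¹) fun _ => 1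
    let π : (Fin 2 × Fin k) ⊕ Fin l → (Fin 2 × Fin k) ⊕ Fin l :=
      Sum.map (fun p => (Equiv.swap 0 1 p.1, p.2)) id
    have hb : ∀ j, Elusive.endOf x (b.unitsSMul u j) = w • b.unitsSMul u (π j) := by
      intro j
      generalize Elusive.endOf x = f at e0 e1 e2 ⊢
      rcases j with ⟨a, i⟩ | i
      · fin_cases a
        · simp [u, π, Basis.unitsSMul_apply, Units.smul_def, e0, smul_smul, hw]
        · simp [u, π, Basis.unitsSMul_apply, Units.smul_def, e1, smul_smul, hw]
      · simp [u, π, Basis.unitsSMul_apply, Units.smul_def, e2]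
    refine Elusive.subfield_conj F₀ x hds (b.unitsSMul u) hw fun i j => ?_
    rw [LinearMap.toMatrix_apply, hb, map_smul, Finsupp.smul_apply, Basis.repr_self, smul_eq_mul,
      inv_mul_cancel_left₀ hw, Finsupp.single_apply]
    split <;> simp [zero_mem, one_mem]
  · obtain ⟨m, l, b, e0, e1⟩ := Elusive.exists_eigen_basis h2 hw hf
    let s : Fin m ⊕ Fin l → F := Sum.elim (fun _ => -1) fun _ => 1
    have hb : ∀ j, Elusive.endOf x (b j) = (w * s j) • b j := by
      intro j; rcases j with i | i <;> simp [s, e0, e1]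
    refine Elusive.subfield_conj F₀ x hds b hw fun i j => ?_
    rw [LinearMap.toMatrix_apply, hb, map_smul, Finsupp.smul_apply, Basis.repr_self, smul_eq_mul,
      mul_assoc, inv_mul_cancel_left₀ hw, Finsupp.single_apply]
    rcases j with j | j <;> split <;> simp [s, zero_mem, one_mem]

theorem square_of_conj (hn : 0 < n) {q₀ : ℕ} (hF₀ : Nat.card F₀ = q₀) (hq : Fintype.card F = q₀ ^ 2)
    (hodd : Odd q₀) (x P : Matrix.SpecialLinearGroup (Fin n) F) {z : F}
    (h : ((x ^ 2 : Matrix.SpecialLinearGroup (Fin n) F) : Matrix (Fin n) (Fin n) F) =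
      z • (1 : Matrix (Fin n) (Fin n) F))
    (hP : P⁻¹ * x * P ∈ (Geo.subfieldSubgroup F₀ 1).comap Matrix.SpecialLinearGroup.toGL) :
    IsSquare z := by
  obtain ⟨Y, μ, hμ, hy⟩ := Elusive.exists_of_mem_subfield F₀ hP
  set y := P⁻¹ * x * P with hy0
  have hy2 : y.1 * y.1 = z • (1 : Matrix (Fin n) (Fin n) F) := by
    have h1 : y * y = P⁻¹ * x ^ 2 * P := by rw [hy0, pow_two]; group
    have h3 : y.1 * y.1 = (P⁻¹).1 * (x ^ 2).1 * P.1 := congrArg Subtype.val h1
    have h5 : (P⁻¹).1 * P.1 = 1 := congrArg Subtype.val (inv_mul_cancel P)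
    rw [h3, h, Matrix.mul_smul, Matrix.smul_mul, mul_one, h5]
  have hy' : y.1 = μ • Y.val.map F₀.subtype := hy
  rw [hy', Matrix.smul_mul, Matrix.mul_smul, smul_smul] at hy2
  have h4 := congrFun (congrFun hy2 ⟨0, hn⟩) ⟨0, hn⟩
  rw [← Matrix.map_mul, Matrix.smul_apply, Matrix.smul_apply, Matrix.map_apply, Matrix.one_apply_eq,
    smul_eq_mul, smul_eq_mul, mul_one] at h4
  rw [← h4]
  exact (IsSquare.mul_self μ).mul (Elusive.isSquare_of_mem F₀ hF₀ hq hodd ((Y.val * Y.val) _ _).2)

/-- Involutions of PSL_n(q) and subfield subgroups. Here `T = PSL_n(F)` for a field `F` with `q = p^f` elements (`n ≥ 2`, `(n, q) ≠ (2, 2), (2, 3)`), `F₀` is the subfield with `q₀` elements where `q = q₀^k` for a prime `k`, and `H` is the subgroup of matrices of determinant 1 lying in the subfield group of `F₀` (invertible matrices over `F₀` times scalars) — a maximal subgroup of type GL_n(q₀) (the case `n = 2`, `q₀ = 2` is excluded); Ω is the set of `T`-conjugates of `H` (cosets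 of `H`), so an element of `T` of prime order `r` (a matrix `x` of determinant 1 with `x^r` scalar, `x` not scalar) fixes a point of Ω when some conjugate of `x` by a matrix of determinant 1 lies in `H`. Suppose the index of `H` is even. Then every involution of `T` is conjugate in `T` into `H` if and only if either `q` is even, or `k = 2` and `(n)_2 ≤ (q − 1)_2`. (For `q` odd and `k` odd the index of `H` is odd, so that case does not arise.) -/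
theorem result {F : Type*} [Field F] [Fintype F] {p : ℕ} [Fact p.Prime] [CharP F p] {q : ℕ} (hq : Fintype.card F = q)
    (n : ℕ) (hn : 2 ≤ n) (hT : (n, q) ≠ (2, 2) ∧ (n, q) ≠ (2, 3))
    (F₀ : Subfield F) (k q₀ : ℕ) (hk : k.Prime) (hF₀ : Nat.card ↥F₀ = q₀) (hqk : q = q₀ ^ k) (hC5 : ¬ (n = 2 ∧ q₀ = 2)) (hΩ : 2 ∣ ((Cfsg.Geo.subfieldSubgroup F₀ 1).comap (Matrix.SpecialLinearGroup.toGL : Matrix.SpecialLinearGroup (Fin n) F →* GL (Fin n) F)).index) :
    (∀ x : Matrix.SpecialLinearGroup (Fin n) F,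
      (∃ z : F, ((x ^ 2 : Matrix.SpecialLinearGroup (Fin n) F) : Matrix (Fin n) (Fin n) F) = z • (1 : Matrix (Fin n) (Fin n) F)) →
      (∀ z : F, (x : Matrix (Fin n) (Fin n) F) ≠ z • (1 : Matrix (Fin n) (Fin n) F)) →
      ∃ P : Matrix.SpecialLinearGroup (Fin n) F, P⁻¹ * x * P ∈ ((Cfsg.Geo.subfieldSubgroup F₀ 1).comap (Matrix.SpecialLinearGroup.toGL : Matrix.SpecialLinearGroup (Fin n) F →* GL (Fin n) F))) ↔
    (Odd q → (k = 2 ∧ padicValNat 2 n ≤ padicValNat 2 (q - 1))) := by
  subst hq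
  haveI : Fact (Nat.Prime 2) := ⟨Nat.prime_two⟩
  constructor
  · intro H hq
    have hq0 : Odd q₀ := (Nat.odd_pow_iff hk.ne_zero).1 (hqk ▸ hq)
    rcases hk.eq_two_or_odd' with rfl | hkodd
    swap
    · have h1 := Elusive.odd_index_subfield (n := n) F₀ hkodd hF₀ hqk hq0
      exact absurd hΩ (by rwa [← even_iff_two_dvd, Nat.not_even_iff_odd])
    refine ⟨rfl, ?_⟩
    by_contra hv
    obtain ⟨m, rfl⟩ : 2 ∣ n := by
      by_contra hnd
      rw [padicValNat.eq_zero_of_not_dvd hnd] at hv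
      omega
    have hr1 : 2 ∣ Fintype.card F - 1 := by obtain ⟨r, hr⟩ := hq; omega
    obtain ⟨c, -, hc, hd⟩ := Elusive.exists_nonpower hr1 m (by omega) (fun h => hv h.1)
    obtain ⟨x, hx, hxs⟩ := Elusive.exists_swap_element (n := 2 * m) (m := m) rfl (by omega) (z := c) (by simpa using hd)
    obtain ⟨P, hP⟩ := H x ⟨c, hx⟩ hxs
    obtain ⟨r, hr⟩ := square_of_conj F₀ (by omega) hF₀ hqk hq0 x P hx hP
    exact hc r (by rw [hr, pow_two])
  · intro H x hx hxs
    obtain ⟨z, hz⟩ := hx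
    by_cases hsq : ∃ w : F, w * w = z
    · obtain ⟨w, rfl⟩ := hsq
      exact conj_of_square F₀ (by omega) x hz
    exfalso
    push Not at hsq
    have hq : Odd (Fintype.card F) := FiniteField.odd_card_of_char_ne_two (fun h => by
      obtain ⟨w, hw⟩ := FiniteField.isSquare_of_char_two h z
      exact hsq w hw.symm) |> Nat.odd_iff.2
    obtain ⟨rfl, hv⟩ := H hq
    obtain ⟨m, b, e0, e1⟩ := Elusive.exists_swap_basis hsq (Elusive.endOf_mul_self x hz)
    have hnm : n = 2 * m := by simpa using Module.finrank_eq_card_basis b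
    have hd : (-z) ^ m = 1 := by rw [← Elusive.det_swap b e0 e1, Elusive.det_endOf]
    have hq0 : Odd q₀ := (Nat.odd_pow_iff two_ne_zero).1 (hqk ▸ hq)
    refine Elusive.not_le_of_det (r := 2) (by obtain ⟨r, hr⟩ := hq; omega) z
      (Elusive.ne_zero_of_sq (by omega) x hz) (fun b hb => hsq b (by rw [← hb, pow_two])) m (by omega)
      (by simpa using hd) ⟨hnm ▸ hv, fun _ _ => ?_⟩
    rw [hqk]
    obtain ⟨r, rfl⟩ := hq0
    rw [show (2 * r + 1) ^ 2 = 4 * (r * r + r) + 1 by ring]
    omega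

end Cfsg.Agent.S5964
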