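import Cfsg.Statements.S5981
import Cfsg.Agent.Lib.Elusive.FormWitness
import Cfsg.Agent.Lib.Semisimple.OrthBlocks
import Cfsg.Agent.Lib.QForm.Diag

set_option autoImplicit false
set_option linter.unusedSectionVars false
set_option linter.style.haveILetI false
open scoped MatrixGroups Matrix
open Cfsg

namespace Cfsg.Agent.S5981

open Module

section
variable {F : Type*} [Field F] [Fintype F] {n : ℕ} {Q : (Fin n → F) → F}

/-- The quadratic map of a quadratic form given as a function. -/
noncomputable def qf (hQ : Geo.IsNondegenerateQuadraticForm Q) : QuadraticForm F (Fin n → F) :=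
  QuadraticMap.ofPolar Q (fun a v => by rw [hQ.smul, sq]; rfl) hQ.polar_bilinear.add_left
    (fun a v w => hQ.polar_bilinear.smul_left a v w)

theorem qf_apply (hQ : Geo.IsNondegenerateQuadraticForm Q) (v : Fin n → F) : qf hQ v = Q v := rfl

theorem qf_nondegenerate (hQ : Geo.IsNondegenerateQuadraticForm Q) :
    (QuadraticMap.polarBilin (qf hQ)).Nondegenerate := by
  refine ⟨fun x hx => ?_, fun y hy => ?_⟩ <;> by_contra hne
  · obtain ⟨z, hz⟩ := (hQ.nondegenerate x hne).2
    exact hz (hx z)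
  · obtain ⟨z, hz⟩ := (hQ.nondegenerate y hne).1
    exact hz (hy z)

theorem sim_isSimMat (hQ : Geo.IsNondegenerateQuadraticForm Q) :
    ∀ y ∈ Geo.quadSimilarityGroup Q, Elusive.IsSimMat (RingHom.id F) (y : Matrix (Fin n) (Fin n) F) := by
  rintro y ⟨c, hc⟩
  refine Elusive.isSimMat_of_form (RingHom.id F) (QuadraticMap.polar Q) hQ.polar_bilinear.add_left
    (fun a x v => hQ.polar_bilinear.smul_left a x v) hQ.polar_bilinear.add_right
    (fun a v x => hQ.polar_bilinear.smul_right a v x) (fun v hv => (hQ.nondegenerate v hv).2) _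
    (c := (c : F)) c.ne_zero fun u v => ?_
  simp only [QuadraticMap.polar, ← Matrix.mulVec_add, hc]
  ring

theorem exists_gl_mem (x : Matrix.SpecialLinearGroup (Fin n) F) (φ : (Fin n → F) ≃ₗ[F] (Fin n → F)) {l : F}
    (hl : l ≠ 0) (h : ∀ v, Q (φ (Elusive.endOf x v)) = l * Q (φ v)) :
    ∃ P : GL (Fin n) F, P⁻¹ * Matrix.SpecialLinearGroup.toGL x * P ∈ Geo.quadSimilarityGroup Q := by
  let P : GL (Fin n) F := ⟨LinearMap.toMatrix' φ.symm.toLinearMap, LinearMap.toMatrix' φ.toLinearMap,
    by rw [← LinearMap.toMatrix'_comp, LinearEquiv.symm_comp, LinearMap.toMatrix'_id],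
    by rw [← LinearMap.toMatrix'_comp, LinearEquiv.comp_symm, LinearMap.toMatrix'_id]⟩
  refine ⟨P, Units.mk0 l hl, fun v => ?_⟩
  have e1 : ((P⁻¹ * Matrix.SpecialLinearGroup.toGL x * P : GL (Fin n) F) : Matrix (Fin n) (Fin n) F) *ᵥ v =
      φ (Elusive.endOf x (φ.symm v)) := by
    show (LinearMap.toMatrix' φ.toLinearMap * x.1 * LinearMap.toMatrix' φ.symm.toLinearMap) *ᵥ v = _
    rw [← Matrix.mulVec_mulVec, ← Matrix.mulVec_mulVec]
    simp [← Matrix.toLin'_apply, Matrix.toLin'_toMatrix']
  rw [e1, h, φ.apply_symm_apply, Units.val_mk0]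

variable {r : ℕ} [Fact r.Prime]

theorem exists_perm_five : ∀ b c d : ZMod 5, ∃ i j k : Fin 5, i ≠ j ∧ i ≠ k ∧ j ≠ k ∧
    (![0, b, c, d, -(b + c + d)] : Fin 5 → ZMod 5) i + (![0, b, c, d, -(b + c + d)] : Fin 5 → ZMod 5) j =
      2 * (![0, b, c, d, -(b + c + d)] : Fin 5 → ZMod 5) k := by
  decide

theorem exists_complement : ∀ i j k : Fin 5, i ≠ j → i ≠ k → j ≠ k →
    ∃ l m : Fin 5, Function.Injective ![k, i, j, l, m] := by
  decide

theorem exists_pattern (h35 : r = 3 ∨ r = 5) (e : Fin r → ZMod r) (hsum : ∑ j, e j = 0) :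
    ∃ (M : ℕ) (π : Unit ⊕ (Fin M ⊕ Fin M) ≃ Fin r),
      ∀ j, e (π (.inr (.inl j))) + e (π (.inr (.inr j))) = 2 * e (π (.inl ())) := by
  have card3 : Fintype.card (Unit ⊕ (Fin 1 ⊕ Fin 1)) = 3 := rfl
  rcases h35 with rfl | rfl
  · let π : Unit ⊕ (Fin 1 ⊕ Fin 1) ≃ Fin 3 := Fintype.equivFinOfCardEq card3
    refine ⟨1, π, fun j => ?_⟩
    rw [← π.sum_comp, Fintype.sum_sum_type, Fintype.sum_sum_type] at hsum
    simp only [Finset.univ_unique, Finset.sum_singleton] at hsum
    have h3 : (3 : ZMod 3) = 0 := rfl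
    rw [Subsingleton.elim j default]
    linear_combination hsum - e (π (.inl ())) * h3
  · have h5 : (5 : ZMod 5) = 0 := rfl
    rw [Fin.sum_univ_five] at hsum
    obtain ⟨i, j, k, hij, hik, hjk, he⟩ := exists_perm_five (e 1 - e 0) (e 2 - e 0) (e 3 - e 0)
    have hval : ∀ l, (![0, e 1 - e 0, e 2 - e 0, e 3 - e 0,
        -((e 1 - e 0) + (e 2 - e 0) + (e 3 - e 0))] : Fin 5 → ZMod 5) l = e l - e 0 := by
      intro l
      fin_cases l <;> simp
      linear_combination -hsum + e 0 * h5
    rw [hval, hval, hval] at he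
    obtain ⟨l, m, hinj⟩ := exists_complement i j k hij hik hjk
    let toF : Unit ⊕ (Fin 2 ⊕ Fin 2) → Fin 5 :=
      Sum.elim (fun _ => k) (Sum.elim ![i, l] ![j, m])
    have hbij : Function.Bijective toF := by
      refine (Fintype.bijective_iff_surjective_and_card _).2 ⟨fun y => ?_, rfl⟩
      obtain ⟨t, rfl⟩ := (Finite.injective_iff_surjective.1 hinj) y
      fin_cases t
      exacts [⟨.inl (), rfl⟩, ⟨.inr (.inl 0), rfl⟩, ⟨.inr (.inr 0), rfl⟩, ⟨.inr (.inl 1), rfl⟩,
        ⟨.inr (.inr 1), rfl⟩]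
    refine ⟨2, Equiv.ofBijective toF hbij, fun a => ?_⟩
    have hs : e k + e i + e j + e l + e m = 0 := by
      rw [← hsum, ← Fin.sum_univ_five, ← (Equiv.ofBijective toF hbij).sum_comp, Fintype.sum_sum_type,
        Fintype.sum_sum_type]
      simp [toF, Fin.sum_univ_two]
      ring
    fin_cases a
    · show e i + e j = 2 * e k
      linear_combination he
    · show e l + e m = 2 * e k
      linear_combination hs - he - e k * h5

end

variable {F : Type*} [Field F] [Fintype F] {n : ℕ} {Q : (Fin n → F) → F}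

/-- Elements squaring to a scalar preserve, up to a scalar, a conjugate of the form. -/
theorem two_fixed (h2 : (2 : F) ≠ 0) (hn : 0 < n) (hQ : Geo.IsNondegenerateQuadraticForm Q)
    (x : Matrix.SpecialLinearGroup (Fin n) F) {z : F}
    (hz : ((x ^ 2 : Matrix.SpecialLinearGroup (Fin n) F) : Matrix (Fin n) (Fin n) F) =
      z • (1 : Matrix (Fin n) (Fin n) F)) :
    ∃ P : Matrix.SpecialLinearGroup (Fin n) F,
      P⁻¹ * x * P ∈ (Geo.quadSimilarityGroup Q).comap Matrix.SpecialLinearGroup.toGL := by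
  classical
  have hz0 := Elusive.ne_zero_of_sq hn x hz
  have hf := Elusive.endOf_mul_self x hz
  obtain ⟨w, E, hw, hE⟩ := QForm.exists_diagonalise h2 (qf_nondegenerate hQ)
  suffices h : ∃ (φ : (Fin n → F) ≃ₗ[F] (Fin n → F)) (l : F), l ≠ 0 ∧
      ∀ v, Q (φ (Elusive.endOf x v)) = l * Q (φ v) by
    obtain ⟨φ, l, hl, h⟩ := h
    obtain ⟨P, hP⟩ := exists_gl_mem x φ hl h
    exact Elusive.exists_sl_conj _ x (Elusive.detSurj_of_sq hn x hz) P hP
  by_cases hsq : ∃ a : F, a * a = z
  · obtain ⟨a, rfl⟩ := hsq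
    obtain ⟨m, k, b, e0, e1⟩ := Elusive.exists_eigen_basis h2 (left_ne_zero_of_mul hz0) hf
    let s : Fin m ⊕ Fin k → F := Sum.elim (fun _ => -a) fun _ => a
    have hb : ∀ j, Elusive.endOf x (b j) = s j • b j := by
      intro j; rcases j with j | j <;> simp [s, e0, e1]
    have hs : ∀ j, s j * s j = a * a := by
      intro j; rcases j with j | j <;> simp [s]
    let ι := Fintype.equivFinOfCardEq (α := Fin m ⊕ Fin k) (n := finrank F (Fin n → F))
      (Module.finrank_eq_card_basis b).symm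
    let B := b.reindex ι
    refine ⟨B.equivFun.trans E.symm, a * a, hz0, fun v => ?_⟩
    simp only [LinearEquiv.trans_apply]
    rw [← qf_apply hQ, ← qf_apply hQ, ← hE, ← hE, E.apply_symm_apply, E.apply_symm_apply]
    have hcoord : ∀ i, B.equivFun (Elusive.endOf x v) i = s (ι.symm i) * B.equivFun v i := by
      intro i
      conv_lhs => rw [← B.sum_repr v]
      simp only [map_sum, map_smul, B, Basis.reindex_apply, hb, Basis.equivFun_apply, smul_smul]
      simp [Finsupp.single_apply, mul_comm]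
    simp only [QForm.diagFn, hcoord, Finset.mul_sum]
    exact Finset.sum_congr rfl fun i _ => by rw [← hs (ι.symm i)]; ring
  · push Not at hsq
    obtain ⟨k, b, e0, e1⟩ := Elusive.exists_swap_basis hsq hf
    let ι := Fintype.equivFinOfCardEq (α := Fin 2 × Fin k) (n := finrank F (Fin n → F))
      (Module.finrank_eq_card_basis b).symm
    have hpar : ∀ i : Fin k, ∃ u t : F, w (ι (0, i)) * (u * u) + w (ι (1, i)) * (t * t) = z * w (ι (0, i)) := by
      intro i
      obtain ⟨s, t, hst⟩ := QForm.exists_two_squares_eq_one h2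
        (a := z⁻¹) (b := w (ι (1, i)) / (z * w (ι (0, i)))) (inv_ne_zero hz0)
        (div_ne_zero (hw _) (mul_ne_zero hz0 (hw _)))
      refine ⟨s, t, ?_⟩
      have := hw (ι (0, i))
      field_simp at hst
      linear_combination hst
    choose u t hut using hpar
    have ht : ∀ i, t i ≠ 0 := fun i h0 => hsq (u i) (by
      have h1 := hut i
      rw [h0] at h1
      exact mul_left_cancel₀ (hw (ι (0, i))) (by linear_combination h1))
    let S : (Fin (finrank F (Fin n → F)) → F) →ₗ[F] (Fin (finrank F (Fin n → F)) → F) :=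
      LinearMap.pi fun l => if (ι.symm l).1 = 0 then
          LinearMap.proj l + u (ι.symm l).2 • LinearMap.proj (ι (1, (ι.symm l).2))
        else t (ι.symm l).2 • LinearMap.proj l
    have hS0 : ∀ y i, S y (ι (0, i)) = y (ι (0, i)) + u i * y (ι (1, i)) := fun y i => by simp [S]
    have hS1 : ∀ y i, S y (ι (1, i)) = t i * y (ι (1, i)) := fun y i => by simp [S]
    have hinj : Function.Injective S := by
      rw [injective_iff_map_eq_zero]
      intro y hy
      have hy1 : ∀ i, y (ι (1, i)) = 0 := fun i => by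
        have h1 := congrFun hy (ι (1, i))
        rw [hS1] at h1
        exact (mul_eq_zero.1 h1).resolve_left (ht i)
      funext l
      obtain ⟨⟨a, i⟩, rfl⟩ := ι.surjective l
      fin_cases a
      · have h1 := congrFun hy (ι (0, i))
        rw [hS0, hy1] at h1
        simpa using h1
      · exact hy1 i
    let B := b.reindex ι
    refine ⟨(B.equivFun.trans (LinearEquiv.ofInjectiveEndo S hinj)).trans E.symm, z, hz0, fun v => ?_⟩
    simp only [LinearEquiv.trans_apply]
    rw [← qf_apply hQ, ← qf_apply hQ, ← hE, ← hE, E.apply_symm_apply, E.apply_symm_apply]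
    simp only [LinearEquiv.coe_ofInjectiveEndo]
    set y := B.equivFun v with hy
    have hrepr : v = ∑ i : Fin k, (y (ι (0, i)) • b (0, i) + y (ι (1, i)) • b (1, i)) := by
      conv_lhs => rw [← B.sum_equivFun v, ← ι.sum_comp, Fintype.sum_prod_type, Fin.sum_univ_two]
      rw [← Finset.sum_add_distrib]
      simp [B, y]
    have himg : Elusive.endOf x v = ∑ i : Fin k, ((z * y (ι (1, i))) • b (0, i) + y (ι (0, i)) • b (1, i)) := by
      conv_lhs => rw [hrepr]
      simp only [map_sum, map_add, map_smul, e0, e1, smul_smul]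
      exact Finset.sum_congr rfl fun i _ => by rw [mul_comm, add_comm]
    have c0 : ∀ i, B.equivFun (Elusive.endOf x v) (ι (0, i)) = z * y (ι (1, i)) := fun i => by
      rw [himg]
      simp [B, Finsupp.single_apply, Prod.ext_iff]
    have c1 : ∀ i, B.equivFun (Elusive.endOf x v) (ι (1, i)) = y (ι (0, i)) := fun i => by
      rw [himg]
      simp [B, Finsupp.single_apply, Prod.ext_iff]
    simp only [QForm.diagFn]
    rw [← ι.sum_comp, ← ι.sum_comp, Fintype.sum_prod_type, Fintype.sum_prod_type, Fin.sum_univ_two,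
      Fin.sum_univ_two, ← Finset.sum_add_distrib, ← Finset.sum_add_distrib, Finset.mul_sum]
    refine Finset.sum_congr rfl fun i _ => ?_
    rw [hS0, hS0, hS1, hS1, c0, c1]
    linear_combination (y (ι (0, i)) ^ 2 - z * y (ι (1, i)) ^ 2) * hut i

variable {r : ℕ} [Fact r.Prime]

/-- In dimension `r ∈ {3, 5}` with `(q - 1)_r = r` every element of order `r` preserves such a form. -/
theorem exceptional_fixed (h2 : (2 : F) ≠ 0) (h35 : r = 3 ∨ r = 5) (hnr : n = r)
    (hv : padicValNat r (Fintype.card F - 1) = 1) (hQ : Geo.IsNondegenerateQuadraticForm Q)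
    (x : Matrix.SpecialLinearGroup (Fin n) F) {c : F}
    (hc : ((x ^ r : Matrix.SpecialLinearGroup (Fin n) F) : Matrix (Fin n) (Fin n) F) =
      c • (1 : Matrix (Fin n) (Fin n) F)) :
    ∃ P : Matrix.SpecialLinearGroup (Fin n) F,
      P⁻¹ * x * P ∈ (Geo.quadSimilarityGroup Q).comap Matrix.SpecialLinearGroup.toGL := by
  classical
  subst hnr
  have hr := (Fact.out : n.Prime)
  haveI : Nonempty (Fin n) := ⟨⟨0, hr.pos⟩⟩
  haveI : NeZero n := ⟨hr.ne_zero⟩
  have hQ0 : Fintype.card F - 1 ≠ 0 := by have := Fintype.one_lt_card (α := F); omega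
  have hr1 : n ∣ Fintype.card F - 1 := dvd_of_one_le_padicValNat (by omega)
  have hf : Elusive.endOf x ^ n = c • 1 := (Elusive.endOf_pow_iff x n c).2 hc
  have hdet : LinearMap.det (Elusive.endOf x) = 1 := Elusive.det_endOf x
  have hc0 : c ≠ 0 := by
    intro h0
    have h1 := congrArg LinearMap.det hf
    rw [map_pow, hdet, one_pow, h0, zero_smul, LinearMap.det_zero, Module.finrank_fin_fun,
      zero_pow hr.ne_zero] at h1
    exact one_ne_zero h1
  obtain ⟨b₀, hb₀⟩ : ∃ b : F, b ^ n = c := by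
    by_contra hnp
    push Not at hnp
    obtain ⟨s, hs, hd⟩ := Elusive.det_of_single_factor c (X_pow_sub_C_irreducible_of_prime hr hnp)
      (Elusive.endOf x) hf
    rw [Module.finrank_fin_fun] at hs
    have hs1 : s = 1 := Nat.eq_of_mul_eq_mul_left hr.pos (by rw [mul_one]; exact hs.symm)
    rw [hdet, hs1, pow_one, Elusive.det_value n hr, if_neg (by omega)] at hd
    exact hnp 1 (by rw [one_pow, hd])
  have hb0 : b₀ ≠ 0 := fun h0 => hc0 (by rw [← hb₀, h0, zero_pow hr.ne_zero])
  set y : End F (Fin n → F) := b₀⁻¹ • Elusive.endOf x with hy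
  have hyn : y ^ n = 1 := by
    rw [hy, _root_.smul_pow, hf, smul_smul, inv_pow, hb₀, inv_mul_cancel₀ hc0, one_smul]
  obtain ⟨u, hu⟩ : ∃ u : Fˣ, orderOf u = n := exists_prime_orderOf_dvd_card' n (by
    rw [Nat.card_units, Nat.card_eq_fintype_card]; exact hr1)
  have hprim : IsPrimitiveRoot (u : F) n := IsPrimitiveRoot.coe_units_iff.2 (hu ▸ IsPrimitiveRoot.orderOf u)
  obtain ⟨b, e, he⟩ := Elusive.exists_exponent_basis hprim y hyn
  have hx : ∀ i, Elusive.endOf x (b i) = (b₀ * (u : F) ^ (e i).val) • b i := fun i => by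
    rw [← smul_smul, ← he i, hy, LinearMap.smul_apply, smul_inv_smul₀ hb0]
  have hdx : b₀ ^ n * (u : F) ^ ∑ i, (e i).val = 1 := by
    rw [← hdet, ← LinearMap.det_toMatrix b, show LinearMap.toMatrix b b (Elusive.endOf x) =
      Matrix.diagonal fun i => b₀ * (u : F) ^ (e i).val from Matrix.ext fun i j => by
        rw [LinearMap.toMatrix_apply, hx, map_smul, Finsupp.smul_apply, Basis.repr_self, Matrix.diagonal_apply,
          Finsupp.single_apply]
        by_cases hij : i = j <;> simp [hij, eq_comm (a := j)],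
      Matrix.det_diagonal, Finset.prod_mul_distrib, Finset.prod_const, Finset.card_univ, Fintype.card_fin,
      Finset.prod_pow_eq_pow_sum]
  have hsum : ∑ i, e i = 0 := by
    by_contra hne
    have hb1 : ¬ b₀ ^ n = 1 := by
      intro h1
      rw [h1, one_mul, hprim.pow_eq_one_iff_dvd, ← ZMod.natCast_eq_zero_iff, Nat.cast_sum] at hdx
      exact hne (by simpa using hdx)
    have h1 : (b₀ ^ n) ^ n = 1 := by
      have h2 := congrArg (· ^ n) hdx
      simp only [mul_pow, one_pow] at h2
      rwa [← pow_mul (u : F), mul_comm (∑ i, (e i).val), pow_mul, hprim.pow_eq_one, one_pow, mul_one] at h2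
    have hord : orderOf b₀ = n ^ 2 := orderOf_eq_prime_pow (n := 1) (by rwa [pow_one])
      (by rw [sq, pow_mul]; exact h1)
    have h2 := FiniteField.pow_card_sub_one_eq_one b₀ hb0
    rw [← orderOf_dvd_iff_pow_eq_one, hord, padicValNat_dvd_iff_le hQ0, hv] at h2
    omega
  obtain ⟨M, π, hπ⟩ := exists_pattern h35 e hsum
  have hM : n = 2 * M + 1 := by
    have := Fintype.card_congr π
    simp at this
    omega
  obtain ⟨c₀, -, E, hE⟩ := QForm.exists_iso_odd h2 M (qf hQ) (qf_nondegenerate hQ)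
    (by rw [Module.finrank_fin_fun, hM])
  let B := b.reindex π.symm
  set a := e (π (.inl ())) with ha
  obtain ⟨P, hP⟩ := exists_gl_mem (Q := Q) x (B.equivFun.trans E.symm) (l := b₀ * b₀ * ((u : F) ^ a.val * (u : F) ^ a.val))
    (by simp [hb0]) (fun v => by
      simp only [LinearEquiv.trans_apply]
      rw [← qf_apply hQ, ← qf_apply hQ, ← hE, ← hE, E.apply_symm_apply, E.apply_symm_apply]
      have hcoord : ∀ i, B.equivFun (Elusive.endOf x v) i = b₀ * (u : F) ^ (e (π i)).val * B.equivFun v i := by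
        intro i
        conv_lhs => rw [← B.sum_repr v]
        simp only [map_sum, map_smul, B, Basis.reindex_apply, Equiv.symm_symm, hx, Basis.equivFun_apply, smul_smul]
        simp [Finsupp.single_apply, mul_comm, eq_comm]
      have hpair : ∀ j, (u : F) ^ (e (π (.inr (.inl j)))).val * (u : F) ^ (e (π (.inr (.inr j)))).val =
          (u : F) ^ a.val * (u : F) ^ a.val := by
        intro j
        rw [← pow_add, ← pow_add,
          (orderOf_pos_iff.1 (hprim.eq_orderOf ▸ hr.pos)).pow_eq_pow_iff_modEq, ← hprim.eq_orderOf,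
          ← ZMod.natCast_eq_natCast_iff]
        push_cast
        simp only [ZMod.natCast_zmod_val]
        linear_combination hπ j
      simp only [quadFormOdd, hcoord]
      rw [mul_add, mul_add, mul_add, Finset.mul_sum, Finset.mul_sum, Finset.mul_sum]
      congr 1
      · rw [← ha]; ring
      · refine Finset.sum_congr rfl fun j _ => ?_
        linear_combination c₀ * b₀ * b₀ * B.equivFun v (.inr (.inl j)) * B.equivFun v (.inr (.inr j)) * hpair j)
  exact Elusive.exists_sl_conj _ x
    (Elusive.detSurj_of_fixed b (Equiv.refl _) (fun i => b₀ * (u : F) ^ (e i).val) hx (i₀ := ⟨0, hr.pos⟩) rfl) P hP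

/-- A transvection is never a similitude of a non-degenerate quadratic form in odd characteristic. -/
theorem transvection_not_fixed [CharP F r] (hr2 : r ≠ 2) (hn : 3 ≤ n) (hQ : Geo.IsNondegenerateQuadraticForm Q) :
    ∃ x : Matrix.SpecialLinearGroup (Fin n) F,
      (∃ z : F, ((x ^ r : Matrix.SpecialLinearGroup (Fin n) F) : Matrix (Fin n) (Fin n) F) =
        z • (1 : Matrix (Fin n) (Fin n) F)) ∧
      (∀ z : F, (x : Matrix (Fin n) (Fin n) F) ≠ z • (1 : Matrix (Fin n) (Fin n) F)) ∧
      ¬ ∃ P : Matrix.SpecialLinearGroup (Fin n) F,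
        P⁻¹ * x * P ∈ (Geo.quadSimilarityGroup Q).comap Matrix.SpecialLinearGroup.toGL := by
  classical
  have hr := (Fact.out : r.Prime)
  have h2 : (2 : F) ≠ 0 := by
    intro h
    rw [show (2 : F) = ((2 : ℕ) : F) by norm_num, CharP.cast_eq_zero_iff F r,
      Nat.prime_dvd_prime_iff_eq hr Nat.prime_two] at h
    exact hr2 h
  let i0 : Fin n := ⟨0, by omega⟩
  let i1 : Fin n := ⟨1, by omega⟩
  have h01 : i0 ≠ i1 := by simp [i0, i1]
  let x : Matrix.SpecialLinearGroup (Fin n) F :=
    ⟨Matrix.transvection i0 i1 1, Matrix.det_transvection_of_ne i0 i1 h01 1⟩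
  have hmul : ∀ v, x.1 *ᵥ v = v + v i1 • Pi.single i0 (1 : F) := fun v => by
    show Matrix.transvection i0 i1 1 *ᵥ v = _
    rw [Matrix.transvection, Matrix.add_mulVec, Matrix.one_mulVec, Matrix.single_mulVec]
    congr 1
    funext j
    simp [Pi.single_apply, Function.update_apply]
  have hpow : ∀ k : ℕ, x.1 ^ k = Matrix.transvection i0 i1 (k : F) := by
    intro k
    induction k with
    | zero => simp
    | succ k ih =>
      rw [pow_succ, ih, show x.1 = Matrix.transvection i0 i1 1 from rfl,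
        Matrix.transvection_mul_transvection_same i0 i1 h01, Nat.cast_succ]
  refine ⟨x, ⟨1, ?_⟩, fun z hz => ?_, ?_⟩
  · rw [Matrix.SpecialLinearGroup.coe_pow, hpow, CharP.cast_eq_zero, Matrix.transvection_zero, one_smul]
  · have h1 := congrFun (congrFun hz i0) i1
    simp [x, Matrix.transvection, h01] at h1
  · rintro ⟨P, hP⟩
    obtain ⟨c, hc⟩ := hP
    set y := ((Matrix.SpecialLinearGroup.toGL (P⁻¹ * x * P) : GL (Fin n) F) : Matrix (Fin n) (Fin n) F) with hy
    set Pi' : Matrix (Fin n) (Fin n) F := ((P⁻¹ : Matrix.SpecialLinearGroup (Fin n) F) : Matrix (Fin n) (Fin n) F)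
      with hPi
    have hPP : Pi' * P.1 = 1 := congrArg Subtype.val (inv_mul_cancel P)
    have hPP' : P.1 * Pi' = 1 := congrArg Subtype.val (mul_inv_cancel P)
    set w : Fin n → F := Pi' *ᵥ Pi.single i0 1 with hwd
    let φ : (Fin n → F) → F := fun v => (P.1 *ᵥ v) i1
    have hact : ∀ v, y *ᵥ v = v + φ v • w := fun v => by
      rw [show y = Pi' * x.1 * P.1 from rfl, ← Matrix.mulVec_mulVec, ← Matrix.mulVec_mulVec, hmul,
        Matrix.mulVec_add, Matrix.mulVec_mulVec _ Pi' P.1, hPP, Matrix.one_mulVec, Matrix.mulVec_smul]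
    have hφw : φ w = 0 := by
      show (P.1 *ᵥ (Pi' *ᵥ Pi.single i0 1)) i1 = 0
      rw [Matrix.mulVec_mulVec, hPP', Matrix.one_mulVec, Pi.single_eq_of_ne h01.symm]
    set u₀ : Fin n → F := Pi' *ᵥ Pi.single i1 1 with hu0
    have hφu : φ u₀ = 1 := by
      show (P.1 *ᵥ (Pi' *ᵥ Pi.single i1 1)) i1 = 1
      rw [Matrix.mulVec_mulVec, hPP', Matrix.one_mulVec, Pi.single_eq_same]
    have hw : w ≠ 0 := by
      intro h0
      have h1 := congrArg (fun v => P.1 *ᵥ v) h0
      simp only [hwd, Matrix.mulVec_mulVec, hPP', Matrix.one_mulVec, Matrix.mulVec_zero] at h1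
      simpa using congrFun h1 i0
    have hB := hQ.polar_bilinear
    set β := QuadraticMap.polar Q with hβ
    have hsim : ∀ u v, β (y *ᵥ u) (y *ᵥ v) = c * β u v := fun u v => by
      simp only [hβ, QuadraticMap.polar, ← Matrix.mulVec_add, hc]
      ring
    -- the multiplier is one
    have hc1 : (c : F) = 1 := by
      have hyr : y ^ r = 1 := by
        rw [hy, ← Units.val_pow_eq_pow_val, ← map_pow]
        have : (P⁻¹ * x * P) ^ r = 1 := by
          have hxr : x ^ r = 1 := Subtype.ext (by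
            rw [Matrix.SpecialLinearGroup.coe_pow, hpow, CharP.cast_eq_zero, Matrix.transvection_zero]; rfl)
          have h := conj_pow (i := r) (a := P⁻¹) (b := x)
          rw [inv_inv, hxr, mul_one, inv_mul_cancel] at h
          exact h
        rw [this, map_one, Units.val_one]
      have hk : ∀ k : ℕ, ∀ v, Q ((y ^ k) *ᵥ v) = (c : F) ^ k * Q v := by
        intro k
        induction k with
        | zero => intro v; simp
        | succ k ih => intro v; rw [pow_succ', ← Matrix.mulVec_mulVec, hy, hc, ← hy, ih, pow_succ']; ring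
      obtain ⟨v, hv⟩ : ∃ v, Q v ≠ 0 := by
        by_contra hall
        push Not at hall
        obtain ⟨z, hz⟩ := (hQ.nondegenerate w hw).2
        exact hz (by simp [QuadraticMap.polar, hall])
      have h1 := hk r v
      rw [hyr, Matrix.one_mulVec] at h1
      have h3 : ((c : F) - 1) ^ r = 0 := by
        rw [sub_pow_char, one_pow, mul_right_cancel₀ hv (h1.symm.trans (one_mul _).symm), sub_self]
      exact sub_eq_zero.1 (eq_zero_of_pow_eq_zero h3)
    have hkey : ∀ u v, φ v * β u w + φ u * β w v + φ u * φ v * β w w = 0 := fun u v => by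
      have h1 := hsim u v
      rw [hact, hact, hc1, one_mul, hB.add_left, hB.add_right, hB.add_right, hB.smul_left, hB.smul_left,
        hB.smul_right, hB.smul_right] at h1
      linear_combination h1
    have hww : β w w = 0 := by
      have h1 := hkey u₀ w
      rw [hφw, hφu] at h1
      linear_combination h1
    have hwu : β w u₀ = 0 := by
      have h1 := hkey u₀ u₀
      rw [hφu, hww, show β u₀ w = β w u₀ from QuadraticMap.polar_comm Q u₀ w] at h1
      exact (mul_eq_zero.1 (show (2 : F) * β w u₀ = 0 by linear_combination h1)).resolve_left h2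
    obtain ⟨v, hv⟩ := (hQ.nondegenerate w hw).2
    apply hv
    have h1 := hkey u₀ v
    rw [hφu, hww, show β u₀ w = β w u₀ from QuadraticMap.polar_comm Q u₀ w, hwu] at h1
    linear_combination h1

/-- For `q` of even order modulo `r` the witness is an element without fixed vectors. -/
theorem even_order_not_fixed {p : ℕ} [Fact p.Prime] [CharP F p] (hrp : r ≠ p) (hr2 : r ≠ 2)
    (h2F : (2 : F) ≠ 0)
    (hn : 3 ≤ n) (hQ : Geo.IsNondegenerateQuadraticForm Q) (heven : Even (orderOf (Fintype.card F : ZMod r)))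
    (hi : 1 ≤ orderOf (Fintype.card F : ZMod r))
    (hΩ : r ∣ (Geo.quadSimilarityGroup Q).relIndex (Geo.specialLinear (Fin n) F)) :
    ∃ x : Matrix.SpecialLinearGroup (Fin n) F,
      (∃ z : F, ((x ^ r : Matrix.SpecialLinearGroup (Fin n) F) : Matrix (Fin n) (Fin n) F) =
        z • (1 : Matrix (Fin n) (Fin n) F)) ∧
      (∀ z : F, (x : Matrix (Fin n) (Fin n) F) ≠ z • (1 : Matrix (Fin n) (Fin n) F)) ∧
      ¬ ∃ P : Matrix.SpecialLinearGroup (Fin n) F,
        P⁻¹ * x * P ∈ (Geo.quadSimilarityGroup Q).comap Matrix.SpecialLinearGroup.toGL := by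
  classical
  have hr := (Fact.out : r.Prime)
  haveI : Fact (2 < r) := ⟨by have := hr.two_le; omega⟩
  set q := Fintype.card F with hq
  set i := orderOf (q : ZMod r) with hidef
  have hq1 : 1 < q := Fintype.one_lt_card
  have hq0 : (q : ZMod r) ≠ 0 := by
    intro h0
    rw [hidef, h0, orderOf_eq_zero fun hf => by simpa using hf.isUnit] at hi
    omega
  have hodd_ne : ∀ j, Odd j → (q : ZMod r) ^ j ≠ 1 := fun j hj h => by
    have h1 := orderOf_dvd_of_pow_eq_one h
    rw [← hidef] at h1
    exact Nat.not_even_iff_odd.2 hj (even_iff_two_dvd.2 ((even_iff_two_dvd.1 heven).trans h1))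
  -- embedding the isometry group of a model
  have hcard : ∀ {ι : Type} [Fintype ι] [DecidableEq ι] (R : QuadraticForm F (ι → F)) (c : F)
      (E : (Fin n → F) ≃ₗ[F] (ι → F)), (∀ v, c * R (E v) = Q v) →
      r * Nat.card (Forms.isomQ R) ∣ Nat.card (GL (Fin n) F) := by
    intro ι _ _ R c E hE
    refine Elusive.mul_card_dvd _ ?_ hΩ
    let κ : ((ι → F) ≃ₗ[F] (ι → F)) →* GL (Fin n) F :=
      MonoidHom.mk' (fun g => Matrix.GeneralLinearGroup.toLin.symm
        (LinearMap.GeneralLinearGroup.ofLinearEquiv ((E.trans g).trans E.symm))) fun a b => by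
        rw [← map_mul]
        congr 1
        exact Units.ext (LinearMap.ext fun w => by simp)
    have hκ : ∀ g (w : Fin n → F), ((κ g : GL (Fin n) F) : Matrix (Fin n) (Fin n) F).mulVec w = E.symm (g (E w)) := by
      intro g w
      rw [← Matrix.toLin'_apply]
      show Matrix.toLin' (LinearMap.toMatrix' _) w = _
      rw [Matrix.toLin'_toMatrix']
      rfl
    refine Subgroup.card_dvd_of_injective ((κ.comp (Forms.isomQ R).subtype).codRestrict (Geo.quadSimilarityGroup Q)
      fun g => ⟨1, fun v => ?_⟩) fun a b hab => Subtype.ext (LinearEquiv.ext fun w => E.symm.injective ?_)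
    · rw [Units.val_one, one_mul, MonoidHom.comp_apply, Subgroup.subtype_apply, ← hE, ← hE v, hκ,
        E.apply_symm_apply]
      congr 1
      exact g.2 (E v) 0
    · have h1 : κ a.1 = κ b.1 := congrArg Subtype.val hab
      have h2 := congrArg (fun M : GL (Fin n) F => (M : Matrix (Fin n) (Fin n) F).mulVec (E.symm w)) h1
      simpa [hκ] using h2
  have hsplit : ∀ k : ℕ, Elusive.fallProd q (2 * k) (2 * k) =
      (∏ l ∈ Finset.range k, (q ^ (2 * (l + 1)) - 1)) * ∏ l ∈ Finset.range k, (q ^ (2 * l + 1) - 1) := by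
    intro k
    induction k with
    | zero => simp [Elusive.fallProd]
    | succ k ih =>
      rw [show 2 * (k + 1) = 2 + 2 * k by ring, Elusive.fallProd_split q (by omega) le_rfl,
        show 2 + 2 * k - 2 = 2 * k by omega, ih, Finset.prod_range_succ, Finset.prod_range_succ,
        Elusive.fallProd, Finset.prod_range_succ, Finset.prod_range_one,
        show 2 + 2 * k - 0 = 2 * (k + 1) by omega, show 2 + 2 * k - 1 = 2 * k + 1 by omega]
      ring
  have hGL : Nat.card (GL (Fin n) F) = (∏ j ∈ Finset.range n, q ^ j) * Elusive.fallProd q n n := by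
    rw [Matrix.card_GL_field, Elusive.prod_frames _ le_rfl]
  have hqpow : ∀ j, ¬ r ∣ q ^ j := fun j h =>
    hq0 ((ZMod.natCast_eq_zero_iff _ _).2 (hr.dvd_of_dvd_pow h))
  have hfac : ∀ j, r ∣ q ^ j - 1 → (q : ZMod r) ^ j = 1 := fun j h => by
    rw [← ZMod.natCast_eq_zero_iff, Nat.cast_sub (Nat.one_le_pow _ _ (by omega)), Nat.cast_pow, Nat.cast_one,
      sub_eq_zero] at h
    exact h
  have hrest : ∀ m, ¬ r ∣ (∏ j ∈ Finset.range n, q ^ j) * ∏ l ∈ Finset.range m, (q ^ (2 * l + 1) - 1) := by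
    intro m h
    rcases hr.dvd_mul.1 h with h | h
    · obtain ⟨j, -, hj⟩ := hr.prime.dvd_finsetProd_iff _ |>.1 h
      exact hqpow j hj
    · obtain ⟨l, -, hl⟩ := hr.prime.dvd_finsetProd_iff _ |>.1 h
      exact hodd_ne _ ⟨l, rfl⟩ (hfac _ hl)
  rcases Nat.even_or_odd' n with ⟨m, hnm | hnm⟩
  swap
  · exfalso
    obtain ⟨c, -, E, hE⟩ := QForm.exists_iso_odd h2F m (qf hQ) (qf_nondegenerate hQ)
      (by rw [Module.finrank_fin_fun, hnm])
    have h1 := hcard (Forms.quadOdd m F) c E (fun v => by rw [Forms.quadOdd_apply]; exact hE v)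
    rw [Forms.card_isomQ_quadOdd h2F, hGL, hnm] at h1
    have hfp : Elusive.fallProd q (2 * m + 1) (2 * m + 1) =
        (∏ l ∈ Finset.range m, (q ^ (2 * (l + 1)) - 1)) * ∏ l ∈ Finset.range (m + 1), (q ^ (2 * l + 1) - 1) := by
      rw [show 2 * m + 1 = 1 + 2 * m by ring, Elusive.fallProd_split q (by omega) le_rfl,
        show 1 + 2 * m - 1 = 2 * m by omega, hsplit, Finset.prod_range_succ (fun l => q ^ (2 * l + 1) - 1) m,
        Elusive.fallProd, Finset.prod_range_one, Nat.sub_zero, add_comm 1 (2 * m)]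
      ring
    rw [hfp] at h1
    apply hrest (m + 1)
    rw [hnm]
    refine Nat.dvd_of_mul_dvd_mul_right (k := ∏ l ∈ Finset.range m, (q ^ (2 * (l + 1)) - 1))
      (Finset.prod_pos fun l _ => Nat.sub_pos_of_lt (Nat.one_lt_pow (by omega) hq1))
      (dvd_trans (Dvd.intro (2 * q ^ m ^ 2) ?_) (h1.trans (dvd_of_eq ?_)))
    · ring
    · ring
  obtain ⟨M, rfl⟩ : ∃ M, m = M + 1 := ⟨m - 1, by omega⟩
  obtain ⟨A, B, hab⟩ := Semisimple.exists_binary_anisotropic (F := F)
  have hfd : finrank F (Fin n → F) = 2 * (M + 1) := by rw [Module.finrank_fin_fun, hnm]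
  have key : (q : ZMod r) ^ (2 * (M + 1)) = 1 ∧ (Nat.card {v // qf hQ v = 0} : ZMod r) ≠ 1 := by
    have hne : (q : ZMod r) ^ 1 ≠ 1 := hodd_ne 1 odd_one
    rw [pow_one] at hne
    have hsq : q ^ (2 * (M + 1)) - 1 = (q ^ (M + 1) + 1) * (q ^ (M + 1) - 1) := by
      rw [← Nat.sq_sub_sq, one_pow, ← pow_mul, mul_comm (M + 1) 2]
    rcases QForm.exists_iso_plus_or_minus hab (M + 1) (qf hQ) (qf_nondegenerate hQ) hfd with ⟨E, hE⟩ | ⟨-, E, hE⟩
    · have h1 := hcard (Forms.quadPlus (M + 1) F) 1 E (fun v => by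
        rw [one_mul, Forms.quadPlus_apply]; exact hE v)
      rw [Forms.card_isomQ_quadPlus, hGL, hnm, hsplit, Finset.prod_range_succ, ← hq, hsq] at h1
      have hM1 : (q : ZMod r) ^ (M + 1) = -1 := by
        by_contra hne1
        refine hrest (M + 1) ((hr.dvd_mul.1 (?_ : r ∣ (q ^ (M + 1) + 1) * ((∏ j ∈ Finset.range n, q ^ j) *
          ∏ l ∈ Finset.range (M + 1), (q ^ (2 * l + 1) - 1)))).resolve_left fun hd => hne1 ?_)
        · rw [hnm]
          refine Nat.dvd_of_mul_dvd_mul_right (k := (∏ l ∈ Finset.range M, (q ^ (2 * (l + 1)) - 1)) * (q ^ (M + 1) - 1))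
            (Nat.mul_pos (Finset.prod_pos fun l _ => Nat.sub_pos_of_lt (Nat.one_lt_pow (by omega) hq1))
              (Nat.sub_pos_of_lt (Nat.one_lt_pow (by omega) hq1)))
            (dvd_trans (Dvd.intro (2 * q ^ ((M + 1) * M)) ?_) (h1.trans (dvd_of_eq ?_)))
          · ring
          · ring
        · rw [← ZMod.natCast_eq_zero_iff, Nat.cast_add, Nat.cast_pow, Nat.cast_one] at hd
          exact eq_neg_of_add_eq_zero_left hd
      refine ⟨by rw [mul_comm, pow_mul, hM1, neg_one_sq], ?_⟩
      rw [Forms.card_zeros_congr E (Q' := Forms.quadPlus (M + 1) F) (fun v => by rw [Forms.quadPlus_apply]; exact hE v)]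
      refine Semisimple.RootField.plus_zeros_ne (r := r) (by rw [← hq, hM1]; exact ZMod.neg_one_ne_one) ?_
      rw [← hq, Nat.add_sub_cancel]
      intro h
      rw [pow_succ, h, neg_one_mul, neg_inj] at hM1
      exact hne hM1
    · replace hE : ∀ v, quadFormMinus M F A B
          ((E : (Fin n → F) ≃ₗ[F] ((Fin M ⊕ Fin M) ⊕ Fin 2 → F)) v) = qf hQ v := hE
      have h1 := hcard (Forms.quadMinus M F A B) 1 E (fun v => by
        rw [one_mul, Forms.quadMinus_apply]; exact hE v)
      rw [Forms.card_isomQ_quadMinus M hab, hGL, hnm, hsplit, Finset.prod_range_succ, ← hq, hsq] at h1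
      have hM1 : (q : ZMod r) ^ (M + 1) = 1 := by
        by_contra hne1
        refine hrest (M + 1) ((hr.dvd_mul.1 (?_ : r ∣ (q ^ (M + 1) - 1) * ((∏ j ∈ Finset.range n, q ^ j) *
          ∏ l ∈ Finset.range (M + 1), (q ^ (2 * l + 1) - 1)))).resolve_left fun hd => hne1 (hfac _ hd))
        rw [hnm]
        refine Nat.dvd_of_mul_dvd_mul_right (k := (∏ l ∈ Finset.range M, (q ^ (2 * (l + 1)) - 1)) * (q ^ (M + 1) + 1))
          (Nat.mul_pos (Finset.prod_pos fun l _ => Nat.sub_pos_of_lt (Nat.one_lt_pow (by omega) hq1))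
            (Nat.succ_pos _))
          (dvd_trans (Dvd.intro (2 * q ^ ((M + 1) * M)) ?_) (h1.trans (dvd_of_eq ?_)))
        · ring
        · ring
      refine ⟨by rw [mul_comm, pow_mul, hM1, one_pow], ?_⟩
      rw [Forms.card_zeros_congr E (Q' := Forms.quadMinus M F A B) (fun v => by rw [Forms.quadMinus_apply]; exact hE v)]
      have := Semisimple.RootField.minus_zeros_ne (r := r) hab (M := M + 1) (by omega)
        (by rw [← hq, hM1]; exact ZMod.neg_one_ne_one.symm) (by
          rw [← hq, Nat.add_sub_cancel]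
          intro h
          rw [pow_succ, h, one_mul] at hM1
          exact hne hM1)
      rwa [Nat.add_sub_cancel] at this
  obtain ⟨hpow, hzeros⟩ := key
  have hdvd : i ∣ n := by rw [hnm]; exact orderOf_dvd_of_pow_eq_one hpow
  have hi2 : 2 ≤ i := by
    obtain ⟨l, hl⟩ := heven
    omega
  obtain ⟨x, hx1, hx2, hxr, hker, -⟩ := Elusive.exists_witness (F := F) (r := r) (n := n) p hrp hi2
    (Nat.le_of_dvd (by omega) hdvd)
  refine ⟨x, hx1, hx2, ?_⟩
  rintro ⟨P, hP⟩
  obtain ⟨c, hc⟩ := hP
  apply hzeros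
  set y := P⁻¹ * x * P with hy
  have hx1' : x ^ r = 1 := Subtype.ext (by
    have h := (Elusive.endOf_pow_iff x r 1).1 (by rw [hxr, one_smul])
    rw [one_smul] at h
    exact h)
  have hyr : y ^ r = 1 := by
    have h := conj_pow (i := r) (a := P⁻¹) (b := x)
    rw [inv_inv, hx1', mul_one, inv_mul_cancel] at h
    exact h
  have hmap : ∀ v, Q (y.1 *ᵥ v) = (c : F) * Q v := hc
  let g : {v // qf hQ v = 0} → {v // qf hQ v = 0} := fun v => ⟨y.1 *ᵥ v.1, by
    have h1 : Q v.1 = 0 := v.2
    rw [qf_apply, hmap, h1, mul_zero]⟩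
  have hiter : ∀ k v, (g^[k] v).1 = (y ^ k).1 *ᵥ v.1 := by
    intro k
    induction k with
    | zero => intro v; simp
    | succ k ih =>
      intro v
      rw [Function.iterate_succ_apply', pow_succ', Matrix.SpecialLinearGroup.coe_mul, ← Matrix.mulVec_mulVec]
      show y.1 *ᵥ (g^[k] v).1 = _
      rw [ih]
  let σ : Equiv.Perm {v // qf hQ v = 0} :=
    { toFun := g
      invFun := g^[r - 1]
      left_inv := fun v => Subtype.ext (by
        rw [← Function.iterate_succ_apply, hiter, Nat.succ_eq_add_one, Nat.sub_add_cancel hr.pos, hyr]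
        exact Matrix.one_mulVec _)
      right_inv := fun v => Subtype.ext (by
        rw [← Function.iterate_succ_apply' g, hiter, Nat.succ_eq_add_one, Nat.sub_add_cancel hr.pos, hyr]
        exact Matrix.one_mulVec _) }
  have hσ : σ ^ r ^ 1 = 1 := Equiv.ext fun v => Subtype.ext (by
    rw [pow_one, Equiv.Perm.coe_pow]
    show (g^[r] v).1 = v.1
    rw [hiter, hyr]
    exact Matrix.one_mulVec _)
  have hfix : σ.supportᶜ = {⟨0, QuadraticMap.map_zero _⟩} := by
    ext v
    rw [Finset.mem_compl, Equiv.Perm.mem_support, not_not, Finset.mem_singleton]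
    refine ⟨fun h => ?_, fun h => ?_⟩
    · have h1 : y.1 *ᵥ v.1 = v.1 := congrArg Subtype.val h
      have h2 : x.1 *ᵥ (P.1 *ᵥ v.1) = P.1 *ᵥ v.1 := by
        have h3 := congrArg (fun w => P.1 *ᵥ w) h1
        simpa only [Matrix.mulVec_mulVec, hy, Matrix.SpecialLinearGroup.coe_mul, ← mul_assoc,
          show P.1 * (P⁻¹).1 = 1 from congrArg Subtype.val (mul_inv_cancel P), one_mul] using h3
      have h4 : P.1 *ᵥ v.1 ∈ LinearMap.ker (Elusive.endOf x - 1) := by
        rw [LinearMap.mem_ker, LinearMap.sub_apply, sub_eq_zero]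
        exact h2
      rw [show LinearMap.ker (Elusive.endOf x - 1) = ⊥ from Submodule.finrank_eq_zero.1
        (by rw [hker, Nat.mod_eq_zero_of_dvd hdvd]), Submodule.mem_bot] at h4
      refine Subtype.ext (?_ : v.1 = 0)
      rw [← Matrix.one_mulVec v.1, ← show (P⁻¹).1 * P.1 = 1 from congrArg Subtype.val (inv_mul_cancel P),
        ← Matrix.mulVec_mulVec, h4, Matrix.mulVec_zero]
    · rw [h]
      exact Subtype.ext (Matrix.mulVec_zero y.1)
  have hmod := Equiv.Perm.card_compl_support_modEq (p := r) (n := 1) hσ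
  rw [hfix, Finset.card_singleton, ← ZMod.natCast_eq_natCast_iff, Nat.cast_one] at hmod
  rw [Nat.card_eq_fintype_card, ← hmod]


/-- Elements of prime order of PSL_n(q), q odd, and the subgroups of orthogonal type. Here `T = PSL_n(F)` for a field `F` with `q` elements, `q` odd, `n ≥ 3`; `Q` is a non-degenerate quadratic form on `F^n` (of either type when `n` is even) and `H` is the subgroup of matrices of determinant 1 that preserve `Q` up to a scalar — a subgroup of type O^ε_n(q) (maximality is not assumed); Ω is the set of cosets of `H` in `T`, so an element of `T` of prime order `r` (a matrix `x` of determinant 1 with `x^r` scalar, `x` not scalar) fixes a point of Ω exactly when some conjugate of `x` by a matrix of determinant 1 preserves `Q` up to a scalar. Let `r` be a prime dividing the index of `H`, with `(n, r) ≠ (6, 3)`. Then every element of `T` of order `r` fixes a point of Ω if and only if `r = 2`, or `r ∈ {3, 5}`, `n = r` and `(q − 1)_r = r` (the `r`-part of `q −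 1` is exactly `r`). The case `(n, r) = (6, 3)` is not covered by this statement. -/
theorem result {F : Type*} [Field F] [Fintype F] {p : ℕ} [Fact p.Prime] [CharP F p] {q : ℕ} (hq : Fintype.card F = q)
    (hodd : Odd q) (n : ℕ) (hn : 3 ≤ n) (Q : (Fin n → F) → F) (hQ : Cfsg.Geo.IsNondegenerateQuadraticForm Q)
    (r : ℕ) [Fact r.Prime] (hgap : ¬ (n = 6 ∧ r = 3))
    (hΩ : r ∣ (Cfsg.Geo.quadSimilarityGroup Q).relIndex (Cfsg.Geo.specialLinear (Fin n) F)) :
    (∀ x ∈ Cfsg.Geo.specialLinear (Fin n) F, (∃ z : F, ((x ^ r : GL (Fin n) F) : Matrix (Fin n) (Fin n) F) = z • (1 : Matrix (Fin n) (Fin n) F)) →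
      (∀ z : F, (x : Matrix (Fin n) (Fin n) F) ≠ z • (1 : Matrix (Fin n) (Fin n) F)) →
      ∃ g ∈ Cfsg.Geo.specialLinear (Fin n) F, g⁻¹ * x * g ∈ Cfsg.Geo.quadSimilarityGroup Q) ↔
    (r = 2 ∨ ((r = 3 ∨ r = 5) ∧ n = r ∧ padicValNat r (q - 1) = 1)) := by
  classical
  subst hq
  have h2F : (2 : F) ≠ 0 := Forms.two_ne_zero_of_odd_card hodd
  rw [Elusive.fixes_iff]
  have hr := (Fact.out : r.Prime)
  constructor
  · intro H
    by_contra hrhs
    obtain ⟨hr2, hexc⟩ : r ≠ 2 ∧ ¬ ((r = 3 ∨ r = 5) ∧ n = r ∧ padicValNat r (Fintype.card F - 1) = 1) :=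
      not_or.1 hrhs
    by_cases hrp : r = p
    · subst hrp
      obtain ⟨x, hx1, hx2, hx3⟩ := transvection_not_fixed hr2 hn hQ
      exact hx3 (H x hx1 hx2)
    have hdvd : r ∣ Nat.card (GL (Fin n) F) := (dvd_mul_right r 1).trans
      (Elusive.mul_card_dvd (Geo.quadSimilarityGroup Q) (one_dvd _) hΩ)
    obtain ⟨hi1, hin⟩ := Elusive.order_facts_of_dvd_card (n := n) hrp hdvd
    rcases Nat.even_or_odd (orderOf (Fintype.card F : ZMod r)) with heven | hiodd
    · obtain ⟨x, hx1, hx2, hx3⟩ := even_order_not_fixed hrp hr2 h2F hn hQ heven hi1 hΩ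
      exact hx3 (H x hx1 hx2)
    rcases Nat.eq_or_lt_of_le hi1 with h1 | h1
    · obtain ⟨x, hx1, hx2, hx3⟩ := Elusive.exists_diag_witness (F := F) hr2 (Elusive.dvd_card_sub_one h1.symm) hn
        hgap hexc
      exact Elusive.not_fixed_of_not_isSimMat (sim_isSimMat hQ) (hx3 _ fun u _ => rfl) (H x hx1 hx2)
    · obtain ⟨x, hx1, hx2, hx3⟩ := Elusive.exists_orbit_witness (F := F) p hrp h1 hin 0 (fun j h => by
        haveI : Fact (2 < r) := ⟨by have := hr.two_le; omega⟩
        rw [pow_zero, mul_one] at h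
        have h2 := congrArg (· ^ orderOf (Fintype.card F : ZMod r)) h
        simp only [← pow_mul, hiodd.neg_one_pow] at h2
        rw [mul_comm, pow_mul, pow_orderOf_eq_one, one_pow] at h2
        exact ZMod.neg_one_ne_one h2.symm)
      exact Elusive.not_fixed_of_not_isSimMat (sim_isSimMat hQ) (hx3 _ fun a => by simp) (H x hx1 hx2)
  · rintro (rfl | ⟨h35, hnr, hv⟩) x ⟨z, hz⟩ -
    · exact two_fixed h2F (by omega) hQ x hz
    · exact exceptional_fixed h2F h35 hnr hv hQ x hz

end Cfsg.Agent.S5981
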