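-- Copy of the template for statement S5965, with its proof.
import Cfsg.Statements.S5965
import Cfsg.Agent.S5981
import Cfsg.Agent.Lib.Elusive.Subfield
import Cfsg.Agent.Lib.Elusive.FormWitness
import Cfsg.Agent.Lib.Semisimple.Classes
import Cfsg.Agent.Lib.Semisimple.PrimeOrder

set_option autoImplicit false
set_option linter.unusedSectionVars false
set_option linter.style.haveILetI false
open scoped MatrixGroups Matrix
open Cfsg

namespace Cfsg.Agent.S5965

open Polynomial Module

/-- The index of the subfield subgroup divides a product of geometric sums and a power of `q₀`. -/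
theorem index_dvd {F : Type*} [Field F] [Fintype F] {n : ℕ} (F₀ : Subfield F) {k q₀ : ℕ} (hk : 0 < k)
    (hF₀ : Nat.card F₀ = q₀) (hqk : Fintype.card F = q₀ ^ k) :
    ((Geo.subfieldSubgroup F₀ 1).comap
      (Matrix.SpecialLinearGroup.toGL : Matrix.SpecialLinearGroup (Fin n) F →* GL (Fin n) F)).index ∣
      (q₀ ^ (n * (n - 1) / 2)) ^ (k - 1) * ∏ i ∈ Finset.Ico 2 (n + 1), ∑ j ∈ Finset.range k, (q₀ ^ i) ^ j := by
  classical
  have hq0 : 0 < q₀ := hF₀ ▸ Nat.card_pos
  set S := (Matrix.SpecialLinearGroup.map (n := Fin n) (F₀.subtype : F₀ →+* F)).range with hS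
  have hle : S ≤ (Geo.subfieldSubgroup F₀ 1).comap
      (Matrix.SpecialLinearGroup.toGL : Matrix.SpecialLinearGroup (Fin n) F →* GL (Fin n) F) := by
    rintro _ ⟨Y, rfl⟩
    refine Elusive.mem_subfield_of F₀ _ one_ne_zero fun i j => ?_
    rw [inv_one, one_mul]
    exact (Y.1 i j).2
  have hinj : Function.Injective (Matrix.SpecialLinearGroup.map (n := Fin n) (F₀.subtype : F₀ →+* F)) := by
    intro A B hAB
    refine Subtype.ext (Matrix.ext fun i j => F₀.subtype.injective ?_)
    exact congrArg (fun M : Matrix.SpecialLinearGroup (Fin n) F => M.1 i j) hAB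
  have hcard : Nat.card S = Nat.card (Matrix.SpecialLinearGroup (Fin n) F₀) :=
    (Nat.card_congr (MonoidHom.ofInjective hinj).toEquiv).symm
  have : Fintype F₀ := Fintype.ofFinite _
  have hc0 : Fintype.card F₀ = q₀ := by rw [← hF₀, Nat.card_eq_fintype_card]
  set R := (q₀ ^ (n * (n - 1) / 2)) ^ (k - 1) *
    ∏ i ∈ Finset.Ico 2 (n + 1), ∑ j ∈ Finset.range k, (q₀ ^ i) ^ j with hR
  have hgeom : ∀ x : ℕ, 1 ≤ x → (∑ j ∈ Finset.range k, x ^ j) * (x - 1) = x ^ k - 1 := by
    intro x hx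
    zify [hx, Nat.one_le_pow k x hx]
    exact geom_sum_mul _ k
  have hmul : Nat.card (Matrix.SpecialLinearGroup (Fin n) F) =
      Nat.card (Matrix.SpecialLinearGroup (Fin n) F₀) * R := by
    rw [GL.card_SL_prod, GL.card_SL_prod, hc0, hqk, hR, mul_mul_mul_comm, ← Finset.prod_mul_distrib]
    congr 1
    · rw [← pow_succ', Nat.sub_add_cancel hk, ← pow_mul, ← pow_mul, mul_comm]
    · refine Finset.prod_congr rfl fun i _ => ?_
      rw [mul_comm, hgeom _ (Nat.one_le_pow _ _ hq0), ← pow_mul, ← pow_mul, mul_comm]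
  have hidx : S.index = R := by
    have h1 := Subgroup.card_mul_index S
    rw [hcard, hmul] at h1
    exact Nat.eq_of_mul_eq_mul_left Nat.card_pos h1
  rw [← hidx]
  exact Subgroup.index_dvd_of_le hle

variable {F : Type*} [Field F] [Fintype F] {r : ℕ} [Fact r.Prime] {n : ℕ}

/-- Exponents and a scalar giving an asymmetric spectrum, for `r ∣ q - 1`. -/
theorem exists_data (hr2 : r ≠ 2) (hr1 : r ∣ Fintype.card F - 1) (hn : 3 ≤ n)
    (hgap : ¬ (n = 6 ∧ r = 3))
    (hexc : ¬ ((r = 3 ∨ r = 5) ∧ n = r ∧ padicValNat r (Fintype.card F - 1) = 1)) :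
    ∃ (b u : F) (e : Fin n → ZMod r), b ≠ 0 ∧ IsPrimitiveRoot u r ∧
      b ^ n * u ^ (∑ j, (e j).val) = 1 ∧ (∃ i j, e i ≠ e j) ∧
      ∀ m : ZMod r, ∃ a : ZMod r,
        (Finset.univ.filter fun j => e j = a).card ≠ (Finset.univ.filter fun j => e j = m - a).card := by
  classical
  have hr := (Fact.out : r.Prime)
  haveI : NeZero r := ⟨hr.ne_zero⟩
  haveI : Nonempty (Fin n) := ⟨⟨0, by omega⟩⟩
  have hQ0 : Fintype.card F - 1 ≠ 0 := by have := Fintype.one_lt_card (α := F); omega
  by_cases hexc' : n = r ∧ (r = 3 ∨ r = 5)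
  · obtain ⟨hnr, h35⟩ := hexc'
    subst hnr
    have hv : 2 ≤ padicValNat n (Fintype.card F - 1) := by
      have h1 := one_le_padicValNat_of_dvd hQ0 hr1
      have h2 : padicValNat n (Fintype.card F - 1) ≠ 1 := fun h => hexc ⟨h35, rfl, h⟩
      omega
    obtain ⟨g, hg⟩ := IsCyclic.exists_ofOrder_eq_natCard (α := Fˣ)
    rw [Nat.card_units, Nat.card_eq_fintype_card] at hg
    obtain ⟨t, ht⟩ := (padicValNat_dvd_iff_le hQ0).2 hv
    have ht0 : t ≠ 0 := by rintro rfl; exact hQ0 (by rw [ht, mul_zero])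
    have hb : orderOf (g ^ t) = n ^ 2 := by
      rw [orderOf_pow_of_dvd ht0 (hg ▸ ⟨n ^ 2, by rw [ht, mul_comm]⟩), hg, ht,
        Nat.mul_div_cancel _ (Nat.pos_of_ne_zero ht0)]
    have hu : orderOf (((g ^ t) ^ n)⁻¹) = n := by
      rw [orderOf_inv, orderOf_pow_of_dvd hr.ne_zero (hb ▸ dvd_pow_self n two_ne_zero), hb, sq,
        Nat.mul_div_cancel _ hr.pos]
    let i0 : Fin n := ⟨0, by omega⟩
    let i1 : Fin n := ⟨1, by omega⟩
    haveI : Fact (1 < n) := ⟨hr.one_lt⟩
    have hu' := IsPrimitiveRoot.orderOf (((g ^ t) ^ n)⁻¹)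
    rw [hu] at hu'
    refine ⟨(g ^ t : Fˣ), (((g ^ t) ^ n)⁻¹ : Fˣ), fun j => if j = i0 then 1 else 0, Units.ne_zero _,
      IsPrimitiveRoot.coe_units_iff.2 hu', ?_,
      ⟨i0, i1, by simp [i0, i1]⟩, fun m => ?_⟩
    · rw [Finset.sum_eq_single i0 (fun j _ hj => by simp [hj]) (fun h => absurd (Finset.mem_univ _) h)]
      simp [ZMod.val_one, ← Units.val_pow_eq_pow_val]
    · have c1 : (Finset.univ.filter fun j => (if j = i0 then (1 : ZMod n) else 0) = 1).card = 1 := by
        rw [show (Finset.univ.filter fun j => (if j = i0 then (1 : ZMod n) else 0) = 1) = {i0} from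
          Finset.ext fun j => by by_cases h : j = i0 <;> simp [h], Finset.card_singleton]
      have c0 : (Finset.univ.filter fun j => (if j = i0 then (1 : ZMod n) else 0) = 0).card = n - 1 := by
        rw [show (Finset.univ.filter fun j => (if j = i0 then (1 : ZMod n) else 0) = 0) = {i0}ᶜ from
          Finset.ext fun j => by by_cases h : j = i0 <;> simp [h], Finset.card_compl, Fintype.card_fin,
          Finset.card_singleton]
      have cz : ∀ a : ZMod n, a ≠ 1 → a ≠ 0 →
          (Finset.univ.filter fun j => (if j = i0 then (1 : ZMod n) else 0) = a).card = 0 := fun a h1 h0 => by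
        rw [Finset.card_eq_zero, Finset.filter_eq_empty_iff]
        intro j _
        split_ifs
        exacts [h1.symm, h0.symm]
      by_cases hm : m = 0
      · refine ⟨1, ?_⟩
        subst hm
        rw [c1, zero_sub, cz (-1) ?_ (neg_ne_zero.2 one_ne_zero)]
        · omega
        · haveI : Fact (2 < n) := ⟨by omega⟩
          exact ZMod.neg_one_ne_one
      · refine ⟨0, ?_⟩
        rw [c0, sub_zero]
        by_cases hm1 : m = 1
        · rw [hm1, c1]; omega
        · rw [cz m hm1 hm]; omega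
  · obtain ⟨e, hsum, hne, hasym⟩ := Elusive.exists_exponents hr2 hn hgap hexc'
    obtain ⟨u, hu⟩ : ∃ u : Fˣ, orderOf u = r := exists_prime_orderOf_dvd_card' r (by
      rw [Nat.card_units, Nat.card_eq_fintype_card]; exact hr1)
    have hprim : IsPrimitiveRoot (u : F) r := IsPrimitiveRoot.coe_units_iff.2 (hu ▸ IsPrimitiveRoot.orderOf u)
    refine ⟨1, (u : F), e, one_ne_zero, hprim, ?_, hne, hasym⟩
    rw [one_pow, one_mul, hprim.pow_eq_one_iff_dvd, ← ZMod.natCast_eq_zero_iff, Nat.cast_sum]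
    simpa using hsum

/-- The exponents `1, -1, 0, …` are not stable under multiplication by anything else than `±1`, up to shifts. -/
theorem exists_pair_data (hr7 : 7 ≤ r) (hn : 2 ≤ n) {s : ZMod r} (hs0 : s ≠ 0) (hs1 : s ≠ 1) (hs2 : s ≠ -1) :
    ∃ e : Fin n → ZMod r, (∑ j, e j = 0) ∧ (∃ i j, e i ≠ e j) ∧
      ∀ γ : ZMod r, (Finset.univ.val.map fun j => s * e j) ≠ Finset.univ.val.map fun j => γ + e j := by
  classical
  obtain ⟨k, rfl⟩ : ∃ k, n = 2 + k := ⟨n - 2, by omega⟩
  let v : Fin 2 ⊕ Fin k → ZMod r := Sum.elim ![1, -1] fun _ => 0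
  let e : Fin (2 + k) → ZMod r := v ∘ finSumFinEquiv.symm
  have hsum : ∑ j, e j = 0 := by
    rw [← Equiv.sum_comp finSumFinEquiv, Fintype.sum_sum_type]
    simp [e, v]
  have hne : ((2 : ℕ) : ZMod r) ≠ 0 := by
    intro h
    rw [ZMod.natCast_eq_zero_iff] at h
    have := Nat.le_of_dvd (by norm_num) h
    omega
  refine ⟨e, hsum, ⟨finSumFinEquiv (.inl 0), finSumFinEquiv (.inl 1), ?_⟩, fun γ h => ?_⟩
  · simp [e, v]
    intro h
    exact hne (by push_cast; linear_combination h)
  · have hγ : γ = 0 := by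
      by_cases hk : k ≤ 4
      · have h1 := congrArg Multiset.sum h
        change ∑ j, s * e j = ∑ j, (γ + e j) at h1
        rw [← Finset.mul_sum, Finset.sum_add_distrib, hsum, mul_zero, add_zero, Finset.sum_const, Finset.card_univ,
          Fintype.card_fin, nsmul_eq_mul] at h1
        refine (mul_eq_zero.1 h1.symm).resolve_left fun h2 => ?_
        rw [ZMod.natCast_eq_zero_iff] at h2
        have := Nat.le_of_dvd (by omega) h2
        omega
      · by_contra hγ
        have h1 := congrArg (Multiset.count γ) h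
        rw [Multiset.count_map, Multiset.count_map, ← Finset.filter_val, ← Finset.filter_val, ← Finset.card_def,
          ← Finset.card_def] at h1
        have hl : (Finset.univ.filter fun a => γ = s * e a).card ≤ 2 := by
          refine (Finset.card_le_card (t := Finset.univ.image fun t : Fin 2 => finSumFinEquiv (.inl t))
            fun a ha => ?_).trans (Finset.card_image_le.trans (by simp))
          obtain ⟨t, rfl⟩ := finSumFinEquiv.surjective a
          rcases t with t | t
          · exact Finset.mem_image.2 ⟨t, Finset.mem_univ _, rfl⟩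
          · simp [e, v, hγ] at ha
        have hr' : k ≤ (Finset.univ.filter fun a => γ = γ + e a).card := by
          have hinj : Function.Injective fun t : Fin k => finSumFinEquiv (m := 2) (.inr t) :=
            finSumFinEquiv.injective.comp Sum.inr_injective
          refine le_of_eq_of_le ?_ (Finset.card_le_card (s := Finset.univ.image fun t : Fin k => finSumFinEquiv (m := 2) (.inr t))
            fun a ha => ?_)
          · rw [Finset.card_image_of_injective _ hinj, Finset.card_univ, Fintype.card_fin]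
          obtain ⟨t, -, rfl⟩ := Finset.mem_image.1 ha
          simp [e, v]
        omega
    subst hγ
    have hm : s * e (finSumFinEquiv (.inl 0)) ∈ Finset.univ.val.map fun j => s * e j :=
      Multiset.mem_map_of_mem (fun j => s * e j) (Finset.mem_univ (finSumFinEquiv (.inl 0)))
    rw [h, Multiset.mem_map] at hm
    obtain ⟨j, -, hj⟩ := hm
    obtain ⟨t, rfl⟩ := finSumFinEquiv.surjective j
    rcases t with t | t
    · fin_cases t <;> simp [e, v] at hj
      · exact hs1 hj.symm
      · exact hs2 hj.symm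
    · simp [e, v] at hj
      exact hs0 hj.symm

variable (F₀ : Subfield F) {q₀ : ℕ}

theorem mem_iff (hF₀ : Nat.card F₀ = q₀) (hq₀ : 1 < q₀) (a : F) : a ∈ F₀ ↔ a ^ q₀ = a := by
  classical
  haveI : Fintype F₀ := Fintype.ofFinite _
  have hc : Fintype.card F₀ = q₀ := by rw [← hF₀, Nat.card_eq_fintype_card]
  have hfix : ∀ b ∈ F₀, b ^ q₀ = b := fun b hb => by
    have := congrArg Subtype.val (FiniteField.pow_card (⟨b, hb⟩ : F₀))
    rwa [hc] at this
  refine ⟨hfix a, fun ha => ?_⟩
  have hP : (X ^ q₀ - X : F[X]) ≠ 0 := FiniteField.X_pow_card_sub_X_ne_zero F hq₀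
  have hsub : (F₀ : Set F).toFinset ⊆ (X ^ q₀ - X : F[X]).roots.toFinset := fun b hb => by
    rw [Multiset.mem_toFinset, mem_roots hP]
    simp [hfix b (by simpa using hb)]
  have heq := Finset.eq_of_subset_of_card_le hsub (by
    refine (Multiset.toFinset_card_le _).trans ((card_roots' _).trans ?_)
    rw [FiniteField.X_pow_card_sub_X_natDegree_eq F hq₀, Set.toFinset_card]
    exact hc.ge)
  have hmem : a ∈ (X ^ q₀ - X : F[X]).roots.toFinset := by
    rw [Multiset.mem_toFinset, mem_roots hP]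
    simp [ha]
  rw [← heq] at hmem
  simpa using hmem

theorem exists_endo {p : ℕ} [Fact p.Prime] [CharP F p] (hF₀ : Nat.card F₀ = q₀) :
    1 < q₀ ∧ ∃ e, q₀ = p ^ e ∧ ∀ a, iterateFrobenius F p e a = a ^ q₀ := by
  haveI : Fintype F₀ := Fintype.ofFinite _
  haveI : CharP F₀ p := (F₀.subtype.charP_iff F₀.subtype.injective p).2 inferInstance
  have hc : Fintype.card F₀ = q₀ := by rw [← hF₀, Nat.card_eq_fintype_card]
  obtain ⟨e, -, he⟩ := FiniteField.card F₀ p
  exact ⟨hc ▸ Fintype.one_lt_card, e, hc ▸ he, fun a => by rw [iterateFrobenius_def, ← hc, he]⟩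

variable {σ : F →+* F}

/-- A twisted conjugate of an element of the subfield group is a multiple of it. -/
theorem twist_of_conj (hσ₀ : ∀ a ∈ F₀, σ a = a) (x : Matrix.SpecialLinearGroup (Fin n) F)
    (h : ∃ P : Matrix.SpecialLinearGroup (Fin n) F,
      P⁻¹ * x * P ∈ (Geo.subfieldSubgroup F₀ 1).comap Matrix.SpecialLinearGroup.toGL) :
    ∃ (U : (Matrix (Fin n) (Fin n) F)ˣ) (c : F), c ≠ 0 ∧
      x.1.map σ = c • ((U⁻¹ : (Matrix (Fin n) (Fin n) F)ˣ).val * x.1 * U.val) := by
  obtain ⟨P, hP⟩ := h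
  obtain ⟨Y, μ, hμ, hY⟩ := Elusive.exists_of_mem_subfield F₀ hP
  replace hY : (P⁻¹ : Matrix.SpecialLinearGroup (Fin n) F).1 * x.1 * P.1 = μ • Y.val.map F₀.subtype := hY
  set Pu : (Matrix (Fin n) (Fin n) F)ˣ := Matrix.SpecialLinearGroup.toGL P with hPu
  set σP : (Matrix (Fin n) (Fin n) F)ˣ := Units.map σ.mapMatrix.toMonoidHom Pu with hσP
  have h1 : (Y.val.map F₀.subtype).map σ = Y.val.map F₀.subtype := by
    ext i j
    exact hσ₀ _ (Y.val i j).2
  have e : ((Pu⁻¹ : (Matrix (Fin n) (Fin n) F)ˣ).val * x.1 * Pu.val) = μ • Y.val.map F₀.subtype := by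
    rw [hPu, ← map_inv]
    exact hY
  have e' := congrArg σ.mapMatrix e
  rw [map_mul, map_mul, RingHom.mapMatrix_apply, RingHom.mapMatrix_apply, RingHom.mapMatrix_apply,
    RingHom.mapMatrix_apply, Matrix.map_smul' _ _ _ (map_mul σ), h1, ← inv_smul_smul₀ hμ (Y.val.map F₀.subtype),
    ← e, smul_smul] at e'
  refine ⟨Pu * σP⁻¹, σ μ * μ⁻¹, mul_ne_zero ((map_ne_zero σ).2 hμ) (inv_ne_zero hμ), ?_⟩
  have e2 := congrArg (fun M => σP.val * M * (σP⁻¹ : (Matrix (Fin n) (Fin n) F)ˣ).val) e'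
  rw [mul_inv_rev, inv_inv, Units.val_mul, Units.val_mul]
  calc x.1.map σ
      = σP.val * ((σP⁻¹ : (Matrix (Fin n) (Fin n) F)ˣ).val * x.1.map σ * σP.val) *
          (σP⁻¹ : (Matrix (Fin n) (Fin n) F)ˣ).val := by
        simp only [← mul_assoc, Units.mul_inv, one_mul, Units.mul_inv_cancel_right]
    _ = _ := e2
    _ = _ := by simp only [Matrix.mul_smul, Matrix.smul_mul, mul_assoc]

/-- A semisimple element with twist-stable characteristic polynomial is conjugate into the subfield group. -/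
theorem conj_of_charpoly (hmem : ∀ a, σ a = a → a ∈ F₀) (hn : 0 < n) (x : Matrix.SpecialLinearGroup (Fin n) F)
    {μ : F} (hμ : μ ≠ 0) (hss : Semisimple.SS (K := F) (μ • x.1))
    (hst : (μ • x.1).charpoly.map σ = (μ • x.1).charpoly) :
    ∃ P : Matrix.SpecialLinearGroup (Fin n) F,
      P⁻¹ * x * P ∈ (Geo.subfieldSubgroup F₀ 1).comap Matrix.SpecialLinearGroup.toGL := by
  classical
  set M := μ • x.1 with hM
  obtain ⟨P₀, hP₀⟩ : ∃ P₀ : F₀[X], P₀.map F₀.subtype = M.charpoly := by
    refine (Polynomial.mem_map_range F₀.subtype).2 fun j => ?_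
    exact ⟨⟨M.charpoly.coeff j, hmem _ (by rw [← Polynomial.coeff_map, hst])⟩, rfl⟩
  have hmon : P₀.Monic := monic_of_injective F₀.subtype.injective (hP₀ ▸ Matrix.charpoly_monic M)
  have hdeg : P₀.natDegree = n := by
    rw [← natDegree_map F₀.subtype, hP₀, Matrix.charpoly_natDegree_eq_dim, Fintype.card_fin]
  obtain ⟨A, hA, s, hs, hs0⟩ := Semisimple.exists_ss_charpoly n P₀ hmon hdeg
  haveI : Finite F₀ := Finite.of_injective _ Subtype.val_injective
  have hA' : Semisimple.SS (K := F) (A.map F₀.subtype) := by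
    refine ⟨s.map F₀.subtype, ((PerfectField.separable_iff_squarefree.2 hs).map).squarefree, ?_⟩
    have h3 := map_aeval_eq_aeval_map (φ := F₀.subtype) (ψ := F₀.subtype.mapMatrix) ?_ s A
    · rw [hs0, map_zero] at h3
      exact h3.symm
    · ext a i j
      by_cases hij : i = j <;> simp [Algebra.algebraMap_eq_smul_one, hij]
  obtain ⟨T, hT⟩ := Semisimple.exists_similar M (A.map F₀.subtype) hss hA'
    (by rw [Matrix.charpoly_map, hA, hP₀])
  have hT0 : (T : Matrix (Fin n) (Fin n) F).det ≠ 0 := ((Matrix.isUnit_iff_isUnit_det _).1 T.isUnit).ne_zero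
  obtain ⟨C, hC, hCd⟩ := Semisimple.exists_commute_det hn M hss hT0
  set Q : GL (Fin n) F := C * T⁻¹ with hQ
  have hTinv : (T⁻¹ : GL (Fin n) F).val.det = (T : Matrix (Fin n) (Fin n) F).det⁻¹ := by
    refine eq_inv_of_mul_eq_one_left ?_
    rw [← Matrix.det_mul, ← Units.val_mul, inv_mul_cancel, Units.val_one, Matrix.det_one]
  let P : Matrix.SpecialLinearGroup (Fin n) F := ⟨Q.val, by
    rw [hQ, Units.val_mul, Matrix.det_mul, hCd, hTinv, mul_inv_cancel₀ hT0]⟩
  refine ⟨P, Elusive.mem_subfield_of F₀ _ (inv_ne_zero hμ) fun i j => ?_⟩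
  have hP : Matrix.SpecialLinearGroup.toGL P = Q := Units.ext rfl
  have key : μ • (Matrix.SpecialLinearGroup.toGL (P⁻¹ * x * P)).val = A.map F₀.subtype := by
    rw [map_mul, map_mul, map_inv, hP, Units.val_mul, Units.val_mul, ← Matrix.smul_mul, ← Matrix.mul_smul,
      show μ • (Matrix.SpecialLinearGroup.toGL x).val = M from rfl, hQ, mul_inv_rev, inv_inv, Units.val_mul,
      Units.val_mul, mul_assoc (T : Matrix (Fin n) (Fin n) F), mul_assoc (T : Matrix (Fin n) (Fin n) F),
      ← mul_assoc ((C⁻¹ : GL (Fin n) F).val * M), mul_assoc (C⁻¹ : GL (Fin n) F).val, ← hC.eq,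
      ← mul_assoc (C⁻¹ : GL (Fin n) F).val, Units.inv_mul, one_mul, ← mul_assoc, hT, Units.mul_inv_cancel_right]
  rw [inv_inv, ← smul_eq_mul, ← Matrix.smul_apply, key]
  exact (A i j).2

variable {p : ℕ} [Fact p.Prime] [CharP F p] {f₀ : ℕ}

/-- An element of order `r` with `q₀ ≡ q` modulo `r` has a twist-stable characteristic polynomial. -/
theorem charpoly_stable (hrp : r ≠ p) (hσ : ∀ a, σ a = a ^ p ^ f₀)
    (hcong : (Fintype.card F : ZMod r) = ((p ^ f₀ : ℕ) : ZMod r)) (f : End F (Fin n → F)) (hf : f ^ r = 1) :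
    f.charpoly.map σ = f.charpoly := by
  obtain ⟨K, _, _, _, ζ, hK⟩ := Semisimple.exists_rootField (F := F) (r := r) p hrp
  haveI : CharP K p := charP_of_injective_algebraMap' F p
  obtain ⟨hsp, hroots⟩ := hK.charpoly_roots f hf
  let σK : K →+* K := iterateFrobenius K p f₀
  let φ : K →+* K := (FiniteField.frobeniusAlgHom F K).toRingHom
  apply Polynomial.map_injective _ (algebraMap F K).injective
  set P := f.charpoly.map (algebraMap F K) with hP
  have h1 : (f.charpoly.map σ).map (algebraMap F K) = P.map σK := by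
    rw [hP, Polynomial.map_map, Polynomial.map_map]
    congr 1
    ext a
    simp [σK, iterateFrobenius_def, hσ]
  have h2 : P.map φ = P := by
    rw [hP, Polynomial.map_map]
    congr 1
    ext a
    exact (FiniteField.frobeniusAlgHom F K).commutes a
  rw [h1]
  conv_rhs => rw [← h2]
  rw [hsp.eq_prod_roots_of_monic ((LinearMap.charpoly_monic f).map _), Polynomial.map_multiset_prod,
    Polynomial.map_multiset_prod, Multiset.map_map, Multiset.map_map]
  congr 1
  refine Multiset.map_congr rfl fun a ha => ?_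
  obtain ⟨u, rfl⟩ := hK.exists_ev (hroots a ha)
  show (X - C (Semisimple.ev ζ u)).map σK = (X - C (Semisimple.ev ζ u)).map φ
  rw [Polynomial.map_sub, Polynomial.map_sub, Polynomial.map_X, Polynomial.map_X, Polynomial.map_C,
    Polynomial.map_C]
  congr 2
  show Semisimple.ev ζ u ^ p ^ f₀ = Semisimple.ev ζ u ^ Fintype.card F
  rw [← hK.ev_mul_natCast, ← hK.ev_mul_natCast, hcong]

/-- Diagonal elements with a spectrum unstable under the twist. -/
theorem diag_not_fixed (hσ₀ : ∀ a ∈ F₀, σ a = a) (hn : 0 < n) {b u : F} (hb : b ≠ 0)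
    (hu : IsPrimitiveRoot u r) (hσu : σ u = u ^ q₀) (e : Fin n → ZMod r)
    (hdet : b ^ n * u ^ (∑ j, (e j).val) = 1) (hne : ∃ i j, e i ≠ e j)
    (hst : ∀ γ : ZMod r, (Finset.univ.val.map fun j => (q₀ : ZMod r) * e j) ≠ Finset.univ.val.map fun j => γ + e j)
    (H : ∀ x : Matrix.SpecialLinearGroup (Fin n) F,
      (∃ z : F, ((x ^ r : Matrix.SpecialLinearGroup (Fin n) F) : Matrix (Fin n) (Fin n) F) =
        z • (1 : Matrix (Fin n) (Fin n) F)) →
      (∀ z : F, (x : Matrix (Fin n) (Fin n) F) ≠ z • (1 : Matrix (Fin n) (Fin n) F)) →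
      ∃ P : Matrix.SpecialLinearGroup (Fin n) F,
        P⁻¹ * x * P ∈ (Geo.subfieldSubgroup F₀ 1).comap Matrix.SpecialLinearGroup.toGL) : False := by
  classical
  have hr := (Fact.out : r.Prime)
  haveI : NeZero r := ⟨hr.ne_zero⟩
  haveI := Fin.pos_iff_nonempty.1 hn
  set D := Matrix.diagonal fun j => u ^ (e j).val with hD
  have hdet' : (b • D).det = 1 := by
    rw [Matrix.det_smul, hD, Matrix.det_diagonal, Fintype.card_fin, Finset.prod_pow_eq_pow_sum, hdet]
  have hDr : D ^ r = 1 := by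
    rw [hD, Matrix.diagonal_pow, ← Matrix.diagonal_one]
    congr 1; funext j
    simp [← pow_mul, mul_comm _ r, pow_mul u r, hu.pow_eq_one]
  obtain ⟨U, c, hc, he⟩ := twist_of_conj F₀ hσ₀ _ (H ⟨b • D, hdet'⟩
    ⟨b ^ r, by show (b • D) ^ r = _; rw [_root_.smul_pow, hDr]⟩ (fun z hz => by
      obtain ⟨i, j, hij⟩ := hne
      apply hij
      have hz' : b • D = z • (1 : Matrix (Fin n) (Fin n) F) := hz
      have e0 := congrFun (congrFun hz' i) i
      have e1 := congrFun (congrFun hz' j) j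
      simp [hD] at e0 e1
      exact ZMod.val_injective r (hu.pow_inj (ZMod.val_lt _) (ZMod.val_lt _)
        (mul_left_cancel₀ hb (e0.trans e1.symm)))))
  replace he : (b • D).map σ = c • ((U⁻¹ : (Matrix (Fin n) (Fin n) F)ˣ).val * (b • D) * U.val) := he
  rw [Matrix.map_smul' σ b D (map_mul σ), Matrix.mul_smul, Matrix.smul_mul, smul_smul] at he
  set c' := (σ b)⁻¹ * (c * b) with hc'
  have he' : D.map σ = c' • ((U⁻¹ : (Matrix (Fin n) (Fin n) F)ˣ).val * D * U.val) := by
    rw [hc', ← smul_smul, ← he, inv_smul_smul₀ ((map_ne_zero σ).2 hb)]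
  have hc'r : c' ^ r = 1 := by
    have h1 := congrArg (fun M => M ^ r) he'
    simp only [_root_.smul_pow, Units.conj_pow', hDr, mul_one, Units.inv_mul, ← Matrix.map_pow] at h1
    rw [Matrix.map_one _ (map_zero σ) (map_one σ)] at h1
    have h2 := congrFun (congrFun h1 ⟨0, hn⟩) ⟨0, hn⟩
    simpa using h2.symm
  obtain ⟨g, hg, hgc⟩ := hu.eq_pow_of_pow_eq_one hc'r
  apply hst (g : ZMod r)
  have hev : ∀ a : ℕ, u ^ a = u ^ ((a : ℕ) : ZMod r).val := fun a => by
    rw [ZMod.val_natCast]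
    exact pow_eq_pow_mod a hu.pow_eq_one
  have e1 : D.map σ = Matrix.diagonal fun j => u ^ ((q₀ : ZMod r) * e j).val := by
    rw [hD, Matrix.diagonal_map (map_zero σ)]
    congr 1; funext j
    simp only [Function.comp_apply, map_pow, hσu, ← pow_mul]
    rw [hev]
    simp
  have e2 : c' • D = Matrix.diagonal fun j => u ^ ((g : ZMod r) + e j).val := by
    rw [hD, ← Matrix.diagonal_smul]
    congr 1; funext j
    rw [Pi.smul_apply, smul_eq_mul, ← hgc, ← pow_add, hev]
    simp
  have hcp := congrArg Matrix.charpoly he'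
  rw [e1, ← Matrix.smul_mul, ← Matrix.mul_smul, e2, Matrix.coe_units_inv, Matrix.charpoly_units_conj',
    Matrix.charpoly_diagonal, Matrix.charpoly_diagonal] at hcp
  have h2 := congrArg Polynomial.roots hcp
  have hprod : ∀ w : Fin n → F, (∏ i, (X - C (w i))).roots = Finset.univ.val.map w := fun w => by
    rw [Finset.prod_eq_multiset_prod, show (fun i => X - C (w i)) = (fun x => X - C x) ∘ w from rfl,
      ← Multiset.map_map, roots_multiset_prod_X_sub_C]
  rw [hprod, hprod] at h2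
  have hinj : Function.Injective fun a : ZMod r => u ^ a.val := fun a a' h =>
    ZMod.val_injective r (hu.pow_inj (ZMod.val_lt _) (ZMod.val_lt _) h)
  apply Multiset.map_injective hinj
  rw [Multiset.map_map, Multiset.map_map]
  exact h2

/-- One orbit of roots, moved by the twist. -/
theorem orbit_not_fixed (hrp : r ≠ p) (hσ : ∀ a, σ a = a ^ p ^ f₀) (hσ₀ : ∀ a ∈ F₀, σ a = a)
    (h2 : 2 ≤ orderOf (Fintype.card F : ZMod r)) (hin : orderOf (Fintype.card F : ZMod r) ≤ n)
    (hcond : ∀ j : ℕ, (Fintype.card F : ZMod r) ^ j * (p : ZMod r) ^ f₀ ≠ 1)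
    (H : ∀ x : Matrix.SpecialLinearGroup (Fin n) F,
      (∃ z : F, ((x ^ r : Matrix.SpecialLinearGroup (Fin n) F) : Matrix (Fin n) (Fin n) F) =
        z • (1 : Matrix (Fin n) (Fin n) F)) →
      (∀ z : F, (x : Matrix (Fin n) (Fin n) F) ≠ z • (1 : Matrix (Fin n) (Fin n) F)) →
      ∃ P : Matrix.SpecialLinearGroup (Fin n) F,
        P⁻¹ * x * P ∈ (Geo.subfieldSubgroup F₀ 1).comap Matrix.SpecialLinearGroup.toGL) : False := by
  obtain ⟨x, hx1, hx2, hxr, -, g, hg, hgd, hann⟩ :=
    Elusive.exists_witness (F := F) (r := r) (n := n) p hrp h2 hin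
  have hr := (Fact.out : r.Prime)
  haveI := Fin.pos_iff_nonempty.1 (show 0 < n by omega)
  have hr0 : (r : F) ≠ 0 := Elusive.ne_zero_of_order (by omega)
  obtain ⟨U, c, hc0, he⟩ := twist_of_conj F₀ hσ₀ x (H x hx1 hx2)
  have hxM : x.1 ^ r = 1 := by
    have h := (Elusive.endOf_pow_iff x r 1).1 (by rw [hxr, one_smul])
    rwa [Matrix.SpecialLinearGroup.coe_pow, one_smul] at h
  have hc : c = 1 := by
    have h1 := congrArg (fun M => M ^ r) he
    simp only [_root_.smul_pow, Units.conj_pow', hxM, mul_one, Units.inv_mul, ← Matrix.map_pow] at h1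
    rw [Matrix.map_one _ (map_zero σ) (map_one σ)] at h1
    obtain ⟨i⟩ := (inferInstance : Nonempty (Fin n))
    have h4 : c ^ r = 1 := by simpa using (congrFun (congrFun h1 i) i).symm
    by_contra hne
    have h3 := FiniteField.pow_card_sub_one_eq_one c hc0
    rw [← orderOf_dvd_iff_pow_eq_one, orderOf_eq_prime h4 hne] at h3
    exact Elusive.not_dvd_card_sub_one h2 h3
  rw [hc, one_smul] at he
  rw [Elusive.endOf_eq, aeval_algEquiv, AlgHom.comp_apply,
    ← map_zero (Matrix.toLinAlgEquiv' (R := F) (n := Fin n))] at hann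
  have hannM := Matrix.toLinAlgEquiv'.injective hann
  set Q := ((X - C 1) * g).map σ with hQdef
  have hQ' : aeval x.1 Q = 0 := by
    have hcomp : (algebraMap F (Matrix (Fin n) (Fin n) F)).comp σ =
        σ.mapMatrix.comp (algebraMap F (Matrix (Fin n) (Fin n) F)) := by
      ext a i j
      by_cases hij : i = j <;> simp [Algebra.algebraMap_eq_smul_one, hij]
    have h3 := map_aeval_eq_aeval_map hcomp ((X - C 1) * g) x.1
    rw [hannM, map_zero, RingHom.mapMatrix_apply, he, Elusive.aeval_conj, ← hQdef] at h3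
    have h4 := congrArg (fun M => U.val * M * (U⁻¹ : (Matrix (Fin n) (Fin n) F)ˣ).val) h3.symm
    simp only [mul_zero, zero_mul, ← mul_assoc, Units.mul_inv, one_mul, Units.mul_inv_cancel_right] at h4
    exact h4
  have hgQ : g ∣ Q := by
    by_contra hnd
    obtain ⟨s, t, hst⟩ := hg.coprime_iff_not_dvd.2 hnd
    refine hx2 1 ?_
    have h1 : aeval x.1 (X - C 1 : F[X]) * aeval x.1 (s * g + t * Q) = 0 := by
      rw [← map_mul, mul_add, map_add, ← mul_assoc, mul_comm (X - C 1) s, mul_assoc, map_mul, hannM, mul_zero,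
        zero_add, ← mul_assoc, map_mul, hQ', mul_zero]
    simpa [hst, sub_eq_zero] using h1
  haveI : Fact (Irreducible g) := ⟨hg⟩
  haveI : FiniteDimensional F (AdjoinRoot g) := (AdjoinRoot.powerBasis hg.ne_zero).finite
  haveI : Finite (AdjoinRoot g) := Module.finite_of_finite F
  set α := AdjoinRoot.root g with hα
  have hpow : α ^ r = 1 := by
    have h0 : AdjoinRoot.mk g (X ^ r - 1 : F[X]) = 0 :=
      AdjoinRoot.mk_eq_zero.2 (by rw [← geom_sum_mul]; exact hgd.mul_right _)
    simpa [sub_eq_zero] using h0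
  have hne1 : α ≠ 1 := by
    intro h1
    have h0 : AdjoinRoot.mk g (X - 1 : F[X]) = 0 := by simp [← hα, h1]
    exact hg.not_isUnit ((Elusive.coprime_sub_one hr0).isUnit_of_dvd' (AdjoinRoot.mk_eq_zero.1 h0) hgd)
  have hord : orderOf α = r := orderOf_eq_prime hpow hne1
  have hrp' : (p : ZMod r) ≠ 0 := by
    intro h0
    rw [ZMod.natCast_eq_zero_iff, Nat.prime_dvd_prime_iff_eq hr Fact.out] at h0
    exact hr0 (by rw [h0, CharP.cast_eq_zero])
  have hte : (p : ZMod r) ^ f₀ ≠ 0 := pow_ne_zero _ hrp'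
  set s := (((p : ZMod r) ^ f₀)⁻¹).val with hs
  have hst : α ^ (s * p ^ f₀) = α := by
    conv_rhs => rw [← pow_one α]
    rw [(orderOf_pos_iff.1 (hord.symm ▸ hr.pos)).pow_eq_pow_iff_modEq, hord, ← ZMod.natCast_eq_natCast_iff]
    rw [Nat.cast_mul, Nat.cast_pow, hs, ZMod.natCast_zmod_val, Nat.cast_one, inv_mul_cancel₀ hte]
  have h0 : aeval α Q = 0 := by
    have := AdjoinRoot.mk_eq_zero.2 hgQ
    rwa [← AdjoinRoot.aeval_eq] at this
  rw [hQdef, Polynomial.map_mul, map_mul, Polynomial.map_sub, Polynomial.map_X, Polynomial.map_C, map_one σ] at h0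
  have h1 : aeval α (g.map σ) = 0 := by
    refine (mul_eq_zero.1 h0).resolve_left fun hx => hne1 ?_
    simpa [sub_eq_zero] using hx
  haveI : CharP (AdjoinRoot g) p := charP_of_injective_algebraMap' F p
  have h2' : aeval (α ^ s) g = 0 := by
    refine eq_zero_of_pow_eq_zero (n := p ^ f₀) ?_
    rw [← iterateFrobenius_def, aeval_def, hom_eval₂, ← h1, aeval_def, eval₂_map, iterateFrobenius_def,
      ← pow_mul, hst]
    congr 1
    ext a
    simp [iterateFrobenius_def, hσ]
  obtain ⟨⟨j, hj⟩, hφ⟩ := (FiniteField.bijective_frobeniusAlgHom_pow F (AdjoinRoot g)).2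
    (AdjoinRoot.liftAlgHom g (Algebra.ofId F (AdjoinRoot g)) (α ^ s) h2')
  have h3 : α ^ (Fintype.card F ^ j) = α ^ s := by
    have h4 := DFunLike.congr_fun hφ α
    rw [AlgHom.coe_pow, FiniteField.coe_frobeniusAlgHom, pow_iterate] at h4
    exact h4.trans (AdjoinRoot.liftAlgHom_root _ _ _ h2')
  rw [(orderOf_pos_iff.1 (hord.symm ▸ hr.pos)).pow_eq_pow_iff_modEq, hord, ← ZMod.natCast_eq_natCast_iff,
    Nat.cast_pow, hs, ZMod.natCast_zmod_val] at h3
  refine hcond j ?_
  rw [h3, inv_mul_cancel₀ hte]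

/-- A scalar multiple of order `r`. -/
theorem exists_multiple (hn : 0 < n)
    (hgap : r ∣ Fintype.card F - 1 → padicValNat r n ≤ padicValNat r (Fintype.card F - 1)) (hr2 : r ≠ 2)
    (x : Matrix.SpecialLinearGroup (Fin n) F)
    (hc : ∃ c : F, ((x ^ r : Matrix.SpecialLinearGroup (Fin n) F) : Matrix (Fin n) (Fin n) F) =
      c • (1 : Matrix (Fin n) (Fin n) F))
    (hx : ∀ c : F, (x : Matrix (Fin n) (Fin n) F) ≠ c • (1 : Matrix (Fin n) (Fin n) F)) :
    ∃ e : F, e ≠ 0 ∧ (e • Elusive.endOf x) ^ r = 1 := by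
  by_cases hr1 : r ∣ Fintype.card F - 1
  swap
  · obtain ⟨e, he, her, -⟩ := Elusive.exists_normalised hr1 x hc hx hn
    exact ⟨e, he, her⟩
  have hr := (Fact.out : r.Prime)
  obtain ⟨c, hc⟩ := hc
  have hc' := (Elusive.endOf_pow_iff x r c).2 hc
  have hc0 : c ≠ 0 := by
    intro h0
    haveI := Fin.pos_iff_nonempty.1 hn
    have h2 := (x ^ r).2
    rw [hc, h0, zero_smul, Matrix.det_zero] at h2
    exact zero_ne_one h2
  obtain ⟨w, hw⟩ : ∃ w : F, w ^ r = c := by
    by_contra hp
    push Not at hp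
    obtain ⟨s, hs, hdet⟩ := Elusive.det_of_single_factor c (X_pow_sub_C_irreducible_of_prime hr hp)
      (Elusive.endOf x) hc'
    rw [Module.finrank_fin_fun] at hs
    rw [Elusive.endOf, LinearMap.det_toLin', x.2] at hdet
    refine Elusive.not_le_of_det hr1 c hc0 hp s
      (Nat.pos_of_ne_zero fun h0 => by simp [hs, h0] at hn) hdet.symm ⟨?_, fun h => absurd h hr2⟩
    exact hs ▸ hgap hr1
  have hw0 : w ≠ 0 := fun h0 => hc0 (by rw [← hw, h0, zero_pow hr.ne_zero])
  refine ⟨w⁻¹, inv_ne_zero hw0, ?_⟩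
  rw [_root_.smul_pow, hc', smul_smul, inv_pow, hw, inv_mul_cancel₀ hc0, one_smul]

theorem endOf_smul (x : Matrix.SpecialLinearGroup (Fin n) F) (e : F) :
    (e • Elusive.endOf x).charpoly = (e • x.1).charpoly := by
  rw [Elusive.endOf, ← map_smul, Matrix.charpoly_toLin']

theorem ss_smul (hr0 : (r : F) ≠ 0) (x : Matrix.SpecialLinearGroup (Fin n) F) {e : F}
    (he : (e • Elusive.endOf x) ^ r = 1) : Semisimple.SS (K := F) (e • x.1) := by
  refine ⟨X ^ r - C 1, (separable_X_pow_sub_C 1 hr0 one_ne_zero).squarefree, ?_⟩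
  apply (Matrix.toLinAlgEquiv' (R := F) (n := Fin n)).injective
  rw [map_zero, ← aeval_algHom_apply]
  show aeval (Matrix.toLin' (e • x.1)) (X ^ r - C 1 : F[X]) = 0
  rw [map_smul]
  show aeval (e • Elusive.endOf x) (X ^ r - C 1 : F[X]) = 0
  simp [he]

/-- Elements whose order modulo scalars is `k`. -/
theorem equal_fixed (hrp : r ≠ p) (hσ : ∀ a, σ a = a ^ p ^ f₀) (hmem : ∀ a, σ a = a → a ∈ F₀) (hn : 0 < n)
    (hr2 : r ≠ 2) (hqr : Fintype.card F = (p ^ f₀) ^ r)
    (hgap : r ∣ Fintype.card F - 1 → padicValNat r n ≤ padicValNat r (Fintype.card F - 1))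
    (x : Matrix.SpecialLinearGroup (Fin n) F)
    (hc : ∃ c : F, ((x ^ r : Matrix.SpecialLinearGroup (Fin n) F) : Matrix (Fin n) (Fin n) F) =
      c • (1 : Matrix (Fin n) (Fin n) F))
    (hx : ∀ c : F, (x : Matrix (Fin n) (Fin n) F) ≠ c • (1 : Matrix (Fin n) (Fin n) F)) :
    ∃ P : Matrix.SpecialLinearGroup (Fin n) F,
      P⁻¹ * x * P ∈ (Geo.subfieldSubgroup F₀ 1).comap Matrix.SpecialLinearGroup.toGL := by
  have hr0 : (r : F) ≠ 0 := by
    rw [Ne, CharP.cast_eq_zero_iff F p, Nat.prime_dvd_prime_iff_eq Fact.out Fact.out]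
    exact hrp.symm
  obtain ⟨e, he, her⟩ := exists_multiple hn hgap hr2 x hc hx
  refine conj_of_charpoly F₀ hmem hn x he (ss_smul hr0 x her) ?_
  rw [← endOf_smul]
  refine charpoly_stable hrp hσ ?_ _ her
  rw [hqr, Nat.cast_pow, ZMod.pow_card]

/-- Dimension `r ∈ {3, 5}`, `k = 2` and `(q₀ + 1)_r = r`. -/
theorem exceptional_fixed (hmem : ∀ a, σ a = a → a ∈ F₀) (h35 : r = 3 ∨ r = 5) (hnr : n = r)
    (hF : Fintype.card F = q₀ ^ 2) (hv : padicValNat r (q₀ + 1) = 1) (hσ : ∀ a, σ a = a ^ q₀)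
    (x : Matrix.SpecialLinearGroup (Fin n) F)
    (hc : ∃ c : F, ((x ^ r : Matrix.SpecialLinearGroup (Fin n) F) : Matrix (Fin n) (Fin n) F) =
      c • (1 : Matrix (Fin n) (Fin n) F))
    (hx : ∀ c : F, (x : Matrix (Fin n) (Fin n) F) ≠ c • (1 : Matrix (Fin n) (Fin n) F)) :
    ∃ P : Matrix.SpecialLinearGroup (Fin n) F,
      P⁻¹ * x * P ∈ (Geo.subfieldSubgroup F₀ 1).comap Matrix.SpecialLinearGroup.toGL := by
  classical
  subst hnr
  have hr := (Fact.out : n.Prime)
  haveI : Nonempty (Fin n) := ⟨⟨0, hr.pos⟩⟩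
  haveI : NeZero n := ⟨hr.ne_zero⟩
  have hq1 := Forms.one_lt_q hF
  have hr0' : n ∣ q₀ + 1 := dvd_of_one_le_padicValNat (by omega)
  have hq : Fintype.card F - 1 = (q₀ + 1) * (q₀ - 1) := by rw [hF, ← Nat.sq_sub_sq, one_pow]
  have hr1 : n ∣ Fintype.card F - 1 := hq ▸ hr0'.mul_right _
  have hQ0 : Fintype.card F - 1 ≠ 0 := by have := Fintype.one_lt_card (α := F); omega
  have hv' : padicValNat n (Fintype.card F - 1) = 1 := by
    rw [hq, padicValNat.mul (by omega) (by omega), hv, padicValNat.eq_zero_of_not_dvd fun h => ?_]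
    have h2 := Nat.dvd_sub hr0' h
    rw [show q₀ + 1 - (q₀ - 1) = 2 by omega, Nat.prime_dvd_prime_iff_eq hr Nat.prime_two] at h2
    omega
  obtain ⟨w, hw0, hyn⟩ := exists_multiple (r := n) hr.pos (fun _ => by rw [hv', padicValNat_self]) (by omega) x hc hx
  set y : End F (Fin n → F) := w • Elusive.endOf x with hy
  obtain ⟨u, hu⟩ : ∃ u : Fˣ, orderOf u = n := exists_prime_orderOf_dvd_card' n (by
    rw [Nat.card_units, Nat.card_eq_fintype_card]; exact hr1)
  have hprim : IsPrimitiveRoot (u : F) n := IsPrimitiveRoot.coe_units_iff.2 (hu ▸ IsPrimitiveRoot.orderOf u)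
  obtain ⟨b, e, he⟩ := Elusive.exists_exponent_basis hprim y hyn
  have hdx : w ^ n = (u : F) ^ ∑ i, (e i).val := by
    have h1 : LinearMap.det y = w ^ n := by
      rw [hy, LinearMap.det_smul, Elusive.det_endOf, mul_one, Module.finrank_fin_fun]
    rw [← h1, ← LinearMap.det_toMatrix b, show LinearMap.toMatrix b b y =
      Matrix.diagonal fun i => (u : F) ^ (e i).val from Matrix.ext fun i j => by
        rw [LinearMap.toMatrix_apply, he, map_smul, Finsupp.smul_apply, Basis.repr_self, Matrix.diagonal_apply,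
          Finsupp.single_apply]
        by_cases hij : i = j <;> simp [hij, eq_comm (a := j)],
      Matrix.det_diagonal, Finset.prod_pow_eq_pow_sum]
  have hsum : ∑ i, e i = 0 := by
    by_contra hne
    have hwn : w ^ n ≠ 1 := by
      intro h1
      rw [h1, eq_comm, hprim.pow_eq_one_iff_dvd, ← ZMod.natCast_eq_zero_iff, Nat.cast_sum] at hdx
      exact hne (by simpa using hdx)
    have h2 : orderOf w = n ^ 2 := by
      refine orderOf_eq_prime_pow (p := n) (n := 1) (by rwa [pow_one]) ?_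
      rw [sq, pow_mul, hdx, ← pow_mul, mul_comm, pow_mul, hprim.pow_eq_one, one_pow]
    have h3 := FiniteField.pow_card_sub_one_eq_one w hw0
    rw [← orderOf_dvd_iff_pow_eq_one, h2, padicValNat_dvd_iff_le hQ0, hv'] at h3
    omega
  obtain ⟨M, π, hπ⟩ := S5981.exists_pattern h35 e hsum
  set m := e (π (.inl ())) with hm
  have hu0 : (u : F) ^ m.val ≠ 0 := pow_ne_zero _ u.ne_zero
  refine conj_of_charpoly F₀ hmem hr.pos x (μ := ((u : F) ^ m.val)⁻¹ * w)
    (mul_ne_zero (inv_ne_zero hu0) hw0) ?_ ?_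
  · refine ss_smul (r := n) (show (n : F) ≠ 0 from hprim.neZero'.out) x ?_
    rw [← smul_smul, _root_.smul_pow, ← hy, hyn, inv_pow, ← pow_mul, mul_comm, pow_mul, hprim.pow_eq_one, one_pow,
      inv_one, one_smul]
  · set d : Fin n → F := fun i => (u : F) ^ (e i - m).val with hd
    have hev : ∀ a : ℕ, (u : F) ^ a = (u : F) ^ ((a : ℕ) : ZMod n).val := fun a => by
      rw [ZMod.val_natCast]
      exact pow_eq_pow_mod a hprim.pow_eq_one
    have hch : ((((u : F) ^ m.val)⁻¹ * w) • x.1).charpoly = ∏ i, (X - C (d i)) := by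
      rw [← endOf_smul, ← LinearMap.charpoly_toMatrix _ b, show LinearMap.toMatrix b b
          ((((u : F) ^ m.val)⁻¹ * w) • Elusive.endOf x) = Matrix.diagonal d from Matrix.ext fun i j => by
        rw [← smul_smul, ← hy, LinearMap.toMatrix_apply, LinearMap.smul_apply, he, smul_smul, map_smul,
          Finsupp.smul_apply, Basis.repr_self, Matrix.diagonal_apply, Finsupp.single_apply]
        have : ((u : F) ^ m.val)⁻¹ * (u : F) ^ (e j).val = d j := by
          rw [hd, inv_mul_eq_iff_eq_mul₀ hu0, ← pow_add, hev (e j).val, hev (m.val + _)]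
          simp
        rw [this]
        by_cases hij : i = j <;> simp [hij, eq_comm (a := j)], Matrix.charpoly_diagonal]
    have hneg : (q₀ : ZMod n) = -1 := by
      rw [eq_neg_iff_add_eq_zero, ← Nat.cast_one, ← Nat.cast_add, ZMod.natCast_eq_zero_iff]
      exact hr0'
    let sw : Unit ⊕ (Fin M ⊕ Fin M) ≃ Unit ⊕ (Fin M ⊕ Fin M) :=
      Equiv.sumCongr (Equiv.refl _) (Equiv.sumComm _ _)
    rw [hch, Polynomial.map_prod]
    refine Fintype.prod_equiv ((π.symm.trans sw).trans π) _ _ fun i => ?_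
    rw [Polynomial.map_sub, Polynomial.map_X, Polynomial.map_C]
    congr 2
    rw [hd]
    simp only
    rw [hσ, ← pow_mul, hev]
    congr 2
    push_cast
    rw [ZMod.natCast_zmod_val, hneg]
    obtain ⟨t, rfl⟩ := π.surjective i
    rcases t with t | t | t
    · simp [sw, hm]
    · have := hπ t
      simp [sw]
      linear_combination -this
    · have := hπ t
      simp [sw]
      linear_combination -this

/-- Elements of odd prime order r ≠ p of PSL_n(q) and subfield subgroups. Here `T = PSL_n(F)` for a field `F` with `q = p^f` elements (`n ≥ 2`, `(n, q) ≠ (2, 2), (2, 3)`), `F₀` is the subfield with `q₀` elements where `q = q₀^k` for a prime `k`, and `H` is the subgroup of matrices of determinant 1 lying in the subfield group of `F₀` (invertible matrices over `F₀` times scalars) — a maximal subgroup of type GL_n(q₀) (the case `n = 2`, `q₀ = 2` is excluded); Ω is the set of `T`-conjugates of `H` (cosets of `H`), so an element of `T` of prime order `r` (a matrix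 `x` of determinant 1 with `x^r` scalar, `x` not scalar) fixes a point of Ω when some conjugate of `x` by a matrix of determinant 1 lies in `H`. Let `r ≠ p` be an odd prime dividing the index of `H`, with `(n, r) ≠ (6, 3)` and, when `r = k` divides `q₀ − 1`, with `(n)_r ≤ (q − 1)_r`. Then every element of `T` of order `r` is conjugate in `T` into `H` if and only if `r = k`, or `k = 2`, `r = n ∈ {3, 5}` and `(q₀ + 1)_r = r`. The two excluded cases, `(n, r) = (6, 3)` and `r = k ∣ q₀ − 1` with `(n)_r > (q − 1)_r`, are ones where this criterion can fail, so they are left out. -/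
theorem result {F : Type*} [Field F] [Fintype F] {p : ℕ} [Fact p.Prime] [CharP F p] {q : ℕ} (hq : Fintype.card F = q)
    (n : ℕ) (hn : 2 ≤ n) (hT : (n, q) ≠ (2, 2) ∧ (n, q) ≠ (2, 3))
    (F₀ : Subfield F) (k q₀ : ℕ) (hk : k.Prime) (hF₀ : Nat.card ↥F₀ = q₀) (hqk : q = q₀ ^ k) (hC5 : ¬ (n = 2 ∧ q₀ = 2)) (r : ℕ) [Fact r.Prime] (hr2 : r ≠ 2) (hrp : r ≠ p) (hgap : ¬ (n = 6 ∧ r = 3)) (hgapk : r = k → r ∣ q₀ - 1 → padicValNat r n ≤ padicValNat r (q - 1)) (hΩ : r ∣ ((Cfsg.Geo.subfieldSubgroup F₀ 1).comap (Matrix.SpecialLinearGroup.toGL : Matrix.SpecialLinearGroup (Fin n) F →* GL (Fin n) F)).index) :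
    (∀ x : Matrix.SpecialLinearGroup (Fin n) F,
      (∃ z : F, ((x ^ r : Matrix.SpecialLinearGroup (Fin n) F) : Matrix (Fin n) (Fin n) F) = z • (1 : Matrix (Fin n) (Fin n) F)) →
      (∀ z : F, (x : Matrix (Fin n) (Fin n) F) ≠ z • (1 : Matrix (Fin n) (Fin n) F)) →
      ∃ P : Matrix.SpecialLinearGroup (Fin n) F, P⁻¹ * x * P ∈ ((Cfsg.Geo.subfieldSubgroup F₀ 1).comap (Matrix.SpecialLinearGroup.toGL : Matrix.SpecialLinearGroup (Fin n) F →* GL (Fin n) F))) ↔
    (r = k ∨ (k = 2 ∧ r = n ∧ (n = 3 ∨ n = 5) ∧ padicValNat r (q₀ + 1) = 1)) := by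
  classical
  subst hq
  have hr := (Fact.out : r.Prime)
  haveI : NeZero r := ⟨hr.ne_zero⟩
  obtain ⟨hq₀, f₀, hqp, hit⟩ := exists_endo (p := p) F₀ hF₀
  set σ : F →+* F := iterateFrobenius F p f₀ with hσdef
  have hσ₀ : ∀ a ∈ F₀, σ a = a := fun a ha => by rw [hit]; exact (mem_iff F₀ hF₀ hq₀ a).1 ha
  have hmem : ∀ a, σ a = a → a ∈ F₀ := fun a ha => (mem_iff F₀ hF₀ hq₀ a).2 (by rwa [← hit])
  have hσp : ∀ a, σ a = a ^ p ^ f₀ := fun a => by rw [hit, hqp]
  have hcast : (Fintype.card F : ZMod r) = (q₀ : ZMod r) ^ k := by rw [hqk, Nat.cast_pow]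
  have hQ0 : (q₀ : ZMod r) ≠ 0 := by
    rw [Ne, ZMod.natCast_eq_zero_iff, hqp]
    exact fun h => hrp ((Nat.prime_dvd_prime_iff_eq hr Fact.out).1 (hr.dvd_of_dvd_pow h))
  constructor
  · intro H
    by_contra hrhs
    rw [not_or] at hrhs
    obtain ⟨hrk, hexc⟩ := hrhs
    obtain ⟨j, hj, hjr⟩ := (hr.prime.dvd_finsetProd_iff _).1
      ((hr.dvd_mul.1 (hΩ.trans (index_dvd F₀ hk.pos hF₀ hqk))).resolve_left fun h => hQ0
        ((ZMod.natCast_eq_zero_iff _ _).2 (hr.dvd_of_dvd_pow (hr.dvd_of_dvd_pow h))))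
    rw [← ZMod.natCast_eq_zero_iff, Nat.cast_sum] at hjr
    simp only [Nat.cast_pow] at hjr
    rw [Finset.mem_Ico] at hj
    have hy1 : (q₀ : ZMod r) ^ j ≠ 1 := by
      intro h1
      simp [h1, ZMod.natCast_eq_zero_iff, Nat.prime_dvd_prime_iff_eq hr hk, hrk] at hjr
    have hyk : (Fintype.card F : ZMod r) ^ j = 1 := by
      have h1 := geom_sum_mul ((q₀ : ZMod r) ^ j) k
      rw [hjr, zero_mul, eq_comm, sub_eq_zero] at h1
      rw [hcast, ← pow_mul, mul_comm, pow_mul, h1]
    set i := orderOf (Fintype.card F : ZMod r) with hi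
    have hij : i ∣ j := orderOf_dvd_of_pow_eq_one hyk
    have hipos : 0 < i := Nat.pos_of_dvd_of_pos hij (by omega)
    have hile : i ≤ n := (Nat.le_of_dvd (by omega) hij).trans (by omega)
    by_cases hi1 : i = 1
    · rw [hi, orderOf_eq_one_iff, hcast] at hi1
      have hQ1 : (q₀ : ZMod r) ≠ 1 := fun h => hy1 (by rw [h, one_pow])
      have hr1 : r ∣ Fintype.card F - 1 := Elusive.dvd_card_sub_one (orderOf_eq_one_iff.2 (hcast.trans hi1))
      rcases hk.eq_two_or_odd' with rfl | hkodd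
      · have hm1 : (q₀ : ZMod r) = -1 := (sq_eq_one_iff.1 hi1).resolve_left hQ1
        have hn3 : 3 ≤ n := by
          by_contra h
          have : j = 2 := by omega
          exact hy1 (by rw [this, hi1])
        obtain ⟨b, u, e, hb, hu, hdet, hne, hasym⟩ := exists_data (n := n) hr2 hr1 hn3 hgap (fun h => hexc
          ⟨rfl, h.2.1.symm, by omega, by
            have hq : Fintype.card F - 1 = (q₀ + 1) * (q₀ - 1) := by rw [hqk, ← Nat.sq_sub_sq, one_pow]
            have h0 : ¬ r ∣ q₀ - 1 := fun h => hQ1 (by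
              rw [← ZMod.natCast_eq_zero_iff, Nat.cast_sub hq₀.le, sub_eq_zero, Nat.cast_one] at h
              exact h)
            have h3 := h.2.2
            rwa [hq, padicValNat.mul (by omega) (by omega), padicValNat.eq_zero_of_not_dvd h0, add_zero] at h3⟩)
        refine diag_not_fixed F₀ hσ₀ (by omega) hb hu (hit u) e hdet hne (fun γ h => ?_) H
        obtain ⟨a, ha⟩ := hasym (-γ)
        apply ha
        have h1 := congrArg (Multiset.count (-a)) h
        rw [Multiset.count_map, Multiset.count_map, ← Finset.filter_val, ← Finset.filter_val, ← Finset.card_def,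
          ← Finset.card_def, hm1] at h1
        convert h1 using 2 <;> refine Finset.filter_congr fun l _ => ?_
        · rw [neg_one_mul, neg_inj, eq_comm]
        · constructor <;> intro h2 <;> first | linear_combination h2 | linear_combination -h2
      · have hk2 := hk.two_le
        haveI : Fact k.Prime := ⟨hk⟩
        have hkr : k ∣ r - 1 := by
          rw [← orderOf_eq_prime hi1 hQ1]
          exact ZMod.orderOf_dvd_card_sub_one hQ0
        have hr7 : 7 ≤ r := by
          obtain ⟨c, hc⟩ := hkr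
          obtain ⟨t, rfl⟩ := hkodd
          have hrodd := hr.odd_of_ne_two hr2
          obtain ⟨s, hs⟩ := hrodd
          have := hr.two_le
          have hc2 : 2 ≤ c := by
            by_contra hc2
            interval_cases c <;> omega
          by_contra h7
          have h6 : 2 * (2 * t + 1) ≤ (2 * t + 1) * c := by rw [mul_comm]; exact Nat.mul_le_mul_left _ hc2
          omega
        obtain ⟨e, hsum, hne, hst⟩ := exists_pair_data (n := n) hr7 hn hQ0 hQ1 (fun h => by
          rw [h, hkodd.neg_one_pow] at hi1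
          haveI : Fact (2 < r) := ⟨by omega⟩
          exact ZMod.neg_one_ne_one hi1)
        obtain ⟨u, hu⟩ : ∃ u : Fˣ, orderOf u = r := exists_prime_orderOf_dvd_card' r (by
          rw [Nat.card_units, Nat.card_eq_fintype_card]; exact hr1)
        have hprim : IsPrimitiveRoot (u : F) r := IsPrimitiveRoot.coe_units_iff.2 (hu ▸ IsPrimitiveRoot.orderOf u)
        refine diag_not_fixed F₀ hσ₀ (by omega) one_ne_zero hprim (hit _) e ?_ hne hst H
        rw [one_pow, one_mul, hprim.pow_eq_one_iff_dvd, ← ZMod.natCast_eq_zero_iff, Nat.cast_sum]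
        simpa using hsum
    · refine orbit_not_fixed F₀ (p := p) (f₀ := f₀) (r := r) hrp hσp hσ₀ (by omega) hile (fun l hl => hy1 ?_) H
      rw [← Nat.cast_pow p, ← hqp] at hl
      have h1 := congrArg (fun a => a ^ i) hl
      simp only [mul_pow, one_pow, ← pow_mul, mul_comm l i] at h1
      rw [pow_mul, hi, pow_orderOf_eq_one, one_pow, one_mul] at h1
      obtain ⟨t, ht⟩ := hij
      rw [ht, pow_mul, hi, h1, one_pow]
  · rintro (hrk | ⟨rfl, hrn, h35, hv⟩) x hc hx
    · subst hrk
      refine equal_fixed F₀ (p := p) (f₀ := f₀) hrp hσp hmem (by omega) hr2 (by rw [hqk, hqp]) (fun h => ?_) x hc hx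
      refine hgapk rfl ?_
      rw [← ZMod.natCast_eq_zero_iff, Nat.cast_sub Fintype.card_pos, hcast, ZMod.pow_card] at h
      rwa [← ZMod.natCast_eq_zero_iff, Nat.cast_sub hq₀.le]
    · exact exceptional_fixed F₀ hmem (by omega) hrn.symm hqk hv hit x hc hx

end Cfsg.Agent.S5965
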