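import Cfsg.Statements.S5966
import Cfsg.Agent.Lib.Elusive.Subfield
import Cfsg.Agent.Lib.UnipClasses.Basic
import Cfsg.Agent.Lib.Aschbacher.Forms

set_option autoImplicit false
open scoped MatrixGroups
open Cfsg

namespace Cfsg.Agent.S5966

set_option linter.unusedSectionVars false

open Module Matrix Polynomial

variable {F : Type*} [Field F] [Fintype F] [CharP F 3] {n : ℕ} (F₀ : Subfield F)

theorem cube_surj {K : Type*} [Field K] [Finite K] [CharP K 3] (c : K) : ∃ a : K, a ^ 3 = c := by
  haveI : Fact (Nat.Prime 3) := ⟨Nat.prime_three⟩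
  exact (Finite.injective_iff_surjective (f := fun a : K => a ^ 3)).1
    (frobenius_inj K 3) c

/-- Commuting maps scaling one block. -/
theorem exists_block_scale {d : ℕ} {k : Fin d → ℕ} (i : Fin d) (t : F) :
    ∃ g : End F ((Σ j, Fin (k j)) → F), g * LinRep.JordanType.shiftFun k = LinRep.JordanType.shiftFun k * g ∧
      LinearMap.det g = t ^ k i := by
  classical
  refine ⟨Matrix.toLin' (Matrix.diagonal fun p : Σ j, Fin (k j) => if p.1 = i then t else 1),
    LinearMap.ext fun v => funext fun p => ?_, ?_⟩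
  · simp only [Module.End.mul_apply, Matrix.toLin'_apply, Matrix.mulVec_diagonal]
    show _ = (if h : 0 < p.2.val then _ else 0)
    by_cases hp : 0 < p.2.val
    · simp [LinRep.JordanType.shiftFun, hp, Matrix.mulVec_diagonal]
    · simp [LinRep.JordanType.shiftFun, hp]
  · rw [LinearMap.det_toLin', Matrix.det_diagonal, Fintype.prod_sigma, Finset.prod_eq_single i]
    · simp
    · intro j _ hj; simp [hj]
    · exact fun h => absurd (Finset.mem_univ _) h

/-- A conjugate in `GL` in the subfield group, with the block sizes. -/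
theorem exists_model (x : Matrix.SpecialLinearGroup (Fin n) F) (hn : 0 < n)
    (hx : ∃ z : F, ((x ^ 3 : Matrix.SpecialLinearGroup (Fin n) F) : Matrix (Fin n) (Fin n) F) =
      z • (1 : Matrix (Fin n) (Fin n) F)) :
    ∃ (d : ℕ) (k : Fin d → ℕ) (P : GL (Fin n) F),
      P⁻¹ * Matrix.SpecialLinearGroup.toGL x * P ∈ Geo.subfieldSubgroup F₀ 1 ∧ ∑ i, k i = n ∧
      (∀ i, k i ≤ 3) ∧
      ∀ i t, ∃ g : End F (Fin n → F), g * Elusive.endOf x = Elusive.endOf x * g ∧
        LinearMap.det g = t ^ k i := by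
  haveI : Fact (Nat.Prime 3) := ⟨Nat.prime_three⟩
  obtain ⟨z, hz⟩ := hx
  obtain ⟨w, rfl⟩ := cube_surj z
  have hw : w ≠ 0 := by
    intro h0
    haveI := Fin.pos_iff_nonempty.1 hn
    have h2 := (x ^ 3).2
    rw [hz, h0, zero_pow three_ne_zero, zero_smul, Matrix.det_zero] at h2
    exact zero_ne_one h2
  obtain ⟨f, hf⟩ : ∃ f, f = Elusive.endOf x := ⟨_, rfl⟩
  set N : End F (Fin n → F) := w⁻¹ • f - 1 with hN
  have hN3 : N ^ 3 = 0 := by
    have h1 : ((Polynomial.X - 1 : F[X]) ^ 3) = Polynomial.X ^ 3 - 1 := by rw [sub_pow_char, one_pow]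
    have h2 := congrArg (aeval (w⁻¹ • f)) h1
    simp only [map_pow, map_sub, map_one, aeval_X] at h2
    rw [hN, h2, _root_.smul_pow, hf, (Elusive.endOf_pow_iff x 3 _).2 hz, smul_smul, ← mul_pow,
      inv_mul_cancel₀ hw, one_pow, one_smul, sub_self]
  obtain ⟨d, k, L, hL⟩ := UnipClasses.exists_shift N ⟨3, hN3⟩
  have hfN : ∀ v, f v = w • (v + N v) := fun v => by
    simp [hN, smul_smul, hw]
  obtain ⟨e, P, hP⟩ := Elusive.exists_gl_of_basis x (Basis.ofEquivFun L)
  have hle : ∀ i, k i ≤ 3 := by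
    intro i
    by_contra hlt
    have h1 := congrFun (UnipClasses.pow_conj L hL 3 (L.symm (Pi.single ⟨i, ⟨0, by omega⟩⟩ 1)))
      ⟨i, ⟨3, by omega⟩⟩
    rw [hN3, LinearMap.zero_apply, map_zero, L.apply_symm_apply, LinRep.JordanType.shiftFun_pow_apply] at h1
    simp at h1
  refine ⟨d, k, P, Elusive.mem_subfield_of F₀ _ hw fun i j => ?_, ?_, hle, fun i t => ?_⟩
  · rw [hP, Matrix.reindex_apply, Matrix.submatrix_apply, LinearMap.toMatrix_apply,
      Basis.ofEquivFun_repr_apply, ← hf, hfN, map_smul, map_add, hL, Pi.smul_apply, Pi.add_apply,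
      smul_eq_mul, inv_mul_cancel_left₀ hw, Basis.coe_ofEquivFun, L.apply_symm_apply]
    refine add_mem ?_ ?_
    · rw [Pi.single_apply]; split <;> simp [zero_mem, one_mem]
    · show (if h : 0 < (e.symm i).2.val then _ else 0) ∈ F₀
      split
      · rw [Pi.single_apply]; split <;> simp [zero_mem, one_mem]
      · exact zero_mem _
  · have := L.finrank_eq
    simp [Module.finrank_fintype_fun_eq_card] at this
    exact this.symm
  · obtain ⟨g, hg, hgd⟩ := exists_block_scale (k := k) i t
    refine ⟨L.symm.conjAlgEquiv F g, ?_, ?_⟩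
    · rw [← hf]
      refine LinearMap.ext fun v => ?_
      simp only [Module.End.mul_apply, LinearEquiv.conjAlgEquiv_apply, LinearMap.comp_apply,
        LinearEquiv.coe_coe, LinearEquiv.symm_symm, hfN, map_add, map_smul]
      congr 2
      refine L.injective ?_
      rw [L.apply_symm_apply, hL, hL, L.apply_symm_apply]
      exact DFunLike.congr_fun hg (L v)
    · show LinearMap.det (L.symm.toLinearMap ∘ₗ g ∘ₗ L.symm.symm.toLinearMap) = _
      rw [LinearMap.det_conj, hgd]

theorem conj_of_cond {k q₀ : ℕ} (hk : k.Prime) (hn : 0 < n) (hF₀ : Nat.card F₀ = q₀)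
    (hqk : Fintype.card F = q₀ ^ k) (hc : Odd n ∨ 2 < k) (x : Matrix.SpecialLinearGroup (Fin n) F)
    (hx : ∃ z : F, ((x ^ 3 : Matrix.SpecialLinearGroup (Fin n) F) : Matrix (Fin n) (Fin n) F) =
      z • (1 : Matrix (Fin n) (Fin n) F)) :
    ∃ Q : Matrix.SpecialLinearGroup (Fin n) F,
      Q⁻¹ * x * Q ∈ (Geo.subfieldSubgroup F₀ 1).comap Matrix.SpecialLinearGroup.toGL := by
  obtain ⟨d, b, P, hP, hsum, hle, hdet⟩ := exists_model F₀ x hn hx
  by_cases h13 : ∃ i, b i = 1 ∨ b i = 3
  · obtain ⟨i, hi⟩ := h13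
    refine Elusive.exists_sl_conj _ x (fun u _ => ?_) P hP
    rcases hi with hi | hi
    · simpa [hi] using hdet i u
    · obtain ⟨t, rfl⟩ := cube_surj u
      simpa [hi] using hdet i t
  push Not at h13
  have heven : ∀ i, b i = 0 ∨ b i = 2 := fun i => by have := hle i; have := h13 i; omega
  have hk2 : 2 < k := hc.resolve_left fun ho => by
    rw [← hsum, Finset.odd_sum_iff_odd_card_odd, Finset.filter_false_of_mem (fun i _ => by
      rcases heven i with h | h <;> simp [h])] at ho
    simp at ho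
  obtain ⟨i, hi⟩ : ∃ i, b i = 2 := by
    by_contra hall
    push Not at hall
    have : ∑ i, b i = 0 := Finset.sum_eq_zero fun i _ => (heven i).resolve_right (hall i)
    omega
  -- every element is a norm times a square
  set u := P.val.det⁻¹ with hu
  have hu0 : u ≠ 0 := inv_ne_zero ((Matrix.isUnit_iff_isUnit_det _).1 P.isUnit).ne_zero
  have : Fintype F₀ := Fintype.ofFinite _
  set e := ∑ j ∈ Finset.range k, q₀ ^ j with he
  have hq₀ : 1 < q₀ := hF₀ ▸ Finite.one_lt_card
  have hueF : u ^ e ∈ F₀ := by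
    have h1 : (u ^ e) ^ (q₀ - 1) = 1 := by
      have h : e * (q₀ - 1) = q₀ ^ k - 1 := by
        rw [he]; zify [hq₀.le, Nat.one_le_pow k q₀ (by omega)]; exact geom_sum_mul _ k
      rw [← pow_mul, h, ← hqk]
      exact FiniteField.pow_card_sub_one_eq_one u hu0
    refine Aschbacher.mem_subfield_of_pow_eq ?_
    rw [hF₀, show q₀ = q₀ - 1 + 1 by omega, pow_succ, h1, one_mul]
  obtain ⟨r, hr⟩ : Odd e := by
    have hq : Odd q₀ := by
      haveI : Fact (Nat.Prime 3) := ⟨Nat.prime_three⟩
      have h := FiniteField.odd_card_of_char_ne_two (F := F) (by rw [ringChar.eq F 3]; norm_num)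
      rw [← Nat.odd_iff, hqk] at h
      exact (Nat.odd_pow_iff hk.ne_zero).1 h
    rw [he, Finset.odd_sum_iff_odd_card_odd, Finset.filter_true_of_mem (fun j _ => hq.pow),
      Finset.card_range]
    exact hk.odd_of_ne_two (by omega)
  -- the twist in the subfield group
  let D : GL (Fin n) F := Matrix.GeneralLinearGroup.mkOfDetNeZero
    (Matrix.diagonal fun j => if j = ⟨0, hn⟩ then u ^ e else 1) (by simp [hu0])
  have hD : D ∈ Geo.subfieldSubgroup F₀ 1 := Elusive.mem_subfield_of F₀ _ one_ne_zero fun a c => by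
    rw [inv_one, one_mul]
    show Matrix.diagonal _ a c ∈ F₀
    rw [Matrix.diagonal_apply]
    split
    · split
      · exact hueF
      · exact one_mem _
    · exact zero_mem _
  obtain ⟨g, hg, hgd⟩ := hdet i ((u ^ r)⁻¹)
  refine Elusive.exists_sl_conj_of _ x (P * D) ?_ hg ?_
  · have h1 := mul_mem (mul_mem (inv_mem hD) hP) hD
    simpa [mul_assoc] using h1
  · rw [hgd, hi, Units.val_mul, Matrix.det_mul, show D.val.det = u ^ e from by simp [D],
      show P.val.det = u⁻¹ by rw [hu, inv_inv]]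
    rw [hr]
    field_simp
    ring

set_option maxHeartbeats 1000000 in
/-- The twisted element has no conjugate of determinant one over the subfield. -/
theorem square_of_twist {m : ℕ} (hmem : ∀ a ∈ F₀, IsSquare a) (c : Fin m → F) (hc : ∀ j, c j ≠ 0)
    (Q y : Matrix (Fin m ⊕ Fin m) (Fin m ⊕ Fin m) F) (hQ : Q.det = 1) (hy : ∀ i j, y i j ∈ F₀)
    (hQy : Matrix.fromBlocks (1 : Matrix (Fin m) (Fin m) F) (Matrix.diagonal c) (0 : Matrix (Fin m) (Fin m) F) (1 : Matrix (Fin m) (Fin m) F) * Q = Q * y) :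
    IsSquare (∏ j, c j) := by
  classical
  set X := Matrix.fromBlocks (1 : Matrix (Fin m) (Fin m) F) (Matrix.diagonal c) (0 : Matrix (Fin m) (Fin m) F) (1 : Matrix (Fin m) (Fin m) F) with hX
  obtain ⟨Qi, hQi1, hQi2⟩ : ∃ Qi, Qi * Q = 1 ∧ Q * Qi = 1 :=
    ⟨Q⁻¹, Matrix.nonsing_inv_mul _ (by simp [hQ]), Matrix.mul_nonsing_inv _ (by simp [hQ])⟩
  set N := y - 1 with hN
  have hQN : (X - 1) * Q = Q * N := by rw [hN, sub_mul, mul_sub, hQy, one_mul, mul_one]
  have hX1 : X - 1 = Matrix.fromBlocks 0 (Matrix.diagonal c) 0 0 := by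
    rw [hX, sub_eq_iff_eq_add, ← Matrix.fromBlocks_one, Matrix.fromBlocks_add]
    simp
  have hXX : (X - 1) * (X - 1) = 0 := by
    rw [hX1, Matrix.fromBlocks_multiply]
    simp
  clear_value N
  have hNN : N * N = 0 := by
    have h1 : N = Qi * ((X - 1) * Q) := by rw [hQN, ← mul_assoc, hQi1, one_mul]
    calc N * N = Qi * ((X - 1) * Q) * N := congrArg (· * N) h1
      _ = Qi * ((X - 1) * Q * N) := mul_assoc _ _ _
      _ = Qi * ((X - 1) * ((X - 1) * Q)) := by rw [mul_assoc (X - 1), ← hQN]
      _ = 0 := by rw [← mul_assoc (X - 1), hXX, zero_mul, mul_zero]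
  set T := Set.range fun i => N *ᵥ Pi.single i (1 : F) with hT
  obtain ⟨S, hS, hSspan, hSli⟩ := exists_linearIndependent F T
  have : Finite S := (Set.finite_range _).subset hS
  have : Fintype S := Fintype.ofFinite _
  have hcard : m ≤ Fintype.card S := by
    have hli : LinearIndependent F fun j : Fin m => N *ᵥ (Qi *ᵥ Pi.single (.inr j) (1 : F)) := by
      have h1 : ∀ j : Fin m, N *ᵥ (Qi *ᵥ Pi.single (.inr j) (1 : F)) =
          c j • (Qi *ᵥ Pi.single (.inl j) (1 : F)) := by
        intro j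
        have h2 : (X - 1) *ᵥ Pi.single (.inr j) (1 : F) = c j • Pi.single (.inl j) 1 := by
          funext i
          rw [hX1]
          rcases i with i | i <;> simp [Matrix.diagonal_apply, Pi.single_apply]
          by_cases hij : i = j <;> simp [hij]
        rw [Matrix.mulVec_mulVec, show N * Qi = Qi * (X - 1) by
          calc N * Qi = Qi * (Q * N) * Qi := by rw [← mul_assoc Qi, hQi1, one_mul]
            _ = Qi * ((X - 1) * (Q * Qi)) := by rw [← hQN]; simp only [mul_assoc]
            _ = _ := by rw [hQi2, mul_one], ← Matrix.mulVec_mulVec, h2, Matrix.mulVec_smul]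
      simp_rw [h1]
      refine LinearIndependent.units_smul ?_ (fun j => Units.mk0 (c j) (hc j))
      have hbase : LinearIndependent F fun j : Fin m => (Pi.single (Sum.inl j) (1 : F) : Fin m ⊕ Fin m → F) :=
        (Pi.linearIndependent_single_one (Fin m ⊕ Fin m) F).comp _ Sum.inl_injective
      refine hbase.map' (Matrix.mulVecLin Qi) (LinearMap.ker_eq_bot_of_injective fun v v' hv => ?_)
      have := congrArg (Q *ᵥ ·) (show Qi *ᵥ v = Qi *ᵥ v' from hv)
      simpa [Matrix.mulVec_mulVec, hQi2] using this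
    have hmem' : ∀ v, N *ᵥ v ∈ Submodule.span F S := by
      intro v
      rw [hSspan, show N *ᵥ v = ∑ i, v i • (N *ᵥ Pi.single i (1 : F)) by
        simp_rw [← Matrix.mulVec_smul]
        rw [← Matrix.mulVec_sum]
        congr 1
        funext i
        simp [Pi.single_apply]]
      exact Submodule.sum_mem _ fun i _ => Submodule.smul_mem _ _ (Submodule.subset_span ⟨i, rfl⟩)
    have h3 : LinearIndependent F fun j : Fin m =>
        (⟨_, hmem' (Qi *ᵥ Pi.single (.inr j) (1 : F))⟩ : Submodule.span F S) := LinearIndependent.of_comp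
      (Submodule.span F S).subtype hli
    have := h3.fintype_card_le_finrank
    rwa [Fintype.card_fin, show finrank F (Submodule.span F S) = Fintype.card S by
      rw [← Set.toFinset_card, finrank_span_set_eq_card hSli]] at this
  obtain ⟨ι⟩ : Nonempty (Fin m ↪ S) := Function.Embedding.nonempty_of_card_le (by simpa using hcard)
  choose s hs using fun j => hS (ι j).2
  set D : Matrix (Fin m ⊕ Fin m) (Fin m ⊕ Fin m) F := Matrix.of fun i p =>
    Sum.elim (fun j => (N *ᵥ Pi.single (s j) 1) i) (fun j => (Pi.single (s j) 1 : _ → F) i) p with hD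
  have hcolS : LinearIndependent F fun j => N *ᵥ Pi.single (s j) (1 : F) := by
    simp only [hs]
    exact hSli.comp ι ι.injective
  have hcol : LinearIndependent F D.col := by
    have hi : LinearIndependent F (Sum.elim (fun j => N *ᵥ Pi.single (s j) (1 : F))
        fun j => (Pi.single (s j) 1 : Fin m ⊕ Fin m → F)) := by
      rw [Fintype.linearIndependent_iff]
      intro g hg
      rw [Fintype.sum_sum_type] at hg
      simp only [Sum.elim_inl, Sum.elim_inr] at hg
      have h2 : ∀ j, g (.inr j) = 0 := by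
        have h3 := congrArg (N *ᵥ ·) hg
        simp only [Matrix.mulVec_add, Matrix.mulVec_sum, Matrix.mulVec_smul, Matrix.mulVec_mulVec,
          hNN, Matrix.zero_mulVec, smul_zero, Finset.sum_const_zero, zero_add, Matrix.mulVec_zero] at h3
        exact Fintype.linearIndependent_iff.1 hcolS _ h3
      simp only [h2, zero_smul, Finset.sum_const_zero, add_zero] at hg
      rintro (j | j)
      · exact Fintype.linearIndependent_iff.1 hcolS _ hg j
      · exact h2 j
    convert hi using 1
    funext p; rcases p with j | j <;> rfl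
  have hDdet : D.det ≠ 0 := ((Matrix.isUnit_iff_isUnit_det _).1
    (Matrix.linearIndependent_cols_iff_isUnit.1 hcol)).ne_zero
  have hDmem : D.det ∈ F₀ := by
    have h1 : ∀ i p, D i p ∈ F₀ := by
      intro i p
      rcases p with j | j
      · show (N *ᵥ Pi.single (s j) 1) i ∈ F₀
        rw [Matrix.mulVec_single_one]
        show N i (s j) ∈ F₀
        rw [hN, Matrix.sub_apply]
        refine sub_mem (hy _ _) ?_
        rw [Matrix.one_apply]; split <;> simp [zero_mem, one_mem]
      · show (Pi.single (s j) 1 : _ → F) i ∈ F₀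
        rw [Pi.single_apply]; split <;> simp [zero_mem, one_mem]
    rw [Matrix.det_apply']
    exact Subfield.sum_mem _ fun σ _ => mul_mem (intCast_mem _ _) (prod_mem fun i _ => h1 _ _)
  -- `X` in the new basis
  set J : Matrix (Fin m ⊕ Fin m) (Fin m ⊕ Fin m) F := Matrix.fromBlocks 1 1 0 1 with hJ
  have hyD : y * D = D * J := by
    have hy1 : y = 1 + N := by rw [hN, add_sub_cancel]
    ext i p
    have hcolJ : (D * J) i p = D i p + Sum.elim (fun _ => 0) (fun j => D i (.inl j)) p := by
      rw [Matrix.mul_apply, Fintype.sum_sum_type]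
      rcases p with j | j
      · simp [hJ, Matrix.one_apply]
      · simp [hJ, Matrix.one_apply, add_comm]
    rw [hcolJ, hy1, add_mul, one_mul, Matrix.add_apply]
    congr 1
    show (N *ᵥ fun l => D l p) i = _
    rcases p with j | j
    · show (N *ᵥ (N *ᵥ Pi.single (s j) 1)) i = 0
      rw [Matrix.mulVec_mulVec, hNN, Matrix.zero_mulVec]; rfl
    · rfl
  set R := Q * D with hR
  have hXR : X * R = R * J := by rw [hR, ← mul_assoc, hQy, mul_assoc, hyD, mul_assoc]
  have hRdet : R.det = D.det := by rw [hR, Matrix.det_mul, hQ, one_mul]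
  obtain ⟨a, b, c', d, hblk⟩ : ∃ a b c' d, R = Matrix.fromBlocks a b c' d :=
    ⟨_, _, _, _, (Matrix.fromBlocks_toBlocks R).symm⟩
  rw [hblk, hX, hJ, Matrix.fromBlocks_multiply, Matrix.fromBlocks_multiply, Matrix.fromBlocks_inj] at hXR
  simp only [one_mul, mul_one, zero_mul, mul_zero, add_zero, zero_add] at hXR
  obtain ⟨e1, e2, -, e4⟩ := hXR
  have hdiag : (Matrix.diagonal c).det = ∏ j, c j := Matrix.det_diagonal
  have hc0 : c' = 0 := by
    have hu : IsUnit (Matrix.diagonal c) :=
      (Matrix.isUnit_iff_isUnit_det _).2 (by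
        rw [hdiag]; exact (Finset.prod_ne_zero_iff.2 fun j _ => hc j).isUnit)
    exact hu.mul_right_eq_zero.1 (add_eq_left.1 e1)
  have had : a = Matrix.diagonal c * d := by
    have : b + Matrix.diagonal c * d = b + a := by rw [e2, add_comm]
    exact (add_left_cancel this).symm
  rw [hblk, hc0, Matrix.det_fromBlocks_zero₂₁, had, Matrix.det_mul, hdiag] at hRdet
  have hd0 : d.det ≠ 0 := fun h0 => hDdet (by rw [← hRdet, h0, mul_zero])
  obtain ⟨r, hr⟩ := hmem _ hDmem
  exact ⟨r / d.det, by field_simp; linear_combination hRdet + hr⟩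

/-- Elements of order 3 of PSL_n(q) in characteristic 3 and subfield subgroups. Here `T = PSL_n(F)` for a field `F` with `q` elements, `q` a power of 3 (`n ≥ 2`, `(n, q) ≠ (2, 2), (2, 3)`), `F₀` is the subfield with `q₀` elements where `q = q₀^k` for a prime `k`, and `H` is the subgroup of matrices of determinant 1 lying in the subfield group of `F₀` (invertible matrices over `F₀` times scalars) — a maximal subgroup of type GL_n(q₀) (the case `n = 2`, `q₀ = 2` is excluded); Ω is the set of `T`-conjugates of `H` (cosets of `H`), so an element of `T` of prime order `r` (a matrix `x` of determinant 1 with `x^r` scalar, `x` not scalar) fixes a point of Ω when some conjugate of `x` by a matrix of determinant 1 lies in `H`. Suppose 3 divides the index of `H`. Then every element of `T` of order 3 is conjugate in `T` into `H` if and only if `n` is odd, or `n` is even and `k > 2`. -/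
theorem result {F : Type*} [Field F] [Fintype F] [CharP F 3] {q : ℕ} (hq : Fintype.card F = q)
    (n : ℕ) (hn : 2 ≤ n) (hT : (n, q) ≠ (2, 3))
    (F₀ : Subfield F) (k q₀ : ℕ) (hk : k.Prime) (hF₀ : Nat.card ↥F₀ = q₀) (hqk : q = q₀ ^ k) (hC5 : ¬ (n = 2 ∧ q₀ = 2)) (hΩ : 3 ∣ ((Cfsg.Geo.subfieldSubgroup F₀ 1).comap (Matrix.SpecialLinearGroup.toGL : Matrix.SpecialLinearGroup (Fin n) F →* GL (Fin n) F)).index) :
    (∀ x : Matrix.SpecialLinearGroup (Fin n) F,
      (∃ z : F, ((x ^ 3 : Matrix.SpecialLinearGroup (Fin n) F) : Matrix (Fin n) (Fin n) F) = z • (1 : Matrix (Fin n) (Fin n) F)) →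
      (∀ z : F, (x : Matrix (Fin n) (Fin n) F) ≠ z • (1 : Matrix (Fin n) (Fin n) F)) →
      ∃ P : Matrix.SpecialLinearGroup (Fin n) F, P⁻¹ * x * P ∈ ((Cfsg.Geo.subfieldSubgroup F₀ 1).comap (Matrix.SpecialLinearGroup.toGL : Matrix.SpecialLinearGroup (Fin n) F →* GL (Fin n) F))) ↔
    (Odd n ∨ (Even n ∧ 2 < k)) := by
  subst hq
  haveI : Fact (Nat.Prime 3) := ⟨Nat.prime_three⟩
  constructor
  · intro H
    rcases Nat.even_or_odd n with he | ho
    swap
    · exact Or.inl ho
    refine Or.inr ⟨he, ?_⟩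
    by_contra hk2
    obtain rfl : k = 2 := le_antisymm (by omega) hk.two_le
    obtain ⟨m, rfl⟩ := he
    have hchar : ringChar F ≠ 2 := by rw [ringChar.eq F 3]; norm_num
    have hq0 : Odd q₀ := (Nat.odd_pow_iff two_ne_zero).1
      (hqk ▸ Nat.odd_iff.2 (FiniteField.odd_card_of_char_ne_two hchar))
    obtain ⟨ν, hν⟩ := FiniteField.exists_nonsquare hchar
    have hm : 0 < m := by omega
    let c : Fin m → F := fun j => if j = ⟨0, hm⟩ then ν else 1
    have hν0 : ν ≠ 0 := fun h => hν (h ▸ IsSquare.zero)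
    have hc : ∀ j, c j ≠ 0 := fun j => by simp only [c]; split <;> simp [hν0]
    have hprod : ∏ j, c j = ν := by simp [c]
    let X : Matrix (Fin m ⊕ Fin m) (Fin m ⊕ Fin m) F := Matrix.fromBlocks 1 (Matrix.diagonal c) 0 1
    let ψ := Matrix.reindexAlgEquiv F F (finSumFinEquiv : Fin m ⊕ Fin m ≃ Fin (m + m))
    have hdet : (ψ X).det = 1 := by
      rw [Matrix.det_reindexAlgEquiv]; simp [X, Matrix.det_fromBlocks_zero₂₁]
    let x : Matrix.SpecialLinearGroup (Fin (m + m)) F := ⟨ψ X, hdet⟩
    have h3 : (3 : F) = 0 := CharP.cast_eq_zero F 3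
    have hX3 : X * X * X = 1 := by
      simp only [X, Matrix.fromBlocks_multiply, one_mul, mul_one, zero_mul, mul_zero, add_zero, zero_add]
      rw [show Matrix.diagonal c + (Matrix.diagonal c + Matrix.diagonal c) = (3 : F) • Matrix.diagonal c by
        module, h3, zero_smul, Matrix.fromBlocks_one]
    obtain ⟨P, hP⟩ := H x ⟨1, by
      rw [pow_succ, pow_two]
      show ψ X * ψ X * ψ X = _
      rw [← map_mul, ← map_mul, hX3, map_one, one_smul]⟩ (fun z hz => by
      have h1 : ψ X = ψ (z • 1) := by rw [map_smul, map_one]; exact hz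
      have h2 := congrFun (congrFun (ψ.injective h1) (.inl ⟨0, hm⟩)) (.inr ⟨0, hm⟩)
      simp [X, c, hν0] at h2)
    obtain ⟨Y, μ, hμ, hy⟩ := Elusive.exists_of_mem_subfield F₀ hP
    have hy' : (P⁻¹ * x * P).1 = μ • Y.val.map F₀.subtype := hy
    -- the scalar lies in the subfield
    have hμF : μ ∈ F₀ := by
      have h1 : (P⁻¹ * x * P) ^ 3 = P⁻¹ * x ^ 3 * P := by rw [pow_succ, pow_two, pow_succ, pow_two]; group
      have h2 : x ^ 3 = 1 := Subtype.ext (by
        rw [pow_succ, pow_two]
        show ψ X * ψ X * ψ X = _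
        rw [← map_mul, ← map_mul, hX3, map_one]; rfl)
      rw [h2, mul_one, inv_mul_cancel] at h1
      have h4 : (P⁻¹ * x * P).1 * (P⁻¹ * x * P).1 * (P⁻¹ * x * P).1 = 1 := by
        rw [pow_succ, pow_two] at h1; exact congrArg Subtype.val h1
      rw [hy'] at h4
      simp only [Matrix.smul_mul, Matrix.mul_smul, smul_smul, ← Matrix.map_mul] at h4
      have h5 := congrFun (congrFun h4 ⟨0, by omega⟩) ⟨0, by omega⟩
      rw [Matrix.smul_apply, Matrix.map_apply, Matrix.one_apply_eq, smul_eq_mul] at h5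
      have h6 : μ ^ 3 ∈ F₀ := by
        rw [show μ ^ 3 = μ * (μ * μ) by ring, eq_inv_of_mul_eq_one_left h5]
        exact inv_mem (SetLike.coe_mem _)
      obtain ⟨a, ha⟩ := cube_surj (⟨_, h6⟩ : F₀)
      have : (a : F) = μ := frobenius_inj F 3 (by simpa [frobenius_def] using congrArg Subtype.val ha)
      exact this ▸ a.2
    have hQy : X * ψ.symm P.1 = ψ.symm P.1 * ψ.symm (P⁻¹ * x * P).1 := by
      have h1 : P * (P⁻¹ * x * P) = x * P := by group
      rw [← map_mul, show P.1 * (P⁻¹ * x * P).1 = x.1 * P.1 from congrArg Subtype.val h1, map_mul]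
      show X * _ = ψ.symm (ψ X) * _
      rw [AlgEquiv.symm_apply_apply]
    refine hν (hprod ▸ square_of_twist F₀ (fun a ha => Elusive.isSquare_of_mem F₀ hF₀ hqk hq0 ha) c hc
      (ψ.symm P.1) (ψ.symm (P⁻¹ * x * P).1) ?_ (fun i j => ?_) hQy)
    · rw [Matrix.reindexAlgEquiv_symm, Matrix.det_reindexAlgEquiv]; exact P.2
    · rw [hy']
      exact mul_mem hμF (SetLike.coe_mem _)
  · intro hc x hx _
    exact conj_of_cond F₀ hk (by omega) hF₀ hqk (hc.imp id fun h => h.2) x hx

end Cfsg.Agent.S5966
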