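import Cfsg.Statements.S5967
import Cfsg.Agent.Lib.Elusive.InvolutionPairs
import Cfsg.Agent.Lib.Forms.Classify

set_option autoImplicit false
open scoped MatrixGroups
open Cfsg

namespace Cfsg.Agent.S5967

set_option linter.unusedSectionVars false

open Module Matrix

variable {F : Type*} [Field F] [Fintype F] {n : ℕ}

/-- A bilinear form from a symplectic form function. -/
noncomputable def bilOf (f : (Fin n → F) → (Fin n → F) → F) (hf : Geo.IsBilinearForm f) :
    LinearMap.BilinForm F (Fin n → F) :=
  LinearMap.mk₂ F f hf.add_left hf.smul_left hf.add_right hf.smul_right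

/-- Coordinates of a non-degenerate alternating form. -/
theorem exists_coords (B : LinearMap.BilinForm F (Fin n → F)) (hA : B.IsAlt)
    (hB : ∀ u, (∀ v, B u v = 0) → u = 0) :
    ∃ (m : ℕ) (e : (Fin n → F) ≃ₗ[F] (Fin m ⊕ Fin m → F)), n = m + m ∧
      ∀ u v, B u v = sympForm m F (e v) (e u) := by
  obtain ⟨m, k, e, he⟩ := Forms.exists_alt_coords B hA
  rcases Nat.eq_zero_or_pos k with rfl | hk
  · refine ⟨m, e.trans (LinearEquiv.funCongrLeft F F (Equiv.sumEmpty (Fin m ⊕ Fin m) (Fin 0)).symm), ?_,
      fun u v => he u v⟩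
    have := e.finrank_eq
    simpa [Module.finrank_fintype_fun_eq_card] using this
  · exfalso
    set u := e.symm (Pi.single (.inr ⟨0, hk⟩) 1) with hu
    have h0 : u = 0 := hB u fun v => by
      rw [he, hu, e.apply_symm_apply, Forms.sympForm_eq_sum]
      simp
    have h1 := congrArg e h0
    rw [hu, e.apply_symm_apply, map_zero] at h1
    simpa using congrFun h1 (.inr ⟨0, hk⟩)

/-- A similitude of some non-degenerate alternating form is conjugate into the similarity group. -/
theorem conj_of_similitude (f : (Fin n → F) → (Fin n → F) → F) (hf : Geo.IsSymplecticForm f)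
    (x : Matrix.SpecialLinearGroup (Fin n) F) (hx : Elusive.DetSurj (Elusive.endOf x))
    (B : LinearMap.BilinForm F (Fin n → F)) (hA : B.IsAlt) (hB : ∀ u, (∀ v, B u v = 0) → u = 0)
    {c : F} (hc : c ≠ 0) (hsim : ∀ u v, B (Elusive.endOf x u) (Elusive.endOf x v) = c * B u v) :
    ∃ Q : Matrix.SpecialLinearGroup (Fin n) F,
      Q⁻¹ * x * Q ∈ (Geo.similarityGroup f).comap Matrix.SpecialLinearGroup.toGL := by
  obtain ⟨m, eB, hm, heB⟩ := exists_coords B hA hB
  obtain ⟨m', eF, hm', heF⟩ := exists_coords (bilOf f hf.bilinear) (fun v => hf.alternating v)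
    (fun u hu => by
      by_contra hne
      obtain ⟨y, hy⟩ := (hf.nondegenerate u hne).2
      exact hy (hu y))
  obtain rfl : m = m' := by omega
  let E : (Fin n → F) ≃ₗ[F] (Fin n → F) := eF.trans eB.symm
  have hE : ∀ u v, f u v = B (E u) (E v) := fun u v => by
    rw [heB, show eB (E u) = eF u from eB.apply_symm_apply _, show eB (E v) = eF v from eB.apply_symm_apply _,
      ← heF]
    rfl
  let P : GL (Fin n) F := ⟨LinearMap.toMatrix' E.toLinearMap, LinearMap.toMatrix' E.symm.toLinearMap,
    by rw [← LinearMap.toMatrix'_comp, LinearEquiv.comp_symm, LinearMap.toMatrix'_id],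
    by rw [← LinearMap.toMatrix'_comp, LinearEquiv.symm_comp, LinearMap.toMatrix'_id]⟩
  have hP : ∀ u, P.val *ᵥ u = E u := fun u => by
    show LinearMap.toMatrix' E.toLinearMap *ᵥ u = _
    rw [LinearMap.toMatrix'_mulVec]; rfl
  refine Elusive.exists_sl_conj _ x hx P ⟨Units.mk0 c hc, fun u v => ?_⟩
  set y : GL (Fin n) F := P⁻¹ * Matrix.SpecialLinearGroup.toGL x * P with hy
  have h1 : ∀ u, E (y.val *ᵥ u) = Elusive.endOf x (E u) := fun u => by
    rw [← hP, ← hP, Matrix.mulVec_mulVec, ← Units.val_mul, hy, mul_assoc, mul_inv_cancel_left,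
      Units.val_mul, ← Matrix.mulVec_mulVec, Elusive.endOf, Matrix.toLin'_apply]
    rfl
  rw [hE, h1, h1, hsim, ← hE, Units.val_mk0]

/-- Planes of constant determinant carry a form. -/
theorem exists_form {κ : Type*} [Fintype κ] [DecidableEq κ] (b : Basis (Fin 2 × κ) F (Fin n → F))
    (g : End F (Fin n → F)) (M : κ → Matrix (Fin 2) (Fin 2) F) {c : F}
    (hg : ∀ a i, g (b (a, i)) = M i 0 a • b (0, i) + M i 1 a • b (1, i)) (hM : ∀ i, (M i).det = c) :
    ∃ B : LinearMap.BilinForm F (Fin n → F), B.IsAlt ∧ (∀ u, (∀ v, B u v = 0) → u = 0) ∧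
      ∀ u v, B (g u) (g v) = c * B u v := by
  let co : (Fin n → F) →ₗ[F] (Fin 2 × κ → F) := b.equivFun.toLinearMap
  let B : LinearMap.BilinForm F (Fin n → F) := LinearMap.mk₂ F
    (fun u v => ∑ i, (co u (0, i) * co v (1, i) - co u (1, i) * co v (0, i)))
    (fun u u' v => by
      rw [← Finset.sum_add_distrib]; refine Finset.sum_congr rfl fun i _ => ?_
      simp only [map_add, Pi.add_apply]; ring)
    (fun a u v => by
      rw [smul_eq_mul, Finset.mul_sum]; refine Finset.sum_congr rfl fun i _ => ?_
      simp only [map_smul, Pi.smul_apply, smul_eq_mul]; ring)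
    (fun u v v' => by
      rw [← Finset.sum_add_distrib]; refine Finset.sum_congr rfl fun i _ => ?_
      simp only [map_add, Pi.add_apply]; ring)
    (fun a u v => by
      rw [smul_eq_mul, Finset.mul_sum]; refine Finset.sum_congr rfl fun i _ => ?_
      simp only [map_smul, Pi.smul_apply, smul_eq_mul]; ring)
  have hco : ∀ p, co (b p) = Pi.single p 1 := fun p => by
    funext q
    simp [co, Basis.equivFun_self, Pi.single_apply, eq_comm]
  have hco' : ∀ u (a : Fin 2) i, co (g u) (a, i) = M i a 0 * co u (0, i) + M i a 1 * co u (1, i) := by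
    intro u a i
    have h : (LinearMap.proj (a, i) : (Fin 2 × κ → F) →ₗ[F] F).comp (co.comp g) =
        M i a 0 • (LinearMap.proj (0, i) : (Fin 2 × κ → F) →ₗ[F] F).comp co +
        M i a 1 • (LinearMap.proj (1, i) : (Fin 2 × κ → F) →ₗ[F] F).comp co := by
      refine b.ext fun ⟨a', i'⟩ => ?_
      simp only [LinearMap.comp_apply, LinearMap.proj_apply, LinearMap.add_apply, LinearMap.smul_apply,
        hg, map_add, map_smul, hco, Pi.smul_apply, Pi.add_apply, smul_eq_mul, Pi.single_apply, Prod.mk.injEq]
      by_cases hi : i = i'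
      · subst hi; fin_cases a <;> fin_cases a' <;> simp
      · fin_cases a <;> fin_cases a' <;> simp [hi]
    exact DFunLike.congr_fun h u
  refine ⟨B, fun v => ?_, fun u hu => ?_, fun u v => ?_⟩
  · show ∑ i, (co v (0, i) * co v (1, i) - co v (1, i) * co v (0, i)) = 0
    exact Finset.sum_eq_zero fun i _ => by ring
  · refine b.equivFun.injective ((funext fun p => ?_ : co u = 0).trans (map_zero _).symm)
    obtain ⟨a, i⟩ := p
    have h1 : ∀ a' : Fin 2, ∑ j, (co u (0, j) * (Pi.single (a', i) 1 : Fin 2 × κ → F) (1, j) -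
        co u (1, j) * (Pi.single (a', i) 1 : Fin 2 × κ → F) (0, j)) = 0 := fun a' => by
      rw [← hco]; exact hu (b (a', i))
    fin_cases a
    · have := h1 1
      simpa [Pi.single_apply] using this
    · have := h1 0
      simpa [Pi.single_apply] using this
  · show ∑ i, (co (g u) (0, i) * co (g v) (1, i) - co (g u) (1, i) * co (g v) (0, i)) =
      c * ∑ i, (co u (0, i) * co v (1, i) - co u (1, i) * co v (0, i))
    rw [Finset.mul_sum]
    refine Finset.sum_congr rfl fun i _ => ?_
    rw [hco', hco', hco', hco', ← hM i, Matrix.det_fin_two]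
    ring

/-- One eigenvalue of multiplicity one, in dimension more than two. -/
theorem no_similitude (f : (Fin n → F) → (Fin n → F) → F) (hf : Geo.IsSymplecticForm f) (hn : 2 < n)
    (h2 : (2 : F) ≠ 0) (x P : Matrix.SpecialLinearGroup (Fin n) F) {w : F} (hw : w ≠ 0) (i₀ : Fin n)
    (hxv : x.1 = w • (1 + Matrix.single i₀ i₀ (-2))) :
    P⁻¹ * x * P ∉ (Geo.similarityGroup f).comap Matrix.SpecialLinearGroup.toGL := by
  classical
  rintro ⟨c, hc⟩
  set Pi' : Matrix (Fin n) (Fin n) F := (P⁻¹ : Matrix.SpecialLinearGroup (Fin n) F).1 with hPi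
  have h1 : Pi' * P.1 = 1 := congrArg Subtype.val (inv_mul_cancel P)
  have h2' : P.1 * Pi' = 1 := congrArg Subtype.val (mul_inv_cancel P)
  let β : LinearMap.BilinForm F (Fin n → F) :=
    (bilOf f hf.bilinear).compl₁₂ (Matrix.toLin' Pi') (Matrix.toLin' Pi')
  let e : Fin n → (Fin n → F) := fun l => Pi.single l 1
  let d : Fin n → F := fun l => if l = i₀ then -w else w
  have hxe : ∀ l, x.1 *ᵥ e l = d l • e l := by
    intro l
    funext a
    rw [hxv, Matrix.smul_mulVec, Matrix.add_mulVec, Matrix.one_mulVec]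
    by_cases hl : l = i₀
    · subst hl
      by_cases ha : a = l
      · subst ha; simp [e, d]; ring
      · simp [e, d, ha, Ne.symm ha, Matrix.single]
    · by_cases ha : a = l
      · subst ha; simp [e, d, hl, Ne.symm hl, Matrix.single]
      · simp [e, d, hl, ha, Ne.symm hl, Matrix.single]
  have hsim : ∀ a b, d a * d b * β (e a) (e b) = c * β (e a) (e b) := by
    intro a b
    have h3 := hc (Pi' *ᵥ e a) (Pi' *ᵥ e b)
    have hval : ((Matrix.SpecialLinearGroup.toGL (P⁻¹ * x * P) : GL (Fin n) F) : Matrix (Fin n) (Fin n) F) =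
        Pi' * x.1 * P.1 := rfl
    rw [hval, Matrix.mulVec_mulVec, Matrix.mulVec_mulVec, mul_assoc _ P.1, h2', mul_one,
      ← Matrix.mulVec_mulVec, ← Matrix.mulVec_mulVec, hxe, hxe, Matrix.mulVec_smul, Matrix.mulVec_smul,
      hf.bilinear.smul_left, hf.bilinear.smul_right, ← mul_assoc] at h3
    exact h3
  have hrad : ∀ u, (∀ l, β u (e l) = 0) → u = 0 := by
    intro u hu
    by_contra hne
    have hPu : Pi' *ᵥ u ≠ 0 := fun h0 => hne (by
      rw [← Matrix.one_mulVec u, ← h2', ← Matrix.mulVec_mulVec, h0, Matrix.mulVec_zero])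
    obtain ⟨y, hy⟩ := (hf.nondegenerate _ hPu).2
    apply hy
    have hz : β u = 0 := (Pi.basisFun F (Fin n)).ext fun l => by
      rw [Pi.basisFun_apply, LinearMap.zero_apply]; exact hu l
    have := DFunLike.congr_fun hz (P.1 *ᵥ y)
    simpa [β, bilOf, Matrix.mulVec_mulVec, h1] using this
  -- the multiplier is `-w²`
  obtain ⟨j, hj⟩ : ∃ j, β (e i₀) (e j) ≠ 0 := by
    by_contra hall
    push Not at hall
    have := congrFun (hrad _ hall) i₀
    simp [e] at this
  have hji : j ≠ i₀ := by
    rintro rfl
    exact hj (hf.alternating _)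
  have hcv : (c : F) = -(w * w) := by
    have := mul_right_cancel₀ hj (hsim i₀ j)
    rw [← this]; simp [d, hji]
  have horth : ∀ a b, a ≠ i₀ → b ≠ i₀ → β (e a) (e b) = 0 := by
    intro a b ha hb
    by_contra hne
    have h3 := mul_right_cancel₀ hne (hsim a b)
    rw [hcv] at h3
    simp only [d, if_neg ha, if_neg hb] at h3
    exact mul_ne_zero h2 (mul_ne_zero hw hw) (by linear_combination h3)
  -- two vectors orthogonal to everything but one
  obtain ⟨l, hl, hlj⟩ : ∃ l, l ≠ i₀ ∧ l ≠ j := by
    by_contra hall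
    push Not at hall
    have hsub : (Finset.univ : Finset (Fin n)) ⊆ {i₀, j} := fun l _ => by
      by_cases hl : l = i₀
      · simp [hl]
      · simp [hall l hl]
    have := (Finset.card_le_card hsub).trans Finset.card_le_two
    simp at this
    omega
  set u := β (e l) (e i₀) • e j - β (e j) (e i₀) • e l with hu
  have hu0 : u = 0 := hrad u fun a => by
    rw [hu, map_sub, map_smul, map_smul, LinearMap.sub_apply, LinearMap.smul_apply, LinearMap.smul_apply,
      smul_eq_mul, smul_eq_mul]
    by_cases ha : a = i₀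
    · rw [ha]; ring
    · rw [horth j a hji ha, horth l a hl ha]; ring
  have h4 := congrFun hu0 l
  simp [hu, e, hlj] at h4
  apply hj
  have hskew : β (e i₀) (e j) = - β (e j) (e i₀) := hf.skew _ _
  rw [hskew, h4, neg_zero]

/-- Involutions of PSL_n(q) and the symplectic-type subgroups. Here `T = PSL_n(F)` for a field `F` with `q` elements, `n ≥ 4` even, `f` is a nondegenerate alternating form on `F^n`, and `H` is the subgroup of matrices of determinant 1 preserving `f` up to a scalar — a maximal subgroup of type Sp_n(q); Ω is the set of `T`-conjugates of `H` (cosets of `H`), so an element of `T` of prime order `r` (a matrix `x` of determinant 1 with `x^r` scalar, `x` not scalar) fixes a point of Ω when some conjugate of `x` by a matrix of determinant 1 preserves `f` up to a scalar. Suppose the index of `H` is even. Then every involution of `T` is conjugate in `T` into `H` if and only if `(q − 1)_2 ≤ (n)_2`. -/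
theorem result {F : Type*} [Field F] [Fintype F] {p : ℕ} [Fact p.Prime] [CharP F p] {q : ℕ} (hq : Fintype.card F = q)
    (n : ℕ) (hn : 4 ≤ n) (he : Even n) (f : (Fin n → F) → (Fin n → F) → F) (hf : Cfsg.Geo.IsSymplecticForm f)
    (hΩ : 2 ∣ ((Cfsg.Geo.similarityGroup f).comap (Matrix.SpecialLinearGroup.toGL : Matrix.SpecialLinearGroup (Fin n) F →* GL (Fin n) F)).index) :
    (∀ x : Matrix.SpecialLinearGroup (Fin n) F,
      (∃ z : F, ((x ^ 2 : Matrix.SpecialLinearGroup (Fin n) F) : Matrix (Fin n) (Fin n) F) = z • (1 : Matrix (Fin n) (Fin n) F)) →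
      (∀ z : F, (x : Matrix (Fin n) (Fin n) F) ≠ z • (1 : Matrix (Fin n) (Fin n) F)) →
      ∃ P : Matrix.SpecialLinearGroup (Fin n) F, P⁻¹ * x * P ∈ ((Cfsg.Geo.similarityGroup f).comap (Matrix.SpecialLinearGroup.toGL : Matrix.SpecialLinearGroup (Fin n) F →* GL (Fin n) F))) ↔
    padicValNat 2 (q - 1) ≤ padicValNat 2 n := by
  subst hq
  constructor
  · intro H
    by_contra hlt
    push Not at hlt
    have hq1 : Fintype.card F % 2 = 1 := by
      rcases Nat.mod_two_eq_zero_or_one (Fintype.card F) with h | h
      · rw [padicValNat.eq_zero_of_not_dvd (show ¬ 2 ∣ Fintype.card F - 1 by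
          have := Fintype.one_lt_card (α := F); omega)] at hlt
        omega
      · exact h
    haveI : CharP F (ringChar F) := ringChar.charP F
    have h2 : (2 : F) ≠ 0 := fun h2 => by
      have hc : ringChar F = 2 := by
        have := (CharP.cast_eq_zero_iff F (ringChar F) 2).1 (by exact_mod_cast h2)
        have hp : (ringChar F).Prime := CharP.char_is_prime F _
        exact (Nat.prime_dvd_prime_iff_eq hp Nat.prime_two).1 this
      have := FiniteField.even_card_of_char_two hc
      omega
    obtain ⟨w, hw⟩ := Elusive.exists_pow_eq_neg_one (F := F) (n := n) (by omega) hlt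
    have hw0 : w ≠ 0 := fun h0 => by rw [h0, zero_pow (by omega)] at hw; simp at hw
    let i₀ : Fin n := ⟨0, by omega⟩
    let i₁ : Fin n := ⟨1, by omega⟩
    have hdiag : (1 + Matrix.single i₀ i₀ (-2) : Matrix (Fin n) (Fin n) F) =
        Matrix.diagonal fun l => if l = i₀ then -1 else 1 := by
      rw [← Matrix.diagonal_one]
      ext a b
      by_cases hab : a = b
      · subst hab
        by_cases ha : a = i₀
        · subst ha; simp; norm_num
        · simp [ha, Matrix.single, Ne.symm ha]
      · simp [hab, Matrix.single]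
        rintro rfl rfl
        exact absurd rfl hab
    have hdet : (w • (1 + Matrix.single i₀ i₀ (-2)) : Matrix (Fin n) (Fin n) F).det = 1 := by
      rw [hdiag, Matrix.det_smul, Matrix.det_diagonal, Fintype.card_fin, hw]; simp
    let x : Matrix.SpecialLinearGroup (Fin n) F := ⟨_, hdet⟩
    obtain ⟨P, hP⟩ := H x ⟨w * w, by
      rw [pow_two x]
      show (w • (1 + Matrix.single i₀ i₀ (-2))) * (w • (1 + Matrix.single i₀ i₀ (-2))) = _
      rw [hdiag, Matrix.smul_mul, Matrix.mul_smul, smul_smul, Matrix.diagonal_mul_diagonal, ← Matrix.diagonal_one]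
      congr 2
      funext l
      split <;> simp⟩ (fun z hz => by
      have h1 := congrFun (congrFun hz i₀) i₀
      have h3 := congrFun (congrFun hz i₁) i₁
      simp [x, hdiag, i₀, i₁] at h1 h3
      rw [← h3] at h1
      exact h2 (mul_right_cancel₀ hw0 (by linear_combination -h1)))
    exact no_similitude f hf (by omega) h2 x P hw0 i₀ rfl hP
  · intro hv x hx _
    obtain ⟨z, hz⟩ := hx
    obtain ⟨κ, _, _, b, M, c, hb, hM, -⟩ := Elusive.exists_planes he (by omega) x hz hv
    obtain ⟨B, hA, hB, hsim⟩ := exists_form b _ M hb hM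
    refine conj_of_similitude f hf x (Elusive.detSurj_of_sq (by omega) x hz) B hA hB ?_ hsim
    obtain ⟨i⟩ : Nonempty κ := by
      by_contra hne
      rw [not_nonempty_iff] at hne
      have := Module.finrank_eq_card_basis b
      simp at this
      omega
    intro hc0
    have hd := Elusive.det_endOf x
    rw [← LinearMap.det_toMatrix b, show LinearMap.toMatrix b b (Elusive.endOf x) =
      Matrix.of (fun p q => if p.2 = q.2 then M p.2 p.1 q.1 else 0) from Matrix.ext fun p q => by
        obtain ⟨a, i⟩ := p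
        obtain ⟨a', i'⟩ := q
        rw [LinearMap.toMatrix_apply, hb, map_add, map_smul, map_smul, Basis.repr_self, Basis.repr_self,
          Finsupp.add_apply, Finsupp.smul_apply, Finsupp.smul_apply, Finsupp.single_apply, Finsupp.single_apply]
        fin_cases a <;> by_cases hi : i = i' <;> simp [hi, eq_comm (a := i')],
      show Matrix.of (fun p q : Fin 2 × κ => if p.2 = q.2 then M p.2 p.1 q.1 else 0) = Matrix.blockDiagonal M
        from rfl, Matrix.det_blockDiagonal, Finset.prod_eq_zero (Finset.mem_univ i) (by rw [hM, hc0])] at hd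
    exact zero_ne_one hd

end Cfsg.Agent.S5967
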