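import Cfsg.Statements.S5968
import Cfsg.Agent.Lib.Elusive.Subspaces
import Cfsg.Agent.Lib.UnipForms.Types
import Cfsg.Agent.Lib.Forms.SympTwo
import Cfsg.Agent.S5959

set_option autoImplicit false
set_option linter.unusedSectionVars false
set_option linter.style.haveILetI false
open scoped MatrixGroups
open Cfsg

namespace Cfsg.Agent.S5968

theorem z3_facts : (2 : ZMod 3) ≠ 0 ∧ (0 : ZMod 3) ≠ 2 ∧ (2 : ZMod 3) ≠ 1 ∧ (0 : ZMod 3) ≠ 1 ∧
    (3 • (2 : ZMod 3) = 0) ∧ ((0 : ZMod 3) - 2 = 1) ∧ ∀ m : ZMod 3, m = 0 ∨ m = 1 ∨ m = 2 := by decide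

section
open Module Polynomial

variable {F : Type*} [Field F] [Fintype F] {n : ℕ}

/-- The bilinear form of a symplectic form, transported by a matrix. -/
noncomputable def bil (f : (Fin n → F) → (Fin n → F) → F) (hf : Geo.IsBilinearForm f)
    (P : Matrix (Fin n) (Fin n) F) : LinearMap.BilinForm F (Fin n → F) :=
  (LinearMap.mk₂ F f hf.add_left hf.smul_left hf.add_right hf.smul_right).compl₁₂ (Matrix.toLin' P) (Matrix.toLin' P)

/-- A map `g` with `B (g u) (g v) = c B (u, v)`. -/
def IsSimilitude (B : LinearMap.BilinForm F (Fin n → F)) (g : End F (Fin n → F)) (c : F) : Prop :=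
  ∀ u v, B (g u) (g v) = c * B u v

/-- No non-degenerate alternating form is preserved up to a scalar. -/
def NoForm (g : End F (Fin n → F)) : Prop :=
  ∀ (B : LinearMap.BilinForm F (Fin n → F)) (c : F), B.IsAlt → (∀ u, (∀ v, B u v = 0) → u = 0) →
    ¬ IsSimilitude B g c

theorem not_mem_of_noForm (f : (Fin n → F) → (Fin n → F) → F) (hf : Geo.IsSymplecticForm f)
    (x : Matrix.SpecialLinearGroup (Fin n) F) (hx : NoForm (Elusive.endOf x))
    (P : Matrix.SpecialLinearGroup (Fin n) F) :
    P⁻¹ * x * P ∉ (Geo.similarityGroup f).comap Matrix.SpecialLinearGroup.toGL := by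
  rintro ⟨c, hc⟩
  set Pi : Matrix (Fin n) (Fin n) F := ((P⁻¹ : Matrix.SpecialLinearGroup (Fin n) F) : Matrix (Fin n) (Fin n) F) with hPi
  have h1 : Pi * P.1 = 1 := congrArg Subtype.val (inv_mul_cancel P)
  have h2 : P.1 * Pi = 1 := congrArg Subtype.val (mul_inv_cancel P)
  refine hx (bil f hf.bilinear Pi) (c : F) (fun v => hf.alternating _) (fun u hu => ?_) fun u v => ?_
  · by_contra hne
    have hPu : Pi.mulVec u ≠ 0 := fun h0 => hne (by
      rw [← Matrix.one_mulVec u, ← h2, ← Matrix.mulVec_mulVec, h0, Matrix.mulVec_zero])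
    obtain ⟨y, hy⟩ := (hf.nondegenerate _ hPu).2
    apply hy
    have := hu (P.1.mulVec y)
    simp only [bil, LinearMap.compl₁₂_apply, LinearMap.mk₂_apply, Matrix.toLin'_apply, Matrix.mulVec_mulVec, h1,
      Matrix.one_mulVec] at this
    exact this
  · show f (Pi.mulVec (x.1.mulVec u)) (Pi.mulVec (x.1.mulVec v)) = c * f (Pi.mulVec u) (Pi.mulVec v)
    have h3 := hc (Pi.mulVec u) (Pi.mulVec v)
    have hval : ((Matrix.SpecialLinearGroup.toGL (P⁻¹ * x * P) : GL (Fin n) F) : Matrix (Fin n) (Fin n) F) =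
        Pi * x.1 * P.1 := rfl
    rw [hval, Matrix.mulVec_mulVec, Matrix.mulVec_mulVec, mul_assoc _ P.1, h2, mul_one, ← Matrix.mulVec_mulVec,
      ← Matrix.mulVec_mulVec] at h3
    exact h3

theorem multiplier_pow {B : LinearMap.BilinForm F (Fin n → F)} {g : End F (Fin n → F)} {c : F}
    (h : IsSimilitude B g c) : ∀ (k : ℕ) u v, B ((g ^ k) u) ((g ^ k) v) = c ^ k * B u v := by
  intro k
  induction k with
  | zero => intro u v; simp
  | succ k ih => intro u v; rw [pow_succ', Module.End.mul_apply, Module.End.mul_apply, h, ih, pow_succ']; ring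

theorem multiplier_pow_one (hn : 0 < n) {B : LinearMap.BilinForm F (Fin n → F)} {g : End F (Fin n → F)} {c : F}
    (hB : ∀ u, (∀ v, B u v = 0) → u = 0) (h : IsSimilitude B g c) {r : ℕ} (hg : g ^ r = 1) : c ^ r = 1 := by
  haveI := Fin.pos_iff_nonempty.1 hn
  obtain ⟨u, hu⟩ := exists_ne (0 : Fin n → F)
  obtain ⟨v, hv⟩ : ∃ v, B u v ≠ 0 := by
    by_contra hall
    push Not at hall
    exact hu (hB u hall)
  have h1 := multiplier_pow h r u v
  rw [hg, Module.End.one_apply, Module.End.one_apply] at h1
  exact mul_right_cancel₀ hv (by rw [← h1, one_mul])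

variable {r : ℕ} [Fact r.Prime]

/-- Unipotent elements with one block of size three. -/
theorem noForm_unipotent [CharP F r] (hn : 0 < n) {N : End F (Fin n → F)} (hpow : (1 + N) ^ r = 1) {μ : Multiset ℕ}
    (hT : LinRep.JordanType.HasType N μ) (hμ : ¬ Even (μ.map (· - 2)).sum) : NoForm (1 + N) := by
  intro B c hA hB hsim
  have hc : c = 1 := by
    have h1 := multiplier_pow_one hn hB hsim hpow
    have h2 : (c - 1) ^ r = 0 := by rw [sub_pow_char, one_pow, h1, sub_self]
    exact sub_eq_zero.1 (eq_zero_of_pow_eq_zero h2)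
  have h := UnipForms.even_rankDim_isAlt (B := B) (A := 1 + N) hA
    (fun y hy => hB y fun v => by rw [← LinearMap.BilinForm.IsAlt.neg_eq hA, hy v, neg_zero])
    (fun u v => by rw [hsim, hc, one_mul]) 1
  rw [add_sub_cancel_left, hT] at h
  exact hμ h

/-- Diagonal maps. -/
noncomputable def diagMap (d : Fin n → F) : End F (Fin n → F) := Matrix.toLin' (Matrix.diagonal d)

theorem noForm_diag {u : F} (hu : IsPrimitiveRoot u r) (hn : 0 < n) (e : Fin n → ZMod r)
    (hasym : ∀ m : ZMod r, ∃ a : ZMod r,
      (Finset.univ.filter fun j => e j = m - a).card < (Finset.univ.filter fun j => e j = a).card) :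
    NoForm (diagMap fun j => u ^ (e j).val) := by
  classical
  intro B c hA hB hsim
  have hr := (Fact.out : r.Prime)
  have hpow : diagMap (fun j => u ^ (e j).val) ^ r = 1 := by
    rw [diagMap, ← Matrix.toLin'_pow, Matrix.diagonal_pow]
    have : (fun j => u ^ (e j).val) ^ r = (1 : Fin n → F) := funext fun j => by
      rw [Pi.pow_apply, ← pow_mul, mul_comm, pow_mul, hu.pow_eq_one, one_pow]; rfl
    rw [this, Matrix.diagonal_one', Matrix.toLin'_one]; rfl
  obtain ⟨k, hk, rfl⟩ := hu.eq_pow_of_pow_eq_one (multiplier_pow_one hn hB hsim hpow)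
  obtain ⟨a, ha⟩ := hasym (k : ZMod r)
  set S := Finset.univ.filter fun j => e j = a with hS
  set T := Finset.univ.filter fun j => e j = (k : ZMod r) - a with hT
  have horth : ∀ i j, e i + e j ≠ (k : ZMod r) → B (Pi.single i 1) (Pi.single j 1) = 0 := by
    intro i j hne
    have h1 := hsim (Pi.single i 1) (Pi.single j 1)
    have hev : ∀ l, diagMap (fun j => u ^ (e j).val) (Pi.single l 1) = (u ^ (e l).val) • (Pi.single l 1) := by
      intro l
      funext x
      by_cases hx : x = l
      · subst hx; simp [diagMap, Matrix.mulVec_diagonal]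
      · simp [diagMap, Matrix.mulVec_diagonal, hx]
    rw [hev, hev, map_smul, map_smul, LinearMap.smul_apply, smul_eq_mul, smul_eq_mul] at h1
    by_contra hb
    apply hne
    have h2 : u ^ ((e i).val + (e j).val) = u ^ k := by
      refine mul_right_cancel₀ hb ?_
      rw [← h1, pow_add]; ring
    rw [(orderOf_pos_iff.1 (hu.eq_orderOf ▸ hr.pos)).pow_eq_pow_iff_modEq, ← hu.eq_orderOf, ← ZMod.natCast_eq_natCast_iff, Nat.cast_add,
      ZMod.natCast_zmod_val, ZMod.natCast_zmod_val] at h2
    exact h2
  let ψ : (S → F) →ₗ[F] (T → F) := LinearMap.pi fun j : T =>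
    (B.flip (Pi.single j.1 1)).comp (Fintype.linearCombination F fun i : S => (Pi.single i.1 1 : Fin n → F))
  have hψ : Function.Injective ψ := by
    rw [injective_iff_map_eq_zero]
    intro v hv
    have hzero : Fintype.linearCombination F (fun i : S => (Pi.single i.1 1 : Fin n → F)) v = 0 := by
      refine hB _ fun w => ?_
      have hflip : B (Fintype.linearCombination F (fun i : S => (Pi.single i.1 1 : Fin n → F)) v) = 0 := by
        refine (Pi.basisFun F (Fin n)).ext fun j => ?_
        rw [Pi.basisFun_apply, LinearMap.zero_apply]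
        by_cases hj : j ∈ T
        · exact congrFun hv ⟨j, hj⟩
        · rw [Fintype.linearCombination_apply, map_sum, LinearMap.sum_apply]
          refine Finset.sum_eq_zero fun i _ => ?_
          rw [map_smul, LinearMap.smul_apply, horth i.1 j ?_, smul_zero]
          intro h
          apply hj
          rw [hT, Finset.mem_filter]
          exact ⟨Finset.mem_univ _, by rw [← h, (Finset.mem_filter.1 i.2).2]; ring⟩
      rw [hflip]; rfl
    funext i
    have h1 := congrFun hzero i.1
    rw [Fintype.linearCombination_apply, Finset.sum_apply, Finset.sum_eq_single i] at h1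
    · simpa using h1
    · intro b _ hb
      simp [Subtype.coe_injective.ne hb.symm]
    · simp
  have := LinearMap.finrank_le_finrank_of_injective hψ
  rw [Module.finrank_fintype_fun_eq_card, Module.finrank_fintype_fun_eq_card, Fintype.card_coe,
    Fintype.card_coe] at this
  omega

/-- One orbit of roots which is not closed under inversion. -/
theorem noForm_odd (hn : 0 < n) (hodd : Odd (orderOf (Fintype.card F : ZMod r)))
    (h3 : 2 ≤ orderOf (Fintype.card F : ZMod r)) (hr2 : r ≠ 2) {y : End F (Fin n → F)} (hy : y ^ r = 1)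
    (hy1 : y ≠ 1) {g : F[X]} (hg : Irreducible g) (hgd : g ∣ ∑ j ∈ Finset.range r, X ^ j)
    (hann : aeval y ((X - C 1) * g) = 0) : NoForm y := by
  intro B c hA hB hsim
  have hr := (Fact.out : r.Prime)
  have hr0 : (r : F) ≠ 0 := Elusive.ne_zero_of_order hodd.pos
  have hc : c = 1 := by
    have hc1 := multiplier_pow_one hn hB hsim hy
    by_contra hne
    have h0 : c ≠ 0 := fun h0 => by rw [h0, zero_pow hr.ne_zero] at hc1; exact zero_ne_one hc1
    have h2 := FiniteField.pow_card_sub_one_eq_one c h0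
    rw [← orderOf_dvd_iff_pow_eq_one, orderOf_eq_prime hc1 hne] at h2
    exact Elusive.not_dvd_card_sub_one h3 h2
  have hadj1 : ∀ u v, B (y u) v = B u ((y ^ (r - 1)) v) := by
    intro u v
    have h := hsim u ((y ^ (r - 1)) v)
    rw [hc, one_mul, ← Module.End.mul_apply, ← pow_succ', Nat.sub_add_cancel hr.pos, hy, Module.End.one_apply] at h
    exact h
  have hadj : ∀ (P : F[X]) u v, B (aeval y P u) v = B u (aeval y (P.comp (X ^ (r - 1))) v) := by
    intro P
    induction P using Polynomial.induction_on' with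
    | add a b iha ihb => intro u v; simp [iha, ihb]
    | monomial m a =>
      induction m with
      | zero => intro u v; simp [Module.algebraMap_end_apply]
      | succ m ih =>
        intro u v
        have e1 : (monomial (m + 1) a : F[X]) = monomial m a * X := by rw [monomial_mul_X]
        rw [e1, mul_comp, X_comp, map_mul, map_mul, aeval_X, Module.End.mul_apply, ih, hadj1,
          map_pow, aeval_X, ← Module.End.mul_apply (y ^ (r - 1)),
          Commute.eq (show Commute (aeval y ((monomial m a).comp (X ^ (r - 1)))) (y ^ (r - 1)) from ?_)]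
        · rw [show y ^ (r - 1) = aeval y (X ^ (r - 1) : F[X]) by simp]
          exact (Commute.all _ _).map (aeval y)
  have hdeg := Elusive.factorDeg_geom hr0 g hg hgd
  haveI : Fact (Irreducible g) := ⟨hg⟩
  haveI : FiniteDimensional F (AdjoinRoot g) := (AdjoinRoot.powerBasis hg.ne_zero).finite
  haveI : Finite (AdjoinRoot g) := Module.finite_of_finite F
  have hpow : (AdjoinRoot.root g) ^ r = 1 := by
    have h0 : AdjoinRoot.mk g (X ^ r - 1 : F[X]) = 0 :=
      AdjoinRoot.mk_eq_zero.2 (by rw [← geom_sum_mul]; exact hgd.mul_right _)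
    simpa [sub_eq_zero] using h0
  have hne1 : AdjoinRoot.root g ≠ 1 := by
    intro h1
    have h0 : AdjoinRoot.mk g (X - 1 : F[X]) = 0 := by simp [h1]
    exact hg.not_isUnit ((Elusive.coprime_sub_one hr0).isUnit_of_dvd' (AdjoinRoot.mk_eq_zero.1 h0) hgd)
  have hndvd : ¬ g ∣ g.comp (X ^ (r - 1)) := by
    intro hd
    have h0 := AdjoinRoot.mk_eq_zero.2 hd
    rw [← AdjoinRoot.aeval_eq, aeval_comp, map_pow, aeval_X] at h0
    obtain ⟨⟨j, hj⟩, hφ⟩ := (FiniteField.bijective_frobeniusAlgHom_pow F (AdjoinRoot g)).2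
      (AdjoinRoot.liftAlgHom g (Algebra.ofId F (AdjoinRoot g)) (AdjoinRoot.root g ^ (r - 1)) h0)
    have h1 : AdjoinRoot.root g ^ (Fintype.card F ^ j) = AdjoinRoot.root g ^ (r - 1) := by
      have h2 := DFunLike.congr_fun hφ (AdjoinRoot.root g)
      rw [AlgHom.coe_pow, FiniteField.coe_frobeniusAlgHom, pow_iterate] at h2
      exact h2.trans (AdjoinRoot.liftAlgHom_root _ _ _ h0)
    rw [(orderOf_pos_iff.1 ((orderOf_eq_prime hpow hne1).symm ▸ hr.pos)).pow_eq_pow_iff_modEq, orderOf_eq_prime hpow hne1, ← ZMod.natCast_eq_natCast_iff, Nat.cast_pow,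
      Nat.cast_sub hr.pos, ZMod.natCast_self, Nat.cast_one, zero_sub] at h1
    have h2 := congrArg (· ^ orderOf (Fintype.card F : ZMod r)) h1
    simp only [← pow_mul, hodd.neg_one_pow] at h2
    rw [mul_comm, pow_mul, pow_orderOf_eq_one, one_pow] at h2
    haveI : Fact (2 < r) := ⟨by have := hr.two_le; omega⟩
    exact ZMod.neg_one_ne_one h2.symm
  have hndvd1 : ¬ (X - C 1) ∣ g.comp (X ^ (r - 1)) := by
    intro hd
    rw [dvd_iff_isRoot, IsRoot.def, eval_comp, eval_pow, eval_X, one_pow] at hd
    have h1 : (X - C 1 : F[X]) ∣ g := dvd_iff_isRoot.2 hd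
    exact (irreducible_X_sub_C (1 : F)).not_isUnit ((Elusive.coprime_sub_one hr0).isUnit_of_dvd'
      (by rw [map_one]) (h1.trans hgd))
  have hcop : IsCoprime (g.comp (X ^ (r - 1))) ((X - C 1) * g) :=
    (((irreducible_X_sub_C (1 : F)).coprime_iff_not_dvd.2 hndvd1).symm).mul_right
      ((hg.coprime_iff_not_dvd.2 hndvd).symm)
  obtain ⟨s, t, hst⟩ := hcop
  have hsurj : ∀ w, ∃ v, aeval y (g.comp (X ^ (r - 1))) v = w := fun w => by
    refine ⟨aeval y s w, ?_⟩
    have h1 : aeval y (g.comp (X ^ (r - 1)) * s + (X - C 1) * g * t) w = aeval y (1 : F[X]) w := by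
      rw [mul_comm _ s, mul_comm _ t, hst]
    rw [map_add, map_mul, map_mul _ _ t, hann, zero_mul, add_zero, map_one] at h1
    exact h1
  apply hy1
  refine LinearMap.ext fun w => sub_eq_zero.1 (hB _ fun v => ?_)
  obtain ⟨v', rfl⟩ := hsurj v
  rw [← hadj]
  have : aeval y g * (y - 1) = 0 := by
    rw [← hann, mul_comm (X - C 1) g, map_mul]; simp
  rw [show y w - (1 : End F (Fin n → F)) w = (y - 1) w from rfl, ← Module.End.mul_apply, this, LinearMap.zero_apply,
    map_zero, LinearMap.zero_apply]

theorem card_filter_three {α : Type*} [DecidableEq α] (e : Fin n → α) (s : Finset (Fin n)) (a : α)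
    (h : ∀ j, e j = a ↔ j ∈ s) : (Finset.univ.filter fun j => e j = a).card = s.card :=
  congrArg Finset.card (Finset.ext fun j => by simp [h])

/-- The exponents for `q ≡ 1 (mod r)`. -/
theorem exists_exponents (hr2 : r ≠ 2) (hn : 4 ≤ n) (he : Even n) (hgap : ¬ (n = 6 ∧ r = 3)) :
    ∃ e : Fin n → ZMod r, (∑ j, e j = 0) ∧ (∃ i j, e i ≠ e j) ∧
      ∀ m : ZMod r, ∃ a : ZMod r,
        (Finset.univ.filter fun j => e j = m - a).card < (Finset.univ.filter fun j => e j = a).card := by
  classical
  have hr := (Fact.out : r.Prime)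
  let i0 : Fin n := ⟨0, by omega⟩
  let i1 : Fin n := ⟨1, by omega⟩
  let i2 : Fin n := ⟨2, by omega⟩
  let i3 : Fin n := ⟨3, by omega⟩
  have hne01 : i0 ≠ i1 := by simp [i0, i1]
  have hne02 : i0 ≠ i2 := by simp [i0, i2]
  have hne12 : i1 ≠ i2 := by simp [i1, i2]
  have hne3 : i3 ∉ ({i0, i1, i2} : Finset (Fin n)) := by simp [i0, i1, i2, i3]
  have h3card : ({i0, i1, i2} : Finset (Fin n)).card = 3 := by simp [hne01, hne02, hne12]
  have hodd3 : Odd (n - 3) := by
    obtain ⟨k, hk⟩ := he
    exact ⟨k - 2, by omega⟩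
  by_cases h3 : r = 3
  · subst h3
    obtain ⟨z20, z02, z21, z01, zsum, zneg, zcases⟩ := z3_facts
    let e : Fin n → ZMod 3 := fun j => if j ∈ ({i0, i1, i2} : Finset (Fin n)) then 2 else 0
    have hsum : ∑ j, e j = 0 := by
      simp only [e, Finset.sum_ite_mem, Finset.univ_inter, Finset.sum_const, h3card]
      exact zsum
    refine ⟨e, hsum, ⟨i0, i3, by simp only [e]; rw [if_pos (by simp), if_neg hne3]; exact z20⟩, fun m => ?_⟩
    have c2 : (Finset.univ.filter fun j => e j = 2).card = 3 := by
      rw [card_filter_three e {i0, i1, i2} 2 fun j => by simp only [e]; split_ifs with h <;> simp [h, z02], h3card]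
    have c1 : (Finset.univ.filter fun j => e j = 1).card = 0 := by
      rw [card_filter_three e ∅ 1 fun j => by simp only [e]; split_ifs <;> simp [z21, z01], Finset.card_empty]
    have c0 : (Finset.univ.filter fun j => e j = 0).card = n - 3 := by
      rw [card_filter_three e ({i0, i1, i2} : Finset (Fin n))ᶜ 0 fun j => by
        rw [Finset.mem_compl]; simp only [e]
        by_cases h : j ∈ ({i0, i1, i2} : Finset (Fin n))
        · simp only [h, ite_true, not_true, z20]
        · simp only [h, ite_false, not_false_iff]]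
      rw [Finset.card_compl, Fintype.card_fin, h3card]
    obtain ⟨k, hk⟩ := hodd3
    have hn6 : n ≠ 6 := fun h => hgap ⟨h, rfl⟩
    by_contra hall
    push Not at hall
    have e0 := hall 0
    have e2 := hall 2
    rw [c0, sub_zero] at e0
    rw [c2] at e2
    rcases zcases m with rfl | rfl | rfl
    · rw [zneg, c1] at e2; omega
    · rw [c1] at e0; omega
    · rw [sub_self, c0] at e2; rw [c2] at e0; omega
  · let e : Fin n → ZMod r := fun j => if j = i0 then 1 else if j = i1 then 1 else if j = i2 then -2 else 0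
    have h01 : (1 : ZMod r) ≠ 0 := one_ne_zero
    have hcast : ∀ k : ℕ, 0 < k → k ≤ 4 → (k : ZMod r) ≠ 0 := fun k hk hk4 h => by
      rw [ZMod.natCast_eq_zero_iff] at h
      have := Nat.le_of_dvd hk h
      have h5 : 5 ≤ r := hr.five_le_of_ne_two_of_ne_three hr2 h3
      omega
    have h2 : (2 : ZMod r) ≠ 0 := by simpa using hcast 2 (by norm_num) (by norm_num)
    have h3' : (3 : ZMod r) ≠ 0 := by simpa using hcast 3 (by norm_num) (by norm_num)
    have h4 : (4 : ZMod r) ≠ 0 := by simpa using hcast 4 (by norm_num) (by norm_num)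
    have hm1 : (1 : ZMod r) ≠ -2 := fun h => h3' (by linear_combination h)
    have hm0 : (-2 : ZMod r) ≠ 0 := neg_ne_zero.2 h2
    have hfe : ∀ a j, e j = a ↔ (a = 1 ∧ (j = i0 ∨ j = i1)) ∨ (a = -2 ∧ j = i2) ∨
        (a = 0 ∧ j ≠ i0 ∧ j ≠ i1 ∧ j ≠ i2) := by
      intro a j
      simp only [e]
      split_ifs with ha hb hc
      · subst ha; simp [hne01, hne02, eq_comm]
      · subst hb; simp [ha, hne12, eq_comm]
      · subst hc; simp [ha, hb, eq_comm]
      · simp [ha, hb, hc, eq_comm]
    have hsum : ∑ j, e j = 0 := by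
      rw [← Finset.sum_subset (Finset.subset_univ ({i0, i1, i2} : Finset (Fin n))) fun j _ hj => by
        simp at hj; simp [e, hj]]
      rw [Finset.sum_insert (by simp [hne01, hne02]), Finset.sum_insert (by simp [hne12]), Finset.sum_singleton]
      simp [e, hne01.symm, hne02.symm, hne12.symm]
      ring
    refine ⟨e, hsum, ⟨i0, i2, by simp [e, hne02.symm, hne12.symm, hm1]⟩, fun m => ?_⟩
    have c1 : (Finset.univ.filter fun j => e j = 1).card = 2 := by
      rw [card_filter_three e {i0, i1} 1 fun j => by rw [hfe]; simp [h01, hm1], Finset.card_pair hne01]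
    have c2 : (Finset.univ.filter fun j => e j = -2).card = 1 := by
      rw [card_filter_three e {i2} (-2) fun j => by rw [hfe]; simp [hm1.symm, hm0], Finset.card_singleton]
    have c0 : (Finset.univ.filter fun j => e j = 0).card = n - 3 := by
      rw [card_filter_three e ({i0, i1, i2} : Finset (Fin n))ᶜ 0 fun j => by
        rw [hfe]; simp [h01.symm, hm0.symm]]
      rw [Finset.card_compl, Fintype.card_fin, h3card]
    have cother : ∀ a, a ≠ 1 → a ≠ -2 → a ≠ 0 → (Finset.univ.filter fun j => e j = a).card = 0 := by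
      intro a a1 a2 a0
      rw [card_filter_three e ∅ a fun j => by rw [hfe]; simp [a1, a2, a0], Finset.card_empty]
    obtain ⟨k, hk⟩ := hodd3
    by_contra hall
    push Not at hall
    have e1 := hall 1
    have e0 := hall 0
    rw [c1] at e1
    rw [c0, sub_zero] at e0
    have hm : m - 1 = 1 ∨ (m - 1 = 0 ∧ 2 ≤ n - 3) := by
      by_cases a1 : m - 1 = 1
      · exact Or.inl a1
      by_cases a2 : m - 1 = -2
      · rw [a2, c2] at e1; omega
      by_cases a0 : m - 1 = 0
      · rw [a0, c0] at e1; exact Or.inr ⟨a0, e1⟩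
      · rw [cother _ a1 a2 a0] at e1; omega
    have hrefl : ∀ a, (Finset.univ.filter fun j => e j = a).card = (Finset.univ.filter fun j => e j = m - a).card := by
      intro a
      refine le_antisymm (hall a) ?_
      simpa using hall (m - a)
    rcases hm with hm | ⟨hm, hn3⟩
    · have hm2 : m = 2 := by linear_combination hm
      have := hrefl 0
      rw [c0, sub_zero, hm2, cother 2 (fun h => h01 (by linear_combination h)) (fun h => h4 (by linear_combination h))
        h2] at this
      omega
    · have := hrefl 1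
      rw [c1, hm, c0] at this
      omega

end

/-- Derangements of odd prime order of PSL_n(q) on the cosets of a symplectic-type subgroup. Here `T = PSL_n(F)` for a field `F` with `q` elements, `n ≥ 4` even, `f` is a nondegenerate alternating form on `F^n`, and `H` is the subgroup of matrices of determinant 1 preserving `f` up to a scalar — a maximal subgroup of type Sp_n(q); Ω is the set of `T`-conjugates of `H` (cosets of `H`), so an element of `T` of prime order `r` (a matrix `x` of determinant 1 with `x^r` scalar, `x` not scalar) fixes a point of Ω when some conjugate of `x` by a matrix of determinant 1 preserves `f` up to a scalar. For every odd prime `r` dividing the index of `H`, with `(n, r) ≠ (6, 3)`, there is an element of `T` of order `r` with no conjugate in `H`. (For `n = 6`, `r = 3` this can fail: when `(q − 1)_3 = 3` every element of order 3 is conjugate into `H`.) -/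
theorem result {F : Type*} [Field F] [Fintype F] {p : ℕ} [Fact p.Prime] [CharP F p] {q : ℕ} (hq : Fintype.card F = q)
    (n : ℕ) (hn : 4 ≤ n) (he : Even n) (f : (Fin n → F) → (Fin n → F) → F) (hf : Cfsg.Geo.IsSymplecticForm f)
    (r : ℕ) [Fact r.Prime] (hr2 : r ≠ 2) (hgap : ¬ (n = 6 ∧ r = 3)) (hΩ : r ∣ ((Cfsg.Geo.similarityGroup f).comap (Matrix.SpecialLinearGroup.toGL : Matrix.SpecialLinearGroup (Fin n) F →* GL (Fin n) F)).index) :
    ∃ x : Matrix.SpecialLinearGroup (Fin n) F,
      (∃ z : F, ((x ^ r : Matrix.SpecialLinearGroup (Fin n) F) : Matrix (Fin n) (Fin n) F) = z • (1 : Matrix (Fin n) (Fin n) F)) ∧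
      (∀ z : F, (x : Matrix (Fin n) (Fin n) F) ≠ z • (1 : Matrix (Fin n) (Fin n) F)) ∧
      ∀ P : Matrix.SpecialLinearGroup (Fin n) F, P⁻¹ * x * P ∉ ((Cfsg.Geo.similarityGroup f).comap (Matrix.SpecialLinearGroup.toGL : Matrix.SpecialLinearGroup (Fin n) F →* GL (Fin n) F)) := by
  classical
  subst hq
  have hr := (Fact.out : r.Prime)
  have hn0 : 0 < n := by omega
  -- it is enough to find an element without an invariant form
  suffices h : ∃ x : Matrix.SpecialLinearGroup (Fin n) F, Elusive.endOf x ^ r = 1 ∧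
      (∀ z : F, Elusive.endOf x ≠ z • 1) ∧ NoForm (Elusive.endOf x) by
    obtain ⟨x, hx1, hx2, hx3⟩ := h
    exact ⟨x, ⟨1, (Elusive.endOf_pow_iff x r 1).1 (by rw [hx1, one_smul])⟩,
      fun z hz => hx2 z ((Elusive.endOf_scalar_iff x z).2 hz), not_mem_of_noForm f hf x hx3⟩
  haveI : Nonempty (Fin n) := Fin.pos_iff_nonempty.1 hn0
  by_cases hrp : r = p
  · subst hrp
    haveI : CharP (Module.End F (Fin n → F)) r :=
      charP_of_injective_algebraMap (algebraMap F (Module.End F (Fin n → F))).injective r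
    have hr3 : 3 ≤ r := by have := hr.two_le; omega
    set μ : Multiset ℕ := 3 ::ₘ Multiset.replicate (n - 3) 1
    obtain ⟨N, hNp, hT⟩ := S5959.exists_nilpotent_of_type (F := F) n r μ
      (fun b hb => by
        rcases Multiset.mem_cons.1 hb with rfl | hb
        · exact hr3
        · rw [Multiset.eq_of_mem_replicate hb]; omega)
      (by simp [μ]; omega)
    have hpow : (1 + N : Module.End F (Fin n → F)) ^ r = 1 := by
      rw [add_pow_char_of_commute (p := r) (Commute.one_left N), one_pow, hNp, add_zero]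
    have hdet : LinearMap.det (1 + N : Module.End F (Fin n → F)) = 1 := by
      have h1 := congrArg LinearMap.det hpow
      rw [map_pow, map_one] at h1
      have h2 : (LinearMap.det (1 + N : Module.End F (Fin n → F)) - 1) ^ r = 0 := by
        rw [sub_pow_char, one_pow, h1, sub_self]
      exact sub_eq_zero.mp (eq_zero_of_pow_eq_zero h2)
    have hx : Elusive.endOf (⟨LinearMap.toMatrix' (1 + N), by rw [LinearMap.det_toMatrix', hdet]⟩ :
        Matrix.SpecialLinearGroup (Fin n) F) = 1 + N := Matrix.toLin'_toMatrix' _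
    refine ⟨⟨LinearMap.toMatrix' (1 + N), by rw [LinearMap.det_toMatrix', hdet]⟩, by rw [hx]; exact hpow,
      fun z hz => ?_, ?_⟩
    · rw [hx] at hz
      have hN : N = (z - 1) • (1 : Module.End F (Fin n → F)) := by
        have e2 : (z - 1) • (1 : Module.End F (Fin n → F)) = z • 1 - 1 := by module
        rw [e2, ← hz]; abel
      have hN0 : N = 0 := by
        rw [hN, _root_.smul_pow, one_pow, smul_eq_zero] at hNp
        rw [hN, eq_zero_of_pow_eq_zero (hNp.resolve_right one_ne_zero), zero_smul]
      have h := hT 1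
      rw [LinRep.JordanType.rankDim, hN0, pow_one, Submodule.map_zero, finrank_bot] at h
      simp [μ] at h
    · rw [hx]
      refine noForm_unipotent hn0 hpow hT ?_
      simp [μ]
  by_cases hi : Odd (orderOf (Fintype.card F : ZMod r))
  · by_cases h1 : orderOf (Fintype.card F : ZMod r) = 1
    · obtain ⟨u, hu⟩ : ∃ u : Fˣ, orderOf u = r := by
        refine exists_prime_orderOf_dvd_card' r ?_
        rw [Nat.card_units, Nat.card_eq_fintype_card]
        exact Elusive.dvd_card_sub_one h1
      have hprim : IsPrimitiveRoot (u : F) r := IsPrimitiveRoot.coe_units_iff.2 (hu ▸ IsPrimitiveRoot.orderOf u)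
      obtain ⟨e, hsum, ⟨i, j, hij⟩, hasym⟩ := exists_exponents (r := r) hr2 hn he hgap
      let d : Fin n → F := fun j => (u : F) ^ (e j).val
      have hdet : (Matrix.diagonal d).det = 1 := by
        rw [Matrix.det_diagonal, Finset.prod_pow_eq_pow_sum, hprim.pow_eq_one_iff_dvd,
          ← ZMod.natCast_eq_zero_iff, Nat.cast_sum]
        simpa using hsum
      refine ⟨⟨Matrix.diagonal d, hdet⟩, ?_, fun z hz => ?_, noForm_diag hprim hn0 e hasym⟩
      · show Matrix.toLin' (Matrix.diagonal d) ^ r = 1
        rw [← Matrix.toLin'_pow, Matrix.diagonal_pow]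
        have : d ^ r = (1 : Fin n → F) := funext fun j => by
          rw [Pi.pow_apply, ← pow_mul, mul_comm, pow_mul, hprim.pow_eq_one, one_pow]; rfl
        rw [this, Matrix.diagonal_one', Matrix.toLin'_one]; rfl
      · apply hij
        have hz' := (Elusive.endOf_scalar_iff _ z).1 hz
        have e0 := congrFun (congrFun hz' i) i
        have e1 := congrFun (congrFun hz' j) j
        simp [d] at e0 e1
        exact ZMod.val_injective r (hprim.pow_inj (ZMod.val_lt _) (ZMod.val_lt _) (e0.trans e1.symm))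
    · have h2 : 2 ≤ orderOf (Fintype.card F : ZMod r) := by have := hi.pos; omega
      have hdvd : r ∣ Elusive.fallProd (Fintype.card F) n n := by
        have h3 := hΩ.trans (Subgroup.index_dvd_card _)
        have h4 := h3.trans (Subgroup.card_dvd_of_injective _ Matrix.SpecialLinearGroup.toGL_injective)
        rw [Matrix.card_GL_field, Elusive.prod_frames _ le_rfl] at h4
        refine (hr.dvd_mul.1 h4).resolve_left fun h5 => hrp ?_
        obtain ⟨k, -, h6⟩ := hr.prime.dvd_finsetProd_iff _ |>.1 h5
        obtain ⟨l, hp', hl⟩ := FiniteField.card F p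
        rw [hl, ← pow_mul] at h6
        exact (Nat.prime_dvd_prime_iff_eq hr hp').1 (hr.dvd_of_dvd_pow h6)
      obtain ⟨-, -, hin, -⟩ := Elusive.order_facts le_rfl hdvd
      obtain ⟨x, -, hx2, hxr, -, g, hg, hgd, hann⟩ :=
        Elusive.exists_witness (F := F) (r := r) (n := n) p hrp h2 hin
      refine ⟨x, hxr, fun z hz => hx2 z ((Elusive.endOf_scalar_iff x z).1 hz),
        noForm_odd hn0 hi h2 hr2 hxr (fun h => hx2 1 ((Elusive.endOf_scalar_iff x 1).1 (by rw [h, one_smul])))
          hg hgd hann⟩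
  -- the order of `q` modulo `r` is even: the index is prime to `r`
  exfalso
  rw [Nat.not_odd_iff_even] at hi
  set q := Fintype.card F with hq'
  let β : LinearMap.BilinForm F (Fin n → F) := LinearMap.mk₂ F f hf.bilinear.add_left hf.bilinear.smul_left
    hf.bilinear.add_right hf.bilinear.smul_right
  obtain ⟨m, E, hm, hE⟩ := Forms.SympTwo.exists_alt_equiv (β := β) (fun v => hf.alternating v) (fun u hu => by
    by_contra hne
    obtain ⟨y, hy⟩ := (hf.nondegenerate u hne).2
    exact hy (hu y))
  rw [Module.finrank_fin_fun] at hm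
  have hsk : ∀ u v, f u v = sympForm m F (E v) (E u) := hE
  set S := Geo.similarityGroup f
  set H := S.comap (Matrix.SpecialLinearGroup.toGL : Matrix.SpecialLinearGroup (Fin n) F →* GL (Fin n) F)
  -- the symplectic group embeds in `S`
  let κ : ((Fin m ⊕ Fin m → F) ≃ₗ[F] (Fin m ⊕ Fin m → F)) →* GL (Fin n) F :=
    MonoidHom.mk' (fun g => Matrix.GeneralLinearGroup.toLin.symm
      (LinearMap.GeneralLinearGroup.ofLinearEquiv ((E.trans g).trans E.symm))) fun a b => by
      rw [← map_mul]
      congr 1
      exact Units.ext (LinearMap.ext fun w => by simp)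
  have hκ : ∀ g (w : Fin n → F), ((κ g : GL (Fin n) F) : Matrix (Fin n) (Fin n) F).mulVec w = E.symm (g (E w)) := by
    intro g w
    rw [← Matrix.toLin'_apply]
    show Matrix.toLin' (LinearMap.toMatrix' _) w = _
    rw [Matrix.toLin'_toMatrix']
    rfl
  let ι : Forms.isom F (sympForm m F) →* S := (κ.comp (Forms.isom F (sympForm m F)).subtype).codRestrict S
    fun g => ⟨1, fun u v => by
      rw [Units.val_one, one_mul, MonoidHom.comp_apply, Subgroup.subtype_apply, hsk, hsk, hκ, hκ,
        E.apply_symm_apply, E.apply_symm_apply, g.2]⟩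
  have hinj : Function.Injective ι := by
    intro a b hab
    refine Subtype.ext (LinearEquiv.ext fun w => E.symm.injective ?_)
    have h1 : κ a.1 = κ b.1 := congrArg Subtype.val hab
    have h2 := congrArg (fun M : GL (Fin n) F => (M : Matrix (Fin n) (Fin n) F).mulVec (E.symm w)) h1
    simpa [hκ] using h2
  have hSp := Subgroup.card_dvd_of_injective ι hinj
  rw [Forms.card_isom_sympForm] at hSp
  -- `|S|` divides `|H| (q - 1)`
  let dS : S →* Fˣ := Matrix.GeneralLinearGroup.det.comp S.subtype
  have hker : Nat.card dS.ker = Nat.card H := by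
    refine Nat.card_congr
      { toFun := fun g => ⟨⟨((g.1 : GL (Fin n) F) : Matrix (Fin n) (Fin n) F), congrArg Units.val g.2⟩, ?_⟩
        invFun := fun h => ⟨⟨Matrix.SpecialLinearGroup.toGL h.1, h.2⟩, Units.ext h.1.2⟩
        left_inv := fun g => Subtype.ext (Subtype.ext (Units.ext rfl))
        right_inv := fun h => rfl }
    have h1 := g.1.2
    show Matrix.SpecialLinearGroup.toGL _ ∈ S
    convert h1 using 1
    exact Units.ext rfl
  have hS : Nat.card S ∣ Nat.card H * (q - 1) := by
    rw [← hker, ← Subgroup.card_mul_index dS.ker, Subgroup.index_ker]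
    refine mul_dvd_mul_left _ ?_
    rw [hq', ← Nat.card_eq_fintype_card (α := F), ← Nat.card_units]
    exact Subgroup.card_subgroup_dvd_card _
  have hSL : Nat.card (Matrix.SpecialLinearGroup (Fin n) F) * (q - 1) = Nat.card (GL (Fin n) F) := by
    have h1 := Subgroup.card_mul_index (Matrix.GeneralLinearGroup.det (n := Fin n) (R := F)).ker
    rw [Subgroup.index_ker, MonoidHom.range_eq_top.2 (fun c => ?_), Subgroup.card_top, Nat.card_units,
      Nat.card_eq_fintype_card (α := F)] at h1
    · rw [← h1]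
      congr 1
      refine Nat.card_congr
        { toFun := fun x => ⟨Matrix.SpecialLinearGroup.toGL x, Units.ext x.2⟩
          invFun := fun g => ⟨(g.1 : Matrix (Fin n) (Fin n) F), congrArg Units.val g.2⟩
          left_inv := fun x => rfl
          right_inv := fun g => Subtype.ext (Units.ext rfl) }
    · let i₀ : Fin n := ⟨0, hn0⟩
      refine ⟨Matrix.GeneralLinearGroup.mkOfDetNeZero (Matrix.diagonal (Function.update 1 i₀ (c : F))) ?_,
        Units.ext ?_⟩
      all_goals simp [Matrix.det_diagonal, Finset.prod_update_of_mem]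
  have hdvd : r * Nat.card (Forms.isom F (sympForm m F)) ∣ Nat.card (GL (Fin n) F) := by
    rw [Forms.card_isom_sympForm, ← hSL, ← Subgroup.index_mul_card H, mul_assoc]
    exact (mul_dvd_mul hΩ (hSp.trans hS))
  rw [Forms.card_isom_sympForm, Matrix.card_GL_field, Elusive.prod_frames _ le_rfl] at hdvd
  have hsplit : ∀ k : ℕ, Elusive.fallProd q (2 * k) (2 * k) =
      (∏ l ∈ Finset.range k, (q ^ (2 * (l + 1)) - 1)) * ∏ l ∈ Finset.range k, (q ^ (2 * l + 1) - 1) := by
    intro k
    induction k with
    | zero => simp [Elusive.fallProd]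
    | succ k ih =>
      rw [show 2 * (k + 1) = 2 + 2 * k by ring, Elusive.fallProd_split q (by omega) le_rfl,
        show 2 + 2 * k - 2 = 2 * k by omega, ih, Finset.prod_range_succ, Finset.prod_range_succ,
        Elusive.fallProd, Finset.prod_range_succ, Finset.prod_range_one,
        show 2 + 2 * k - 0 = 2 * (k + 1) by omega, show 2 + 2 * k - 1 = 2 * k + 1 by omega]
      ring
  rw [← hq', hm, hsplit m] at hdvd
  obtain ⟨hq1, hq0⟩ : 1 < q ∧ (q : ZMod r) ≠ 0 := by
    refine ⟨Fintype.one_lt_card, fun h0 => hrp ?_⟩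
    obtain ⟨l, hp', hl⟩ := FiniteField.card F p
    rw [ZMod.natCast_eq_zero_iff, hq', hl] at h0
    exact (Nat.prime_dvd_prime_iff_eq hr hp').1 (hr.dvd_of_dvd_pow h0)
  have h5 : r ∣ (∏ j ∈ Finset.range (2 * m), q ^ j) * ∏ l ∈ Finset.range m, (q ^ (2 * l + 1) - 1) := by
    refine dvd_trans (dvd_mul_right r (q ^ m ^ 2))
      (Nat.dvd_of_mul_dvd_mul_right (k := ∏ l ∈ Finset.range m, (q ^ (2 * (l + 1)) - 1)) ?_ ?_)
    · exact Finset.prod_pos fun l _ => by
        have : 1 < q ^ (2 * (l + 1)) := Nat.one_lt_pow (by omega) hq1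
        omega
    · rw [mul_assoc]
      refine hdvd.trans (dvd_of_eq ?_)
      ring
  rcases hr.dvd_mul.1 h5 with h6 | h6
  · obtain ⟨k, -, h7⟩ := hr.prime.dvd_finsetProd_iff _ |>.1 h6
    exact hq0 ((ZMod.natCast_eq_zero_iff _ _).2 (hr.dvd_of_dvd_pow h7))
  · obtain ⟨k, -, h7⟩ := hr.prime.dvd_finsetProd_iff _ |>.1 h6
    rw [← ZMod.natCast_eq_zero_iff, Nat.cast_sub (Nat.one_le_pow _ _ (by omega)), Nat.cast_pow, Nat.cast_one,
      sub_eq_zero] at h7
    obtain ⟨l, hl⟩ := hi
    obtain ⟨w, hw⟩ := orderOf_dvd_of_pow_eq_one h7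
    rw [hl] at hw
    have : 2 ∣ 2 * k + 1 := ⟨l * w, by rw [hw]; ring⟩
    omega

end Cfsg.Agent.S5968
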