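import Cfsg.Statements.S5969
import Cfsg.Agent.Lib.Elusive.InvolutionPairs

set_option autoImplicit false
open scoped MatrixGroups
open Cfsg

namespace Cfsg.Agent.S5969

set_option linter.unusedSectionVars false

open Module Matrix

variable {F : Type*} [Field F] [Fintype F] {n : ℕ} {K : Subalgebra F (Matrix (Fin n) (Fin n) F)}

/-- A non-scalar element. -/
theorem exists_gen (hK : Geo.IsFieldSubalgebra 2 K) (hn : 0 < n) :
    ∃ A ∈ K, ∀ c : F, A ≠ c • (1 : Matrix (Fin n) (Fin n) F) := by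
  haveI := Fin.pos_iff_nonempty.1 hn
  by_contra hall
  push Not at hall
  have hbot : K = ⊥ := eq_bot_iff.2 fun A hA => by
    obtain ⟨c, rfl⟩ := hall A hA
    exact Algebra.mem_bot.2 ⟨c, Algebra.algebraMap_eq_smul_one c⟩
  have h2 := hK.finrank_eq
  rw [hbot, Subalgebra.finrank_bot] at h2
  omega

/-- `K = F + F A`. -/
theorem exists_coeff (hK : Geo.IsFieldSubalgebra 2 K) {A : Matrix (Fin n) (Fin n) F} (hA : A ∈ K)
    (hA' : ∀ c : F, A ≠ c • (1 : Matrix (Fin n) (Fin n) F)) {k : Matrix (Fin n) (Fin n) F} (hk : k ∈ K) :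
    ∃ a b : F, k = a • 1 + b • A := by
  have h1 : (1 : Matrix (Fin n) (Fin n) F) ≠ 0 := fun h0 => hA' 0 (by
    rw [zero_smul, ← mul_one A, h0, mul_zero])
  have hli : LinearIndependent F ![(1 : Matrix (Fin n) (Fin n) F), A] :=
    (LinearIndependent.pair_iff' h1).2 fun a e => hA' a e.symm
  have hle : Submodule.span F (Set.range ![(1 : Matrix (Fin n) (Fin n) F), A]) ≤ Subalgebra.toSubmodule K := by
    rw [Submodule.span_le]
    rintro _ ⟨i, rfl⟩
    fin_cases i
    · exact K.one_mem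
    · exact hA
  have heq := Submodule.eq_of_le_of_finrank_le hle (by
    rw [finrank_span_eq_card hli, Fintype.card_fin]
    exact hK.finrank_eq.le)
  have hk' : k ∈ Subalgebra.toSubmodule K := hk
  rw [← heq, Submodule.mem_span_range_iff_exists_fun] at hk'
  obtain ⟨c, hc⟩ := hk'
  exact ⟨c 0, c 1, by rw [← hc, Fin.sum_univ_two]; rfl⟩

/-- No eigenvectors for a non-scalar element. -/
theorem no_eigen (hK : Geo.IsFieldSubalgebra 2 K) {A : Matrix (Fin n) (Fin n) F} (hA : A ∈ K)
    (hA' : ∀ c : F, A ≠ c • (1 : Matrix (Fin n) (Fin n) F)) {v : Fin n → F} (hv : v ≠ 0) (c : F) :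
    A *ᵥ v ≠ c • v := by
  intro h
  obtain ⟨y, hy, hyy⟩ := hK.inv (A - c • 1) (K.sub_mem hA (K.smul_mem K.one_mem c))
    (sub_ne_zero.2 (hA' c))
  rw [hK.comm _ (K.sub_mem hA (K.smul_mem K.one_mem c)) _ hy] at hyy
  apply hv
  rw [← Matrix.one_mulVec v, ← hyy, ← Matrix.mulVec_mulVec, Matrix.sub_mulVec, Matrix.smul_mulVec,
    Matrix.one_mulVec, h, sub_self, Matrix.mulVec_zero]

/-- Square roots in `K`. -/
theorem exists_root (hK : Geo.IsFieldSubalgebra 2 K) (hn : 0 < n) {z : F} (hz : ∀ w : F, w * w ≠ z) :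
    ∃ A ∈ K, A * A = z • (1 : Matrix (Fin n) (Fin n) F) ∧
      ∀ c : F, A ≠ c • (1 : Matrix (Fin n) (Fin n) F) := by
  haveI := Fin.pos_iff_nonempty.1 hn
  haveI : Nontrivial K := ⟨0, 1, fun h => zero_ne_one (congrArg Subtype.val h)⟩
  have hfield : IsField K := ⟨exists_pair_ne K, fun x y => Subtype.ext (hK.comm _ x.2 _ y.2), fun {x} hx => by
    obtain ⟨y, hy, h⟩ := hK.inv _ x.2 fun h => hx (Subtype.ext h)
    exact ⟨⟨y, hy⟩, Subtype.ext h⟩⟩
  letI := hfield.toField
  haveI : Fintype K := Fintype.ofFinite K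
  have hz0 : z ≠ 0 := fun h0 => hz 0 (by simp [h0])
  have hchar : ringChar F ≠ 2 := fun h => by
    obtain ⟨w, hw⟩ := FiniteField.isSquare_of_char_two h z
    exact hz w hw.symm
  obtain ⟨r, hr⟩ : Odd (Fintype.card F) := Nat.odd_iff.2 (FiniteField.odd_card_of_char_ne_two hchar)
  have hcard : Fintype.card K = Fintype.card F ^ 2 := by
    rw [Module.card_eq_pow_finrank (K := F), hK.finrank_eq]
  have hsq : IsSquare (algebraMap F K z) := by
    have hcK : ringChar K ≠ 2 := fun h => by
      have := FiniteField.even_card_of_char_two h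
      rw [hcard, hr, show (2 * r + 1) ^ 2 = 2 * (2 * r * (r + 1)) + 1 by ring] at this
      omega
    rw [FiniteField.isSquare_iff hcK (by simpa using hz0), hcard]
    rw [show Fintype.card F ^ 2 / 2 = (Fintype.card F - 1) * (r + 1) by
      rw [hr, show (2 * r + 1) ^ 2 = 2 * (2 * r * (r + 1)) + 1 by ring, show 2 * r + 1 - 1 = 2 * r by omega]
      omega, pow_mul, ← map_pow, FiniteField.pow_card_sub_one_eq_one z hz0, map_one, one_pow]
  obtain ⟨A, hA⟩ := hsq
  have hA2 : A.1 * A.1 = z • (1 : Matrix (Fin n) (Fin n) F) :=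
    (congrArg Subtype.val hA).symm.trans (Algebra.algebraMap_eq_smul_one z)
  refine ⟨A.1, A.2, hA2, fun c hc => hz c ?_⟩
  rw [hc, Matrix.smul_mul, Matrix.mul_smul, mul_one, smul_smul] at hA2
  have := congrFun (congrFun hA2 ⟨0, hn⟩) ⟨0, hn⟩
  simpa using this

theorem mem_of_commute (hK : Geo.IsFieldSubalgebra 2 K) {A : Matrix (Fin n) (Fin n) F} (hA : A ∈ K)
    (hA' : ∀ c : F, A ≠ c • (1 : Matrix (Fin n) (Fin n) F)) (g : GL (Fin n) F)
    (h : g.val * A = A * g.val) : g ∈ Geo.subalgebraNormalizer K := by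
  intro k
  have key : ∀ k ∈ K, g.val * k * (g⁻¹ : GL (Fin n) F).val = k := fun k hk => by
    obtain ⟨a, b, rfl⟩ := exists_coeff hK hA hA' hk
    rw [mul_add, Matrix.mul_smul, Matrix.mul_smul, mul_one, h, add_mul, Matrix.smul_mul, Matrix.smul_mul,
      mul_assoc, Units.mul_inv, mul_one]
  refine ⟨fun hk => by rw [key k hk]; exact hk, fun hk => ?_⟩
  have h1 := key _ hk
  have : k = g.val * k * (g⁻¹ : GL (Fin n) F).val := by
    refine g.isUnit.mul_left_cancel ((g⁻¹).isUnit.mul_right_cancel ?_)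
    exact h1.symm
  rw [this]; exact hk

/-- An involution of the plane normalising `K`. -/
theorem exists_flip {K : Subalgebra F (Matrix (Fin 2) (Fin 2) F)} (hK : Geo.IsFieldSubalgebra 2 K) :
    ∃ t : GL (Fin 2) F, t ∈ Geo.subalgebraNormalizer K ∧ t.val * t.val = 1 ∧
      ∀ c : F, t.val ≠ c • (1 : Matrix (Fin 2) (Fin 2) F) := by
  obtain ⟨A, hA, hA'⟩ := exists_gen hK two_pos
  obtain ⟨r, s, hAA⟩ := exists_coeff hK hA hA' (K.mul_mem hA hA)
  set v : Fin 2 → F := Pi.single 0 1 with hv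
  have hv0 : v ≠ 0 := fun h => by simpa [hv] using congrFun h 0
  have hli : LinearIndependent F ![v, A *ᵥ v] :=
    (LinearIndependent.pair_iff' hv0).2 fun a h => no_eigen hK hA hA' hv0 a h.symm
  let b : Basis (Fin 2) F (Fin 2 → F) := Basis.mk hli (hli.span_eq_top_of_card_eq_finrank' (by simp)).ge
  let T := LinearMap.toMatrix' (b.constr F ![v, s • v - A *ᵥ v])
  have hTv : T *ᵥ v = v := by
    conv_lhs => arg 2; rw [show v = b 0 by simp [b]]
    show LinearMap.toMatrix' _ *ᵥ _ = _
    rw [LinearMap.toMatrix'_mulVec, Basis.constr_basis]; simp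
  have hTA : T *ᵥ (A *ᵥ v) = s • v - A *ᵥ v := by
    conv_lhs => rw [show A *ᵥ v = b 1 by simp [b]]
    show LinearMap.toMatrix' _ *ᵥ _ = _
    rw [LinearMap.toMatrix'_mulVec, Basis.constr_basis]; simp
  have hext : ∀ M N : Matrix (Fin 2) (Fin 2) F, M *ᵥ v = N *ᵥ v → M *ᵥ (A *ᵥ v) = N *ᵥ (A *ᵥ v) → M = N := by
    intro M N h0 h1
    refine Matrix.toLin'.injective (b.ext fun i => ?_)
    fin_cases i
    · simpa [b] using h0
    · simpa [b] using h1
  have hT2 : T * T = 1 := by
    refine hext _ _ ?_ ?_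
    · rw [← Matrix.mulVec_mulVec, hTv, hTv, Matrix.one_mulVec]
    · rw [← Matrix.mulVec_mulVec, hTA, Matrix.mulVec_sub, Matrix.mulVec_smul, hTv, hTA, Matrix.one_mulVec]
      abel
  have hAAv : A *ᵥ (A *ᵥ v) = r • v + s • (A *ᵥ v) := by
    rw [Matrix.mulVec_mulVec, hAA, Matrix.add_mulVec, Matrix.smul_mulVec, Matrix.smul_mulVec, Matrix.one_mulVec]
  have hconj : T * A = (s • 1 - A) * T := by
    refine hext _ _ ?_ ?_
    · rw [← Matrix.mulVec_mulVec, ← Matrix.mulVec_mulVec, hTv, hTA, Matrix.sub_mulVec, Matrix.smul_mulVec,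
        Matrix.one_mulVec]
    · rw [← Matrix.mulVec_mulVec, ← Matrix.mulVec_mulVec, hAAv, hTA, Matrix.mulVec_add, Matrix.mulVec_smul,
        Matrix.mulVec_smul, hTv, hTA, Matrix.sub_mulVec, Matrix.smul_mulVec, Matrix.one_mulVec,
        Matrix.mulVec_sub, Matrix.mulVec_smul, hAAv]
      module
  let t : GL (Fin 2) F := ⟨T, T, hT2, hT2⟩
  have key : ∀ k ∈ K, T * k * T ∈ K := fun k hk => by
    obtain ⟨a, c, rfl⟩ := exists_coeff hK hA hA' hk
    rw [mul_add, Matrix.mul_smul, Matrix.mul_smul, mul_one, hconj, add_mul, Matrix.smul_mul, Matrix.smul_mul,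
      hT2, mul_assoc, hT2, mul_one]
    exact K.add_mem (K.smul_mem K.one_mem a) (K.smul_mem (K.sub_mem (K.smul_mem K.one_mem s) hA) c)
  refine ⟨t, fun k => ⟨fun hk => key k hk, fun hk => ?_⟩, hT2, fun c hc => ?_⟩
  · have h1 : T * (T * k * T) * T ∈ K := key _ hk
    rw [show T * (T * k * T) * T = T * T * k * (T * T) by simp only [mul_assoc], hT2, one_mul, mul_one] at h1
    exact h1
  · -- `t = 1` would make `A` a root of a square
    have hc1 : c = 1 := by
      have h1 : T *ᵥ v = c • v := by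
        rw [show T = c • 1 from hc, Matrix.smul_mulVec, Matrix.one_mulVec]
      rw [hTv] at h1
      simpa [hv] using (congrFun h1 0).symm
    have hT1 : T = 1 := by rw [show T = c • 1 from hc, hc1, one_smul]
    have h2A : A + A = s • (1 : Matrix (Fin 2) (Fin 2) F) := by
      have := hconj
      rw [hT1, one_mul, mul_one] at this
      nth_rw 2 [this]
      rw [add_sub_cancel]
    by_cases h2 : (2 : F) = 0
    · have hs : s = 0 := by
        have h3 : A + A = 0 := by
          rw [show A + A = (2 : F) • A by module, h2, zero_smul]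
        rw [h3] at h2A
        simpa using (congrFun (congrFun h2A 0) 0).symm
      haveI : CharP F (ringChar F) := ringChar.charP F
      have hchar : ringChar F = 2 := by
        have := (CharP.cast_eq_zero_iff F (ringChar F) 2).1 (by exact_mod_cast h2)
        exact (Nat.prime_dvd_prime_iff_eq (CharP.char_is_prime F _) Nat.prime_two).1 this
      obtain ⟨ρ, hρ⟩ := FiniteField.isSquare_of_char_two hchar r
      obtain ⟨y, hy, hyy⟩ := hK.inv (A - ρ • 1) (K.sub_mem hA (K.smul_mem K.one_mem ρ)) (sub_ne_zero.2 (hA' ρ))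
      have h0 : (A - ρ • 1) * (A - ρ • 1) = 0 := by
        rw [sub_mul, mul_sub, mul_sub, hAA, hs, zero_smul, add_zero, Matrix.smul_mul, one_mul,
          Matrix.mul_smul, mul_one, Matrix.smul_mul, one_mul, smul_smul, ← hρ,
          show r • (1 : Matrix (Fin 2) (Fin 2) F) - ρ • A - (ρ • A - r • 1) = (2 : F) • (r • 1 - ρ • A) by
            module, h2, zero_smul]
      refine sub_ne_zero.2 (hA' ρ) ?_
      have h4 := congrArg (fun M => M * y) h0
      simp only [mul_assoc, hyy, mul_one, zero_mul] at h4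
      exact h4
    · refine hA' ((2 : F)⁻¹ * s) ?_
      rw [mul_smul, ← h2A, show A + A = (2 : F) • A by module, smul_smul, inv_mul_cancel₀ h2, one_smul]

/-- Dimension two: elements squaring to the same scalar are conjugate. -/
theorem conj_two (X Y : Matrix (Fin 2) (Fin 2) F) {z : F} (hX : X * X = z • 1) (hY : Y * Y = z • 1)
    (hX' : ∀ c : F, X ≠ c • 1) (hY' : ∀ c : F, Y ≠ c • 1) : ∃ P : GL (Fin 2) F, X * P.val = P.val * Y := by
  have key : ∀ M : Matrix (Fin 2) (Fin 2) F, M * M = z • 1 → (∀ c : F, M ≠ c • 1) →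
      ∃ b : Basis (Fin 2) F (Fin 2 → F), LinearMap.toMatrix b b (Matrix.toLin' M) = !![0, z; 1, 0] := by
    intro M hM hM'
    obtain ⟨v, hv⟩ : ∃ v, LinearIndependent F ![v, M *ᵥ v] := by
      by_contra hall
      push Not at hall
      obtain ⟨c, hc⟩ := LinearMap.exists_eq_smul_id_of_forall_notLinearIndependent
        (f := Matrix.toLin' M) (fun v => by simpa using hall v)
      refine hM' c ?_
      rw [← LinearMap.toMatrix'_toLin' M, hc]
      simp
    let b : Basis (Fin 2) F (Fin 2 → F) := Basis.mk hv (hv.span_eq_top_of_card_eq_finrank' (by simp)).ge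
    have e0 : b 0 = v := by simp [b]
    have e1 : b 1 = M *ᵥ v := by simp [b]
    refine ⟨b, Matrix.ext fun i j => ?_⟩
    rw [LinearMap.toMatrix_apply]
    fin_cases j
    · rw [show Matrix.toLin' M (b ⟨0, _⟩) = b 1 from by
        rw [show (⟨0, _⟩ : Fin 2) = 0 from rfl, e0, e1, Matrix.toLin'_apply], Basis.repr_self]
      fin_cases i <;> simp
    · rw [show Matrix.toLin' M (b ⟨1, _⟩) = z • b 0 from by
        rw [show (⟨1, _⟩ : Fin 2) = 1 from rfl, e1, e0, Matrix.toLin'_apply, Matrix.mulVec_mulVec, hM,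
          Matrix.smul_mulVec, Matrix.one_mulVec], map_smul, Basis.repr_self]
      fin_cases i <;> simp
  obtain ⟨b, hb⟩ := key X hX hX'
  obtain ⟨b', hb'⟩ := key Y hY hY'
  exact Elusive.exists_gl_conj_of_bases X Y b b' (hb.trans hb'.symm)

/-- Elements squaring to a non-square are conjugate. -/
theorem conj_nonsquare (X Y : Matrix (Fin n) (Fin n) F) {z : F} (hz : ∀ w : F, w * w ≠ z)
    (hX : X * X = z • 1) (hY : Y * Y = z • 1) : ∃ P : GL (Fin n) F, X * P.val = P.val * Y := by
  have key : ∀ M : Matrix (Fin n) (Fin n) F, M * M = z • 1 → ∀ v, Matrix.toLin' M (Matrix.toLin' M v) = z • v := by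
    intro M hM v
    rw [Matrix.toLin'_apply, Matrix.toLin'_apply, Matrix.mulVec_mulVec, hM, Matrix.smul_mulVec, Matrix.one_mulVec]
  obtain ⟨k, b, e0, e1⟩ := Elusive.exists_swap_basis hz (key X hX)
  obtain ⟨k', b', e0', e1'⟩ := Elusive.exists_swap_basis hz (key Y hY)
  obtain rfl : k = k' := by
    have h1 := Module.finrank_eq_card_basis b
    have h2 := Module.finrank_eq_card_basis b'
    simp at h1 h2
    omega
  refine Elusive.exists_gl_conj_of_bases X Y b b' ?_
  rw [Elusive.toMatrix_pairs b (fun _ => !![0, z; 1, 0]) (fun a i => by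
      fin_cases a <;> simp [-Matrix.toLin'_apply, e0, e1]),
    Elusive.toMatrix_pairs b' (fun _ => !![0, z; 1, 0]) (fun a i => by
      fin_cases a <;> simp [-Matrix.toLin'_apply, e0', e1'])]

theorem conj_eq {g P : GL (Fin n) F} {Y : Matrix (Fin n) (Fin n) F} (h : g.val * P.val = P.val * Y) :
    (P⁻¹ * g * P : GL (Fin n) F).val = Y := by
  rw [Units.val_mul, Units.val_mul, mul_assoc, h, ← mul_assoc, Units.inv_mul, one_mul]

/-- An element with an eigenspace of codimension one does not normalise `K`. -/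
theorem not_mem_of_rank_one (hK : Geo.IsFieldSubalgebra 2 K) (hn : 2 < n)
    (x P : Matrix.SpecialLinearGroup (Fin n) F) {w a : F} (hw : w ≠ 0) (ha : a ≠ 0) (i j : Fin n)
    (hx : x.1 = w • (1 + Matrix.single i j a)) :
    P⁻¹ * x * P ∉ (Geo.subalgebraNormalizer K).comap Matrix.SpecialLinearGroup.toGL := by
  intro hmem
  set g : GL (Fin n) F := Matrix.SpecialLinearGroup.toGL (P⁻¹ * x * P) with hg
  set Q : Matrix (Fin n) (Fin n) F := (P⁻¹ : Matrix.SpecialLinearGroup (Fin n) F).1 with hQ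
  have hPQ : P.1 * Q = 1 := congrArg Subtype.val (mul_inv_cancel P)
  have hQP : Q * P.1 = 1 := congrArg Subtype.val (inv_mul_cancel P)
  set N := Q * Matrix.single i j a * P.1 with hN
  have hgv : g.val = w • (1 + N) := by
    show Q * x.1 * P.1 = _
    rw [hx, Matrix.mul_smul, Matrix.smul_mul, mul_add, add_mul, mul_one, hQP]
  set v := Q *ᵥ Pi.single i (1 : F) with hvdef
  have hNu : ∀ u, ∃ c : F, N *ᵥ u = c • v := fun u => ⟨a * (P.1 *ᵥ u) j, by
    rw [hN, ← Matrix.mulVec_mulVec, ← Matrix.mulVec_mulVec, ← Matrix.mulVec_smul]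
    congr 1
    funext l
    by_cases hl : l = i
    · subst hl
      simp [Matrix.mulVec, dotProduct, Matrix.single, Finset.sum_ite_eq]
    · simp [Matrix.mulVec, dotProduct, Matrix.single, hl, Ne.symm hl]⟩
  have hv : v ≠ 0 := fun h0 => by
    have h1 := congrArg (P.1 *ᵥ ·) h0
    simp only [hvdef, Matrix.mulVec_mulVec, hPQ, Matrix.one_mulVec, Matrix.mulVec_zero] at h1
    simpa using congrFun h1 i
  clear_value v N
  obtain ⟨A, hA, hA'⟩ := exists_gen hK (by omega)
  set B := g.val * A * (g⁻¹ : GL (Fin n) F).val with hB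
  have hBK : B ∈ K := (hmem A).1 hA
  have hdiff : g.val * A - A * g.val = w • (N * A - A * N) := by
    rw [hgv, Matrix.smul_mul, Matrix.mul_smul, ← smul_sub, add_mul, mul_add, one_mul, mul_one, add_sub_add_left_eq_sub]
  have hrng : ∀ u, (g.val * A - A * g.val) *ᵥ u ∈ Submodule.span F {v, A *ᵥ v} := by
    intro u
    rw [hdiff, Matrix.smul_mulVec, Matrix.sub_mulVec, ← Matrix.mulVec_mulVec, ← Matrix.mulVec_mulVec]
    obtain ⟨c, hc⟩ := hNu (A *ᵥ u)
    obtain ⟨d, hd⟩ := hNu u
    rw [hc, hd, Matrix.mulVec_smul]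
    exact Submodule.smul_mem _ _ (sub_mem (Submodule.smul_mem _ _ (Submodule.subset_span (by simp)))
      (Submodule.smul_mem _ _ (Submodule.subset_span (by simp))))
  by_cases hBA : B = A
  · -- commuting: `A` preserves a line
    have hcom : g.val * A = A * g.val := by
      conv_rhs => rw [← hBA, hB, mul_assoc, Units.inv_mul, mul_one]
    have h1 : N * A = A * N := by
      rw [sub_eq_zero.2 hcom] at hdiff
      exact sub_eq_zero.1 ((smul_eq_zero.1 hdiff.symm).resolve_left hw)
    obtain ⟨u, hu⟩ : ∃ u, N *ᵥ u ≠ 0 := by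
      refine ⟨Q *ᵥ Pi.single j 1, fun h0 => ?_⟩
      have h3 := congrArg (P.1 *ᵥ ·) h0
      simp only [hN, Matrix.mulVec_mulVec, Matrix.mulVec_zero] at h3
      rw [show P.1 * (Q * Matrix.single i j a * P.1 * Q) = Matrix.single i j a by
        simp only [← mul_assoc]; rw [hPQ, one_mul, mul_assoc, hPQ, mul_one]] at h3
      exact ha (by simpa [Matrix.single] using congrFun h3 i)
    obtain ⟨d, hd⟩ := hNu u
    obtain ⟨c, hc⟩ := hNu (A *ᵥ u)
    rw [Matrix.mulVec_mulVec, h1, ← Matrix.mulVec_mulVec, hd, Matrix.mulVec_smul] at hc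
    have hd0 : d ≠ 0 := fun h0 => hu (by rw [hd, h0, zero_smul])
    refine no_eigen hK hA hA' hv (d⁻¹ * c) ?_
    rw [mul_smul, ← hc, smul_smul, inv_mul_cancel₀ hd0, one_smul]
  · -- otherwise a commutator of small rank is invertible
    obtain ⟨y, hy, hyy⟩ := hK.inv (B - A) (K.sub_mem hBK hA) (sub_ne_zero.2 hBA)
    have heq : g.val * A - A * g.val = (B - A) * g.val := by
      rw [sub_mul, hB, mul_assoc, Units.inv_mul, mul_one]
    have htop : (⊤ : Submodule F (Fin n → F)) ≤ Submodule.span F {v, A *ᵥ v} := by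
      intro u _
      have h1 := hrng (((g⁻¹ : GL (Fin n) F).val * y) *ᵥ u)
      rwa [heq, Matrix.mulVec_mulVec, mul_assoc, ← mul_assoc g.val, Units.mul_inv, one_mul, hyy,
        Matrix.one_mulVec] at h1
    rw [show ({v, A *ᵥ v} : Set (Fin n → F)) = Set.range ![v, A *ᵥ v] by
      rw [Matrix.range_cons, Matrix.range_cons, Matrix.range_empty, Set.union_empty, Set.singleton_union]] at htop
    have h1 := (Submodule.finrank_mono htop).trans (finrank_range_le_card (R := F) ![v, A *ᵥ v])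
    rw [finrank_top, Module.finrank_fin_fun, Fintype.card_fin] at h1
    omega

/-- Involutions of PSL_n(q) and extension-field subgroups of degree 2. Here `T = PSL_n(F)` for a field `F` with `q = p^f` elements (`n ≥ 2`, `(n, q) ≠ (2, 2), (2, 3)`), `k` is a prime dividing `n`, `K` is a subalgebra of the `n × n` matrices that is a field of degree `k` over `F` (an extension-field structure F_{q^k} on `F^n`), and `H` is the subgroup of matrices of determinant 1 normalizing `K` — a subgroup of type GL_{n/k}(q^k) (maximal except in some small cases; maximality is not assumed); Ω is the set of cosets of `H` in `T`, so an element of `T` of prime order `r` (a matrix `x` of determinant 1 with `x^r` scalar, `x` not scalar) fixes a point of Ω when some conjugate of `x` by a matrix of determinant 1 normalizes `K`. Take `k = 2` and suppose the index of `H` is even. Then every involution of `T` is conjugate in `T` into `H` if and only if `n = 2`, or `q` is odd and `(q − 1)_2 ≤ (n)_2`.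 -/
theorem result {F : Type*} [Field F] [Fintype F] {p : ℕ} [Fact p.Prime] [CharP F p] {q : ℕ} (hq : Fintype.card F = q)
    (n : ℕ) (hn : 2 ≤ n) (hT : (n, q) ≠ (2, 2) ∧ (n, q) ≠ (2, 3))
    (k : ℕ) (hk : k.Prime) (hkn : k ∣ n) (K : Subalgebra F (Matrix (Fin n) (Fin n) F)) (hK : Cfsg.Geo.IsFieldSubalgebra k K) (hk2 : k = 2) (hΩ : 2 ∣ ((Cfsg.Geo.subalgebraNormalizer K).comap (Matrix.SpecialLinearGroup.toGL : Matrix.SpecialLinearGroup (Fin n) F →* GL (Fin n) F)).index) :
    (∀ x : Matrix.SpecialLinearGroup (Fin n) F,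
      (∃ z : F, ((x ^ 2 : Matrix.SpecialLinearGroup (Fin n) F) : Matrix (Fin n) (Fin n) F) = z • (1 : Matrix (Fin n) (Fin n) F)) →
      (∀ z : F, (x : Matrix (Fin n) (Fin n) F) ≠ z • (1 : Matrix (Fin n) (Fin n) F)) →
      ∃ P : Matrix.SpecialLinearGroup (Fin n) F, P⁻¹ * x * P ∈ ((Cfsg.Geo.subalgebraNormalizer K).comap (Matrix.SpecialLinearGroup.toGL : Matrix.SpecialLinearGroup (Fin n) F →* GL (Fin n) F))) ↔
    (n = 2 ∨ (Odd q ∧ padicValNat 2 (q - 1) ≤ padicValNat 2 n)) := by
  subst hq hk2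
  constructor
  · intro H
    by_contra hcon
    push Not at hcon
    obtain ⟨hne, hcond⟩ := hcon
    have hn2 : 2 < n := by omega
    obtain ⟨x, w, a, i, j, hw, ha, hx1, hx2, hx⟩ := Elusive.exists_rank_one_witness (F := F) hn2 (by
      rcases Nat.mod_two_eq_zero_or_one (Fintype.card F) with h | h
      · exact Or.inl h
      · exact Or.inr (hcond (Nat.odd_iff.2 h)))
    obtain ⟨P, hP⟩ := H x hx1 hx2
    exact not_mem_of_rank_one hK hn2 x P hw ha i j hx hP
  · intro hc x hx hxs
    obtain ⟨z, hz⟩ := hx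
    have hn0 : 0 < n := by omega
    have hz0 := Elusive.ne_zero_of_sq hn0 x hz
    have hds := Elusive.detSurj_of_sq hn0 x hz
    have hXX : x.1 * x.1 = z • (1 : Matrix (Fin n) (Fin n) F) := by
      rw [← hz, pow_two x]; rfl
    set gx : GL (Fin n) F := Matrix.SpecialLinearGroup.toGL x with hgx
    by_cases hsq : ∃ w : F, w * w = z
    swap
    · push Not at hsq
      obtain ⟨A, hA, hAA, hA'⟩ := exists_root hK hn0 hsq
      obtain ⟨P, hP⟩ := conj_nonsquare x.1 A hsq hXX hAA
      exact Elusive.exists_sl_conj _ x hds P (mem_of_commute hK hA hA' _ (by rw [conj_eq (g := gx) hP]))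
    by_cases hn2 : n = 2
    · subst hn2
      obtain ⟨w, rfl⟩ := hsq
      have hw : w ≠ 0 := left_ne_zero_of_mul hz0
      obtain ⟨t, ht, htt, ht'⟩ := exists_flip hK
      obtain ⟨P, hP⟩ := conj_two x.1 (w • t.val) hXX
        (by rw [Matrix.smul_mul, Matrix.mul_smul, smul_smul, htt]) hxs (fun c hc => ht' (w⁻¹ * c) (by
          rw [mul_smul, ← hc, smul_smul, inv_mul_cancel₀ hw, one_smul]))
      refine Elusive.exists_sl_conj _ x hds P ?_
      intro k
      have hval := conj_eq (g := gx) hP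
      have hinv : ((P⁻¹ * gx * P)⁻¹ : GL (Fin 2) F).val = w⁻¹ • (t⁻¹ : GL (Fin 2) F).val := by
        refine (P⁻¹ * gx * P).isUnit.mul_left_cancel ?_
        rw [Units.mul_inv, hval, Matrix.smul_mul, Matrix.mul_smul, smul_smul, mul_inv_cancel₀ hw, one_smul,
          Units.mul_inv]
      show k ∈ K ↔ (P⁻¹ * gx * P).val * k * ((P⁻¹ * gx * P)⁻¹ : GL (Fin 2) F).val ∈ K
      rw [hinv, hval, Matrix.smul_mul, Matrix.smul_mul, Matrix.mul_smul, smul_smul, mul_inv_cancel₀ hw,
        one_smul]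
      exact ht k
    obtain ⟨hq, hv⟩ := hc.resolve_left hn2
    obtain ⟨κ, _, _, b, M, c, hb, -, hdiag⟩ := Elusive.exists_planes (even_iff_two_dvd.2 hkn) hn0 x hz hv
    haveI : CharP F (ringChar F) := ringChar.charP F
    have hchar : ringChar F ≠ 2 := fun h => by
      have := FiniteField.even_card_of_char_two h
      obtain ⟨r, hr⟩ := hq
      omega
    obtain ⟨ε, hε⟩ := FiniteField.exists_nonsquare hchar
    have hε' : ∀ w : F, w * w ≠ ε := fun w hw => hε ⟨w, hw.symm⟩
    obtain ⟨A, hA, hAA, hA'⟩ := exists_root hK hn0 hε'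
    have hM := hdiag (Ring.two_ne_zero hchar) hsq
    choose d hd using hM
    let Jl : (Fin n → F) →ₗ[F] (Fin n → F) := b.constr F fun p =>
      if p.1 = 0 then b (1, p.2) else ε • b (0, p.2)
    have hJ0 : ∀ i, Jl (b (0, i)) = b (1, i) := fun i => by rw [Basis.constr_basis]; simp
    have hJ1 : ∀ i, Jl (b (1, i)) = ε • b (0, i) := fun i => by rw [Basis.constr_basis]; simp
    set J := LinearMap.toMatrix' Jl with hJdef
    have hJJ : J * J = ε • (1 : Matrix (Fin n) (Fin n) F) := by
      rw [hJdef, ← LinearMap.toMatrix'_comp, ← LinearMap.toMatrix'_id, ← map_smul]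
      congr 1
      refine b.ext fun p => ?_
      obtain ⟨a, i⟩ := p
      fin_cases a <;> simp [hJ0, hJ1]
    have hJx : x.1 * J = J * x.1 := by
      rw [hJdef, ← LinearMap.toMatrix'_toLin' x.1, ← LinearMap.toMatrix'_comp, ← LinearMap.toMatrix'_comp]
      congr 1
      refine b.ext fun p => ?_
      obtain ⟨a, i⟩ := p
      have hbi : ∀ a i, Matrix.toLin' x.1 (b (a, i)) = d i • b (a, i) := fun a i => by
        have := hb a i
        fin_cases a <;> simpa [-Matrix.toLin'_apply, hd i] using this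
      fin_cases a <;> simp [-Matrix.toLin'_apply, hJ0, hJ1, hbi, smul_comm ε (d i)]
    obtain ⟨P, hP⟩ := conj_nonsquare J A hε' hJJ hAA
    refine Elusive.exists_sl_conj _ x hds P (mem_of_commute hK hA hA' _ ?_)
    have hA2 : A = (P⁻¹ : GL (Fin n) F).val * J * P.val := by
      rw [mul_assoc, hP, ← mul_assoc, Units.inv_mul, one_mul]
    rw [hA2]
    show (P⁻¹ : GL (Fin n) F).val * x.1 * P.val * _ = _ * ((P⁻¹ : GL (Fin n) F).val * x.1 * P.val)
    simp only [mul_assoc]
    rw [← mul_assoc P.val, Units.mul_inv, one_mul, ← mul_assoc x.1 J, hJx, ← mul_assoc P.val, Units.mul_inv,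
      one_mul, mul_assoc]

end Cfsg.Agent.S5969
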