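import Cfsg.Statements.S5970
import Cfsg.Agent.Lib.Elusive.Singer

set_option autoImplicit false
set_option linter.style.haveILetI false
open scoped MatrixGroups
open Cfsg

namespace Cfsg.Agent.S5970

/-- Elements of order `n` of PSL_n(q), `n` prime, and the normalizer of a Singer cycle. Here `T = PSL_n(F)` for a field `F` with `q = p^f` elements (`n ≥ 2`, `(n, q) ≠ (2, 2), (2, 3)`), `k` is a prime dividing `n`, `K` is a subalgebra of the `n × n` matrices that is a field of degree `k` over `F` (an extension-field structure F_{q^k} on `F^n`), and `H` is the subgroup of matrices of determinant 1 normalizing `K` — a subgroup of type GL_{n/k}(q^k) (maximal except in some small cases; maximality is not assumed); Ω is the set of cosets of `H` in `T`, so an element of `T` of prime order `r` (a matrix `x` of determinant 1 with `x^r` scalar, `x` not scalar) fixes a point of Ω when some conjugate of `x` by a matrix of determinant 1 normalizes `K`. Take `k = n > 3` prime with `n ≠ p` (so `H` is the normalizer of a Singer cycle), and suppose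 `n` divides the index of `H`. Then every element of `T` of order `n` is conjugate in `T` into `H` if and only if the multiplicative order of `q` modulo `n` is `n − 1`. -/
theorem result {F : Type*} [Field F] [Fintype F] {p : ℕ} [Fact p.Prime] [CharP F p] {q : ℕ} (hq : Fintype.card F = q)
    (n : ℕ) (hn : 2 ≤ n) (hT : (n, q) ≠ (2, 2) ∧ (n, q) ≠ (2, 3))
    (k : ℕ) (hk : k.Prime) (hkn : k ∣ n) (K : Subalgebra F (Matrix (Fin n) (Fin n) F)) (hK : Cfsg.Geo.IsFieldSubalgebra k K) (hkn' : k = n) (hn3 : 3 < n) (hnp : n ≠ p) (hΩ : n ∣ ((Cfsg.Geo.subalgebraNormalizer K).comap (Matrix.SpecialLinearGroup.toGL : Matrix.SpecialLinearGroup (Fin n) F →* GL (Fin n) F)).index) :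
    (∀ x : Matrix.SpecialLinearGroup (Fin n) F,
      (∃ z : F, ((x ^ n : Matrix.SpecialLinearGroup (Fin n) F) : Matrix (Fin n) (Fin n) F) = z • (1 : Matrix (Fin n) (Fin n) F)) →
      (∀ z : F, (x : Matrix (Fin n) (Fin n) F) ≠ z • (1 : Matrix (Fin n) (Fin n) F)) →
      ∃ P : Matrix.SpecialLinearGroup (Fin n) F, P⁻¹ * x * P ∈ ((Cfsg.Geo.subalgebraNormalizer K).comap (Matrix.SpecialLinearGroup.toGL : Matrix.SpecialLinearGroup (Fin n) F →* GL (Fin n) F))) ↔
    orderOf (q : ZMod n) = n - 1 := by
  classical
  subst hq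
  subst hkn'
  haveI : Fact k.Prime := ⟨hk⟩
  have hodd : Odd k := hk.odd_of_ne_two (by omega)
  have hq0 : (Fintype.card F : ZMod k) ≠ 0 := by
    intro h
    obtain ⟨l, hp', hl⟩ := FiniteField.card F p
    rw [ZMod.natCast_eq_zero_iff, hl] at h
    exact hnp ((Nat.prime_dvd_prime_iff_eq hk hp').1 (hk.dvd_of_dvd_pow h))
  have hi1 : 0 < orderOf (Fintype.card F : ZMod k) := orderOf_pos_iff.2 (Ne.isUnit hq0).isOfFinOrder
  have hk0 : (k : F) ≠ 0 := Elusive.ne_zero_of_order hi1
  have hid : orderOf (Fintype.card F : ZMod k) ∣ k - 1 := ZMod.orderOf_dvd_card_sub_one hq0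
  have hle : orderOf (Fintype.card F : ZMod k) ≤ k - 1 := Nat.le_of_dvd (by omega) hid
  constructor
  · intro H
    by_contra hne
    by_cases h1 : orderOf (Fintype.card F : ZMod k) = 1
    · obtain ⟨u, hu⟩ : ∃ u : Fˣ, orderOf u = k := by
        refine exists_prime_orderOf_dvd_card' k ?_
        rw [Nat.card_units, Nat.card_eq_fintype_card]
        exact Elusive.dvd_card_sub_one h1
      let i₀ : Fin k := ⟨0, by omega⟩
      let i₁ : Fin k := ⟨1, by omega⟩
      let i₂ : Fin k := ⟨2, by omega⟩
      let d : Fin k → F := fun j => if j = i₀ then (u : F) else if j = i₁ then ((u⁻¹ : Fˣ) : F) else 1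
      have h01 : i₀ ≠ i₁ := by simp [i₀, i₁]
      have hd2 : d i₂ = 1 := by simp [d, i₀, i₁, i₂]
      have hdet : (Matrix.diagonal d).det = 1 := by
        rw [Matrix.det_diagonal, Finset.prod_eq_mul i₀ i₁ h01
          (fun j _ hj => by simp [d, hj.1, hj.2]) (by simp) (by simp)]
        simp [d, h01.symm]
      have huk : (u : F) ^ k = 1 := by rw [← Units.val_pow_eq_pow_val, ← hu, pow_orderOf_eq_one, Units.val_one]
      have hu1 : (u : F) ≠ 1 := fun h => hk.one_lt.ne (by rw [← hu, Units.val_eq_one.1 h, orderOf_one])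
      let x : Matrix.SpecialLinearGroup (Fin k) F := ⟨Matrix.diagonal d, hdet⟩
      have hpow : (x : Matrix (Fin k) (Fin k) F) ^ k = (1 : F) • (1 : Matrix (Fin k) (Fin k) F) := by
        show Matrix.diagonal d ^ k = _
        rw [Matrix.diagonal_pow, one_smul, ← Matrix.diagonal_one]
        congr 1
        funext j
        simp only [d, Pi.pow_apply]
        split_ifs <;> simp [huk]
      have hne1 : ∀ z : F, (x : Matrix (Fin k) (Fin k) F) ≠ z • 1 := by
        intro z hz
        have e0 := congrFun (congrFun hz i₀) i₀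
        have e2 := congrFun (congrFun hz i₂) i₂
        simp [x, hd2] at e0 e2
        exact hu1 (by rw [← e2] at e0; simpa [d] using e0)
      obtain ⟨P, hP⟩ := H x ⟨1, by rw [Matrix.SpecialLinearGroup.coe_pow]; exact hpow⟩ hne1
      have hroot : (Polynomial.X - Polynomial.C (1 : F)) ∣ minpoly F (x : Matrix (Fin k) (Fin k) F) := by
        refine Elusive.Singer.root_dvd _ (v := Pi.single i₂ 1) (by simp) ?_
        funext j
        by_cases hj : j = i₂
        · subst hj; simp [x, Matrix.mulVec_diagonal, hd2]
        · simp [x, Matrix.mulVec_diagonal, hj]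
      refine Elusive.Singer.not_conj_normalizer hk hK x 1 hpow
        ((Polynomial.X - Polynomial.C (u : F)) * (Polynomial.X - Polynomial.C ((u⁻¹ : Fˣ) : F)) *
          (Polynomial.X - Polynomial.C 1)) ?_ ?_ ?_
        (Elusive.Singer.not_irreducible_of_root _ hroot (hne1 1)) P hP
      · exact mul_ne_zero (mul_ne_zero (Polynomial.X_sub_C_ne_zero _) (Polynomial.X_sub_C_ne_zero _))
          (Polynomial.X_sub_C_ne_zero _)
      · rw [Polynomial.natDegree_mul (mul_ne_zero (Polynomial.X_sub_C_ne_zero _) (Polynomial.X_sub_C_ne_zero _))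
          (Polynomial.X_sub_C_ne_zero _), Polynomial.natDegree_mul (Polynomial.X_sub_C_ne_zero _)
          (Polynomial.X_sub_C_ne_zero _)]
        simp only [Polynomial.natDegree_X_sub_C]
        omega
      · show Polynomial.aeval (Matrix.diagonal d) _ = 0
        simp only [map_mul, map_sub, Polynomial.aeval_X, Polynomial.aeval_C, Matrix.algebraMap_eq_diagonal,
          Matrix.diagonal_sub, Matrix.diagonal_mul_diagonal]
        rw [← Matrix.diagonal_zero]
        congr 1
        funext j
        simp only [Pi.algebraMap_apply, Algebra.algebraMap_self, RingHom.id_apply, d]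
        split_ifs <;> simp
    · have h2 : 2 ≤ orderOf (Fintype.card F : ZMod k) := by omega
      obtain ⟨x, ⟨z, hz⟩, hx2, hxr, hC, g, hg, hgd, hP⟩ :=
        Elusive.exists_witness (F := F) (r := k) (n := k) p hnp h2 (by omega)
      set P : Polynomial F := (Polynomial.X - Polynomial.C 1) * g with hPdef
      have hP0 : P ≠ 0 := mul_ne_zero (Polynomial.X_sub_C_ne_zero 1) hg.ne_zero
      have hPd : P.natDegree ≤ orderOf (Fintype.card F : ZMod k) + 1 := by
        rw [hPdef, Polynomial.natDegree_mul (Polynomial.X_sub_C_ne_zero 1) hg.ne_zero, Polynomial.natDegree_X_sub_C,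
          Elusive.factorDeg_geom hk0 g hg hgd, add_comm]
      obtain ⟨Q, hQ⟩ := H x ⟨z, hz⟩ hx2
      have hC0 : LinearMap.ker (Elusive.endOf x - 1) ≠ ⊥ := by
        intro h0
        rw [h0, finrank_bot] at hC
        obtain ⟨l, hl⟩ := hid
        have : k % orderOf (Fintype.card F : ZMod k) = 1 % orderOf (Fintype.card F : ZMod k) := by
          conv_lhs => arg 1; rw [show k = 1 + orderOf (Fintype.card F : ZMod k) * l by omega]
          rw [Nat.add_mul_mod_self_left]
        rw [this, Nat.mod_eq_of_lt (by omega)] at hC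
        omega
      obtain ⟨v, hv, hv0⟩ := (Submodule.ne_bot_iff _).1 hC0
      have hroot : (Polynomial.X - Polynomial.C (1 : F)) ∣ minpoly F (x : Matrix (Fin k) (Fin k) F) := by
        refine Elusive.Singer.root_dvd _ hv0 ?_
        rw [one_smul]
        exact sub_eq_zero.1 hv
      refine Elusive.Singer.not_conj_normalizer hk hK x z ?_ P hP0 ?_ ?_
        (Elusive.Singer.not_irreducible_of_root _ hroot (hx2 1)) Q hQ
      · rw [← Matrix.SpecialLinearGroup.coe_pow]; exact hz
      · obtain ⟨l, hl⟩ := hid
        have : orderOf (Fintype.card F : ZMod k) * 2 ≤ k - 1 := by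
          rw [hl]
          refine Nat.mul_le_mul_left _ ?_
          rcases l with _ | _ | l
          · omega
          · omega
          · omega
        omega
      · rw [Elusive.endOf_eq, Polynomial.aeval_algEquiv, AlgHom.comp_apply] at hP
        exact (map_eq_zero_iff (Matrix.toLinAlgEquiv' (R := F) (n := Fin k))
          (AlgEquiv.injective _)).1 hP
  · intro hfull x hx1 hx2
    obtain ⟨e, he, hy, hy1⟩ := Elusive.exists_normalised (Elusive.not_dvd_card_sub_one (r := k) (F := F) (by omega))
      x hx1 hx2 (by omega)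
    refine Elusive.Singer.conj_into hk hodd hK hk0 x e he ?_
    rw [Elusive.Singer.endOf_smul_minpoly]
    exact Elusive.Singer.minpoly_eq_of_full_order (by omega) hfull (by omega) _ hy
      (fun h => hy1 1 (by rw [h, one_smul]))

end Cfsg.Agent.S5970
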