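import Cfsg.Statements.S5971
import Cfsg.Agent.Lib.Elusive.Singer

set_option autoImplicit false
set_option linter.style.haveILetI false
open scoped MatrixGroups
open Cfsg

namespace Cfsg.Agent.S5971

theorem orderOf_two_mod_three : orderOf ((2 : ℕ) : ZMod 3) = 2 :=
  orderOf_eq_prime (by decide) (by decide)

section
open Polynomial Matrix

variable {F : Type*} [Field F] [Fintype F]

/-- In dimension three a non-scalar `y` with `y ^ 3 = 1` and determinant one has all three cube roots of unity
as eigenvalues. -/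
theorem minpoly_three {u : F} (hu : IsPrimitiveRoot u 3)  (_h3 : (3 : F) ≠ 0) (y : Matrix (Fin 3) (Fin 3) F)
    (hy : y ^ 3 = 1) (hdet : y.det = 1) (hns : ∀ z : F, y ≠ z • (1 : Matrix (Fin 3) (Fin 3) F)) :
    minpoly F y = X ^ 3 - 1 := by
  classical
  have hu1 : u ≠ 1 := hu.ne_one (by norm_num)
  have hu3 : u ^ 3 = 1 := hu.pow_eq_one
  have hu0 : u ≠ 0 := fun h => by simp [h] at hu3
  have hu2 : u ^ 2 ≠ 1 := hu.pow_ne_one_of_pos_of_lt (by norm_num) (by norm_num)
  have h21 : u ^ 2 ≠ u := fun h => hu1 (mul_left_cancel₀ hu0 (by rw [mul_one, ← sq, h]))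
  have hsum : u ^ 2 + u + 1 = 0 := by
    refine mul_left_cancel₀ (sub_ne_zero.2 hu1) ?_
    rw [mul_zero]
    linear_combination hu3
  have hprod : ∀ a : F, a ^ 3 = 1 → (X - C a) * ((X - C (a * u)) * (X - C (a * u ^ 2))) = (X ^ 3 - 1 : F[X]) := by
    intro a ha
    have e1 : a + a * u + a * u ^ 2 = 0 := by linear_combination a * hsum
    have e2 : a * (a * u) + a * (a * u ^ 2) + a * u * (a * u ^ 2) = 0 := by
      linear_combination a ^ 2 * u * hsum
    have e3 : a * (a * u) * (a * u ^ 2) = 1 := by linear_combination u ^ 3 * ha + hu3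
    have : (X - C a) * ((X - C (a * u)) * (X - C (a * u ^ 2))) =
        (X ^ 3 - C (a + a * u + a * u ^ 2) * X ^ 2 + C (a * (a * u) + a * (a * u ^ 2) + a * u * (a * u ^ 2)) * X
          - C (a * (a * u) * (a * u ^ 2)) : F[X]) := by
      simp only [map_add, map_mul]; ring
    rw [this, e1, e2, e3]
    simp
  set f : Module.End F (Fin 3 → F) := Matrix.toLin' y with hf
  have hf3 : f ^ 3 = 1 := by rw [hf, ← Matrix.toLin'_pow, hy, Matrix.toLin'_one]; rfl
  have hroots : ∀ a : F, a ^ 3 = 1 → (minpoly F y).IsRoot a := by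
    intro a ha
    rw [← Matrix.minpoly_toLin']
    refine Module.End.isRoot_of_hasEigenvalue ?_
    by_contra hno
    rw [Module.End.hasEigenvalue_iff, not_not, Submodule.eq_bot_iff] at hno
    have ha0 : a ≠ 0 := fun h => by simp [h] at ha
    set b := a * u with hb
    set c := a * u ^ 2 with hc
    have hbc : b - c ≠ 0 := sub_ne_zero.2 fun h => h21 (mul_left_cancel₀ ha0 h).symm
    have hq : aeval f ((X - C b) * (X - C c) : F[X]) = 0 := by
      refine LinearMap.ext fun v => hno _ ?_
      rw [Module.End.mem_eigenspace_iff, ← sub_eq_zero]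
      have h1 : aeval f (X ^ 3 - 1 : F[X]) = 0 := by simp [hf3]
      rw [← hprod a ha, map_mul] at h1
      have h0 := LinearMap.congr_fun h1 v
      rw [Module.End.mul_apply] at h0
      rw [← hb, ← hc] at h0
      generalize (aeval f ((X - C b) * (X - C c) : F[X])) v = w at h0 ⊢
      rw [map_sub, aeval_X, aeval_C, LinearMap.sub_apply, Module.algebraMap_end_apply] at h0
      exact h0
    have hcop : IsCoprime (X - C b) (X - C c) :=
      isCoprime_X_sub_C_of_isUnit_sub (isUnit_iff_ne_zero.2 hbc)
    set B := LinearMap.ker (aeval f (X - C b)) with hB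
    set C' := LinearMap.ker (aeval f (X - C c)) with hC
    have hBC : IsCompl B C' := ⟨disjoint_ker_aeval_of_isCoprime f hcop, codisjoint_iff.2 (by
      rw [hB, hC, sup_ker_aeval_eq_ker_aeval_mul_of_coprime f hcop, hq, LinearMap.ker_zero])⟩
    have hBm : ∀ v ∈ B, f v = b • v := fun v hv => by
      simpa [hB, sub_eq_zero, Module.algebraMap_end_apply] using hv
    have hCm : ∀ v ∈ C', f v = c • v := fun v hv => by
      simpa [hC, sub_eq_zero, Module.algebraMap_end_apply] using hv
    let E := Submodule.prodEquivOfIsCompl B C' hBC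
    have hconj : f = E.toLinearMap ∘ₗ ((b • LinearMap.id : B →ₗ[F] B).prodMap (c • LinearMap.id : C' →ₗ[F] C')) ∘ₗ
        E.symm.toLinearMap := by
      refine LinearMap.ext fun v => ?_
      obtain ⟨⟨v₁, v₂⟩, rfl⟩ := E.surjective v
      simp [E, Submodule.coe_prodEquivOfIsCompl', hBm _ v₁.2, hCm _ v₂.2]
    have hd : LinearMap.det f = b ^ Module.finrank F B * c ^ Module.finrank F C' := by
      rw [hconj, LinearMap.det_conj, LinearMap.det_prodMap, LinearMap.det_smul, LinearMap.det_smul,
        LinearMap.det_id, LinearMap.det_id, mul_one, mul_one]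
    rw [hf, LinearMap.det_toLin', hdet] at hd
    have hdim : Module.finrank F B + Module.finrank F C' = 3 := by
      rw [Submodule.finrank_add_eq_of_isCompl hBC, Module.finrank_fin_fun]
    have hscal : ∀ d : F, (∀ v, f v = d • v) → False := fun d hd' => hns d <| by
      apply (Matrix.toLin' (R := F) (n := Fin 3) (m := Fin 3)).injective
      rw [map_smul, Matrix.toLin'_one]
      exact LinearMap.ext fun v => hd' v
    have hb3 : b ^ 3 = 1 := by linear_combination u ^ 3 * ha + hu3
    have hc3 : c ^ 3 = 1 := by linear_combination u ^ 6 * ha + (u ^ 3 + 1) * hu3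
    obtain h | h | h | h : Module.finrank F B = 0 ∨ Module.finrank F B = 1 ∨ Module.finrank F B = 2 ∨
        Module.finrank F B = 3 := by omega
    · refine hscal c fun v => hCm v ?_
      rw [Submodule.eq_top_of_finrank_eq (show Module.finrank F C' = Module.finrank F (Fin 3 → F) by
        rw [Module.finrank_fin_fun]; omega)]
      trivial
    · rw [h, show Module.finrank F C' = 2 by omega, pow_one] at hd
      exact hbc (sub_eq_zero.2 (by linear_combination c * hd.symm - b * hc3))
    · rw [h, show Module.finrank F C' = 1 by omega, pow_one] at hd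
      exact hbc (sub_eq_zero.2 (by linear_combination c * hb3 - b * hd.symm))
    · refine hscal b fun v => hBm v ?_
      rw [Submodule.eq_top_of_finrank_eq (show Module.finrank F B = Module.finrank F (Fin 3 → F) by
        rw [Module.finrank_fin_fun]; omega)]
      trivial
  have hint : IsIntegral F y := Algebra.IsIntegral.isIntegral y
  have hdvd : ((X - C (1 : F)) * ((X - C u) * (X - C (u ^ 2)))) ∣ minpoly F y := by
    have cop : ∀ s t : F, s ≠ t → IsCoprime (X - C s) (X - C t) := fun s t h =>
      isCoprime_X_sub_C_of_isUnit_sub (isUnit_iff_ne_zero.2 (sub_ne_zero.2 h))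
    refine ((cop 1 u (Ne.symm hu1)).mul_right (cop 1 (u ^ 2) (Ne.symm hu2))).mul_dvd
      (dvd_iff_isRoot.2 (hroots 1 (one_pow 3))) ?_
    exact (cop u (u ^ 2) (Ne.symm h21)).mul_dvd (dvd_iff_isRoot.2 (hroots u hu3))
      (dvd_iff_isRoot.2 (hroots (u ^ 2) (by rw [← pow_mul, pow_mul', hu3, one_pow])))
  have h1 := hprod 1 (one_pow 3)
  simp only [one_mul] at h1
  rw [h1] at hdvd
  exact eq_of_monic_of_associated (minpoly.monic hint) (by simpa using monic_X_pow_sub_C (1 : F) (by norm_num))
    (associated_of_dvd_dvd (minpoly.dvd F y (by simp [hy])) hdvd)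

end

/-- Elements of order 3 of PSL_3(q) and the normalizer of a Singer cycle. Here `T = PSL_n(F)` for a field `F` with `q = p^f` elements (`n ≥ 2`, `(n, q) ≠ (2, 2), (2, 3)`), `k` is a prime dividing `n`, `K` is a subalgebra of the `n × n` matrices that is a field of degree `k` over `F` (an extension-field structure F_{q^k} on `F^n`), and `H` is the subgroup of matrices of determinant 1 normalizing `K` — a subgroup of type GL_{n/k}(q^k) (maximal except in some small cases; maximality is not assumed); Ω is the set of cosets of `H` in `T`, so an element of `T` of prime order `r` (a matrix `x` of determinant 1 with `x^r` scalar, `x` not scalar) fixes a point of Ω when some conjugate of `x` by a matrix of determinant 1 normalizes `K`. Take `n = k = 3` and suppose 3 divides the index of `H`. Then every element of `T` of order 3 is conjugate in `T` into `H` if and only if `q ≡ 4, 7` or `8 (mod 9)`. -/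
theorem result {F : Type*} [Field F] [Fintype F] {p : ℕ} [Fact p.Prime] [CharP F p] {q : ℕ} (hq : Fintype.card F = q)
    (n : ℕ) (hn : n = 3) (k : ℕ) (hk : k.Prime) (hkn : k ∣ n) (K : Subalgebra F (Matrix (Fin n) (Fin n) F)) (hK : Cfsg.Geo.IsFieldSubalgebra k K) (hk3 : k = 3) (hΩ : 3 ∣ ((Cfsg.Geo.subalgebraNormalizer K).comap (Matrix.SpecialLinearGroup.toGL : Matrix.SpecialLinearGroup (Fin n) F →* GL (Fin n) F)).index) :
    (∀ x : Matrix.SpecialLinearGroup (Fin n) F,
      (∃ z : F, ((x ^ 3 : Matrix.SpecialLinearGroup (Fin n) F) : Matrix (Fin n) (Fin n) F) = z • (1 : Matrix (Fin n) (Fin n) F)) →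
      (∀ z : F, (x : Matrix (Fin n) (Fin n) F) ≠ z • (1 : Matrix (Fin n) (Fin n) F)) →
      ∃ P : Matrix.SpecialLinearGroup (Fin n) F, P⁻¹ * x * P ∈ ((Cfsg.Geo.subalgebraNormalizer K).comap (Matrix.SpecialLinearGroup.toGL : Matrix.SpecialLinearGroup (Fin n) F →* GL (Fin n) F))) ↔
    (q % 9 = 4 ∨ q % 9 = 7 ∨ q % 9 = 8) := by
  classical
  subst hq
  subst hn
  subst hk3
  haveI : Fact (Nat.Prime 3) := ⟨hk⟩
  constructor
  · intro H
    by_cases hmod0 : Fintype.card F % 3 = 0
    · -- characteristic three: a transvection has no conjugate in the normaliser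
      exfalso
      have hp3 : p = 3 := by
        obtain ⟨l, hp', hl⟩ := FiniteField.card F p
        have h3 : 3 ∣ p := hk.dvd_of_dvd_pow (hl ▸ Nat.dvd_of_mod_eq_zero hmod0)
        exact ((Nat.prime_dvd_prime_iff_eq hk hp').1 h3).symm
      subst hp3
      let T : Matrix (Fin 3) (Fin 3) F := Matrix.transvection 0 1 1
      let x : Matrix.SpecialLinearGroup (Fin 3) F :=
        ⟨T, Matrix.det_transvection_of_ne (0 : Fin 3) 1 (by decide) 1⟩
      have hsq : (T - 1) ^ 2 = 0 := by
        simp only [T, Matrix.transvection, add_sub_cancel_left]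
        rw [sq, Matrix.single_mul_single_of_ne (h := by decide)]
      have hT3 : T ^ 3 = 1 := by
        have h0 : (T - 1) ^ 3 = 0 := by rw [pow_succ, hsq, zero_mul]
        rw [sub_pow_char_of_commute (p := 3) (Commute.one_right T), one_pow, sub_eq_zero] at h0
        exact h0
      have hne : ∀ z : F, T ≠ z • 1 := by
        intro z hz
        have := congrFun (congrFun hz 0) 1
        simp [T, Matrix.transvection] at this
      obtain ⟨Q, hQ⟩ := H x ⟨1, by rw [Matrix.SpecialLinearGroup.coe_pow]; simpa [x] using hT3⟩ hne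
      refine Elusive.Singer.not_conj_normalizer hk hK x 1 (by simpa [x] using hT3)
        ((Polynomial.X - Polynomial.C 1) ^ 2) (pow_ne_zero 2 (Polynomial.X_sub_C_ne_zero 1))
        (by rw [Polynomial.natDegree_pow, Polynomial.natDegree_X_sub_C]; norm_num)
        (by simpa [x] using hsq) (Elusive.Singer.not_irreducible_of_root _ (Elusive.Singer.root_dvd _
          (v := Pi.single (0 : Fin 3) 1) (by simp) ?_) (hne 1)) Q hQ
      funext j
      fin_cases j <;> simp [x, T, Matrix.transvection, Matrix.mulVec, dotProduct, Matrix.single_apply,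
        Fin.sum_univ_three]
    by_contra hne'
    push Not at hne'
    by_cases h9 : Fintype.card F % 9 = 1
    · obtain ⟨u, hu⟩ : ∃ u : Fˣ, orderOf u = 3 := by
        refine exists_prime_orderOf_dvd_card' 3 ?_
        rw [Nat.card_units, Nat.card_eq_fintype_card]
        omega
      have hu3 : (u : F) ^ 3 = 1 := by rw [← Units.val_pow_eq_pow_val, ← hu, pow_orderOf_eq_one, Units.val_one]
      have hu1 : (u : F) ≠ 1 := fun h => by rw [Units.val_eq_one.1 h, orderOf_one] at hu; omega
      obtain ⟨e, he⟩ := Elusive.exists_root_of_pow_eq_one (r := 3) ((u⁻¹ : Fˣ) : F) (Units.ne_zero _)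
        (by omega) (by
          obtain ⟨l, hl⟩ : 3 ∣ (Fintype.card F - 1) / 3 := by omega
          rw [hl, pow_mul, ← Units.val_pow_eq_pow_val, inv_pow, ← hu, pow_orderOf_eq_one, inv_one,
            Units.val_one, one_pow])
      have he0 : e ≠ 0 := fun h0 => by
        rw [h0, zero_pow (by norm_num)] at he
        exact Units.ne_zero _ he.symm
      have hue : e ^ 3 * (u : F) = 1 := by rw [he, ← Units.val_mul, inv_mul_cancel, Units.val_one]
      let d : Fin 3 → F := ![e * u, e, e]
      let x : Matrix.SpecialLinearGroup (Fin 3) F := ⟨Matrix.diagonal d, by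
        rw [Matrix.det_diagonal, Fin.prod_univ_three]
        simp [d]
        linear_combination hue⟩
      have hpow : (x : Matrix (Fin 3) (Fin 3) F) ^ 3 = e ^ 3 • 1 := by
        show Matrix.diagonal d ^ 3 = _
        rw [Matrix.diagonal_pow, Matrix.smul_one_eq_diagonal]
        congr 1
        funext j
        fin_cases j <;> simp [d, mul_pow, hu3]
      have hne : ∀ z : F, (x : Matrix (Fin 3) (Fin 3) F) ≠ z • 1 := by
        intro z hz
        have e0 := congrFun (congrFun hz 0) 0
        have e1 := congrFun (congrFun hz 1) 1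
        simp [x, d] at e0 e1
        exact hu1 (mul_left_cancel₀ he0 (by rw [e0, e1, mul_one]))
      obtain ⟨Q, hQ⟩ := H x ⟨e ^ 3, by rw [Matrix.SpecialLinearGroup.coe_pow]; exact hpow⟩ hne
      refine Elusive.Singer.not_conj_normalizer hk hK x (e ^ 3) hpow
        ((Polynomial.X - Polynomial.C (e * u)) * (Polynomial.X - Polynomial.C e))
        (mul_ne_zero (Polynomial.X_sub_C_ne_zero _) (Polynomial.X_sub_C_ne_zero _))
        (by rw [Polynomial.natDegree_mul (Polynomial.X_sub_C_ne_zero _) (Polynomial.X_sub_C_ne_zero _),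
          Polynomial.natDegree_X_sub_C, Polynomial.natDegree_X_sub_C]; norm_num) ?_
        (Elusive.Singer.not_irreducible_of_root _ (Elusive.Singer.root_dvd _
          (v := Pi.single (1 : Fin 3) 1) (by simp) ?_) (hne e)) Q hQ
      · show Polynomial.aeval (Matrix.diagonal d) _ = 0
        simp only [map_mul, map_sub, Polynomial.aeval_X, Polynomial.aeval_C, Matrix.algebraMap_eq_diagonal,
          Matrix.diagonal_sub, Matrix.diagonal_mul_diagonal]
        rw [← Matrix.diagonal_zero]
        congr 1
        funext j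
        fin_cases j <;> simp [d]
      · funext j
        fin_cases j <;> simp [x, d, Matrix.mulVec_diagonal]
    -- `q ≡ 2, 5 (mod 9)`: the index of the normaliser is prime to three
    obtain ⟨x₀, hx₀, hpow₀, hmin₀, -⟩ := Elusive.Singer.exists_galois hk ⟨1, rfl⟩ hK
    have hord : orderOf x₀ = 3 := by
      refine orderOf_eq_prime (Subtype.ext (by rw [Matrix.SpecialLinearGroup.coe_pow]; exact hpow₀)) fun h1 => ?_
      have h0 := congrArg Polynomial.natDegree hmin₀
      rw [show (Polynomial.X ^ 3 - 1 : Polynomial F) = Polynomial.X ^ 3 - Polynomial.C 1 by simp,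
        Polynomial.natDegree_X_pow_sub_C, h1, show ((1 : Matrix.SpecialLinearGroup (Fin 3) F) :
          Matrix (Fin 3) (Fin 3) F) = 1 from rfl, minpoly.one] at h0
      rw [show (Polynomial.X - 1 : Polynomial F) = Polynomial.X - Polynomial.C 1 by simp,
        Polynomial.natDegree_X_sub_C] at h0
      omega
    have h3H := Subgroup.orderOf_dvd_natCard _ hx₀
    rw [hord] at h3H
    have hmul := Subgroup.index_mul_card
      ((Cfsg.Geo.subalgebraNormalizer K).comap (Matrix.SpecialLinearGroup.toGL :
        Matrix.SpecialLinearGroup (Fin 3) F →* GL (Fin 3) F))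
    have h9d : 3 * 3 ∣ Nat.card (GL (Fin 3) F) :=
      (hmul ▸ Nat.mul_dvd_mul hΩ h3H).trans (Subgroup.card_dvd_of_injective _ Matrix.SpecialLinearGroup.toGL_injective)
    rw [Matrix.card_GL_field, Fin.prod_univ_three] at h9d
    have hzero : ((Fintype.card F ^ 3 - Fintype.card F ^ ((0 : Fin 3) : ℕ)) *
        (Fintype.card F ^ 3 - Fintype.card F ^ ((1 : Fin 3) : ℕ)) *
        (Fintype.card F ^ 3 - Fintype.card F ^ ((2 : Fin 3) : ℕ)) : ℕ) = (0 : ZMod 9) :=
      (ZMod.natCast_eq_zero_iff _ 9).2 h9d
    have hle : ∀ l, l ≤ 3 → Fintype.card F ^ l ≤ Fintype.card F ^ 3 := fun l hl =>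
      Nat.pow_le_pow_right Fintype.card_pos hl
    rw [Nat.cast_mul, Nat.cast_mul, Nat.cast_sub (hle _ (by norm_num)), Nat.cast_sub (hle _ (by norm_num)),
      Nat.cast_sub (hle _ (by norm_num)), Nat.cast_pow, Nat.cast_pow, Nat.cast_pow, Nat.cast_pow,
      ← ZMod.natCast_mod (Fintype.card F) 9] at hzero
    obtain h | h : Fintype.card F % 9 = 2 ∨ Fintype.card F % 9 = 5 := by omega
    all_goals (rw [h] at hzero; revert hzero; decide)
  · intro hmod x hx1 hx2
    have hodd : Odd 3 := ⟨1, rfl⟩
    have hr1 : (Fintype.card F : ZMod 3) = ((Fintype.card F % 3 : ℕ) : ZMod 3) := (ZMod.natCast_mod _ 3).symm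
    by_cases h8 : Fintype.card F % 9 = 8
    · have hi : orderOf (Fintype.card F : ZMod 3) = 2 := by
        rw [hr1, show Fintype.card F % 3 = 2 by omega]
        exact orderOf_two_mod_three
      obtain ⟨e, he, hy, hy1⟩ := Elusive.exists_normalised
        (Elusive.not_dvd_card_sub_one (r := 3) (F := F) (by omega)) x hx1 hx2 (by norm_num)
      refine Elusive.Singer.conj_into hk hodd hK (Elusive.ne_zero_of_order (r := 3) (by omega)) x e he ?_
      rw [Elusive.Singer.endOf_smul_minpoly]
      exact Elusive.Singer.minpoly_eq_of_full_order (by omega) hi le_rfl _ hy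
        (fun h => hy1 1 (by rw [h, one_smul]))
    have h47 : Fintype.card F % 9 = 4 ∨ Fintype.card F % 9 = 7 := by omega
    have hi : orderOf (Fintype.card F : ZMod 3) = 1 := by
      rw [hr1, show Fintype.card F % 3 = 1 by omega, Nat.cast_one, orderOf_one]
    have h30 : ((3 : ℕ) : F) ≠ 0 := Elusive.ne_zero_of_order (r := 3) (by omega)
    obtain ⟨c, hc⟩ := hx1
    have hc' := (Elusive.endOf_pow_iff x 3 c).2 hc
    have hc0 : c ≠ 0 := by
      intro h0
      have h2 := (x ^ 3).2
      rw [hc, h0, zero_smul, Matrix.det_zero] at h2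
      exact zero_ne_one h2
    obtain ⟨e, rfl⟩ : ∃ e : F, e ^ 3 = c := by
      by_contra hnp
      push Not at hnp
      obtain ⟨s, hs, hdet⟩ := Elusive.det_of_single_factor c (X_pow_sub_C_irreducible_of_prime hk hnp)
        (Elusive.endOf x) hc'
      rw [Module.finrank_fin_fun] at hs
      rw [LinearMap.det_toLin', x.2, show s = 1 by omega, pow_one] at hdet
      exact hnp 1 (by linear_combination hdet)
    have he : e ≠ 0 := fun h0 => hc0 (by rw [h0, zero_pow (by norm_num)])
    obtain ⟨u, hu⟩ : ∃ u : Fˣ, orderOf u = 3 := by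
      refine exists_prime_orderOf_dvd_card' 3 ?_
      rw [Nat.card_units, Nat.card_eq_fintype_card]
      omega
    have hprim : IsPrimitiveRoot (u : F) 3 := IsPrimitiveRoot.coe_units_iff.2 (hu ▸ IsPrimitiveRoot.orderOf u)
    have hy : (e⁻¹ • x.1) ^ 3 = 1 := by
      rw [_root_.smul_pow, ← Matrix.SpecialLinearGroup.coe_pow, hc, smul_smul, ← mul_pow, inv_mul_cancel₀ he,
        one_pow, one_smul]
    have hdet : (e⁻¹ • x.1).det = 1 := by
      have h1 := congrArg Matrix.det hy
      rw [Matrix.det_pow, Matrix.det_one, Matrix.det_smul, x.2, mul_one, Fintype.card_fin, ← pow_mul] at h1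
      rw [Matrix.det_smul, x.2, mul_one, Fintype.card_fin]
      have hd1 := orderOf_dvd_of_pow_eq_one h1
      have hd2 := orderOf_dvd_of_pow_eq_one (FiniteField.pow_card_sub_one_eq_one e⁻¹ (inv_ne_zero he))
      have hg : Nat.gcd (3 * 3) (Fintype.card F - 1) ∣ 3 := by
        obtain ⟨i, hi', hg⟩ := (Nat.dvd_prime_pow hk).1
          (show Nat.gcd (3 * 3) (Fintype.card F - 1) ∣ 3 ^ 2 from Nat.gcd_dvd_left _ _)
        rw [hg]
        refine (pow_dvd_pow 3 (show i ≤ 1 from ?_)).trans (by rw [pow_one])
        by_contra hi2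
        have h2 := Nat.gcd_dvd_right (3 * 3) (Fintype.card F - 1)
        rw [hg, show i = 2 by omega] at h2
        omega
      exact orderOf_dvd_iff_pow_eq_one.1 ((Nat.dvd_gcd hd1 hd2).trans hg)
    refine Elusive.Singer.conj_into hk hodd hK h30 x e⁻¹ (inv_ne_zero he)
      (minpoly_three hprim (by simpa using h30) _ hy hdet fun z hz => hx2 (e * z) ?_)
    rw [mul_smul, ← hz, smul_inv_smul₀ he]

end Cfsg.Agent.S5971
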