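import Cfsg.Statements.S5972
import Cfsg.Agent.Lib.Elusive.OrthStd
-- import your own Cfsg.Agent.* helpers here

set_option autoImplicit false
open scoped MatrixGroups
open Cfsg

namespace Cfsg.Agent.S5972

open Elusive Elusive.OrthType Elusive.OrthStd
open Elusive.OrthCriteria (SingP EvenP)


/-- Elements of prime order of Ω_n(q), n = 2d+1 ≥ 7, q odd, with no fixed totally singular `m`-space. Here `T = Ω_n(q)` is realised as the commutator subgroup of the isometry group of the quadratic form `x₀² + Σ xᵢyᵢ` over the field `F` with `q` elements (it has trivial centre, so its elements of prime order `r` are used directly); let `1 ≤ m ≤ d` and let `r` be a prime dividing the number of totally singular `m`-spaces. For `r ≠ p` let `i` be the multiplicative order of `q` modulo `r`, `c = i` for `i` even and `c = 2i` for `i` odd, and write `k = n mod c`, `ℓ = m mod i`, `n' = ⌊n/i⌋`, `m' = ⌊m/i⌋`, `t = (r−1)/i`. Then every element of `T` of order `r` fixes some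 totally singular `m`-space if and only if either (i) `r = 2` and (`m < (n−1)/2` or `q ≡ 1 (mod 4)`); or (ii) `r ≠ p` is odd, `i ≤ m`, `k > 2ℓ`, and (`i` is odd or `n' − 2m' ≥ t`). -/
theorem result {F : Type*} [Field F] [Fintype F] {p : ℕ} [Fact p.Prime] [CharP F p] {q : ℕ} (hq : Fintype.card F = q) (hqodd : Odd q)
    (d m : ℕ) (hd : 3 ≤ d) (hm : 1 ≤ m) (hmd : m ≤ d)
    (r : ℕ) [Fact r.Prime]
    (hrΩ : r ∣ Nat.card {W : Submodule F (Unit ⊕ (Fin d ⊕ Fin d) → F) // Module.finrank F ↥W = m ∧ (∀ w ∈ W, Cfsg.quadFormOdd d F w = 0)})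
    (i c : ℕ) (hi : i = orderOf (q : ZMod r)) (hc : c = if Even i then i else 2 * i) :
    (∀ x : GL (Unit ⊕ (Fin d ⊕ Fin d)) F, x ∈ Cfsg.Geo.omegaGL (Cfsg.quadFormOdd d F) → orderOf x = r →
      ∃ W : Submodule F (Unit ⊕ (Fin d ⊕ Fin d) → F), Module.finrank F ↥W = m ∧ (∀ w ∈ W, Cfsg.quadFormOdd d F w = 0) ∧
        W.map (Matrix.toLin' (x : Matrix (Unit ⊕ (Fin d ⊕ Fin d)) (Unit ⊕ (Fin d ⊕ Fin d)) F)) ≤ W) ↔
    ((r = 2 ∧ (m < d ∨ q % 4 = 1)) ∨
     (r ≠ p ∧ 2 < r ∧ i ≤ m ∧ 2 * (m % i) < (2 * d + 1) % c ∧ (Odd i ∨ (r - 1) / i + 2 * (m / i) ≤ (2 * d + 1) / i))) := by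
  subst hq hi
  obtain rfl : c = OrthBridge.bdim _ := hc
  have hp2 : p ≠ 2 := ne_two_of_odd (p := p) hqodd
  have h2 : (2 : F) ≠ 0 := two_ne_zero_of_ne (p := p) hp2
  simp only [coe_odd] at hrΩ ⊢
  set Q := Forms.quadOdd d F with hQdef
  have hQ : Sep Q := sep_odd h2 d
  have hn := card_odd d
  have hfr : Module.finrank F (Unit ⊕ (Fin d ⊕ Fin d) → F) = 2 * d + 1 := by
    rw [Module.finrank_fintype_fun_eq_card, hn]
  rcases eq_or_ne r 2 with rfl | hr2
  · have hw : ∀ {C M : Submodule F (Unit ⊕ (Fin d ⊕ Fin d) → F)}, IsCompl C M → ∀ {β : ℕ},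
        Module.finrank F M = 2 * β → β ≤ d ∧ Module.finrank F C = 2 * (d - β) + 1 ∧
          widx (Module.finrank F C) (sgn (res Q C)) = d - β := fun {C M} hc {β} hMd => by
      have := Submodule.finrank_add_eq_of_isCompl hc
      have hb : β ≤ d := by omega
      have hC : Module.finrank F C = 2 * (d - β) + 1 := by omega
      refine ⟨hb, hC, ?_⟩
      rw [hC, widx, if_pos (by omega)]
      omega
    constructor
    · intro h
      refine Or.inl ⟨rfl, ?_⟩
      by_contra hcon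
      push Not at hcon
      have he : OrthPlanes.e1 F = -1 := OrthTwo.e1_eq_or.resolve_left fun he1 =>
        hcon.2 ((OrthTwo.e1_eq_one_iff h2).1 he1)
      obtain ⟨M, hM, hMd, hMs⟩ := exists_sub_even hQ (fun _ => h2) (j := 1) (τ := -1) (by omega) (Or.inr rfl)
        (by omega)
      obtain ⟨x, hx, hxC, hxM⟩ := OrthTwo.exists_invol hQ h2 hM hMd (by rw [hMs, he, pow_one])
      have hc : IsCompl (orth Q M) M := (isCompl_orth hM).symm
      obtain ⟨-, hCd, hwC⟩ := hw hc hMd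
      have hbot : ∀ S : Submodule F (Unit ⊕ (Fin d ⊕ Fin d) → F), Module.finrank F S ≠ 0 → S ≠ ⊥ :=
        fun S hS e => hS (by rw [e]; simp)
      obtain ⟨-, -, hord⟩ := OrthTwo.invol_elem hc hxC hxM h2 (hbot _ (by omega)) (hbot _ (by omega))
      obtain ⟨W, hWd, hW0, hWi⟩ := h x hx hord
      have hparts := OrthTwo.inv_parts h2 hc hxC hxM (inv_iff_map.2 hWi)
      have b1 := ts_bound (nd_iff.1 (nd_orth hQ hM))
        (U := (orth Q M ⊓ W).comap (orth Q M).subtype) fun u hu => hW0 _ hu.2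
      rw [(Submodule.comapSubtypeEquivOfLe (inf_le_left : orth Q M ⊓ W ≤ orth Q M)).finrank_eq, hwC] at b1
      have b2 := ts_bound (nd_iff.1 hM) (U := (M ⊓ W).comap M.subtype) fun u hu => hW0 _ hu.2
      rw [(Submodule.comapSubtypeEquivOfLe (inf_le_left : M ⊓ W ≤ M)).finrank_eq, hMd, hMs, widx,
        if_neg (by omega), if_neg (by norm_num)] at b2
      omega
    · rintro (⟨-, hcond⟩ | ⟨-, h, -⟩)
      swap
      · omega
      intro x hx hord
      obtain ⟨hsq, h1⟩ := order_two hord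
      obtain ⟨C, M, β, hc, horth, hC, hM, hxC, hxM, hβ0, hMd, hMs⟩ := OrthTwo.invol_split hQ h2 hx hsq h1
      obtain ⟨hb, -, hwC⟩ := hw hc hMd
      have hwM : β - 1 ≤ widx (Module.finrank F M) (sgn (res Q M)) ∧
          (Fintype.card F % 4 = 1 → β ≤ widx (Module.finrank F M) (sgn (res Q M))) := by
        rw [hMd, hMs, widx, if_neg (by omega)]
        refine ⟨by split_ifs <;> omega, fun hq1 => ?_⟩
        rw [(OrthTwo.e1_eq_one_iff h2).2 hq1, one_pow, if_pos rfl]
        omega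
      obtain ⟨A, hA, B, hB, hP⟩ := OrthTwo.split_ts hc horth h2 hC hM (m := m) (by
        rw [hwC]
        rcases hcond with h | h
        · have := hwM.1; omega
        · have := hwM.2 h; omega)
      exact ⟨A ⊔ B, hP.1, hP.2, inv_iff_map.1 (OrthTwo.inv_split hxC hxM hA hB)⟩
  rcases eq_or_ne r p with rfl | hrp
  · exact absurd hrΩ (OrthCount.not_dvd_card_ts hQ (fun _ => h2) (by omega))
  have hw : m ≤ widx (Fintype.card (Unit ⊕ (Fin d ⊕ Fin d))) (sgn Q) := by
    rw [hn, widx, if_pos (by omega)]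
    omega
  have main := OrthMain.sing_main (p := p) hrp hr2 hQ (fun _ => h2) hw hrΩ
  rw [hn] at main
  rw [show (∀ x : GL (Unit ⊕ (Fin d ⊕ Fin d)) F, x ∈ Cfsg.Geo.omegaGL ⇑Q → orderOf x = r → ∃ W, _) ↔ _ from
    Iff.trans (by simp only [SingP, and_assoc]) (OrthGroup.allFix_iff' hQ (by omega) hr2 (SingP Q m)), main]
  constructor
  · rintro ⟨him, hall⟩
    exact Or.inr ⟨hrp, by have := (Fact.out : r.Prime).two_le; omega, him,
      (OrthBridge.sing_odd_dim (OrthMain.order_pos (p := p) hrp) (OrthMain.orbit_pos (p := p) hrp) him hmd _).1 hall⟩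
  · rintro (⟨h, -⟩ | ⟨-, -, him, hC⟩)
    · exact absurd h hr2
    · exact ⟨him,
        (OrthBridge.sing_odd_dim (OrthMain.order_pos (p := p) hrp) (OrthMain.orbit_pos (p := p) hrp) him hmd _).2 hC⟩

end Cfsg.Agent.S5972
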