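import Cfsg.Statements.S5973
import Cfsg.Agent.Lib.Elusive.OrthTwoFix
-- import your own Cfsg.Agent.* helpers here

set_option autoImplicit false
open scoped MatrixGroups
open Cfsg

namespace Cfsg.Agent.S5973

open Elusive Elusive.OrthType Elusive.OrthStd
open Elusive.OrthCriteria (SingP EvenP)


/-- Elements of prime order of PΩ⁺_n(q), n = 2d ≥ 8, with no fixed totally singular `m`-space, `m < n/2`. Here `T = PΩ⁺_n(q)` is realised through `Ω⁺_n(q)`, the commutator subgroup of the isometry group of the quadratic form `Σ xᵢyᵢ` over the field `F` with `q` elements; an element of `T` of prime order `r` is an element `x` of `Ω⁺_n(q)` with `x^r` scalar and `x` not scalar. Let `1 ≤ m < d` and let `r` be a prime dividing the number of totally singular `m`-spaces. For `r ≠ p` let `i` be the multiplicative order of `q` modulo `r`, `c = i` for `i` even and `c = 2i` for `i` odd, and write `k = n mod c`, `ℓ = m mod i`, `n' = ⌊n/i⌋`, `m' = ⌊m/i⌋`, `t = (r−1)/i`.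 Then every element of `T` of order `r` fixes some totally singular `m`-space if and only if one of: (i) `r = 2 ≠ p` and either `q ≡ 1 (mod 4)`, or `q ≡ 3 (mod 4)`, `m ≤ n/2 − 2` and (`m` even or `n ≡ 2 (mod 4)`); (ii) `r ≠ p` odd, `i` odd, `i ≤ m` and `k ≥ 2ℓ`; (iii) `r ≠ p` odd, `i` even, `i ≤ m`, `n' − 2m' ≥ t`, and one of: `i ≥ 2ℓ`, `k = 0`, `n/i` odd and `n' − 2m' > t`; or `k ≥ 2ℓ` and `n'` even; or `k > 2ℓ` and `n'` odd. -/
theorem result {F : Type*} [Field F] [Fintype F] {p : ℕ} [Fact p.Prime] [CharP F p] {q : ℕ} (hq : Fintype.card F = q)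
    (d m : ℕ) (hd : 4 ≤ d) (hm : 1 ≤ m) (hmd : m < d)
    (r : ℕ) [Fact r.Prime]
    (hrΩ : r ∣ Nat.card {W : Submodule F (Fin d ⊕ Fin d → F) // Module.finrank F ↥W = m ∧ (∀ w ∈ W, Cfsg.quadFormPlus d F w = 0)})
    (i c : ℕ) (hi : i = orderOf (q : ZMod r)) (hc : c = if Even i then i else 2 * i) :
    (∀ x : GL (Fin d ⊕ Fin d) F, x ∈ Cfsg.Geo.omegaGL (Cfsg.quadFormPlus d F) →
      (∃ z : F, ((x ^ r : GL (Fin d ⊕ Fin d) F) : Matrix (Fin d ⊕ Fin d) (Fin d ⊕ Fin d) F) = z • (1 : Matrix (Fin d ⊕ Fin d) (Fin d ⊕ Fin d) F)) →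
      (∀ z : F, (x : Matrix (Fin d ⊕ Fin d) (Fin d ⊕ Fin d) F) ≠ z • (1 : Matrix (Fin d ⊕ Fin d) (Fin d ⊕ Fin d) F)) →
      ∃ W : Submodule F (Fin d ⊕ Fin d → F), Module.finrank F ↥W = m ∧ (∀ w ∈ W, Cfsg.quadFormPlus d F w = 0) ∧
        W.map (Matrix.toLin' (x : Matrix (Fin d ⊕ Fin d) (Fin d ⊕ Fin d) F)) ≤ W) ↔
    ((r = 2 ∧ p ≠ 2 ∧ (q % 4 = 1 ∨ (q % 4 = 3 ∧ m + 2 ≤ d ∧ (Even m ∨ (2 * d) % 4 = 2)))) ∨
     (r ≠ p ∧ 2 < r ∧ Odd i ∧ i ≤ m ∧ 2 * (m % i) ≤ (2 * d) % c) ∨
     (r ≠ p ∧ 2 < r ∧ Even i ∧ i ≤ m ∧ (r - 1) / i + 2 * (m / i) ≤ (2 * d) / i ∧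
       ((2 * (m % i) ≤ i ∧ (2 * d) % c = 0 ∧ Odd ((2 * d) / i) ∧ (r - 1) / i + 2 * (m / i) < (2 * d) / i) ∨
        (2 * (m % i) ≤ (2 * d) % c ∧ Even ((2 * d) / i)) ∨
        (2 * (m % i) < (2 * d) % c ∧ Odd ((2 * d) / i))))) := by
  subst hq hi
  obtain rfl : c = OrthBridge.bdim _ := hc
  simp only [coe_plus] at hrΩ ⊢
  set Q := Forms.quadPlus d F
  have hQ : Sep Q := sep_plus d
  have hs : sgn Q = 1 := sgn_plus d
  have hn := card_plus d
  have hfr : Module.finrank F (Fin d ⊕ Fin d → F) = 2 * d := by rw [Module.finrank_fintype_fun_eq_card, hn]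
  have hev : ¬ Odd (Fintype.card (Fin d ⊕ Fin d)) := by rw [hn]; exact Nat.not_odd_iff_even.2 (even_two_mul d)
  rcases eq_or_ne r p with rfl | hrp
  · exact absurd hrΩ (OrthCount.not_dvd_card_ts hQ
      (fun h => absurd (hfr ▸ h) (Nat.not_odd_iff_even.2 (even_two_mul d))) (by omega))
  rcases eq_or_ne r 2 with rfl | hr2
  · have hp2 : p ≠ 2 := hrp.symm
    have h2 : (2 : F) ≠ 0 := two_ne_zero_of_ne (p := p) hp2
    have hqo : Fintype.card F % 2 = 1 := Nat.odd_iff.1 (odd_card_of_ne (p := p) hp2)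
    have he3 : Fintype.card F % 4 ≠ 1 → OrthPlanes.e1 F = -1 := fun hne =>
      OrthTwo.e1_eq_or.resolve_left fun he => hne ((OrthTwo.e1_eq_one_iff h2).1 he)
    constructor
    · intro h
      refine Or.inl ⟨rfl, hp2, ?_⟩
      by_cases hq1 : Fintype.card F % 4 = 1
      · exact Or.inl hq1
      have he := he3 hq1
      refine Or.inr ⟨by omega, ?_, ?_⟩
      · obtain ⟨M, hM, hMd, hMs⟩ := exists_sub_even hQ (fun _ => h2) (j := 1) (τ := -1) (by omega) (Or.inr rfl)
          (by omega)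
        obtain ⟨x, hx, hxC, hxM⟩ := OrthTwo.exists_invol hQ h2 hM hMd (by rw [hMs, he, pow_one])
        have hc : IsCompl (orth Q M) M := (isCompl_orth hM).symm
        have hCn := nd_orth hQ hM
        have hCd : Module.finrank F (orth Q M) = 2 * (d - 1) := by
          have := Submodule.finrank_add_eq_of_isCompl hc
          omega
        have hbot : ∀ S : Submodule F (Fin d ⊕ Fin d → F), Module.finrank F S ≠ 0 → S ≠ ⊥ :=
          fun S hS e => hS (by rw [e]; simp)
        obtain ⟨hz, hns, -⟩ := OrthTwo.invol_elem hc hxC hxM h2 (hbot _ (by omega)) (hbot _ (by omega))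
        obtain ⟨W, hWd, hW0, hWi⟩ := h x hx hz hns
        have hb := OrthTwoFix.invol_ts_bound h2 hc hCn hM hxC hxM hWi hW0
        have hsup := sgn_sup hM hCn hc.disjoint.symm (fun a ha b hb => mem_orth.1 hb a ha) ⟨1, by omega⟩
          ⟨d - 1, by omega⟩
        rw [hc.symm.sup_eq_top, ← (iso_top Q).sgn_eq, hs, hMs] at hsup
        have hsC : sgn (res Q (orth Q M)) = -1 := by omega
        rw [hWd, hCd, hMd, hMs, hsC, (OrthTwoFix.widx_even (by omega) (Or.inr rfl)).2 rfl,
          (OrthTwoFix.widx_even one_pos (Or.inr rfl)).2 rfl] at hb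
        omega
      · by_contra hcon
        push Not at hcon
        obtain ⟨hmo, hdm⟩ := hcon
        have hde : Even d := by rw [Nat.even_iff]; omega
        have hone : ∀ z : ℤ, (z = 1 ∨ z = -1) → z ^ d = 1 := fun z hz => by
          rcases hz with rfl | rfl
          · exact one_pow d
          · exact hde.neg_one_pow
        obtain ⟨x, hx, hJ⟩ := OrthTwo.exists_J hQ h2 hn
          (hs.trans (hone _ OrthTwo.e1_eq_or).symm) (hone _ (OrthPlanes.chi_eq_or h2))
        obtain ⟨hz, hns⟩ := OrthTwo.J_elem hQ (by omega) h2 hx hJ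
        obtain ⟨W, hWd, hW0, hWi⟩ := h x hx hz hns
        exact hmo (hWd ▸ OrthTwo.even_J hJ he (inv_iff_map.2 hWi))
    · rintro (⟨-, -, hcond⟩ | ⟨-, h, -⟩ | ⟨-, h, -⟩)
      rotate_left
      · omega
      · omega
      intro x hx hz hns
      rcases OrthTwo.elem_cases hQ h2 (by omega) hx hz hns with ⟨hsq, h1, h1'⟩ | hJ
      · obtain ⟨C, M, α, β, hcpl, horth, hC, hM, hCd, hMd, hα, hβ, hab, hMs, hCM, hinv⟩ :=
          OrthTwoFix.invol_data hQ h2 hn hx hsq h1 h1'
        obtain ⟨hC1, hC2⟩ := OrthTwoFix.widx_even hα (sgn_eq_or (res Q C))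
        obtain ⟨hM1, hM2⟩ := OrthTwoFix.widx_even hβ (sgn_eq_or (res Q M))
        obtain ⟨A, hA, B, hB, hP⟩ := OrthTwo.split_ts hcpl horth h2 hC hM (m := m) (by
          rw [hCd, hMd]
          rcases sgn_eq_or (res Q M) with h | h
          · rw [h, mul_one, hs] at hCM
            rw [hC1 hCM, hM1 h]
            omega
          · rw [h, hs] at hCM
            have hq1 : Fintype.card F % 4 ≠ 1 := fun hq1 => by
              rw [(OrthTwo.e1_eq_one_iff h2).2 hq1, one_pow, h] at hMs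
              omega
            rw [hC2 (by omega), hM2 h]
            omega)
        exact ⟨A ⊔ B, hP.1, hP.2, hinv A hA B hB⟩
      · obtain ⟨hsd, -, -, hU1, hU2⟩ := OrthTwoFix.J_data hQ h2 hn hx hJ
        by_cases hq1 : Fintype.card F % 4 = 1
        · obtain ⟨U, hU, hUd, hU0⟩ := hU1 ((OrthTwo.e1_eq_one_iff h2).2 hq1) m (by omega)
          exact ⟨U, hUd, hU0, hU⟩
        · obtain ⟨-, -, hmd'⟩ := hcond.resolve_left hq1
          have hde : Even d := by
            by_contra hodd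
            rw [hs, he3 hq1, (Nat.not_even_iff_odd.1 hodd).neg_one_pow] at hsd
            omega
          have hme : Even m := hmd'.resolve_right (by rw [Nat.even_iff] at hde; omega)
          obtain ⟨j, hj⟩ := hme
          obtain ⟨U, hU, hUd, hU0⟩ := hU2 j (by omega)
          exact ⟨U, by omega, hU0, hU⟩
  simp only [← and_assoc (b := ∀ w ∈ _, Q w = 0)]
  refine (OrthGroup.allFix_iff hQ (by omega) hr2 (SingP Q m)).trans ?_
  rw [OrthMain.sing_main (p := p) hrp hr2 hQ (fun h => absurd h hev)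
      (by rw [hn, widx, if_neg (by omega), if_pos hs]; omega) hrΩ, hn, hs]
  have hr : 2 < r := by have := (Fact.out : r.Prime).two_le; omega
  have hi0 := OrthMain.order_pos (F := F) (p := p) hrp
  have ht := OrthMain.orbit_pos (F := F) (p := p) hrp
  generalize orderOf (Fintype.card F : ZMod r) = i at *
  have key := fun h : i ≤ m =>
    OrthBridge.sing_even_dim (d := d) hi0 ht h (by omega) (σ := 0) (by omega) 1 (by norm_num)
  simp only [hr2, hr, hrp, true_and, false_and, false_or, ne_eq, not_false_eq_true,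
    Nat.odd_iff, Nat.even_iff] at key ⊢
  constructor
  · rintro ⟨hle, hall⟩
    have := (key hle).1 hall
    omega
  · intro h
    have hle : i ≤ m := by omega
    exact ⟨hle, (key hle).2 (by omega)⟩

end Cfsg.Agent.S5973
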