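import Cfsg.Statements.S5974
import Cfsg.Agent.Lib.Elusive.OrthTwoFix
import Cfsg.Agent.Lib.Elusive.OrthUnipFree
import Cfsg.Agent.Lib.Elusive.OrthEven
import Cfsg.Agent.Lib.Elusive.OrthNum
-- import your own Cfsg.Agent.* helpers here

set_option autoImplicit false
open scoped MatrixGroups
open Cfsg

namespace Cfsg.Agent.S5974

open Elusive Elusive.OrthType Elusive.OrthStd
open Elusive.OrthCriteria (SingP EvenP)


/-- Elements of prime order of PΩ⁺_n(q), n = 2d ≥ 8, with no fixed nondegenerate hyperbolic `m`-space. Here `T = PΩ⁺_n(q)` is realised through `Ω⁺_n(q)`, the commutator subgroup of the isometry group of `Q = Σ xᵢyᵢ` over the field `F` with `q` elements; an element of `T` of prime order `r` is an element `x` of `Ω⁺_n(q)` with `x^r` scalar and `x` not scalar. A hyperbolic `m`-space is a subspace `W` of even dimension `m` on which the polar form of `Q` is nondegenerate and which contains a totally singular subspace of dimension `m/2`.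 Let `m` be even with `2 ≤ m < n/2`, and let `r` be a prime dividing the number of hyperbolic `m`-spaces, with `r = 2` or `r ≠ p`. For `r ≠ p` let `i` be the multiplicative order of `q` modulo `r`, `c = i` for `i` even and `c = 2i` for `i` odd, and write `k = n mod c`, `ℓ' = m mod c`. Then every element of `T` of order `r` fixes some hyperbolic `m`-space if and only if one of: (i) `r = 2` and (`n ≡ 2 (mod 4)`, or `m ≡ 0 (mod 4)`, or `q ≡ 1 (mod 4)`); (ii) `r ≠ p` odd, `i` odd, `c ≤ m` and `k ≥ ℓ'`; (iii) `r ≠ p` odd, `i` even, and either `k = 0` and (`n/i` odd, or `ℓ' = 0` and `m/i` even), or `i ≤ m` and (`k > ℓ' > 0`, or `k = ℓ' > 0` and `(n + m − 2k)/i` even, or `k > ℓ' = 0` and `m/i` even). -/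
theorem result {F : Type*} [Field F] [Fintype F] {p : ℕ} [Fact p.Prime] [CharP F p] {q : ℕ} (hq : Fintype.card F = q)
    (d m : ℕ) (hd : 4 ≤ d) (hm : 2 ≤ m) (hme : Even m) (hmd : m < d)
    (r : ℕ) [Fact r.Prime] (hr : r = 2 ∨ r ≠ p)
    (hrΩ : r ∣ Nat.card {W : Submodule F (Fin d ⊕ Fin d → F) // (Module.finrank F ↥W = m ∧ (∀ u ∈ W, u ≠ 0 → ∃ v ∈ W, QuadraticMap.polar (Cfsg.quadFormPlus d F) u v ≠ 0) ∧
          ∃ U : Submodule F (Fin d ⊕ Fin d → F), U ≤ W ∧ 2 * Module.finrank F ↥U = m ∧ ∀ u ∈ U, Cfsg.quadFormPlus d F u = 0)})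
    (i c : ℕ) (hi : i = orderOf (q : ZMod r)) (hc : c = if Even i then i else 2 * i) :
    (∀ x : GL (Fin d ⊕ Fin d) F, x ∈ Cfsg.Geo.omegaGL (Cfsg.quadFormPlus d F) →
      (∃ z : F, ((x ^ r : GL (Fin d ⊕ Fin d) F) : Matrix (Fin d ⊕ Fin d) (Fin d ⊕ Fin d) F) = z • (1 : Matrix (Fin d ⊕ Fin d) (Fin d ⊕ Fin d) F)) →
      (∀ z : F, (x : Matrix (Fin d ⊕ Fin d) (Fin d ⊕ Fin d) F) ≠ z • (1 : Matrix (Fin d ⊕ Fin d) (Fin d ⊕ Fin d) F)) →
      ∃ W : Submodule F (Fin d ⊕ Fin d → F), (Module.finrank F ↥W = m ∧ (∀ u ∈ W, u ≠ 0 → ∃ v ∈ W, QuadraticMap.polar (Cfsg.quadFormPlus d F) u v ≠ 0) ∧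
          ∃ U : Submodule F (Fin d ⊕ Fin d → F), U ≤ W ∧ 2 * Module.finrank F ↥U = m ∧ ∀ u ∈ U, Cfsg.quadFormPlus d F u = 0) ∧
        W.map (Matrix.toLin' (x : Matrix (Fin d ⊕ Fin d) (Fin d ⊕ Fin d) F)) ≤ W) ↔
    ((r = 2 ∧ ((2 * d) % 4 = 2 ∨ m % 4 = 0 ∨ q % 4 = 1)) ∨
     (r ≠ p ∧ 2 < r ∧ Odd i ∧ c ≤ m ∧ m % c ≤ (2 * d) % c) ∨
     (r ≠ p ∧ 2 < r ∧ Even i ∧
       (((2 * d) % c = 0 ∧ (Odd ((2 * d) / i) ∨ (m % c = 0 ∧ Even (m / i)))) ∨
        (i ≤ m ∧ ((m % c < (2 * d) % c ∧ 0 < m % c) ∨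
                  ((2 * d) % c = m % c ∧ 0 < m % c ∧ Even ((2 * d + m - 2 * ((2 * d) % c)) / i)) ∨
                  (0 < (2 * d) % c ∧ m % c = 0 ∧ Even (m / i))))))) := by
  subst hq hi
  obtain rfl : c = OrthBridge.bdim _ := hc
  obtain ⟨μ, rfl⟩ := hme
  simp only [← two_mul, coe_plus, plus_iff'] at *
  set Q := Forms.quadPlus d F
  have hQ : Sep Q := sep_plus d
  have hs : sgn Q = 1 := sgn_plus d
  have hn := card_plus d
  have hnd : ¬ Odd (Fintype.card (Fin d ⊕ Fin d)) := by rw [hn]; exact Nat.not_odd_iff_even.2 (even_two_mul d)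
  rcases eq_or_ne r 2 with rfl | hr2
  · have hred : ((2 = 2 ∧ ((2 * d) % 4 = 2 ∨ (2 * μ) % 4 = 0 ∨ Fintype.card F % 4 = 1))) ↔
        (d % 2 = 1 ∨ μ % 2 = 0 ∨ Fintype.card F % 4 = 1) := by omega
    refine Iff.trans ?_ (Iff.symm (Iff.trans (or_iff_left (by omega)) hred))
    rcases eq_or_ne p 2 with rfl | hp2
    · have hqe : Fintype.card F % 4 ≠ 1 := fun h => ne_two_of_odd (p := 2) (F := F) (Nat.odd_iff.2 (by omega)) rfl
      constructor
      · intro h
        by_contra hcon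
        obtain ⟨N, hf, hN, halt, hev, hbig⟩ := OrthEven.exists_alt hQ hn (Or.inl hs)
        obtain ⟨x, hx, hz, hns, hxN⟩ := OrthEven.exists_elem hQ (by omega) hf hN hev fun h0 => by
          rw [h0, LinearMap.range_zero, finrank_bot] at hbig
          omega
        obtain ⟨W, ⟨hWd, hWn, hWs⟩, hWi⟩ := h x hx hz hns
        rcases OrthEven.large_alt hf hN hQ hn halt hbig (W := W) (μ := μ)
          ⟨hWn, OrthUnip.inv_of_map hxN hWi, hWd⟩ with ⟨he, -⟩ | ⟨he, -⟩
        · rw [Nat.even_iff] at he; omega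
        · rw [Nat.even_iff] at he; omega
      · intro hcond x hx hz hns
        obtain ⟨N, hf, hN, hev, hxN⟩ := OrthEven.elem hQ (by omega) hx hz
        obtain ⟨W, hW, hWi⟩ := OrthEven.exists_inv hf hN hQ hn hev (μ := μ) (by omega) (by omega) hs
          (fun _ h => by rw [Nat.odd_iff] at h ⊢; omega) (fun h => absurd h (by norm_num))
        exact ⟨W, hW, inv_iff_map.1 fun v hv => by rw [hxN]; exact W.add_mem hv (hWi v hv)⟩
    · have h2 : (2 : F) ≠ 0 := two_ne_zero_of_ne (p := p) hp2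
      constructor
      · intro h
        by_contra hcon
        have he : OrthPlanes.e1 F = -1 := OrthTwo.e1_eq_or.resolve_left fun he =>
          hcon (Or.inr (Or.inr ((OrthTwo.e1_eq_one_iff h2).1 he)))
        have hde : Even d := by rw [Nat.even_iff]; omega
        obtain ⟨x, hx, hJ⟩ := OrthTwo.exists_J hQ h2 hn
          (by rw [hs, he, hde.neg_one_pow])
          (by rcases OrthPlanes.chi_eq_or h2 with h | h <;> rw [h] <;> first | exact one_pow d | exact hde.neg_one_pow)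
        obtain ⟨hz, hns⟩ := OrthTwo.J_elem hQ (by omega) h2 hx hJ
        obtain ⟨W, ⟨hWd, hWn, hWs⟩, hWi⟩ := h x hx hz hns
        obtain ⟨k, hk, hks⟩ := OrthTwo.nd_J (OrthGroup.isometry_of_omega hx) hJ h2 (inv_iff_map.2 hWi) hWn
        have hko : Odd k := by rw [Nat.odd_iff]; omega
        rw [hWs, he, hko.neg_one_pow] at hks
        omega
      · intro hcond x hx hz hns
        rcases OrthTwo.elem_cases hQ h2 (by omega) hx hz hns with ⟨hsq, h1, h1'⟩ | hJ
        · obtain ⟨C, M, α, β, hcpl, horth, hC, hM, hCd, hMd, -, -, hab, -, -, hinv⟩ :=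
            OrthTwoFix.invol_data hQ h2 hn hx hsq h1 h1'
          obtain ⟨A, hA, B, hB, hP⟩ := OrthTwo.split_even hcpl horth h2 hC hM hCd hMd (μ := μ) (by omega) (by omega)
            (by omega) (τ := 1) (Or.inl rfl)
          exact ⟨A ⊔ B, hP, hinv A hA B hB⟩
        · obtain ⟨hsd, -, hA, -, -⟩ := OrthTwoFix.J_data hQ h2 hn hx hJ
          obtain ⟨A, hAi, hAn, hAd, hAs⟩ := hA μ (by omega)
          refine ⟨A, ⟨hAd, hAn, ?_⟩, hAi⟩
          rw [hAs]
          rcases OrthTwo.e1_eq_or (F := F) with he | he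
          · rw [he, one_pow]
          rw [he]
          refine Even.neg_one_pow ?_
          rw [Nat.even_iff]
          by_contra hne
          have hq1 : Fintype.card F % 4 ≠ 1 := fun hq1 => by
            rw [(OrthTwo.e1_eq_one_iff h2).2 hq1] at he
            omega
          have hdo : Odd d := by rw [Nat.odd_iff]; omega
          rw [hs, he, hdo.neg_one_pow] at hsd
          omega
  have hrp : r ≠ p := hr.resolve_left hr2
  refine (OrthGroup.allFix_iff hQ (by omega) hr2 (EvenP Q (2 * μ) 1)).trans ?_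
  obtain ⟨hmain, hsmall⟩ := OrthMain.even_main_all (p := p) hrp hr2 hQ (fun h => absurd h hnd) (μ := μ) (by omega)
    (by omega) (Or.inl rfl) hrΩ
  rw [hn, hs] at hmain hsmall
  have h3 : 2 < r := by have := (Fact.out : r.Prime).two_le; omega
  rw [hmain, OrthNum.plus_plus (OrthMain.order_pos (p := p) hrp) (by omega) (by omega) hsmall]
  simp only [hr2, hrp, h3, ne_eq, not_false_eq_true, true_and, false_and, false_or]

end Cfsg.Agent.S5974
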