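import Cfsg.Statements.S5975
import Cfsg.Agent.Lib.Elusive.ExtField.SympSelf

set_option autoImplicit false
open scoped MatrixGroups
open scoped Matrix
open Cfsg

namespace Cfsg.Agent.S5975

/-- Elements of prime order of PSp_n(q) and the field-extension subgroups of type Sp_{n/k}(q^k). Here `T = PSp_{2d}(F)` for a field `F` with `q` elements (`d ≥ 2`, `(d, q) ≠ (2, 2)`), realised through the matrices preserving the standard alternating form `f`; `k` is a prime and `K` is a subalgebra of the `2d × 2d` matrices that is a field of degree `k` over `F` whose elements are self-adjoint for `f` and satisfy `f(a v, v) = 0` (so `F^{2d}` becomes a vector space over `K ≅ F_{q^k}` on which `f` is the trace of a `K`-bilinear alternating form); `H` is the subgroup of `T` normalizing `K` — the symplectic maps that are `K`-linear or `K`-semilinear, a subgroup of type Sp_{2d/k}(q^k) (maximality is not assumed). Ω is the set of cosets of `H` in `T`, so an element of `T` of prime order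 `r` (`x ∈ T` with `x^r` scalar, `x` not scalar) fixes a point of Ω exactly when some `T`-conjugate of `x` normalizes `K`. Let `r` be a prime dividing the index of `H`. Then every element of `T` of order `r` fixes a point of Ω if and only if `r = 2`, `d = 2`, `k = 2` and `q` is odd. -/
theorem result {F : Type*} [Field F] [Fintype F] {p : ℕ} [Fact p.Prime] [CharP F p] {q : ℕ} (hq : Fintype.card F = q)
    (d : ℕ) (hd : 2 ≤ d) (hT : (d, q) ≠ (2, 2)) (k : ℕ) (hk : k.Prime)
    (K : Subalgebra F (Matrix (Fin d ⊕ Fin d) (Fin d ⊕ Fin d) F)) (hK : Cfsg.Geo.IsFieldSubalgebra k K)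
    (hKf : Cfsg.Geo.IsSelfAdjointFor (Cfsg.sympForm d F) K) (hKalt : ∀ a ∈ K, ∀ v : Fin d ⊕ Fin d → F, Cfsg.sympForm d F (a *ᵥ v) v = 0)
    (r : ℕ) [Fact r.Prime]
    (hΩ : r ∣ (Cfsg.Geo.subalgebraNormalizer K).relIndex (Cfsg.spGL d F)) :
    (∀ x ∈ Cfsg.spGL d F, (∃ z : F, ((x ^ r : GL (Fin d ⊕ Fin d) F) : Matrix (Fin d ⊕ Fin d) (Fin d ⊕ Fin d) F) = z • (1 : Matrix (Fin d ⊕ Fin d) (Fin d ⊕ Fin d) F)) →
      (∀ z : F, (x : Matrix (Fin d ⊕ Fin d) (Fin d ⊕ Fin d) F) ≠ z • (1 : Matrix (Fin d ⊕ Fin d) (Fin d ⊕ Fin d) F)) →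
      ∃ g ∈ Cfsg.spGL d F, g⁻¹ * x * g ∈ Cfsg.Geo.subalgebraNormalizer K) ↔
    (r = 2 ∧ d = 2 ∧ k = 2 ∧ Odd q) := by
  have hB := Agent.Elusive.ExtField.selfAlt_symp hKf hKalt
  subst hq
  constructor
  · intro hall
    have none : ∀ x : GL (Fin d ⊕ Fin d) F, x ∈ Cfsg.spGL d F → x ^ r = 1 → ∀ c, ((x : Matrix (Fin d ⊕ Fin d) (Fin d ⊕ Fin d) F) - 1).rank = c →
        0 < c → c < 2 * d → (c < k ∨ ((r : F) ≠ 0 ∧ ¬ 2 * k ∣ c)) →
        (r = k → 2 * d + k * c < k * (2 * d)) → False := by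
      intro x hx hxr c hc hc0 hcd hlin hsemi
      refine Agent.Elusive.ExtField.not_conj hK hk hB hx hxr hc hc0 hlin hsemi (hall x hx ⟨1, ?_⟩ ?_)
      · rw [hxr, Units.val_one, one_smul]
      · refine fun z => Agent.Elusive.ExtField.not_scalar_of_rank (by rw [hc]; omega) ?_ z
        rw [hc, Fintype.card_sum, Fintype.card_fin]; omega
    have hk2 := hk.two_le
    by_cases hrp : r = p
    · subst hrp
      obtain ⟨x, hx, hxr, hc⟩ := Agent.Elusive.ExtField.exists_transvection (F := F) (d := d) r (by omega)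
      exact (none x hx hxr 1 hc one_pos (by omega) (Or.inl (by omega)) fun _ => by nlinarith).elim
    have hr0 : (r : F) ≠ 0 := Agent.Elusive.ExtField.cast_ne_zero_of_ne p Fact.out hrp
    by_cases hr2 : r = 2
    · subst hr2
      have h2 : (2 : F) ≠ 0 := by simpa using hr0
      obtain ⟨x, hx, hxr, hc⟩ := Agent.Elusive.ExtField.exists_rank_two (d := d) h2 (by omega)
      have hnd : ¬ 2 * k ∣ 2 := fun h => by have := Nat.le_of_dvd two_pos h; omega
      by_contra hcon
      refine none x hx hxr 2 hc two_pos (by omega) (Or.inr ⟨hr0, hnd⟩) fun hk' => ?_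
      subst hk'
      have : d ≠ 2 := fun hd2 => hcon ⟨rfl, hd2, rfl, Nat.odd_iff.2 (FiniteField.odd_card_of_char_ne_two fun h => h2 (by
        have := ringChar.Nat.cast_ringChar (R := F); rw [h] at this; exact_mod_cast this))⟩
      omega
    have hdvd : r ∣ Nat.card (Cfsg.spGL d F) := hΩ.trans (Subgroup.relIndex_dvd_card _ _)
    rw [Agent.Forms.card_spGL] at hdvd
    obtain ⟨j, hj1, hjd, hij⟩ := Agent.Elusive.ExtField.exists_factor Fintype.card_pos
      (fun h => Agent.Elusive.ExtField.q_ne_zero_mod (F := F) p hrp ((ZMod.natCast_eq_zero_iff _ _).2 h)) hdvd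
    have hcd := (Nat.le_of_dvd (by omega) (Agent.Elusive.ExtField.cval_dvd hij)).trans (Nat.mul_le_mul_left 2 hjd)
    obtain ⟨x, hx, hxr, hc, -, hc0⟩ := Agent.Elusive.ExtField.exists_minimal (F := F) (d := d) p hrp rfl hcd
    have hnd := fun h => Agent.Elusive.ExtField.not_dvd_index hK hk.pos hB p hrp rfl h hΩ
    have hc1 := Agent.Elusive.ExtField.order_cases (F := F) (r := r) p hrp hr2
    obtain ⟨m, hm, -⟩ := Agent.Elusive.ExtField.card_dvd hK hk.pos hB
    refine (none x hx hxr _ hc hc0 (lt_of_le_of_ne hcd fun h => hnd ?_) (Or.inr ⟨hr0, hnd⟩) fun hrk => ?_).elim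
    · rw [h, hm, ← mul_assoc]; exact dvd_mul_right _ _
    · subst hrk
      have hm1 : 1 ≤ m := by rcases m with _ | m <;> simp_all
      have h3 : 3 ≤ r := by omega
      have : (r - 1) + 2 * m < r * (2 * m) := by
        obtain ⟨k', rfl⟩ : ∃ k', r = k' + 3 := ⟨r - 3, by omega⟩
        rw [show k' + 3 - 1 = k' + 2 by omega]; nlinarith
      calc 2 * d + r * _ ≤ 2 * d + r * (r - 1) := Nat.add_le_add_left (Nat.mul_le_mul_left r hc1) _
        _ = r * ((r - 1) + 2 * m) := by rw [hm]; ring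
        _ < r * (r * (2 * m)) := Nat.mul_lt_mul_of_pos_left this (by omega)
        _ = r * (2 * d) := by rw [hm]; ring
  · rintro ⟨rfl, rfl, rfl, hodd⟩ x hx ⟨z, hz⟩ hns
    refine Agent.Elusive.ExtField.conj_of_two hK hB (fun h => ?_) hx hz hns
    obtain ⟨n, hp, hn⟩ := FiniteField.card F p
    have : p = 2 := (Nat.prime_dvd_prime_iff_eq hp Nat.prime_two).1 ((CharP.cast_eq_zero_iff F p 2).1 (by simpa using h))
    rw [hn, this] at hodd
    exact (Nat.not_odd_iff_even.2 (Nat.even_pow.2 ⟨even_two, n.ne_zero⟩)) hodd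

end Cfsg.Agent.S5975
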