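import Cfsg.Statements.S5976
import Cfsg.Agent.Lib.Elusive.ExtField.HermTwo

set_option autoImplicit false
open scoped MatrixGroups
open Cfsg

namespace Cfsg.Agent.S5976

/-- Elements of prime order of PSp_n(q), q odd, and the subgroups of type GU_{n/2}(q). Here `T = PSp_{2d}(F)` for a field `F` with `q` elements, `q` odd, `d ≥ 2`, realised through the matrices preserving the standard alternating form `f`; `K` is a subalgebra of the `2d × 2d` matrices that is a field of degree 2 over `F`, closed under taking adjoints for `f` but not consisting of self-adjoint elements (so `F^{2d}` becomes a `d`-dimensional space over `K ≅ F_{q²}` on which `f` is the trace of a multiple of a non-degenerate hermitian form); `H` is the subgroup of `T` normalizing `K` — the symplectic maps that are `K`-linear or `K`-semilinear, a subgroup of type GU_d(q) (maximality is not assumed). Ω is the set of cosets of `H` in `T`, so an element of `T` of prime order `r` (`x ∈ T` with `x^r`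 scalar, `x` not scalar) fixes a point of Ω exactly when some `T`-conjugate of `x` normalizes `K`. Let `r` be a prime dividing the index of `H`. Then every element of `T` of order `r` fixes a point of Ω if and only if `r = 2`. -/
theorem result {F : Type*} [Field F] [Fintype F] {p : ℕ} [Fact p.Prime] [CharP F p] {q : ℕ} (hq : Fintype.card F = q)
    (hodd : Odd q) (d : ℕ) (hd : 2 ≤ d)
    (K : Subalgebra F (Matrix (Fin d ⊕ Fin d) (Fin d ⊕ Fin d) F)) (hK : Cfsg.Geo.IsFieldSubalgebra 2 K)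
    (hKf : Cfsg.Geo.IsAdjointClosedFor (Cfsg.sympForm d F) K) (hKns : ¬ Cfsg.Geo.IsSelfAdjointFor (Cfsg.sympForm d F) K)
    (r : ℕ) [Fact r.Prime]
    (hΩ : r ∣ (Cfsg.Geo.subalgebraNormalizer K).relIndex (Cfsg.spGL d F)) :
    (∀ x ∈ Cfsg.spGL d F, (∃ z : F, ((x ^ r : GL (Fin d ⊕ Fin d) F) : Matrix (Fin d ⊕ Fin d) (Fin d ⊕ Fin d) F) = z • (1 : Matrix (Fin d ⊕ Fin d) (Fin d ⊕ Fin d) F)) →
      (∀ z : F, (x : Matrix (Fin d ⊕ Fin d) (Fin d ⊕ Fin d) F) ≠ z • (1 : Matrix (Fin d ⊕ Fin d) (Fin d ⊕ Fin d) F)) →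
      ∃ g ∈ Cfsg.spGL d F, g⁻¹ * x * g ∈ Cfsg.Geo.subalgebraNormalizer K) ↔ r = 2 := by
  subst hq
  have h2 : (2 : F) ≠ 0 := fun h => by
    obtain ⟨n, hp, hn⟩ := FiniteField.card F p
    have : p = 2 := (Nat.prime_dvd_prime_iff_eq hp Nat.prime_two).1 ((CharP.cast_eq_zero_iff F p 2).1 (by simpa using h))
    rw [hn, this] at hodd
    exact (Nat.not_odd_iff_even.2 (Nat.even_pow.2 ⟨even_two, n.ne_zero⟩)) hodd
  obtain ⟨ε, δ, hε⟩ := Agent.Elusive.ExtField.exists_antiGen (by omega) h2 hK hKf hKns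
  constructor
  · intro hall
    by_contra hr2
    have bad : ∀ x : GL (Fin d ⊕ Fin d) F, x ∈ Cfsg.spGL d F → x ^ r = 1 → ∀ c,
        ((x : Matrix (Fin d ⊕ Fin d) (Fin d ⊕ Fin d) F) - 1).rank = c → 0 < c →
        (c < 2 * d ∨ (c ≤ 2 * d ∧ (r : F) ≠ 0)) → (∀ y : GL (Fin d ⊕ Fin d) F, y ∈ Cfsg.spGL d F → y ^ r = 1 →
          ((y : Matrix (Fin d ⊕ Fin d) (Fin d ⊕ Fin d) F) - 1).rank = c → (∀ a ∈ K, (y : Matrix (Fin d ⊕ Fin d) (Fin d ⊕ Fin d) F) * a =
            a * (y : Matrix (Fin d ⊕ Fin d) (Fin d ⊕ Fin d) F)) → False) → False := by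
      intro x hx hxr c hc hc0 hcd hno
      have hns : ∀ z : F, (x : Matrix (Fin d ⊕ Fin d) (Fin d ⊕ Fin d) F) ≠ z • (1 : Matrix (Fin d ⊕ Fin d) (Fin d ⊕ Fin d) F) := by
        intro z hzx
        rcases hcd with hlt | ⟨-, hr0⟩
        · refine Agent.Elusive.ExtField.not_scalar_of_rank (by rw [hc]; omega) ?_ z hzx
          rw [hc, Fintype.card_sum, Fintype.card_fin]; omega
        · have hzz : z * z = 1 := Agent.GL.symp_scalar_sq (n := d) (by omega) (c := z) (fun a b => by
            rw [← hzx]; exact hx a b)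
          have hzr : z ^ r = 1 := by
            have h1 : ((x ^ r : GL (Fin d ⊕ Fin d) F) : Matrix (Fin d ⊕ Fin d) (Fin d ⊕ Fin d) F) = 1 := by rw [hxr, Units.val_one]
            rw [Units.val_pow_eq_pow_val, hzx, smul_pow, one_pow, ← one_smul F (1 : Matrix (Fin d ⊕ Fin d) (Fin d ⊕ Fin d) F),
              smul_smul, mul_one] at h1
            haveI : Nonempty (Fin d ⊕ Fin d) := ⟨Sum.inl ⟨0, by omega⟩⟩
            exact smul_left_injective F (one_ne_zero : (1 : Matrix (Fin d ⊕ Fin d) (Fin d ⊕ Fin d) F) ≠ 0) h1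
          obtain ⟨m, hm⟩ := (Fact.out : r.Prime).odd_of_ne_two hr2
          rw [hm, pow_succ, pow_mul, pow_two, hzz, one_pow, one_mul] at hzr
          rw [hzx, hzr, one_smul, sub_self, Matrix.rank_zero] at hc
          omega
      obtain ⟨g, hg, hn⟩ := hall x hx ⟨1, by rw [hxr, Units.val_one, one_smul]⟩ hns
      have hyr : (g⁻¹ * x * g) ^ r = 1 := by
        rw [show g⁻¹ * x * g = g⁻¹ * x * (g⁻¹)⁻¹ by rw [inv_inv], conj_pow, hxr, mul_one, mul_inv_cancel]
      exact hno _ (mul_mem (mul_mem (inv_mem hg) hx) hg) hyr (by rw [Agent.Elusive.ExtField.rank_conj, hc])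
        ((Agent.Elusive.ExtField.commute_or_eq hK Nat.prime_two _ hn hyr).resolve_right hr2)
    by_cases hrp : r = p
    · subst hrp
      obtain ⟨x, hx, hxr, hc⟩ := Agent.Elusive.ExtField.exists_transvection (F := F) (d := d) r (by omega)
      refine bad x hx hxr 1 hc one_pos (Or.inl (by omega)) fun y _ _ hyc hcomm => ?_
      have hinv := Agent.Elusive.ExtField.kinv_range (K := K)
        (M := (y : Matrix (Fin d ⊕ Fin d) (Fin d ⊕ Fin d) F) - 1) fun a ha => by
          rw [sub_mul, mul_sub, hcomm a ha, one_mul, mul_one]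
      have hne : LinearMap.range (Matrix.toLin' ((y : Matrix (Fin d ⊕ Fin d) (Fin d ⊕ Fin d) F) - 1)) ≠ ⊥ := fun h => by
        rw [Agent.Elusive.ExtField.rank_eq_finrank, h, finrank_bot] at hyc
        omega
      have := Agent.Elusive.ExtField.le_finrank_of_kinv hK hinv hne
      rw [← Agent.Elusive.ExtField.rank_eq_finrank, hyc] at this
      omega
    have hr0 : (r : F) ≠ 0 := Agent.Elusive.ExtField.cast_ne_zero_of_ne p Fact.out hrp
    have hdvd : r ∣ Nat.card (Cfsg.spGL d F) := hΩ.trans (Subgroup.relIndex_dvd_card _ _)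
    rw [Agent.Forms.card_spGL] at hdvd
    obtain ⟨j, hj1, hjd, hij⟩ := Agent.Elusive.ExtField.exists_factor Fintype.card_pos
      (fun h => Agent.Elusive.ExtField.q_ne_zero_mod (F := F) p hrp ((ZMod.natCast_eq_zero_iff _ _).2 h)) hdvd
    have hcd := (Nat.le_of_dvd (by omega) (Agent.Elusive.ExtField.cval_dvd hij)).trans (Nat.mul_le_mul_left 2 hjd)
    obtain ⟨x, hx, hxr, hc, -, hc0⟩ := Agent.Elusive.ExtField.exists_minimal (F := F) (d := d) p hrp rfl hcd
    exact bad x hx hxr _ hc hc0 (Or.inr ⟨hcd, hr0⟩) fun y hy hyr hyc hcomm =>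
      hε.no_commute h2 p hrp hr2 (fun h => hε.not_dvd_index hK h2 (by omega) p hrp hr2 h hΩ) hy hyr hyc
        (hcomm ε hε.mem)
  · rintro rfl x hx ⟨z, hz⟩ -
    exact hε.conj_of_two h2 (by omega) hx hz

end Cfsg.Agent.S5976
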