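import Cfsg.Statements.S5979
import Cfsg.Agent.Lib.TensorDerange.Witness

set_option autoImplicit false
open scoped MatrixGroups
open Cfsg

namespace Cfsg.Agent.S5979

open Cfsg.Agent

/-- Elements of prime order of PSL_n(q) and the stabilizers of tensor decompositions with factors of different dimensions. Here `T = PSL_n(F)` for a field `F` with `q` elements and `n = a·b` with `2 ≤ a < b`; a tensor decomposition `F^n ≅ F^a ⊗ F^b` is given by a bijection `e` of index sets and a change of basis `P`, and `H` is the subgroup of matrices of determinant 1 in its stabilizer (the conjugate by `P` of the group of Kronecker products `g₁ ⊗ g₂`) — a subgroup of type GL_a(q) ⊗ GL_b(q) (maximality is not assumed); Ω is the set of cosets of `H` in `T`, so an element of `T` of prime order `r` (a matrix `x` of determinant 1 with `x^r` scalar, `x` not scalar) fixes a point of Ω exactly when some conjugate of `x` by a matrix of determinant 1 lies in `H`. Let `r` be a prime dividing the index of `H`. Then every element of `T` of order `r` fixes a point of Ω if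 and only if `r = 2`, `a = 2`, `q` is odd and `(q − 1)_2 ≤ (n)_2` (2-parts). -/
theorem result {F : Type*} [Field F] [Fintype F] {p : ℕ} [Fact p.Prime] [CharP F p] {q : ℕ} (hq : Fintype.card F = q)
    (n a b : ℕ) (hab : n = a * b) (ha : 2 ≤ a) (hlt : a < b) (e : Fin n ≃ Fin a × Fin b) (P : GL (Fin n) F)
    (r : ℕ) [Fact r.Prime]
    (hΩ : r ∣ (Cfsg.Geo.tensorProductSubgroup a b e P).relIndex (Cfsg.Geo.specialLinear (Fin n) F)) :
    (∀ x ∈ Cfsg.Geo.specialLinear (Fin n) F, (∃ z : F, ((x ^ r : GL (Fin n) F) : Matrix (Fin n) (Fin n) F) = z • (1 : Matrix (Fin n) (Fin n) F)) →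
      (∀ z : F, (x : Matrix (Fin n) (Fin n) F) ≠ z • (1 : Matrix (Fin n) (Fin n) F)) →
      ∃ g ∈ Cfsg.Geo.specialLinear (Fin n) F, g⁻¹ * x * g ∈ Cfsg.Geo.tensorProductSubgroup a b e P) ↔
    (r = 2 ∧ a = 2 ∧ Odd q ∧ padicValNat 2 (q - 1) ≤ padicValNat 2 n) := by
  classical
  subst hq
  have hb : 3 ≤ b := by omega
  have hn : 3 ≤ n := by rw [hab]; exact le_trans hb (Nat.le_mul_of_pos_left b (by omega))
  rw [Agent.Elusive.fixes_iff (r := r)]
  constructor
  · intro H
    by_contra hcond
    obtain ⟨x, z, hz, hns, hnd⟩ : ∃ (x : Matrix.SpecialLinearGroup (Fin n) F) (z : F),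
        ((x ^ r : Matrix.SpecialLinearGroup (Fin n) F) : Matrix (Fin n) (Fin n) F) = z • 1 ∧
        (∀ z : F, (x : Matrix (Fin n) (Fin n) F) ≠ z • 1) ∧
        ∀ (A : GL (Fin a) F) (B : GL (Fin b) F), ¬ TensorDerange.Decomposed x A B := by
      by_cases hrp : r = p
      · subst hrp
        let i₀ : Fin n := ⟨0, by omega⟩
        let i₁ : Fin n := ⟨1, by omega⟩
        have hne : i₀ ≠ i₁ := by simp [i₀, i₁]
        let x : Matrix.SpecialLinearGroup (Fin n) F :=
          ⟨Matrix.transvection i₀ i₁ 1, Matrix.det_transvection_of_ne _ _ hne 1⟩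
        have hpow : ∀ k : ℕ, (Matrix.transvection i₀ i₁ (1 : F)) ^ k = Matrix.transvection i₀ i₁ (k : F) := by
          intro k
          induction k with
          | zero => simp
          | succ k ih => rw [pow_succ, ih, Matrix.transvection_mul_transvection_same i₀ i₁ hne, Nat.cast_succ]
        have hns : ∀ z : F, (x : Matrix (Fin n) (Fin n) F) ≠ z • 1 := fun z hz => by
          have h1 := congrFun (congrFun hz i₀) i₁
          simp [x, Matrix.transvection, hne] at h1
        have hx : x.1 = (1 : F) • (1 + Matrix.single i₀ i₁ (1 : F)) := by simp [x, Matrix.transvection]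
        refine ⟨x, 1, ?_, hns, TensorDerange.not_decomposed_rank_one hx (hns 1) ha hlt⟩
        rw [Matrix.SpecialLinearGroup.coe_pow]
        show Matrix.transvection i₀ i₁ (1 : F) ^ r = _
        rw [hpow, CharP.cast_eq_zero, Matrix.transvection_zero, one_smul]
      · have hcard : r ∣ Nat.card (GL (Fin n) F) := by
          simpa using Agent.Elusive.mul_card_dvd (r := r) (Cfsg.Geo.tensorProductSubgroup a b e P)
            (N := 1) (one_dvd _) hΩ
        obtain ⟨hi1, hin⟩ := Agent.Elusive.order_facts_of_dvd_card (n := n) hrp hcard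
        by_cases hi : orderOf (Fintype.card F : ZMod r) = 1
        · have hr1 := Agent.Elusive.dvd_card_sub_one hi
          by_cases hc : r ≠ 2 ∨ 3 ≤ a
          · obtain ⟨x, h1, h2, h3⟩ := TensorDerange.exists_diag hn hr1 ha hlt hab hc
            exact ⟨x, 1, h1, h2, h3⟩
          · push Not at hc
            obtain ⟨rfl, ha2⟩ := hc
            obtain rfl : a = 2 := by omega
            have hodd : Odd (Fintype.card F) := by
              have h1 := Fintype.one_lt_card (α := F)
              obtain ⟨c, hc⟩ := hr1
              exact ⟨c, by omega⟩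
            have hlt' : padicValNat 2 n < padicValNat 2 (Fintype.card F - 1) := by
              by_contra hle
              exact hcond ⟨rfl, rfl, hodd, not_lt.1 hle⟩
            obtain ⟨x, w, t, i, j, -, -, ⟨z, hz⟩, hns, hx⟩ :=
              Agent.Elusive.exists_rank_one_witness (F := F) (n := n) (by omega) (Or.inr hlt')
            exact ⟨x, z, hz, hns, TensorDerange.not_decomposed_rank_one hx (hns w) ha hlt⟩
        · obtain ⟨x, h1, h2, h3⟩ := TensorDerange.exists_block_witness (F := F) (n := n) p hrp
            (by omega) hin ha hlt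
          exact ⟨x, 1, h1, h2, h3⟩
    obtain ⟨Q, hQ⟩ := H x ⟨z, hz⟩ hns
    obtain ⟨A, B, hAB⟩ := TensorDerange.decomposed_of_mem e P x Q hQ
    exact hnd A B hAB
  · rintro ⟨rfl, rfl, hodd, hv⟩ x ⟨z, hz⟩ -
    have h2 : (2 : F) ≠ 0 := fun h2 => by
      have hc : ringChar F = 2 := by
        haveI : CharP F (ringChar F) := ringChar.charP F
        have := (CharP.cast_eq_zero_iff F (ringChar F) 2).1 (by exact_mod_cast h2)
        exact (Nat.prime_dvd_prime_iff_eq (CharP.char_is_prime F _) Nat.prime_two).1 this
      have := FiniteField.even_card_of_char_two hc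
      rw [Nat.odd_iff] at hodd
      omega
    obtain ⟨bs, A, B, hM⟩ := TensorDerange.exists_basis_involution hab (by omega) h2 hv x hz
    exact TensorDerange.exists_conj_of_basis e P x (Agent.Elusive.detSurj_of_sq (by omega) x hz) bs A B hM

end Cfsg.Agent.S5979
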