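-- Copy of the template for statement S5980, with its proof.
import Cfsg.Statements.S5980
import Cfsg.Agent.Lib.Elusive.TensorRank
import Cfsg.Agent.Lib.Elusive.SympDecompositionOrbit
import Cfsg.Agent.Lib.Elusive.Involution
import Cfsg.Agent.Lib.Aschbacher.SpExplicit.TensorCommon
import Cfsg.Agent.Lib.Aschbacher.TensorNormal
import Cfsg.Agent.Lib.Semisimple.Isometry
import Cfsg.Agent.Lib.ClassicalSimple.SympMatrix

set_option autoImplicit false
set_option linter.unusedSectionVars false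
set_option linter.style.haveILetI false
open scoped MatrixGroups Kronecker Matrix
open Cfsg

namespace Cfsg.Agent.S5980

open Matrix Module Polynomial
open Cfsg.Agent.Aschbacher (coordEquiv coordEquiv_apply)
open Cfsg.Agent.Aschbacher.SpExplicit (pureVec form_pureVec)

variable {F : Type*} [Field F]

/-- An isometry of odd order of a symmetric form moves a space of even dimension. -/
theorem odd_isometry_rank_even {b : ℕ} {f : (Fin b → F) → (Fin b → F) → F}
    (hf : Geo.IsSymmetricForm f) (M : Matrix (Fin b) (Fin b) F) (hiso : ∀ u v, f (M *ᵥ u) (M *ᵥ v) = f u v)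
    {r : ℕ} (hodd : Odd r) (hMr : M ^ r = 1) : Even (M - 1).rank := by
  classical
  set T := Matrix.toLin' M with hT
  let B : LinearMap.BilinForm F (Fin b → F) :=
    LinearMap.mk₂ F (fun u v => f (T u) v - f u (T v))
      (fun x y v => by rw [map_add, hf.bilinear.add_left, hf.bilinear.add_left]; ring)
      (fun c x v => by rw [map_smul, hf.bilinear.smul_left, hf.bilinear.smul_left, smul_eq_mul]; ring)
      (fun v x y => by rw [map_add, hf.bilinear.add_right, hf.bilinear.add_right]; ring)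
      (fun c v x => by rw [map_smul, hf.bilinear.smul_right, hf.bilinear.smul_right, smul_eq_mul]; ring)
  have hB : ∀ u v, B u v = f (T u) v - f u (T v) := fun u v => rfl
  have hA : B.IsAlt := fun u => by rw [hB, hf.symm, sub_self]
  set K := LinearMap.ker (T - 1) with hK
  obtain ⟨C, hC⟩ := Submodule.exists_isCompl K
  have hTr : T ^ r = 1 := by
    rw [hT]
    show Matrix.toLinAlgEquiv' M ^ r = 1
    rw [← map_pow, hMr, map_one]
  have hnd : ∀ x : C, (∀ y : C, B x y = 0) → x = 0 := by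
    intro x hx
    have hall : ∀ v, B x v = 0 := by
      intro v
      obtain ⟨k, hk, c, hc, rfl⟩ := Submodule.mem_sup.1 (hC.sup_eq_top.symm ▸ Submodule.mem_top :
        v ∈ K ⊔ C)
      have hkT : T k = k := sub_eq_zero.1 (LinearMap.mem_ker.1 hk)
      have h1 : f (T x) k = f x k := by
        conv_lhs => rw [← hkT]
        simp only [hT, Matrix.toLin'_apply]
        exact hiso _ _
      rw [map_add, hx ⟨c, hc⟩, add_zero, hB, hkT, h1, sub_self]
    set y : Fin b → F := (x : Fin b → F) with hy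
    have h2 : ∀ w, f y w = f y (T (T w)) := by
      intro w
      have h := hall (T w)
      rw [hB, sub_eq_zero] at h
      rw [← h]
      simp only [hT, Matrix.toLin'_apply]
      exact (hiso _ _).symm
    have hsurj : Function.Surjective fun w => T (T w) := by
      intro w
      obtain ⟨t, ht⟩ := hodd
      refine ⟨(T ^ (r - 1)) ((T ^ (r - 1)) w), ?_⟩
      show (T * T * T ^ (r - 1) * T ^ (r - 1)) w = w
      rw [← sq, ← pow_add, ← pow_add, show 2 + (r - 1) + (r - 1) = r + r by omega, pow_add, hTr, one_mul]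
      rfl
    have h3 : T (T y) = y := by
      by_contra hne
      obtain ⟨w, hw⟩ := (hf.nondegenerate _ (sub_ne_zero.2 hne)).2
      obtain ⟨w, rfl⟩ := hsurj w
      refine hw ?_
      have hsub : ∀ a a' v, f (a - a') v = f a v - f a' v := fun a a' v => by
        have := hf.bilinear.add_left (a - a') a' v
        rw [sub_add_cancel] at this
        linear_combination -this
      rw [hsub, sub_eq_zero, ← h2 w]
      simp only [hT, Matrix.toLin'_apply]
      rw [hiso, hiso]
    have h4 : ∀ t, (T ^ (2 * t)) y = y := by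
      intro t
      induction t with
      | zero => rfl
      | succ t ih => rw [mul_add, pow_add, mul_one, Module.End.mul_apply, sq, Module.End.mul_apply, h3, ih]
    obtain ⟨t, ht⟩ := hodd
    have h5 : T y = y := by
      have := LinearMap.congr_fun hTr y
      rw [ht, pow_succ', Module.End.mul_apply, h4] at this
      exact this
    exact Subtype.ext ((Submodule.disjoint_def.1 hC.disjoint) y
      (LinearMap.mem_ker.2 (by rw [LinearMap.sub_apply, Module.End.one_apply, h5, sub_self])) x.2)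
  obtain ⟨m, -, hm, -⟩ := Forms.SympTwo.exists_alt_equiv (β := B.restrict C) (fun x => hA _) hnd
  refine ⟨m, ?_⟩
  have h1 := Submodule.finrank_add_eq_of_isCompl hC
  have h2 := (T - 1).finrank_range_add_finrank_ker
  rw [← hK] at h2
  have h3 : (M - 1).rank = finrank F (LinearMap.range (T - 1)) := by
    rw [hT, Matrix.rank, ← Matrix.toLin'_apply', map_sub, Matrix.toLin'_one]
    rfl
  omega

variable {d a b : ℕ} {e : (Fin d ⊕ Fin d) ≃ Fin a × Fin b} {P : GL (Fin d ⊕ Fin d) F}

theorem coord_pureVec (M : Matrix (Fin a) (Fin a) F) (N : Matrix (Fin b) (Fin b) F) (u : Fin a → F)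
    (v : Fin b → F) :
    coordEquiv e P (M ⊗ₖ N) *ᵥ pureVec e P u v = pureVec e P (M *ᵥ u) (N *ᵥ v) := by
  rw [coordEquiv_apply, pureVec, pureVec, ← Matrix.mulVec_mulVec, ← Matrix.mulVec_mulVec]
  congr 1
  have hinv : ∀ w, ((P⁻¹ : GL (Fin d ⊕ Fin d) F) : Matrix (Fin d ⊕ Fin d) (Fin d ⊕ Fin d) F) *ᵥ
      ((P : Matrix (Fin d ⊕ Fin d) (Fin d ⊕ Fin d) F) *ᵥ w) = w := fun w => by
    rw [Matrix.mulVec_mulVec, Units.inv_mul, Matrix.one_mulVec]
  rw [hinv, Matrix.submatrix_mulVec_equiv]
  funext i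
  simp only [Function.comp_apply]
  rw [← Elusive.kronecker_mulVec_pure]
  congr 1
  funext q
  simp

variable {f₁ : (Fin a → F) → (Fin a → F) → F} {f₂ : (Fin b → F) → (Fin b → F) → F}

theorem second_isometry (hf₁ : Geo.IsSymplecticForm f₁) (hf₂ : Geo.IsSymmetricForm f₂) (ha : 0 < a)
    (hS : Geo.IsTensorFormStructure id (sympForm d F) f₁ f₂ e P) {y : GL (Fin d ⊕ Fin d) F}
    (hy : y ∈ spGL d F) {N : Matrix (Fin b) (Fin b) F}
    (hyN : y.val = coordEquiv e P ((1 : Matrix (Fin a) (Fin a) F) ⊗ₖ N)) (u v : Fin b → F) :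
    f₂ (N *ᵥ u) (N *ᵥ v) = f₂ u v := by
  obtain ⟨c, hc, hcf⟩ := form_pureVec hf₁.bilinear hf₂.bilinear hS
  have h0 : (Pi.single (⟨0, ha⟩ : Fin a) 1 : Fin a → F) ≠ 0 := by simp
  obtain ⟨x', hx'⟩ := (hf₁.nondegenerate _ h0).2
  have h := hy (pureVec e P (Pi.single (⟨0, ha⟩ : Fin a) 1) u) (pureVec e P x' v)
  change sympForm d F (y.val *ᵥ _) (y.val *ᵥ _) = _ at h
  rw [hyN, coord_pureVec, coord_pureVec, Matrix.one_mulVec, Matrix.one_mulVec, hcf, hcf] at h
  exact mul_left_cancel₀ hx' (mul_left_cancel₀ hc h)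

variable [Fintype F] {r : ℕ} [Fact r.Prime]

/-- A witness moving one or two dimensions. -/
theorem small_not_fixed (ha : Even a) (ha2 : 2 ≤ a) (hb : 3 ≤ b) {x g : GL (Fin d ⊕ Fin d) F} {c : ℕ}
    (hc : (x.val - 1).rank = c) (hc0 : 0 < c) (hc2 : c ≤ 2) (hc1 : c = 1 ∨ a ≠ 2)
    (h : g⁻¹ * x * g ∈ Geo.tensorProductSubgroup a b e P) : False := by
  obtain ⟨A, B, hA, hB, -, hrk, -⟩ := Elusive.exists_kronecker h
  rcases Elusive.kronecker_trichotomy A B hA hB (hrk.symm.trans hc) with ⟨-, -, h1, -⟩ | ⟨t, -, -, h1⟩ | ⟨t, -, -, h1⟩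
  · rw [Fintype.card_fin] at h1; omega
  · rw [Fintype.card_fin] at h1
    rcases Nat.eq_zero_or_pos (t • B - 1).rank with h0 | h0
    · rw [h0, mul_zero] at h1; omega
    · have := Nat.le_mul_of_pos_right a h0
      obtain ⟨k, hk⟩ := ha
      omega
  · rw [Fintype.card_fin] at h1
    rcases Nat.eq_zero_or_pos (t • A - 1).rank with h0 | h0
    · rw [h0, mul_zero] at h1; omega
    · have := Nat.le_mul_of_pos_right b h0
      omega

/-- An element of odd order moving one block is not conjugate into the stabilizer. -/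
theorem odd_not_fixed (hf₁ : Geo.IsSymplecticForm f₁) (hf₂ : Geo.IsSymmetricForm f₂)
    (hS : Geo.IsTensorFormStructure id (sympForm d F) f₁ f₂ e P) (hr : (r : F) ≠ 0) (hr2 : r ≠ 2)
    (ha : Even a) (ha2 : 2 ≤ a) (hb : 3 ≤ b) {x g : GL (Fin d ⊕ Fin d) F} (hx : x ∈ spGL d F) (hxr : x ^ r = 1)
    (hg : g ∈ spGL d F)
    (hc : (x.val - 1).rank = Elusive.SympDecomp.blockDim (Fintype.card F) r)
    (hi : 0 < orderOf (Fintype.card F : ZMod r))
    (h : g⁻¹ * x * g ∈ Geo.tensorProductSubgroup a b e P) : False := by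
  have hrp := (Fact.out : r.Prime)
  obtain ⟨A, B, hA, hB, hval, hrk, hpow⟩ := Elusive.exists_kronecker h
  set i := orderOf (Fintype.card F : ZMod r) with hidef
  set c := Elusive.SympDecomp.blockDim (Fintype.card F) r with hcdef
  have hce : (Even i ∧ c = i) ∨ (¬ Even i ∧ c = 2 * i) := by
    rw [hcdef, Elusive.SympDecomp.blockDim, ← hidef]
    by_cases he : Even i <;> simp [he]
  have hrankA : (A ⊗ₖ B - 1).rank = c := hrk.symm.trans hc
  haveI : Nonempty (Fin a) := ⟨⟨0, by omega⟩⟩
  haveI : Nonempty (Fin b) := ⟨⟨0, by omega⟩⟩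
  rcases Elusive.kronecker_trichotomy A B hA hB hrankA with ⟨hAs, hBs, h1, h2⟩ | ⟨t, -, he, h1⟩ | ⟨t, -, he, h1⟩
  · rw [Fintype.card_fin] at h1 h2
    by_cases hi1 : i = 1
    · rcases hce with ⟨h, -⟩ | ⟨-, hc'⟩
      · rw [hi1] at h; exact absurd h (by decide)
      · omega
    obtain ⟨h3, -, h5, h6⟩ := Elusive.order_bound hr (Elusive.not_dvd_card_sub_one (by omega)) A B hA hB hAs hBs
      (hpow r hxr)
    rw [Fintype.card_fin, ← hidef] at h3
    rw [Fintype.card_fin, hrankA, ← hidef] at h5 h6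
    obtain ⟨k, hk⟩ : ∃ k, i = k + 2 := ⟨i - 2, by omega⟩
    rw [show i - 1 = k + 1 by omega, mul_add, mul_one] at h5 h6
    have h7 : 3 * k ≤ b * k := Nat.mul_le_mul_right _ hb
    obtain ⟨j, hj⟩ := ha
    rcases hce with ⟨he, hc'⟩ | ⟨ho, hc'⟩
    · omega
    · obtain ⟨k', hk'⟩ := Nat.not_even_iff_odd.1 ho
      have hk1 : k = 1 := by omega
      subst hk1
      rw [mul_one] at h5 h6
      omega
  · have hpow' := hpow r hxr
    rw [he] at hpow' hval
    rw [Fintype.card_fin] at h1
    set N := t • B with hN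
    have hNr : N ^ r = 1 := by
      have hpk : ∀ k, ((1 : Matrix (Fin a) (Fin a) F) ⊗ₖ N) ^ k = (1 : Matrix (Fin a) (Fin a) F) ⊗ₖ (N ^ k) := by
        intro k
        induction k with
        | zero => rw [pow_zero, pow_zero, Matrix.one_kronecker_one]
        | succ k ih => rw [pow_succ, ih, ← Matrix.mul_kronecker_mul, mul_one, ← pow_succ]
      rw [hpk] at hpow'
      ext k k'
      have e0 := congrFun (congrFun hpow' (⟨0, by omega⟩, k)) (⟨0, by omega⟩, k')
      simpa [Matrix.one_apply] using e0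
    have hN1 : N ≠ 1 := by
      intro h0
      rw [h0, sub_self, Matrix.rank_zero, mul_zero] at h1
      rcases hce with ⟨-, hc'⟩ | ⟨-, hc'⟩ <;> omega
    have hiso := second_isometry hf₁ hf₂ (by omega) hS
      (mul_mem (mul_mem (inv_mem hg) hx) hg) hval
    obtain ⟨s, hs⟩ := odd_isometry_rank_even hf₂ N hiso (hrp.odd_of_ne_two hr2) hNr
    have hle := Elusive.order_le_rank hr N hNr hN1
    rw [← hidef] at hle
    have h8 : 2 * (N - 1).rank ≤ a * (N - 1).rank := Nat.mul_le_mul_right _ ha2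
    rcases hce with ⟨he', hc'⟩ | ⟨ho, hc'⟩
    · omega
    · exact ho ⟨s, by omega⟩
  · have hpow' := hpow r hxr
    rw [he] at hpow'
    rw [Fintype.card_fin] at h1
    set N := t • A with hN
    have hNr : N ^ r = 1 := by
      have hpk : ∀ k, (N ⊗ₖ (1 : Matrix (Fin b) (Fin b) F)) ^ k = (N ^ k) ⊗ₖ (1 : Matrix (Fin b) (Fin b) F) := by
        intro k
        induction k with
        | zero => rw [pow_zero, pow_zero, Matrix.one_kronecker_one]
        | succ k ih => rw [pow_succ, ih, ← Matrix.mul_kronecker_mul, mul_one, ← pow_succ]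
      rw [hpk] at hpow'
      ext k k'
      have e0 := congrFun (congrFun hpow' (k, ⟨0, by omega⟩)) (k', ⟨0, by omega⟩)
      simpa [Matrix.one_apply] using e0
    have hN1 : N ≠ 1 := by
      intro h0
      rw [h0, sub_self, Matrix.rank_zero, mul_zero] at h1
      rcases hce with ⟨-, hc'⟩ | ⟨-, hc'⟩ <;> omega
    have hle := Elusive.order_le_rank hr N hNr hN1
    rw [← hidef] at hle
    have h8 : 3 * (N - 1).rank ≤ b * (N - 1).rank := Nat.mul_le_mul_right _ hb
    rcases hce with ⟨he', hc'⟩ | ⟨ho, hc'⟩ <;> omega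

theorem nonscalar_of_rank {x : GL (Fin d ⊕ Fin d) F} {c : ℕ} (hc : (x.val - 1).rank = c) (hc0 : 0 < c)
    {k : ℕ} (hk : x ^ k = 1) (hx : x ∈ spGL d F) (hlt : c < 2 * d ∨ Odd k) (z : F) :
    x.val ≠ z • (1 : Matrix (Fin d ⊕ Fin d) (Fin d ⊕ Fin d) F) := by
  intro h
  have hd : 0 < d := by
    by_contra hd0
    obtain rfl : d = 0 := by omega
    rw [show (x.val - 1) = 0 from Subsingleton.elim _ _, Matrix.rank_zero] at hc
    omega
  let i₀ : Fin d := ⟨0, hd⟩
  have hz2 : z * z = 1 := by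
    have h1 := hx (Pi.single (Sum.inl i₀) 1) (Pi.single (Sum.inr i₀) 1)
    change sympForm d F (x.val *ᵥ _) (x.val *ᵥ _) = _ at h1
    rw [h, Matrix.smul_mulVec, Matrix.smul_mulVec, Matrix.one_mulVec, Matrix.one_mulVec] at h1
    simp [Forms.sympForm_eq_sum, Pi.single_apply, sub_eq_zero] at h1
    linear_combination h1
  have hsub : x.val - 1 = (z - 1) • (1 : Matrix (Fin d ⊕ Fin d) (Fin d ⊕ Fin d) F) := by
    rw [h, sub_smul, one_smul]
  by_cases hz1 : z = 1
  · rw [hsub, hz1, sub_self, zero_smul, Matrix.rank_zero] at hc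
    omega
  · rcases hlt with hlt | ⟨t, ht⟩
    · rw [hsub, Matrix.rank_of_isUnit _ ((Units.mk0 (z - 1) (sub_ne_zero.2 hz1)).isUnit.map
        (algebraMap F (Matrix (Fin d ⊕ Fin d) (Fin d ⊕ Fin d) F)) |> fun hu => by
          simpa [Algebra.algebraMap_eq_smul_one] using hu)] at hc
      simp at hc
      omega
    · apply hz1
      have h1 : x.val ^ k = 1 := by rw [← Units.val_pow_eq_pow_val, hk, Units.val_one]
      rw [h, _root_.smul_pow, one_pow, ht, pow_succ, pow_mul, sq, hz2, one_pow, one_mul] at h1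
      have := congrFun (congrFun h1 (Sum.inl i₀)) (Sum.inl i₀)
      simpa using this

theorem exists_transvection (hd : 0 < d) (p : ℕ) [Fact p.Prime] [CharP F p] :
    ∃ x : GL (Fin d ⊕ Fin d) F, x ∈ spGL d F ∧ x ^ p = 1 ∧ (x.val - 1).rank = 1 := by
  have hp := (Fact.out : p.Prime)
  set v : Fin d ⊕ Fin d → F := Pi.single (Sum.inr ⟨0, hd⟩) 1 with hv
  set w : Fin d ⊕ Fin d → F := Matrix.J (Fin d) F *ᵥ v with hw
  have hwv : w ⬝ᵥ v = 0 := by
    rw [hw, dotProduct_comm]
    show sympForm d F v v = 0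
    rw [Forms.sympForm_eq_sum]
    exact Finset.sum_eq_zero fun i _ => by ring
  set N := Matrix.vecMulVec v w with hN
  have hNN : N * N = 0 := by
    rw [hN, Matrix.vecMulVec_mul_vecMulVec, hwv]
    ext i j; simp [Matrix.vecMulVec]
  set u : Matrix (Fin d ⊕ Fin d) (Fin d ⊕ Fin d) F := 1 + N with hu
  have hut : u = sympTransvection d v 1 := by rw [hu, hN, hw, sympTransvection, one_smul]
  have hpres : ∀ s t, sympForm d F (u *ᵥ s) (u *ᵥ t) = sympForm d F s t := by
    rw [hut]
    exact GL.mem_symplectic_iff_preserves.1 (ClassicalSimple.sympTransvection_mem v (1 : F))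
  have hpow : ∀ k : ℕ, u ^ k = 1 + (k : F) • N := by
    intro k
    induction k with
    | zero => simp
    | succ k ih =>
      rw [pow_succ, ih, hu]
      simp only [add_mul, mul_add, one_mul, mul_one, Matrix.smul_mul, hNN, smul_zero, add_zero, Nat.cast_succ,
        add_smul, one_smul]
      abel
  have hup : u ^ p = 1 := by rw [hpow, CharP.cast_eq_zero, zero_smul, add_zero]
  let x : GL (Fin d ⊕ Fin d) F := Units.ofPowEqOne u p hup hp.ne_zero
  refine ⟨x, hpres, Units.ext ?_, ?_⟩
  · rw [Units.val_pow_eq_pow_val, Units.val_one]; exact hup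
  · show (u - 1).rank = 1
    rw [hu, add_sub_cancel_left, hN]
    refine le_antisymm (Matrix.rank_vecMulVec_le _ _) (Nat.one_le_iff_ne_zero.2 fun h0 => ?_)
    rw [Matrix.rank, Submodule.finrank_eq_zero, LinearMap.range_eq_bot] at h0
    have := congrFun (LinearMap.congr_fun h0 (Pi.single (Sum.inl ⟨0, hd⟩) 1)) (Sum.inr ⟨0, hd⟩)
    simp [hv, hw, Matrix.vecMulVec, Matrix.J, Matrix.one_apply] at this

theorem exists_involution (hd : 2 ≤ d) (h2 : (2 : F) ≠ 0) :
    ∃ x : GL (Fin d ⊕ Fin d) F, x ∈ spGL d F ∧ x ^ 2 = 1 ∧ (x.val - 1).rank = 2 := by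
  classical
  let i₀ : Fin d := ⟨0, by omega⟩
  let s : Fin d ⊕ Fin d → F := fun j => if j = Sum.inl i₀ ∨ j = Sum.inr i₀ then -1 else 1
  have hs2 : ∀ j, s j * s j = 1 := fun j => by simp only [s]; split <;> ring
  have hsI : ∀ i : Fin d, s (Sum.inl i) * s (Sum.inr i) = 1 := fun i => by
    by_cases hi : i = i₀ <;> simp [s, hi]
  set u := Matrix.diagonal s with hu
  have hup : u ^ 2 = 1 := by
    rw [hu, sq, Matrix.diagonal_mul_diagonal, ← Matrix.diagonal_one]
    congr 1; funext j; exact hs2 j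
  let x : GL (Fin d ⊕ Fin d) F := Units.ofPowEqOne u 2 hup two_ne_zero
  refine ⟨x, fun a b => ?_, Units.ext ?_, ?_⟩
  · show sympForm d F (u *ᵥ a) (u *ᵥ b) = sympForm d F a b
    rw [Forms.sympForm_eq_sum, Forms.sympForm_eq_sum]
    refine Finset.sum_congr rfl fun i _ => ?_
    simp only [hu, Matrix.mulVec_diagonal]
    linear_combination (a (Sum.inr i) * b (Sum.inl i) - a (Sum.inl i) * b (Sum.inr i)) * hsI i
  · rw [Units.val_pow_eq_pow_val, Units.val_one]; exact hup
  · show (u - 1).rank = 2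
    rw [hu, ← Matrix.diagonal_one, Matrix.diagonal_sub, Matrix.rank_diagonal]
    rw [Fintype.card_subtype, show (Finset.univ.filter fun j => s j - 1 ≠ 0) = {Sum.inl i₀, Sum.inr i₀} from ?_]
    · simp
    ext j
    have h3 : (-1 : F) - 1 ≠ 0 := fun h => h2 (by linear_combination -h)
    by_cases hj : j = Sum.inl i₀ ∨ j = Sum.inr i₀ <;> simp [s, hj, h3]

theorem exists_odd_witness (hr : (r : F) ≠ 0) (hr2 : r ≠ 2) (hdvd : r ∣ Nat.card (spGL d F)) :
    0 < orderOf (Fintype.card F : ZMod r) ∧ ∃ x : GL (Fin d ⊕ Fin d) F, x ∈ spGL d F ∧ x ^ r = 1 ∧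
      (x.val - 1).rank = Elusive.SympDecomp.blockDim (Fintype.card F) r := by
  rw [← Nat.card_congr (Forms.spEquivPreserving d F).toEquiv] at hdvd
  obtain ⟨x₀, β, -, hβ, hdim⟩ := Elusive.SympDecomp.exists_of_dvd_card hr hdvd
  obtain ⟨e', he'⟩ := Elusive.SympDecomp.even_blockDim (Fintype.card F) r
  have hi : 0 < orderOf (Fintype.card F : ZMod r) := by
    refine orderOf_pos_iff.2 (IsUnit.isOfFinOrder (Ne.isUnit fun h0 => ?_))
    rw [ZMod.natCast_eq_zero_iff] at h0
    have hchar := ringChar.charP F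
    obtain ⟨l, hp, hl⟩ := FiniteField.card F (ringChar F)
    rw [hl] at h0
    exact hr (by rw [(Nat.prime_dvd_prime_iff_eq Fact.out hp).1 ((Fact.out : r.Prime).dvd_of_dvd_pow h0),
      ringChar.Nat.cast_ringChar])
  refine ⟨hi, ?_⟩
  have he0 : 0 < e' := by
    unfold Elusive.SympDecomp.blockDim at he'
    split at he' <;> omega
  have hle : e' * 1 ≤ d := by
    have := Nat.le_mul_of_pos_left (Elusive.SympDecomp.blockDim (Fintype.card F) r) hβ
    omega
  obtain ⟨x, hxr, hfix⟩ := Elusive.SympDecomp.exists_witness hr he' he0 hle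
  refine ⟨(Forms.spEquivPreserving d F x).1, (Forms.spEquivPreserving d F x).2, ?_, ?_⟩
  · rw [← SubmonoidClass.coe_pow, ← map_pow, hxr, map_one]; rfl
  · show ((x : Matrix (Fin d ⊕ Fin d) (Fin d ⊕ Fin d) F) - 1).rank = _
    have h := (Elusive.SympDecomp.spEnd x - 1).finrank_range_add_finrank_ker
    rw [hfix, Module.finrank_fintype_fun_eq_card, Fintype.card_sum, Fintype.card_fin] at h
    have h3 : ((x : Matrix (Fin d ⊕ Fin d) (Fin d ⊕ Fin d) F) - 1).rank =
        finrank F (LinearMap.range (Elusive.SympDecomp.spEnd x - 1)) := by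
      rw [Matrix.rank, ← Matrix.toLin'_apply', map_sub, Matrix.toLin'_one]
      rfl
    omega

/-- The characteristic polynomial of an isometry with square `-1`. -/
theorem charpoly_of_sq_neg (h2 : (2 : F) ≠ 0) (M : Matrix (Fin d ⊕ Fin d) (Fin d ⊕ Fin d) F)
    (hM : ∀ u v, sympForm d F (M *ᵥ u) (M *ᵥ v) = sympForm d F u v) (hsq : M * M = -1) :
    M.charpoly = (X ^ 2 + 1) ^ d := by
  classical
  set J := Matrix.J (Fin d) F
  have hMJ : Mᵀ * J * M = J := SymplecticGroup.mem_iff'.1 (Forms.mem_symplecticGroup_iff_form.2 hM)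
  have h1 : Mᵀ * J = -(J * M) := by
    have h := congrArg (fun N => N * M) hMJ
    simp only [mul_assoc, hsq, mul_neg, mul_one] at h
    rw [← h, neg_neg]
  have hJJ : J * J = -1 := Matrix.J_squared _ _
  let u : (Matrix (Fin d ⊕ Fin d) (Fin d ⊕ Fin d) F)ˣ :=
    ⟨J, -J, by rw [mul_neg, hJJ, neg_neg], by rw [neg_mul, hJJ, neg_neg]⟩
  have hneg : (-M).charpoly = M.charpoly := by
    rw [← Matrix.charpoly_transpose M, show Mᵀ = u.val * (-M) * u⁻¹.val from ?_, Matrix.coe_units_inv,
      Matrix.charpoly_units_conj]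
    show Mᵀ = J * (-M) * (-J)
    rw [mul_neg J M, ← h1, mul_assoc, mul_neg, hJJ, neg_neg, mul_one]
  have hmul : M.charmatrix * (-M).charmatrix =
      Matrix.scalar (Fin d ⊕ Fin d) (X ^ 2 + 1 : F[X]) := by
    have hcm : ∀ N : Matrix (Fin d ⊕ Fin d) (Fin d ⊕ Fin d) F,
        N.charmatrix = Matrix.scalar (Fin d ⊕ Fin d) (X : F[X]) - (C.mapMatrix N) := fun N => rfl
    have hcomm := Matrix.scalar_commute (n := Fin d ⊕ Fin d) (X : F[X]) (fun r' => Commute.all _ r')
      (C.mapMatrix M)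
    rw [hcm, hcm, map_neg, sub_neg_eq_add, sub_mul, mul_add, mul_add, ← map_mul C.mapMatrix, hsq, map_neg, map_one,
      ← hcomm.eq, map_add, map_pow, map_one, sq]
    abel
  have hdet : M.charpoly * M.charpoly = ((X ^ 2 + 1 : F[X]) ^ d) * (X ^ 2 + 1) ^ d := by
    conv_lhs => arg 2; rw [← hneg]
    rw [Matrix.charpoly, Matrix.charpoly, ← Matrix.det_mul, hmul, Matrix.scalar_apply, Matrix.det_diagonal, Finset.prod_const,
      Finset.card_univ, Fintype.card_sum, Fintype.card_fin, pow_add]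
  have hmon : ((X ^ 2 + 1 : F[X]) ^ d).Monic := by
    rw [← map_one C]
    exact (monic_X_pow_add_C 1 two_ne_zero).pow d
  rcases mul_self_eq_mul_self_iff.1 hdet with h | h
  · exact h
  · exfalso
    have := congrArg leadingCoeff h
    rw [(Matrix.charpoly_monic M).leadingCoeff, leadingCoeff_neg, hmon.leadingCoeff] at this
    exact h2 (by linear_combination this)

theorem charpoly_coord {κ : Type} [Fintype κ] [DecidableEq κ] (e' : (Fin d ⊕ Fin d) ≃ κ) (M : Matrix κ κ F) :
    (coordEquiv e' P M).charpoly = M.charpoly := by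
  rw [coordEquiv_apply, Matrix.coe_units_inv, Matrix.charpoly_units_conj,
    ← Matrix.charpoly_reindex e'.symm M]
  rfl

/-- Involutions modulo scalars are conjugate into the stabilizer for `a = 2`. -/
theorem two_fixed {e : (Fin d ⊕ Fin d) ≃ Fin 2 × Fin b} {f₁ : (Fin 2 → F) → (Fin 2 → F) → F}
    (hf₁ : Geo.IsSymplecticForm f₁) (hf₂ : Geo.IsSymmetricForm f₂)
    (hS : Geo.IsTensorFormStructure id (sympForm d F) f₁ f₂ e P) (h2 : (2 : F) ≠ 0) (hd : 0 < d)
    (x : GL (Fin d ⊕ Fin d) F) (hx : x ∈ spGL d F) {z : F}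
    (hz : ((x ^ 2 : GL (Fin d ⊕ Fin d) F) : Matrix (Fin d ⊕ Fin d) (Fin d ⊕ Fin d) F) =
      z • (1 : Matrix (Fin d ⊕ Fin d) (Fin d ⊕ Fin d) F)) :
    ∃ g ∈ spGL d F, g⁻¹ * x * g ∈ Geo.tensorProductSubgroup 2 b e P := by
  classical
  obtain ⟨c, hc, hcf⟩ := form_pureVec hf₁.bilinear hf₂.bilinear hS
  have hdb : d = b := by
    have := Fintype.card_congr e
    simp at this
    omega
  -- a member of the stabilizer from two isometries
  have member : ∀ (A : GL (Fin 2) F) (B : GL (Fin b) F), (∀ u v, f₁ (A.val *ᵥ u) (A.val *ᵥ v) = f₁ u v) →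
      (∀ u v, f₂ (B.val *ᵥ u) (B.val *ᵥ v) = f₂ u v) →
      ∃ y ∈ spGL d F, y ∈ Geo.tensorProductSubgroup 2 b e P ∧ y.val = coordEquiv e P (A.val ⊗ₖ B.val) := by
    intro A B hA hB
    let s : GL (Fin 2 × Fin b) F := ⟨A.val ⊗ₖ B.val, (A⁻¹).val ⊗ₖ (B⁻¹).val,
      by rw [← Matrix.mul_kronecker_mul, Units.mul_inv, Units.mul_inv, Matrix.one_kronecker_one],
      by rw [← Matrix.mul_kronecker_mul, Units.inv_mul, Units.inv_mul, Matrix.one_kronecker_one]⟩
    have hyv : (Aschbacher.coordGL e P s).val = coordEquiv e P (A.val ⊗ₖ B.val) := rfl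
    refine ⟨Aschbacher.coordGL e P s, fun u v => ?_, Aschbacher.mem_tensorProductSubgroup e P ⟨A, B, rfl⟩, hyv⟩
    show sympForm d F ((Aschbacher.coordGL e P s).val *ᵥ u) ((Aschbacher.coordGL e P s).val *ᵥ v) = _
    let Φ : (Fin 2 × Fin b → F) ≃ₗ[F] (Fin d ⊕ Fin d → F) :=
      (LinearEquiv.funCongrLeft F F e).trans (Matrix.toLin'OfInv (M := (P⁻¹).val) (M' := P.val)
        (Units.inv_mul P) (Units.mul_inv P))
    have hΦ : ∀ i k, Φ (Pi.single (i, k) 1) = pureVec e P (Pi.single i 1) (Pi.single k 1) := by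
      intro i k
      show (P : Matrix (Fin d ⊕ Fin d) (Fin d ⊕ Fin d) F) *ᵥ (Pi.single (i, k) (1 : F) ∘ e) = _
      rw [pureVec]
      congr 1
      funext j
      obtain ⟨⟨i', k'⟩, rfl⟩ := e.symm.surjective j
      by_cases h1 : i' = i <;> by_cases h3 : k' = k <;> simp [h1, h3]
    let bs := (Pi.basisFun F (Fin 2 × Fin b)).map Φ
    have hext : (Forms.sympB d F).compl₁₂ (Matrix.toLin' (Aschbacher.coordGL e P s).val)
        (Matrix.toLin' (Aschbacher.coordGL e P s).val) = Forms.sympB d F := by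
      refine bs.ext fun p => bs.ext fun p' => ?_
      obtain ⟨i, k⟩ := p
      obtain ⟨i', k'⟩ := p'
      simp only [bs, Basis.map_apply, Pi.basisFun_apply, LinearMap.compl₁₂_apply, hΦ, Matrix.toLin'_apply,
        Forms.sympB_apply, hyv, coord_pureVec, hcf, hA, hB]
    have := LinearMap.congr_fun₂ hext u v
    simpa [LinearMap.compl₁₂_apply, Matrix.toLin'_apply, Forms.sympB_apply] using this
  -- conjugacy from the characteristic polynomial
  have conj : ∀ y : GL (Fin d ⊕ Fin d) F, y ∈ spGL d F → y ∈ Geo.tensorProductSubgroup 2 b e P →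
      x.val ^ 4 = 1 → y.val ^ 4 = 1 → x.val.charpoly = y.val.charpoly →
      ∃ g ∈ spGL d F, g⁻¹ * x * g ∈ Geo.tensorProductSubgroup 2 b e P := by
    intro y hy hyH hx4 hy4 hcp
    have h4 : ((4 : ℕ) : F) ≠ 0 := by
      rw [show ((4 : ℕ) : F) = 2 * 2 by norm_num]
      exact mul_ne_zero h2 h2
    have hpowE : ∀ M : Matrix (Fin d ⊕ Fin d) (Fin d ⊕ Fin d) F, M ^ 4 = 1 → Matrix.toLin' M ^ 4 = 1 := by
      intro M hM
      show Matrix.toLinAlgEquiv' M ^ 4 = 1
      rw [← map_pow, hM, map_one]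
    obtain ⟨T, hT, hTf⟩ := Semisimple.exists_isometric_conj (σ := RingHom.id F) (ε := (-1 : F)) (N := 4) _ _ _
      (Forms.sympB d F) (Forms.sympB d F) (Matrix.toLin' y.val) (Matrix.toLin' x.val) rfl
      ⟨(Forms.sympB_polar d).swap, (Forms.sympB_polar d).invol, (Forms.sympB_polar d).sep⟩
      ⟨(Forms.sympB_polar d).swap, (Forms.sympB_polar d).invol, (Forms.sympB_polar d).sep⟩
      ⟨fun u v => by simpa [Matrix.toLin'_apply, Forms.sympB_apply] using hy u v, hpowE _ hy4, h4⟩
      ⟨fun u v => by simpa [Matrix.toLin'_apply, Forms.sympB_apply] using hx u v, hpowE _ hx4, h4⟩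
      (fun _ v _ => Forms.sympB_isAlt d v) (fun _ v _ => Forms.sympB_isAlt d v)
      (by rw [Matrix.charpoly_toLin', Matrix.charpoly_toLin', hcp])
    let g : GL (Fin d ⊕ Fin d) F := ⟨LinearMap.toMatrix' T.toLinearMap, LinearMap.toMatrix' T.symm.toLinearMap,
      by rw [← LinearMap.toMatrix'_comp, LinearEquiv.comp_symm, LinearMap.toMatrix'_id],
      by rw [← LinearMap.toMatrix'_comp, LinearEquiv.symm_comp, LinearMap.toMatrix'_id]⟩
    refine ⟨g, fun u v => ?_, ?_⟩
    · show sympForm d F (LinearMap.toMatrix' T.toLinearMap *ᵥ u) (LinearMap.toMatrix' T.toLinearMap *ᵥ v) = _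
      rw [LinearMap.toMatrix'_mulVec, LinearMap.toMatrix'_mulVec]
      simpa [Forms.sympB_apply] using hTf u v
    · have hxy : x * g = g * y := by
        apply Units.ext
        show x.val * LinearMap.toMatrix' T.toLinearMap = LinearMap.toMatrix' T.toLinearMap * y.val
        apply Matrix.toLin'.injective
        refine LinearMap.ext fun v => ?_
        simp only [Matrix.toLin'_mul, Matrix.toLin'_toMatrix', LinearMap.comp_apply, LinearEquiv.coe_coe]
        exact (hT v).symm
      rw [mul_assoc, hxy, ← mul_assoc, inv_mul_cancel, one_mul]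
      exact hyH
  have hx2 : x.val * x.val = z • (1 : Matrix (Fin d ⊕ Fin d) (Fin d ⊕ Fin d) F) := by
    rw [← sq, ← Units.val_pow_eq_pow_val, hz]
  let i₀ : Fin d := ⟨0, hd⟩
  have hz2 : z * z = 1 := by
    have h1 := hx (x.val *ᵥ Pi.single (Sum.inl i₀) 1) (x.val *ᵥ Pi.single (Sum.inr i₀) 1)
    change sympForm d F (x.val *ᵥ (x.val *ᵥ _)) (x.val *ᵥ (x.val *ᵥ _)) = _ at h1
    have h1' := h1.trans (hx _ _)
    rw [Matrix.mulVec_mulVec, Matrix.mulVec_mulVec, hx2, Matrix.smul_mulVec, Matrix.smul_mulVec, Matrix.one_mulVec,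
      Matrix.one_mulVec] at h1'
    simp [Forms.sympForm_eq_sum, Pi.single_apply] at h1'
    linear_combination h1'
  have hx4 : x.val ^ 4 = 1 := by
    rw [show (4 : ℕ) = 2 + 2 from rfl, pow_add, sq, hx2, Matrix.smul_mul, one_mul, smul_smul, hz2, one_smul]
  rcases mul_self_eq_one_iff.1 hz2 with rfl | rfl
  · -- eigenvalues `±1`
    rw [one_smul] at hx2
    obtain ⟨m, l, β, hβl, hβr⟩ := Elusive.exists_eigen_basis (f := Matrix.toLin' x.val) (w := (1 : F)) h2 one_ne_zero
      (fun v => by rw [Matrix.toLin'_apply, Matrix.toLin'_apply, Matrix.mulVec_mulVec, hx2, Matrix.one_mulVec, one_mul,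
        one_smul])
    have hml : m + l = 2 * d := by
      have := finrank_eq_card_basis β
      rw [Module.finrank_fintype_fun_eq_card] at this
      simp at this
      omega
    have hxv : ∀ q, x.val *ᵥ β q = (Sum.elim (fun _ => (-1 : F)) fun _ => 1) q • β q := by
      intro q
      rcases q with q | q
      · simpa using hβl q
      · simpa using hβr q
    have horth : ∀ i j, sympForm d F (β (.inl i)) (β (.inr j)) = 0 := by
      intro i j
      have h1 := hx (β (.inl i)) (β (.inr j))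
      change sympForm d F (x.val *ᵥ _) (x.val *ᵥ _) = _ at h1
      rw [hxv, hxv, ← Forms.sympB_apply, ← Forms.sympB_apply, map_smul, map_smul, LinearMap.smul_apply,
        Sum.elim_inl, Sum.elim_inr, smul_eq_mul, smul_eq_mul] at h1
      have : (2 : F) * Forms.sympB d F (β (.inl i)) (β (.inr j)) = 0 := by linear_combination -h1
      rw [← Forms.sympB_apply]
      exact (mul_eq_zero.1 this).resolve_left h2
    obtain ⟨t, ht⟩ : Even m := by
      let L : (Fin m → F) →ₗ[F] (Fin d ⊕ Fin d → F) := Fintype.linearCombination F (β ∘ Sum.inl)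
      obtain ⟨t, -, ht, -⟩ := Forms.SympTwo.exists_alt_equiv (W := Fin m → F) (β := (Forms.sympB d F).compl₁₂ L L)
        (fun v => Forms.sympB_isAlt d _) (fun v hv => by
          have hall : ∀ w, Forms.sympB d F (L v) w = 0 := by
            intro w
            rw [← β.sum_repr w, Fintype.sum_sum_type, map_add,
              show (∑ i, β.repr w (.inl i) • β (.inl i)) = L (fun i => β.repr w (.inl i)) from rfl]
            have h1 := hv fun i => β.repr w (.inl i)
            rw [LinearMap.compl₁₂_apply] at h1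
            rw [h1, zero_add, show L v = ∑ i, v i • β (.inl i) from rfl]
            simp only [map_sum, map_smul, LinearMap.sum_apply, LinearMap.smul_apply, Forms.sympB_apply, horth,
              smul_zero, Finset.sum_const_zero]
          have hL : Function.Injective L := linearIndependent_iff_injective_fintypeLinearCombination.1
            (β.linearIndependent.comp _ Sum.inl_injective)
          exact hL (by rw [map_zero]; exact (Forms.sympB_nondegenerate d).1 _ hall))
      refine ⟨t, ?_⟩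
      rw [Module.finrank_fin_fun] at ht
      omega
    obtain ⟨γ, hγ⟩ : ∃ γ : Basis (Fin b) F (Fin b → F), ∀ k k', k ≠ k' → f₂ (γ k) (γ k') = 0 := by
      haveI : Invertible (2 : F) := invertibleOfNonzero h2
      obtain ⟨γ, hγ⟩ := LinearMap.BilinForm.exists_orthogonal_basis (B := MaxCl.toBil hf₂.bilinear)
        ⟨fun u v => by simp only [MaxCl.toBil_apply, RingHom.id_apply]; exact hf₂.symm u v⟩
      refine ⟨γ.reindex (finCongr (Module.finrank_fin_fun F)), fun k k' hkk => ?_⟩
      rw [← MaxCl.toBil_apply hf₂.bilinear, Basis.reindex_apply, Basis.reindex_apply]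
      exact hγ (fun h => hkk ((finCongr (Module.finrank_fin_fun F)).symm.injective h))
    let π : Fin t ⊕ Fin (b - t) ≃ Fin b := finSumFinEquiv.trans (finCongr (by omega))
    let σ : Fin b → F := (Sum.elim (fun _ => (-1 : F)) fun _ => 1) ∘ π.symm
    have hσ : ∀ k, σ k * σ k = 1 := fun k => by
      show Sum.elim (fun _ => (-1 : F)) (fun _ => 1) (π.symm k) * _ = 1
      rcases h : π.symm k with q | q <;> simp [σ, h]
    set Q : Matrix (Fin b) (Fin b) F := (Pi.basisFun F (Fin b)).toMatrix γ with hQ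
    let Qu : GL (Fin b) F := ⟨Q, γ.toMatrix (Pi.basisFun F (Fin b)), Basis.toMatrix_mul_toMatrix_flip _ _,
      Basis.toMatrix_mul_toMatrix_flip _ _⟩
    have hD : Matrix.diagonal σ * Matrix.diagonal σ = 1 := by
      rw [Matrix.diagonal_mul_diagonal, ← Matrix.diagonal_one]; congr 1; funext k; exact hσ k
    let R : GL (Fin b) F := Qu * ⟨Matrix.diagonal σ, Matrix.diagonal σ, hD, hD⟩ * Qu⁻¹
    have hQs : ∀ k, Q *ᵥ Pi.single k 1 = γ k := fun k => by
      funext i
      simp [hQ, Basis.toMatrix_apply]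
    have hR : ∀ k, R.val *ᵥ γ k = σ k • γ k := by
      intro k
      show (Q * Matrix.diagonal σ * (Qu⁻¹).val) *ᵥ γ k = _
      conv_lhs => rw [← hQs k]
      rw [Matrix.mulVec_mulVec, mul_assoc (Q * Matrix.diagonal σ),
        show (Qu⁻¹).val * Q = 1 from Qu.inv_mul, mul_one, ← Matrix.mulVec_mulVec]
      rw [show Matrix.diagonal σ *ᵥ Pi.single k 1 = σ k • Pi.single k 1 from funext fun i => by
        by_cases hik : i = k <;> simp [Matrix.mulVec_diagonal, Pi.single_apply, hik], Matrix.mulVec_smul, hQs]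
    have hRiso : ∀ u v, f₂ (R.val *ᵥ u) (R.val *ᵥ v) = f₂ u v := by
      have hext : (MaxCl.toBil hf₂.bilinear).compl₁₂ (Matrix.toLin' R.val) (Matrix.toLin' R.val) =
          MaxCl.toBil hf₂.bilinear := by
        refine γ.ext fun k => γ.ext fun k' => ?_
        rw [LinearMap.compl₁₂_apply, Matrix.toLin'_apply, Matrix.toLin'_apply, hR, hR, map_smul, map_smul,
          LinearMap.smul_apply, MaxCl.toBil_apply, smul_smul]
        by_cases hkk : k = k'
        · subst hkk; rw [hσ, one_smul]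
        · rw [hγ k k' hkk, smul_zero]
      intro u v
      have := LinearMap.congr_fun₂ hext u v
      simpa [LinearMap.compl₁₂_apply, Matrix.toLin'_apply, MaxCl.toBil_apply] using this
    obtain ⟨y, hy, hyH, hyv⟩ := member 1 R (fun u v => by rw [Units.val_one, Matrix.one_mulVec, Matrix.one_mulVec]) hRiso
    have hRR : R.val * R.val = 1 := by
      show Q * Matrix.diagonal σ * (Qu⁻¹).val * (Q * Matrix.diagonal σ * (Qu⁻¹).val) = 1
      rw [show Q * Matrix.diagonal σ * (Qu⁻¹).val * (Q * Matrix.diagonal σ * (Qu⁻¹).val) =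
        Q * Matrix.diagonal σ * ((Qu⁻¹).val * Q) * (Matrix.diagonal σ * (Qu⁻¹).val) by simp only [mul_assoc],
        show (Qu⁻¹).val * Q = 1 from Qu.inv_mul, mul_one, mul_assoc, ← mul_assoc (Matrix.diagonal σ), hD, one_mul]
      exact Qu.mul_inv
    refine conj y hy hyH hx4 ?_ ?_
    · rw [hyv, ← map_pow, show ((1 : GL (Fin 2) F).val ⊗ₖ R.val) ^ 4 = 1 from ?_, map_one]
      rw [show (4 : ℕ) = 2 + 2 from rfl, pow_add, sq, ← Matrix.mul_kronecker_mul, hRR, Units.val_one, mul_one,
        Matrix.one_kronecker_one, mul_one]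
    · have hxc : x.val.charpoly = (X - C (-1 : F)) ^ m * (X - C 1) ^ l := by
        rw [← Matrix.charpoly_toLin' x.val, ← LinearMap.charpoly_toMatrix _ β,
          show LinearMap.toMatrix β β (Matrix.toLin' x.val) = Matrix.diagonal (Sum.elim (fun _ => (-1 : F)) fun _ => 1)
            from Matrix.ext fun i j => by
          rw [LinearMap.toMatrix_apply, Matrix.toLin'_apply, hxv, map_smul, Finsupp.smul_apply, Basis.repr_self,
            Matrix.diagonal_apply, Finsupp.single_apply]
          by_cases hij : i = j <;> simp [hij, eq_comm (a := j)],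
          Matrix.charpoly_diagonal, Fintype.prod_sum_type]
        simp
      have hyc : y.val.charpoly = ((X - C (-1 : F)) ^ t * (X - C 1) ^ (b - t)) ^ 2 := by
        let U : GL (Fin 2 × Fin b) F := ⟨(1 : Matrix (Fin 2) (Fin 2) F) ⊗ₖ Q, (1 : Matrix (Fin 2) (Fin 2) F) ⊗ₖ (Qu⁻¹).val,
          by rw [← Matrix.mul_kronecker_mul, one_mul, show Q * (Qu⁻¹).val = 1 from Qu.mul_inv, Matrix.one_kronecker_one],
          by rw [← Matrix.mul_kronecker_mul, one_mul, show (Qu⁻¹).val * Q = 1 from Qu.inv_mul, Matrix.one_kronecker_one]⟩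
        have hUR : (1 : GL (Fin 2) F).val ⊗ₖ R.val =
            U.val * ((Matrix.diagonal fun _ : Fin 2 => (1 : F)) ⊗ₖ Matrix.diagonal σ) * U⁻¹.val := by
          show (1 : Matrix (Fin 2) (Fin 2) F) ⊗ₖ (Q * Matrix.diagonal σ * (Qu⁻¹).val) = _
          rw [Matrix.diagonal_one]
          show _ = ((1 : Matrix (Fin 2) (Fin 2) F) ⊗ₖ Q) * _ * ((1 : Matrix (Fin 2) (Fin 2) F) ⊗ₖ (Qu⁻¹).val)
          rw [← Matrix.mul_kronecker_mul, ← Matrix.mul_kronecker_mul, one_mul, one_mul]
        rw [hyv, charpoly_coord, hUR, Matrix.coe_units_inv, Matrix.charpoly_units_conj,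
          Matrix.diagonal_kronecker_diagonal, Matrix.charpoly_diagonal, Fintype.prod_prod_type]
        simp only [one_mul]
        rw [Finset.prod_const, Finset.card_univ, Fintype.card_fin]
        congr 1
        rw [← π.prod_comp, Fintype.prod_sum_type]
        simp [σ]
      rw [hxc, hyc, mul_pow, ← pow_mul, ← pow_mul, show t * 2 = m by omega, show (b - t) * 2 = l by omega]
  · -- square `-1`
    rw [neg_smul, one_smul] at hx2
    let A : GL (Fin 2) F := ⟨!![0, -1; 1, 0], !![0, 1; -1, 0],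
      by ext i j; fin_cases i <;> fin_cases j <;> simp,
      by ext i j; fin_cases i <;> fin_cases j <;> simp⟩
    have hAiso : ∀ u v, f₁ (A.val *ᵥ u) (A.val *ᵥ v) = f₁ u v := by
      intro u v
      have hexp : ∀ u v : Fin 2 → F, f₁ u v = (u 0 * v 1 - u 1 * v 0) * f₁ (Pi.single 0 1) (Pi.single 1 1) := by
        intro u v
        rw [Aschbacher.SpExplicit.bilinear_eq_gram hf₁.bilinear u v]
        simp only [Fin.sum_univ_two, Geo.gramMatrix, hf₁.alternating,
          hf₁.skew (Pi.single 1 1) (Pi.single 0 1)]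
        ring
      rw [hexp, hexp u v]
      congr 1
      simp [A, Matrix.vecHead, Matrix.vecTail]
      ring
    obtain ⟨y, hy, hyH, hyv⟩ := member A 1 hAiso (fun u v => by rw [Units.val_one, Matrix.one_mulVec, Matrix.one_mulVec])
    have hy2 : y.val * y.val = -1 := by
      rw [hyv, ← map_mul, ← Matrix.mul_kronecker_mul, Units.val_one, mul_one,
        show A.val * A.val = (-1 : F) • (1 : Matrix (Fin 2) (Fin 2) F) by
          ext i j; fin_cases i <;> fin_cases j <;> simp [A],
        Matrix.smul_kronecker, Matrix.one_kronecker_one, map_smul, map_one, neg_smul, one_smul]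
    refine conj y hy hyH hx4 ?_ ?_
    · rw [show (4 : ℕ) = 2 + 2 from rfl, pow_add, sq, hy2, neg_mul_neg, one_mul]
    · rw [charpoly_of_sq_neg h2 x.val hx hx2, charpoly_of_sq_neg h2 y.val hy hy2]

/-- Elements of prime order of PSp_n(q), q odd, and the stabilizers of tensor decompositions Sp_a(q) ⊗ O_b(q). Here `T = PSp_{2d}(F)` for a field `F` with `q` elements, `q` odd, `d ≥ 2`, realised through the matrices preserving the standard alternating form `f`; `2d = a·b` with `a` even, `b ≥ 3`, and the bijection `e` and change of basis `P` exhibit `f` as a non-zero scalar multiple of the tensor product of a non-degenerate alternating form `f₁` on `F^a` and a non-degenerate symmetric bilinear form `f₂` on `F^b`; `H` is the subgroup of `T` stabilizing this tensor decomposition (the elements of `T` in the conjugate by `P` of the group of Kronecker products) — a subgroup of type Sp_a(q) ⊗ O^ε_b(q) (maximality is not assumed). Ω is the set of cosets of `H` in `T`, so an element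 of `T` of prime order `r` (`x ∈ T` with `x^r` scalar, `x` not scalar) fixes a point of Ω exactly when some `T`-conjugate of `x` lies in `H`. Let `r` be a prime dividing the index of `H`. Then every element of `T` of order `r` fixes a point of Ω if and only if `r = 2` and `a = 2`. -/
theorem result {F : Type*} [Field F] [Fintype F] {p : ℕ} [Fact p.Prime] [CharP F p] {q : ℕ} (hq : Fintype.card F = q)
    (hodd : Odd q) (d : ℕ) (hd : 2 ≤ d) (a b : ℕ) (hab : 2 * d = a * b) (ha : Even a) (ha2 : 2 ≤ a) (hb : 3 ≤ b)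
    (e : (Fin d ⊕ Fin d) ≃ Fin a × Fin b) (P : GL (Fin d ⊕ Fin d) F)
    (f₁ : (Fin a → F) → (Fin a → F) → F) (f₂ : (Fin b → F) → (Fin b → F) → F)
    (hf₁ : Cfsg.Geo.IsSymplecticForm f₁) (hf₂ : Cfsg.Geo.IsSymmetricForm f₂)
    (hS : Cfsg.Geo.IsTensorFormStructure id (Cfsg.sympForm d F) f₁ f₂ e P)
    (r : ℕ) [Fact r.Prime]
    (hΩ : r ∣ (Cfsg.Geo.tensorProductSubgroup a b e P).relIndex (Cfsg.spGL d F)) :
    (∀ x ∈ Cfsg.spGL d F, (∃ z : F, ((x ^ r : GL (Fin d ⊕ Fin d) F) : Matrix (Fin d ⊕ Fin d) (Fin d ⊕ Fin d) F) = z • (1 : Matrix (Fin d ⊕ Fin d) (Fin d ⊕ Fin d) F)) →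
      (∀ z : F, (x : Matrix (Fin d ⊕ Fin d) (Fin d ⊕ Fin d) F) ≠ z • (1 : Matrix (Fin d ⊕ Fin d) (Fin d ⊕ Fin d) F)) →
      ∃ g ∈ Cfsg.spGL d F, g⁻¹ * x * g ∈ Cfsg.Geo.tensorProductSubgroup a b e P) ↔ (r = 2 ∧ a = 2) := by
  classical
  subst hq
  have hr := (Fact.out : r.Prime)
  have h2 : (2 : F) ≠ 0 := by
    intro h
    haveI := ringChar.charP F
    have hch : ringChar F = 2 := by
      have h' : ((2 : ℕ) : F) = 0 := by exact_mod_cast h
      exact (Nat.prime_dvd_prime_iff_eq (CharP.char_is_prime F (ringChar F)) Nat.prime_two).1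
        ((CharP.cast_eq_zero_iff F (ringChar F) 2).1 h')
    have := FiniteField.even_card_of_char_two hch
    rw [Nat.odd_iff] at hodd
    omega
  constructor
  · intro H
    by_contra hrhs
    have use : ∀ (x : GL (Fin d ⊕ Fin d) F), x ∈ spGL d F → x ^ r = 1 →
        (∀ z : F, x.val ≠ z • (1 : Matrix (Fin d ⊕ Fin d) (Fin d ⊕ Fin d) F)) →
        ∃ g ∈ spGL d F, g⁻¹ * x * g ∈ Geo.tensorProductSubgroup a b e P := fun x hx hxr hns =>
      H x hx ⟨1, by rw [hxr, Units.val_one, one_smul]⟩ hns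
    by_cases hrp : r = p
    · subst hrp
      obtain ⟨x, hx, hxr, hrk⟩ := exists_transvection (F := F) (d := d) (by omega) r
      obtain ⟨g, -, hm⟩ := use x hx hxr (nonscalar_of_rank hrk one_pos hxr hx (Or.inl (by omega)))
      exact small_not_fixed ha ha2 hb hrk one_pos one_le_two (Or.inl rfl) hm
    by_cases hr2 : r = 2
    · subst hr2
      obtain ⟨x, hx, hxr, hrk⟩ := exists_involution (F := F) hd h2
      obtain ⟨g, -, hm⟩ := use x hx hxr (nonscalar_of_rank hrk two_pos hxr hx (Or.inl (by omega)))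
      exact small_not_fixed ha ha2 hb hrk two_pos le_rfl (Or.inr fun h => hrhs ⟨rfl, h⟩) hm
    have hr0 : (r : F) ≠ 0 := by
      rw [Ne, CharP.cast_eq_zero_iff F p, Nat.prime_dvd_prime_iff_eq Fact.out hr]
      exact Ne.symm hrp
    obtain ⟨hi, x, hx, hxr, hrk⟩ := exists_odd_witness (d := d) hr0 hr2
      (hΩ.trans (Subgroup.relIndex_dvd_card _ _))
    have hc0 : 0 < Elusive.SympDecomp.blockDim (Fintype.card F) r := by
      unfold Elusive.SympDecomp.blockDim
      split <;> omega
    obtain ⟨g, hg, hm⟩ := use x hx hxr (nonscalar_of_rank hrk hc0 hxr hx (Or.inr (hr.odd_of_ne_two hr2)))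
    exact odd_not_fixed hf₁ hf₂ hS hr0 hr2 ha ha2 hb hx hxr hg hrk hi hm
  · rintro ⟨rfl, rfl⟩ x hx ⟨z, hz⟩ -
    exact two_fixed hf₁ hf₂ hS h2 (by omega) x hx hz

end Cfsg.Agent.S5980
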