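import Cfsg.Statements.S5982
import Cfsg.Agent.Lib.Elusive.FormWitness
import Cfsg.Agent.Lib.Forms.Classify
import Cfsg.Agent.S5981

set_option autoImplicit false
set_option linter.unusedSectionVars false
set_option linter.style.haveILetI false
open scoped MatrixGroups Matrix
open Cfsg

namespace Cfsg.Agent.S5982

open Module

variable {F : Type*} [Field F] [Fintype F] {q₀ : ℕ} {n : ℕ} {f : (Fin n → F) → (Fin n → F) → F}

theorem add_right (hF : Fintype.card F = q₀ ^ 2) (hf : Geo.IsUnitaryFormPow q₀ f) (v x y : Fin n → F) :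
    f v (x + y) = f v x + f v y := by
  rw [hf.herm, hf.add_left, hf.herm v x, hf.herm v y]
  exact map_add (Forms.qEnd hF) _ _

theorem smul_right (hf : Geo.IsUnitaryFormPow q₀ f) (a : F) (v x : Fin n → F) :
    f v (a • x) = a ^ q₀ * f v x := by
  rw [hf.herm, hf.smul_left, hf.herm v x, mul_pow]

theorem sim_isSimMat (hF : Fintype.card F = q₀ ^ 2) (hf : Geo.IsUnitaryFormPow q₀ f) :
    ∀ y ∈ Geo.similarityGroup f, Elusive.IsSimMat (Forms.qEnd hF) (y : Matrix (Fin n) (Fin n) F) := by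
  rintro y ⟨c, hc⟩
  exact Elusive.isSimMat_of_form _ f hf.add_left hf.smul_left (add_right hF hf)
    (fun a v x => smul_right hf a v x) (fun v hv => (hf.nondegenerate v hv).2) _ c.ne_zero hc

/-- Hermitian coordinates. -/
theorem exists_coords (hF : Fintype.card F = q₀ ^ 2) {V : Type*} [AddCommGroup V] [Module F V]
    [FiniteDimensional F V] (hn : finrank F V = n) (g : V → V → F)
    (hal : ∀ x y v, g (x + y) v = g x v + g y v) (hsl : ∀ (a : F) x v, g (a • x) v = a * g x v)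
    (hh : ∀ v w, g v w = g w v ^ q₀) (hnd : ∀ v, v ≠ 0 → ∃ x, g x v ≠ 0) :
    ∃ e : V ≃ₗ[F] (Fin n → F), ∀ u v, g u v = hermForm n F q₀ (e u) (e v) := by
  let B : V →ₛₗ[Forms.qEnd hF] V →ₗ[F] F :=
    LinearMap.mk₂'ₛₗ (Forms.qEnd hF) (RingHom.id F) (fun x y => g y x)
      (fun x x' y => by
        show g y (x + x') = g y x + g y x'
        rw [hh, hal, hh y x, hh y x']
        exact map_add (Forms.qEnd hF) _ _)
      (fun k x y => by
        show g y (k • x) = Forms.qEnd hF k * g y x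
        rw [hh, hsl, hh y x]
        exact map_mul (Forms.qEnd hF) _ _)
      (fun x y y' => hal y y' x) (fun k x y => hsl k y x)
  obtain ⟨ec, hec⟩ := Forms.exists_herm_coords hF (B := B) (fun x y => (hh x y).symm) (fun x hx => by
    by_contra hx0
    obtain ⟨y, hy⟩ := hnd x hx0
    exact hy (hx y))
  refine ⟨ec.trans (LinearEquiv.funCongrLeft F F (finCongr hn.symm)), fun u v => ?_⟩
  show B v u = _
  rw [hec]
  exact ((finCongr hn.symm).sum_comp fun i => ec u i * ec v i ^ q₀).symm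

theorem exists_gl_mem (x : Matrix.SpecialLinearGroup (Fin n) F) (φ : (Fin n → F) ≃ₗ[F] (Fin n → F)) {l : F}
    (hl : l ≠ 0) (h : ∀ u v, f (φ (Elusive.endOf x u)) (φ (Elusive.endOf x v)) = l * f (φ u) (φ v)) :
    ∃ P : GL (Fin n) F, P⁻¹ * Matrix.SpecialLinearGroup.toGL x * P ∈ Geo.similarityGroup f := by
  let P : GL (Fin n) F := ⟨LinearMap.toMatrix' φ.symm.toLinearMap, LinearMap.toMatrix' φ.toLinearMap,
    by rw [← LinearMap.toMatrix'_comp, LinearEquiv.symm_comp, LinearMap.toMatrix'_id],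
    by rw [← LinearMap.toMatrix'_comp, LinearEquiv.comp_symm, LinearMap.toMatrix'_id]⟩
  refine ⟨P, Units.mk0 l hl, fun u v => ?_⟩
  have e1 : ∀ v, ((P⁻¹ * Matrix.SpecialLinearGroup.toGL x * P : GL (Fin n) F) : Matrix (Fin n) (Fin n) F) *ᵥ v =
      φ (Elusive.endOf x (φ.symm v)) := by
    intro v
    show (LinearMap.toMatrix' φ.toLinearMap * x.1 * LinearMap.toMatrix' φ.symm.toLinearMap) *ᵥ v = _
    rw [← Matrix.mulVec_mulVec, ← Matrix.mulVec_mulVec]
    simp [← Matrix.toLin'_apply, Matrix.toLin'_toMatrix']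
  rw [e1, e1, h, φ.apply_symm_apply, φ.apply_symm_apply, Units.val_mk0]

/-- A monomial map is a similitude of the hermitian form pairing each basis vector with its partner. -/
theorem fixed_of_monomial (hF : Fintype.card F = q₀ ^ 2) (hf : Geo.IsUnitaryFormPow q₀ f)
    (x : Matrix.SpecialLinearGroup (Fin n) F) {ι : Type*} [Fintype ι] [DecidableEq ι]
    (b : Basis ι F (Fin n → F)) (π ρ : Equiv.Perm ι) (hπ : ∀ i, π (π i) = i) (hπρ : ∀ i, π (ρ i) = ρ (π i))
    (s : ι → F) {l : F} (hl : l ≠ 0) (hs : ∀ i, s i * s (π i) ^ q₀ = l)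
    (hx : ∀ i, Elusive.endOf x (b i) = s i • b (ρ i)) :
    ∃ P : GL (Fin n) F, P⁻¹ * Matrix.SpecialLinearGroup.toGL x * P ∈ Geo.similarityGroup f := by
  classical
  let g : (ι → F) → (ι → F) → F := fun u v => ∑ i, u i * v (π i) ^ q₀
  have hcard : finrank F (ι → F) = n := by
    rw [Module.finrank_fintype_fun_eq_card, ← Module.finrank_eq_card_basis b, Module.finrank_fin_fun]
  have hq0 : q₀ ≠ 0 := by have := Forms.one_lt_q hF; omega
  obtain ⟨e', he'⟩ := exists_coords hF hcard g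
    (fun u u' v => by simp [g, add_mul, Finset.sum_add_distrib])
    (fun a u v => by simp [g, Finset.mul_sum, mul_assoc])
    (fun v w => by
      show (∑ i, v i * w (π i) ^ q₀) = Forms.qEnd hF (∑ i, w i * v (π i) ^ q₀)
      rw [map_sum, ← Equiv.sum_comp π]
      refine Finset.sum_congr rfl fun i _ => ?_
      rw [map_mul, hπ]
      simp only [Forms.qEnd_apply, Forms.pow_q_q hF]
      ring)
    (fun v hv => by
      obtain ⟨j, hj⟩ := Function.ne_iff.1 hv
      refine ⟨Pi.single (π j) 1, ?_⟩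
      show (∑ i, (Pi.single (π j) 1 : ι → F) i * v (π i) ^ q₀) ≠ 0
      rw [Finset.sum_eq_single (π j) (fun i _ hi => by simp [hi]) (fun h => absurd (Finset.mem_univ _) h),
        Pi.single_eq_same, one_mul, hπ]
      exact pow_ne_zero _ hj)
  obtain ⟨e, he⟩ := exists_coords hF (V := Fin n → F) (Module.finrank_fin_fun F) f hf.add_left hf.smul_left
    hf.herm (fun v hv => (hf.nondegenerate v hv).1)
  refine exists_gl_mem x ((b.equivFun.trans e').trans e.symm) hl fun u v => ?_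
  simp only [LinearEquiv.trans_apply]
  rw [he, he, e.apply_symm_apply, e.apply_symm_apply, e.apply_symm_apply, e.apply_symm_apply, ← he', ← he']
  have hcoord : ∀ v i, b.equivFun (Elusive.endOf x v) (ρ i) = s i * b.equivFun v i := by
    intro v i
    conv_lhs => rw [← b.sum_repr v]
    simp only [map_sum, map_smul, hx, Basis.equivFun_apply, smul_smul]
    simp [Finsupp.single_apply, mul_comm]
  show (∑ i, _ * _) = _ * ∑ i, _ * _
  rw [← Equiv.sum_comp ρ, Finset.mul_sum]
  refine Finset.sum_congr rfl fun i _ => ?_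
  rw [hπρ, hcoord, hcoord, mul_pow, ← hs i]
  ring

/-- Elements squaring to a square. -/
theorem two_fixed (hF : Fintype.card F = q₀ ^ 2) (hn : 0 < n) (hf : Geo.IsUnitaryFormPow q₀ f)
    (x : Matrix.SpecialLinearGroup (Fin n) F) {w : F}
    (hz : ((x ^ 2 : Matrix.SpecialLinearGroup (Fin n) F) : Matrix (Fin n) (Fin n) F) =
      (w * w) • (1 : Matrix (Fin n) (Fin n) F)) :
    ∃ P : Matrix.SpecialLinearGroup (Fin n) F,
      P⁻¹ * x * P ∈ (Geo.similarityGroup f).comap Matrix.SpecialLinearGroup.toGL := by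
  classical
  have hw : w ≠ 0 := left_ne_zero_of_mul (Elusive.ne_zero_of_sq hn x hz)
  have hfx := Elusive.endOf_mul_self x hz
  suffices h : ∃ P : GL (Fin n) F, P⁻¹ * Matrix.SpecialLinearGroup.toGL x * P ∈ Geo.similarityGroup f by
    obtain ⟨P, hP⟩ := h
    exact Elusive.exists_sl_conj _ x (Elusive.detSurj_of_sq hn x hz) P hP
  have hl : w * w ^ q₀ ≠ 0 := mul_ne_zero hw (pow_ne_zero _ hw)
  by_cases h2 : (2 : F) = 0
  · obtain ⟨k, l, b, e0, e1, e2⟩ := Elusive.exists_unipotent_basis h2 hfx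
    let u : (Fin 2 × Fin k) ⊕ Fin l → Fˣ := Sum.elim
      (fun p => if p.1 = 0 then 1 else (Units.mk0 w hw)⁻¹) fun _ => 1
    let ρ : Equiv.Perm ((Fin 2 × Fin k) ⊕ Fin l) :=
      Equiv.sumCongr (Equiv.prodCongr (Equiv.swap 0 1) (Equiv.refl _)) (Equiv.refl _)
    refine fixed_of_monomial hF hf x (b.unitsSMul u) (Equiv.refl _) ρ (fun _ => rfl) (fun _ => rfl)
      (fun _ => w) hl (fun _ => rfl) fun j => ?_
    generalize Elusive.endOf x = g at e0 e1 e2 ⊢
    rcases j with ⟨a, i⟩ | i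
    · fin_cases a
      · simp [u, ρ, Basis.unitsSMul_apply, Units.smul_def, e0, smul_smul, hw]
      · simp [u, ρ, Basis.unitsSMul_apply, Units.smul_def, e1, smul_smul, hw]
    · simp [u, ρ, Basis.unitsSMul_apply, e2]
  · obtain ⟨m, l, b, e0, e1⟩ := Elusive.exists_eigen_basis h2 hw hfx
    refine fixed_of_monomial hF hf x b (Equiv.refl _) (Equiv.refl _) (fun _ => rfl) (fun _ => rfl)
      (Sum.elim (fun _ => -w) fun _ => w) hl (fun i => ?_) fun i => ?_
    · rcases i with i | i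
      · show -w * (-w) ^ q₀ = w * w ^ q₀
        rw [← Forms.qEnd_apply hF (-w), map_neg, Forms.qEnd_apply]
        ring
      · rfl
    · rcases i with i | i <;> simp [e0, e1]

/-- A similitude squaring to a scalar has a square as that scalar. -/
theorem square_of_fixed (hF : Fintype.card F = q₀ ^ 2) (hodd : Odd q₀) (hn : 0 < n)
    (hf : Geo.IsUnitaryFormPow q₀ f) (x P : Matrix.SpecialLinearGroup (Fin n) F) {z : F}
    (hz : ((x ^ 2 : Matrix.SpecialLinearGroup (Fin n) F) : Matrix (Fin n) (Fin n) F) =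
      z • (1 : Matrix (Fin n) (Fin n) F))
    (hP : P⁻¹ * x * P ∈ (Geo.similarityGroup f).comap Matrix.SpecialLinearGroup.toGL) : IsSquare z := by
  obtain ⟨c, hc⟩ := hP
  set y := P⁻¹ * x * P with hy0
  haveI := Fin.pos_iff_nonempty.1 hn
  have hy2 : y.1 * y.1 = z • (1 : Matrix (Fin n) (Fin n) F) := by
    have h1 : y * y = P⁻¹ * x ^ 2 * P := by rw [hy0, pow_two]; group
    have h3 : y.1 * y.1 = (P⁻¹).1 * (x ^ 2).1 * P.1 := congrArg Subtype.val h1
    have h5 : (P⁻¹).1 * P.1 = 1 := congrArg Subtype.val (inv_mul_cancel P)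
    rw [h3, hz, Matrix.mul_smul, Matrix.smul_mul, mul_one, h5]
  obtain ⟨v₀, hv₀⟩ := exists_ne (0 : Fin n → F)
  obtain ⟨v₁, hv⟩ := (hf.nondegenerate v₀ hv₀).2
  have hv' : f v₁ v₀ ≠ 0 := by
    intro h0
    apply hv
    rw [hf.herm, h0, zero_pow hodd.pos.ne']
  have hc0 : ∀ u v, f (y.1 *ᵥ u) (y.1 *ᵥ v) = (c : F) * f u v := hc
  have hcq : (c : F) ^ q₀ = c := by
    have h1 := hc0 v₀ v₁
    rw [hf.herm, hc0, mul_pow, ← hf.herm] at h1
    exact mul_right_cancel₀ hv h1
  have h2 : z * z ^ q₀ = (c : F) * c := by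
    have h1 := hc0 (y.1 *ᵥ v₀) (y.1 *ᵥ v₁)
    rw [hc0 v₀ v₁, Matrix.mulVec_mulVec, Matrix.mulVec_mulVec, hy2, Matrix.smul_mulVec, Matrix.smul_mulVec,
      Matrix.one_mulVec, Matrix.one_mulVec, hf.smul_left, smul_right hf] at h1
    exact mul_right_cancel₀ hv (by linear_combination h1)
  have hz0 := Elusive.ne_zero_of_sq hn x hz
  have h2F : ringChar F ≠ 2 := fun h => by
    have := FiniteField.even_card_of_char_two h
    rw [hF] at this
    exact Nat.not_even_iff_odd.2 hodd.pow (Nat.even_iff.2 this)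
  rw [FiniteField.isSquare_iff h2F hz0, hF]
  obtain ⟨k, rfl⟩ := hodd
  rw [show (2 * k + 1) ^ 2 / 2 = (2 * k + 1 + 1) * k by
    rw [show (2 * k + 1) ^ 2 = 2 * ((2 * k + 1 + 1) * k) + 1 by ring]; omega, pow_mul,
    show z ^ (2 * k + 1 + 1) = (c : F) * c by rw [pow_succ', h2], ← pow_two, ← pow_mul]
  have h3 : (c : F) ^ (2 * k) * c = 1 * c := by rw [one_mul, ← pow_succ, hcq]
  exact mul_right_cancel₀ c.ne_zero h3

variable {r : ℕ} [Fact r.Prime]

/-- In dimension `r ∈ {3, 5}` with `(q₀ - 1)_r = r`. -/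
theorem exceptional_fixed (hF : Fintype.card F = q₀ ^ 2) (h35 : r = 3 ∨ r = 5) (hnr : n = r)
    (hv : padicValNat r (q₀ - 1) = 1) (hf : Geo.IsUnitaryFormPow q₀ f)
    (x : Matrix.SpecialLinearGroup (Fin n) F) {c : F}
    (hc : ((x ^ r : Matrix.SpecialLinearGroup (Fin n) F) : Matrix (Fin n) (Fin n) F) =
      c • (1 : Matrix (Fin n) (Fin n) F)) :
    ∃ P : Matrix.SpecialLinearGroup (Fin n) F,
      P⁻¹ * x * P ∈ (Geo.similarityGroup f).comap Matrix.SpecialLinearGroup.toGL := by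
  classical
  subst hnr
  have hr := (Fact.out : n.Prime)
  haveI : Nonempty (Fin n) := ⟨⟨0, hr.pos⟩⟩
  haveI : NeZero n := ⟨hr.ne_zero⟩
  have hq1 := Forms.one_lt_q hF
  have hr0' : n ∣ q₀ - 1 := dvd_of_one_le_padicValNat (by omega)
  have hq : Fintype.card F - 1 = (q₀ + 1) * (q₀ - 1) := by rw [hF, ← Nat.sq_sub_sq, one_pow]
  have hr1 : n ∣ Fintype.card F - 1 := hq ▸ hr0'.mul_left _
  have hQ0 : Fintype.card F - 1 ≠ 0 := by have := Fintype.one_lt_card (α := F); omega
  have hv' : padicValNat n (Fintype.card F - 1) = 1 := by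
    rw [hq, padicValNat.mul (by omega) (by omega), hv, padicValNat.eq_zero_of_not_dvd fun h => ?_]
    have h2 := Nat.dvd_sub h hr0'
    rw [show q₀ + 1 - (q₀ - 1) = 2 by omega, Nat.prime_dvd_prime_iff_eq hr Nat.prime_two] at h2
    omega
  have hfx : Elusive.endOf x ^ n = c • 1 := (Elusive.endOf_pow_iff x n c).2 hc
  have hdet : LinearMap.det (Elusive.endOf x) = 1 := Elusive.det_endOf x
  have hc0 : c ≠ 0 := by
    intro h0
    have h1 := congrArg LinearMap.det hfx
    rw [map_pow, hdet, one_pow, h0, zero_smul, LinearMap.det_zero, Module.finrank_fin_fun,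
      zero_pow hr.ne_zero] at h1
    exact one_ne_zero h1
  obtain ⟨b₀, hb₀⟩ : ∃ b : F, b ^ n = c := by
    by_contra hnp
    push Not at hnp
    obtain ⟨s, hs, hd⟩ := Elusive.det_of_single_factor c (X_pow_sub_C_irreducible_of_prime hr hnp)
      (Elusive.endOf x) hfx
    rw [Module.finrank_fin_fun] at hs
    have hs1 : s = 1 := Nat.eq_of_mul_eq_mul_left hr.pos (by rw [mul_one]; exact hs.symm)
    rw [hdet, hs1, pow_one, Elusive.det_value n hr, if_neg (by omega)] at hd
    exact hnp 1 (by rw [one_pow, hd])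
  have hb0 : b₀ ≠ 0 := fun h0 => hc0 (by rw [← hb₀, h0, zero_pow hr.ne_zero])
  set y : End F (Fin n → F) := b₀⁻¹ • Elusive.endOf x with hy
  have hyn : y ^ n = 1 := by
    rw [hy, _root_.smul_pow, hfx, smul_smul, inv_pow, hb₀, inv_mul_cancel₀ hc0, one_smul]
  obtain ⟨u, hu⟩ : ∃ u : Fˣ, orderOf u = n := exists_prime_orderOf_dvd_card' n (by
    rw [Nat.card_units, Nat.card_eq_fintype_card]; exact hr1)
  have hprim : IsPrimitiveRoot (u : F) n := IsPrimitiveRoot.coe_units_iff.2 (hu ▸ IsPrimitiveRoot.orderOf u)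
  obtain ⟨b, e, he⟩ := Elusive.exists_exponent_basis hprim y hyn
  have hx : ∀ i, Elusive.endOf x (b i) = (b₀ * (u : F) ^ (e i).val) • b i := fun i => by
    rw [← smul_smul, ← he i, hy, LinearMap.smul_apply, smul_inv_smul₀ hb0]
  have hdx : b₀ ^ n * (u : F) ^ ∑ i, (e i).val = 1 := by
    rw [← hdet, ← LinearMap.det_toMatrix b, show LinearMap.toMatrix b b (Elusive.endOf x) =
      Matrix.diagonal fun i => b₀ * (u : F) ^ (e i).val from Matrix.ext fun i j => by
        rw [LinearMap.toMatrix_apply, hx, map_smul, Finsupp.smul_apply, Basis.repr_self, Matrix.diagonal_apply,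
          Finsupp.single_apply]
        by_cases hij : i = j <;> simp [hij, eq_comm (a := j)],
      Matrix.det_diagonal, Finset.prod_mul_distrib, Finset.prod_const, Finset.card_univ, Fintype.card_fin,
      Finset.prod_pow_eq_pow_sum]
  have hsum : ∑ i, e i = 0 := by
    by_contra hne
    have hb1 : ¬ b₀ ^ n = 1 := by
      intro h1
      rw [h1, one_mul, hprim.pow_eq_one_iff_dvd, ← ZMod.natCast_eq_zero_iff, Nat.cast_sum] at hdx
      exact hne (by simpa using hdx)
    have h1 : (b₀ ^ n) ^ n = 1 := by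
      have h2 := congrArg (· ^ n) hdx
      simp only [mul_pow, one_pow] at h2
      rwa [← pow_mul (u : F), mul_comm (∑ i, (e i).val), pow_mul, hprim.pow_eq_one, one_pow, mul_one] at h2
    have hord : orderOf b₀ = n ^ 2 := orderOf_eq_prime_pow (n := 1) (by rwa [pow_one])
      (by rw [sq, pow_mul]; exact h1)
    have h2 := FiniteField.pow_card_sub_one_eq_one b₀ hb0
    rw [← orderOf_dvd_iff_pow_eq_one, hord, padicValNat_dvd_iff_le hQ0, hv'] at h2
    omega
  obtain ⟨M, π, hπ⟩ := S5981.exists_pattern h35 e hsum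
  let inv : Equiv.Perm (Unit ⊕ (Fin M ⊕ Fin M)) := Equiv.sumCongr (Equiv.refl _) (Equiv.sumComm _ _)
  set a := e (π (.inl ())) with ha
  have huq : ∀ k : ℕ, ((u : F) ^ k) ^ q₀ = (u : F) ^ k := by
    intro k
    obtain ⟨t, ht⟩ := hr0'
    rw [← pow_mul, show k * q₀ = k + n * (k * t) by
      rw [show q₀ = q₀ - 1 + 1 by omega, ht]; ring, pow_add, pow_mul _ n, hprim.pow_eq_one, one_pow, mul_one]
  obtain ⟨P, hP⟩ := fixed_of_monomial hF hf x (b.reindex π.symm) inv (Equiv.refl _)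
    (fun i => by rcases i with i | i | i <;> rfl) (fun _ => rfl) (fun i => b₀ * (u : F) ^ (e (π i)).val)
    (l := b₀ * b₀ ^ q₀ * ((u : F) ^ a.val * (u : F) ^ a.val)) (by simp [hb0]) (fun i => by
      rw [mul_pow, huq, mul_mul_mul_comm]
      congr 1
      rw [← pow_add, ← pow_add,
        (orderOf_pos_iff.1 (hprim.eq_orderOf ▸ hr.pos)).pow_eq_pow_iff_modEq, ← hprim.eq_orderOf,
        ← ZMod.natCast_eq_natCast_iff]
      push_cast
      simp only [ZMod.natCast_zmod_val]
      rcases i with ⟨⟩ | j | j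
      · rfl
      · show e (π (.inr (.inl j))) + e (π (.inr (.inr j))) = a + a
        linear_combination hπ j
      · show e (π (.inr (.inr j))) + e (π (.inr (.inl j))) = a + a
        linear_combination hπ j)
    (fun i => by simp [hx])
  exact Elusive.exists_sl_conj _ x
    (Elusive.detSurj_of_fixed b (Equiv.refl _) (fun i => b₀ * (u : F) ^ (e i).val) hx (i₀ := ⟨0, hr.pos⟩) rfl) P hP

/-- An odd power of `q₀` congruent to `-1` makes the index prime to `r`. -/
theorem not_dvd_index {p : ℕ} [Fact p.Prime] [CharP F p] (hr2 : r ≠ 2)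
    (hF : Fintype.card F = q₀ ^ 2) (hf : Geo.IsUnitaryFormPow q₀ f) (j : ℕ)
    (hj : (Fintype.card F : ZMod r) ^ j * (q₀ : ZMod r) = -1) :
    ¬ r ∣ (Geo.similarityGroup f).relIndex (Geo.specialLinear (Fin n) F) := by
  classical
  intro hΩ
  have hr := (Fact.out : r.Prime)
  haveI : Fact (2 < r) := ⟨by have := hr.two_le; omega⟩
  have hq1 := Forms.one_lt_q hF
  obtain ⟨e, he⟩ := exists_coords hF (V := Fin n → F) (Module.finrank_fin_fun F) f hf.add_left hf.smul_left
    hf.herm (fun v hv => (hf.nondegenerate v hv).1)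
  let E : GL (Fin n) F := ⟨LinearMap.toMatrix' e.toLinearMap, LinearMap.toMatrix' e.symm.toLinearMap,
    by rw [← LinearMap.toMatrix'_comp, LinearEquiv.comp_symm, LinearMap.toMatrix'_id],
    by rw [← LinearMap.toMatrix'_comp, LinearEquiv.symm_comp, LinearMap.toMatrix'_id]⟩
  have hN : Nat.card (GU n F q₀) ∣ Nat.card (Geo.similarityGroup f) := by
    refine Subgroup.card_dvd_of_injective
      (((MulAut.conj E⁻¹).toMonoidHom.comp (GU n F q₀).subtype).codRestrict (Geo.similarityGroup f)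
        fun g => ⟨1, fun u v => ?_⟩) fun a b hab => Subtype.ext ((MulAut.conj E⁻¹).injective (congrArg Subtype.val hab))
    have h1 : ∀ u, (((MulAut.conj E⁻¹) g.1 : GL (Fin n) F) : Matrix (Fin n) (Fin n) F) *ᵥ u =
        e.symm ((g.1 : Matrix (Fin n) (Fin n) F) *ᵥ e u) := by
      intro u
      rw [MulAut.conj_apply, inv_inv]
      show (LinearMap.toMatrix' e.symm.toLinearMap * g.1.val * LinearMap.toMatrix' e.toLinearMap) *ᵥ u = _
      rw [← Matrix.mulVec_mulVec, ← Matrix.mulVec_mulVec]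
      simp [← Matrix.toLin'_apply, Matrix.toLin'_toMatrix']
    show f ((((MulAut.conj E⁻¹) g.1 : GL (Fin n) F) : Matrix (Fin n) (Fin n) F) *ᵥ u)
      ((((MulAut.conj E⁻¹) g.1 : GL (Fin n) F) : Matrix (Fin n) (Fin n) F) *ᵥ v) = _
    rw [Units.val_one, one_mul, he, he u v, h1, h1, e.apply_symm_apply, e.apply_symm_apply]
    exact g.2 (e u) (e v)
  have h1 := Elusive.mul_card_dvd (Geo.similarityGroup f) hN hΩ
  rw [Forms.card_GU hF, Matrix.card_GL_field, Elusive.prod_frames _ le_rfl, hF] at h1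
  have hfp : Elusive.fallProd (q₀ ^ 2) n n =
      (∏ i ∈ Finset.range n, (if Even i then q₀ ^ (i + 1) + 1 else q₀ ^ (i + 1) - 1)) *
        ∏ i ∈ Finset.range n, (if Even i then q₀ ^ (i + 1) - 1 else q₀ ^ (i + 1) + 1) := by
    rw [Elusive.fallProd, ← Finset.prod_range_reflect, ← Finset.prod_mul_distrib]
    refine Finset.prod_congr rfl fun i hi => ?_
    have hi' := Finset.mem_range.1 hi
    rw [show n - (n - 1 - i) = i + 1 by omega, ← pow_mul, mul_comm 2, pow_mul]
    have := Nat.sq_sub_sq (q₀ ^ (i + 1)) 1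
    rw [one_pow] at this
    rw [this]
    split_ifs <;> ring
  have h2 : r ∣ (∏ i ∈ Finset.range n, (q₀ ^ 2) ^ i) *
      ∏ i ∈ Finset.range n, (if Even i then q₀ ^ (i + 1) - 1 else q₀ ^ (i + 1) + 1) := by
    rw [hfp] at h1
    refine Nat.dvd_of_mul_dvd_mul_right
      (k := ∏ i ∈ Finset.range n, (if Even i then q₀ ^ (i + 1) + 1 else q₀ ^ (i + 1) - 1)) ?_
      (dvd_trans (Dvd.intro (q₀ ^ (n * (n - 1) / 2)) ?_) (h1.trans (dvd_of_eq ?_)))
    · refine Finset.prod_pos fun i _ => ?_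
      split_ifs
      · omega
      · exact Nat.sub_pos_of_lt (Nat.one_lt_pow (by omega) hq1)
    · ring
    · ring
  set Q : ZMod r := (q₀ : ZMod r) with hQ
  have hjQ : Q ^ (2 * j + 1) = -1 := by
    rw [hF, Nat.cast_pow, ← pow_mul] at hj
    rwa [pow_succ]
  have hQ0 : Q ≠ 0 := fun h0 => by
    rw [h0, zero_pow (by omega)] at hjQ
    exact one_ne_zero (neg_eq_zero.1 hjQ.symm)
  rcases hr.dvd_mul.1 h2 with h | h
  · obtain ⟨i, -, hi⟩ := hr.prime.dvd_finsetProd_iff _ |>.1 h
    rw [← pow_mul] at hi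
    exact hQ0 ((ZMod.natCast_eq_zero_iff _ _).2 (hr.dvd_of_dvd_pow hi))
  · obtain ⟨i, -, hi⟩ := hr.prime.dvd_finsetProd_iff _ |>.1 h
    rw [← ZMod.natCast_eq_zero_iff] at hi
    have h3 : (-Q) ^ (i + 1) = -1 := by
      split_ifs at hi with hev
      · rw [Nat.cast_sub (Nat.one_le_pow _ _ (by omega)), Nat.cast_pow, Nat.cast_one, sub_eq_zero, ← hQ] at hi
        rw [(hev.add_one).neg_pow, hi]
      · rw [Nat.cast_add, Nat.cast_pow, Nat.cast_one, ← eq_neg_iff_add_eq_zero, ← hQ] at hi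
        rw [((Nat.not_even_iff_odd.1 hev).add_one).neg_pow, hi]
    have hone : (-Q) ^ (2 * j + 1) = 1 := by
      rw [Odd.neg_pow ⟨j, rfl⟩, hjQ, neg_neg]
    have h4 := congrArg (· ^ (2 * j + 1)) h3
    simp only [← pow_mul, Odd.neg_one_pow ⟨j, rfl⟩] at h4
    rw [mul_comm, pow_mul, hone, one_pow] at h4
    exact ZMod.neg_one_ne_one h4.symm

/-- Elements of prime order of PSL_n(q), q = q₀², and the subgroups of unitary type. Here `T = PSL_n(F)` for a field `F` with `q = q₀²` elements (`n ≥ 3`), `f` is a non-degenerate unitary form on `F^n` for the involutory automorphism `x ↦ x^{q₀}`, and `H` is the subgroup of matrices of determinant 1 that preserve `f` up to a scalar — a subgroup of type GU_n(q₀) (maximality is not assumed); Ω is the set of cosets of `H` in `T`, so an element of `T` of prime order `r` (a matrix `x` of determinant 1 with `x^r` scalar, `x` not scalar) fixes a point of Ω exactly when some conjugate of `x` by a matrix of determinant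 1 preserves `f` up to a scalar. Let `r` be a prime dividing the index of `H`, with `r = 2` or `r` different from the characteristic `p`, and with `(n, r) ≠ (6, 3)`. Then every element of `T` of order `r` fixes a point of Ω if and only if either `r = 2` and (`p = 2` or `(n)_2 ≤ (q − 1)_2`), or `r ∈ {3, 5}`, `n = r` and `(q₀ − 1)_r = r`. (Odd `r = p` and the case `(n, r) = (6, 3)` are not covered by this statement.) -/
theorem result {F : Type*} [Field F] [Fintype F] {p : ℕ} [Fact p.Prime] [CharP F p] {q : ℕ} (hq : Fintype.card F = q)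
    (q₀ : ℕ) (hq₀ : q = q₀ ^ 2) (n : ℕ) (hn : 3 ≤ n) (f : (Fin n → F) → (Fin n → F) → F) (hf : Cfsg.Geo.IsUnitaryFormPow q₀ f)
    (r : ℕ) [Fact r.Prime] (hr : r = 2 ∨ r ≠ p) (hgap : ¬ (n = 6 ∧ r = 3))
    (hΩ : r ∣ (Cfsg.Geo.similarityGroup f).relIndex (Cfsg.Geo.specialLinear (Fin n) F)) :
    (∀ x ∈ Cfsg.Geo.specialLinear (Fin n) F, (∃ z : F, ((x ^ r : GL (Fin n) F) : Matrix (Fin n) (Fin n) F) = z • (1 : Matrix (Fin n) (Fin n) F)) →
      (∀ z : F, (x : Matrix (Fin n) (Fin n) F) ≠ z • (1 : Matrix (Fin n) (Fin n) F)) →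
      ∃ g ∈ Cfsg.Geo.specialLinear (Fin n) F, g⁻¹ * x * g ∈ Cfsg.Geo.similarityGroup f) ↔
    ((r = 2 ∧ (p = 2 ∨ padicValNat 2 n ≤ padicValNat 2 (q - 1))) ∨ ((r = 3 ∨ r = 5) ∧ n = r ∧ padicValNat r (q₀ - 1) = 1)) := by
  classical
  subst hq
  rw [Elusive.fixes_iff]
  have hrP := (Fact.out : r.Prime)
  have hpP := (Fact.out : p.Prime)
  have hq1 := Forms.one_lt_q hq₀
  obtain ⟨k, hk, hq₀p⟩ : ∃ k, 0 < k ∧ q₀ = p ^ k := by
    obtain ⟨p', k, hp', hc', hk⟩ := Forms.exists_prime_pow_q hq₀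
    rw [CharP.eq F hc' ‹CharP F p›] at hk
    exact ⟨k, Nat.pos_of_ne_zero fun h => by rw [h, pow_zero] at hk; omega, hk⟩
  have hodd : p ≠ 2 → Odd q₀ := fun h => hq₀p ▸ (hpP.odd_of_ne_two h).pow
  constructor
  · intro H
    by_contra hrhs
    obtain ⟨h2, hexc⟩ := not_or.1 hrhs
    by_cases hr2 : r = 2
    · subst hr2
      rw [not_and] at h2
      obtain ⟨hp2, hv⟩ := not_or.1 (h2 rfl)
      obtain ⟨m, rfl⟩ : 2 ∣ n := by
        by_contra hnd
        rw [padicValNat.eq_zero_of_not_dvd hnd] at hv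
        omega
      have hr1 : 2 ∣ Fintype.card F - 1 := by
        obtain ⟨t, ht⟩ := hodd hp2
        rw [hq₀, ht, show (2 * t + 1) ^ 2 = 2 * (2 * t * t + 2 * t) + 1 by ring]
        omega
      obtain ⟨c, -, hc, hd⟩ := Elusive.exists_nonpower hr1 m (by omega) (fun h => hv h.1)
      obtain ⟨x, hx, hxs⟩ := Elusive.exists_swap_element (n := 2 * m) (m := m) rfl (by omega) (z := c)
        (by simpa using hd)
      obtain ⟨P, hP⟩ := H x ⟨c, hx⟩ hxs
      obtain ⟨w, hw⟩ := square_of_fixed hq₀ (hodd hp2) (by omega) hf x P hx hP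
      exact hc w (by rw [hw, pow_two])
    have hrp : r ≠ p := hr.resolve_left hr2
    obtain ⟨hi1, hin⟩ := Elusive.order_facts_of_dvd_card (F := F) (n := n) hrp
      ((dvd_mul_right r 1).trans (Elusive.mul_card_dvd (Geo.similarityGroup f) (one_dvd _) hΩ))
    have hcond : ∀ j : ℕ, (Fintype.card F : ZMod r) ^ j * (p : ZMod r) ^ k ≠ -1 := fun j hj =>
      not_dvd_index (p := p) hr2 hq₀ hf j (by rw [hq₀p, Nat.cast_pow]; exact hj) hΩ
    rcases Nat.eq_or_lt_of_le hi1 with h1 | h1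
    · have hd1 : r ∣ Fintype.card F - 1 := Elusive.dvd_card_sub_one h1.symm
      have hq : Fintype.card F - 1 = (q₀ + 1) * (q₀ - 1) := by rw [hq₀, ← Nat.sq_sub_sq, one_pow]
      have hnd : ¬ r ∣ q₀ + 1 := by
        intro h
        apply hcond 0
        rw [pow_zero, one_mul, ← Nat.cast_pow, ← hq₀p, ← add_eq_zero_iff_eq_neg, ← Nat.cast_one, ← Nat.cast_add,
          ZMod.natCast_eq_zero_iff]
        exact h
      have hd0 : r ∣ q₀ - 1 := ((hrP.dvd_mul.1 (hq ▸ hd1)).resolve_left hnd)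
      have hv : padicValNat r (Fintype.card F - 1) = padicValNat r (q₀ - 1) := by
        rw [hq, padicValNat.mul (by omega) (by omega), padicValNat.eq_zero_of_not_dvd hnd, zero_add]
      obtain ⟨x, hx1, hx2, hx3⟩ := Elusive.exists_diag_witness (F := F) hr2 hd1 hn hgap (by rwa [hv])
      refine Elusive.not_fixed_of_not_isSimMat (sim_isSimMat hq₀ hf) (hx3 _ fun u hu => ?_) (H x hx1 hx2)
      obtain ⟨t, ht⟩ := hd0
      rw [Forms.qEnd_apply, show q₀ = r * t + 1 by omega, pow_succ, pow_mul, hu, one_pow, one_mul]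
    · obtain ⟨x, hx1, hx2, hx3⟩ := Elusive.exists_orbit_witness (F := F) p hrp h1 hin k hcond
      exact Elusive.not_fixed_of_not_isSimMat (sim_isSimMat hq₀ hf)
        (hx3 _ fun a => by rw [Forms.qEnd_apply, hq₀p]) (H x hx1 hx2)
  · rintro (⟨rfl, hor⟩ | ⟨h35, hnr, hv⟩) x ⟨z, hz⟩ -
    · by_cases hsq : ∃ w : F, w * w = z
      · obtain ⟨w, rfl⟩ := hsq
        exact two_fixed hq₀ (by omega) hf x hz
      exfalso
      push Not at hsq
      have hp2 : p ≠ 2 := by
        rintro rfl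
        obtain ⟨w, hw⟩ := FiniteField.isSquare_of_char_two (ringChar.eq F 2) z
        exact hsq w hw.symm
      obtain ⟨m, b, e0, e1⟩ := Elusive.exists_swap_basis hsq (Elusive.endOf_mul_self x hz)
      have hnm : n = 2 * m := by simpa using Module.finrank_eq_card_basis b
      have hd : (-z) ^ m = 1 := by rw [← Elusive.det_swap b e0 e1, Elusive.det_endOf]
      obtain ⟨t, ht⟩ := hodd hp2
      refine Elusive.not_le_of_det (r := 2) (by
          rw [hq₀, ht, show (2 * t + 1) ^ 2 = 2 * (2 * t * t + 2 * t) + 1 by ring]; omega) z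
        (Elusive.ne_zero_of_sq (by omega) x hz) (fun b hb => hsq b (by rw [← hb, pow_two])) m (by omega)
        (by simpa using hd) ⟨hnm ▸ hor.resolve_left hp2, fun _ _ => ?_⟩
      rw [hq₀, ht, show (2 * t + 1) ^ 2 = 4 * (t * t + t) + 1 by ring]
      omega
    · exact exceptional_fixed hq₀ h35 hnr hv hf x hz

end Cfsg.Agent.S5982
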