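import Cfsg.Statements.S5983
import Cfsg.Agent.Lib.Forms.SympOrthCover

set_option autoImplicit false
open scoped MatrixGroups Matrix
open Cfsg

namespace Cfsg.Agent.S5983

/-- Elements of prime order of PSp_n(q), q even, and the subgroups of orthogonal type. Here `T = Sp_{2d}(F)` for a field `F` of characteristic 2 with `q` elements (`d ≥ 2`, `(d, q) ≠ (2, 2)`), realised as the invertible matrices preserving the standard alternating form; `Q` is a non-degenerate quadratic form on `F^{2d}` whose polar form is that alternating form, and `H` is the subgroup of `T` preserving `Q` up to a scalar (equivalently preserving `Q`) — a subgroup of type O^±_{2d}(q) (maximality is not assumed); `Q` is of plus type when `F^{2d}` contains a `d`-dimensional subspace on which `Q` vanishes, of minus type otherwise. Ω is the set of cosets of `H` in `T`, so an element of `T` of prime order `r` (`x ∈ T` with `x^r` scalar, `x` not scalar) fixes a point of Ω exactly when some `T`-conjugate of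 `x` preserves `Q`. Let `r` be a prime dividing the index of `H`. Then every element of `T` of order `r` fixes a point of Ω if and only if `r = 2` and either `Q` is of plus type or `d` is odd. -/
theorem result {F : Type*} [Field F] [Fintype F] {p : ℕ} [Fact p.Prime] [CharP F p] {q : ℕ} (hq : Fintype.card F = q)
    (hp : p = 2) (d : ℕ) (hd : 2 ≤ d) (hT : (d, q) ≠ (2, 2)) (Q : (Fin d ⊕ Fin d → F) → F) (hQ : Cfsg.Geo.IsNondegenerateQuadraticForm Q)
    (hQf : ∀ u v, QuadraticMap.polar Q u v = Cfsg.sympForm d F u v)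
    (r : ℕ) [Fact r.Prime]
    (hΩ : r ∣ (Cfsg.Geo.quadSimilarityGroup Q).relIndex (Cfsg.spGL d F)) :
    (∀ x ∈ Cfsg.spGL d F, (∃ z : F, ((x ^ r : GL (Fin d ⊕ Fin d) F) : Matrix (Fin d ⊕ Fin d) (Fin d ⊕ Fin d) F) = z • (1 : Matrix (Fin d ⊕ Fin d) (Fin d ⊕ Fin d) F)) →
      (∀ z : F, (x : Matrix (Fin d ⊕ Fin d) (Fin d ⊕ Fin d) F) ≠ z • (1 : Matrix (Fin d ⊕ Fin d) (Fin d ⊕ Fin d) F)) →
      ∃ g ∈ Cfsg.spGL d F, g⁻¹ * x * g ∈ Cfsg.Geo.quadSimilarityGroup Q) ↔
    (r = 2 ∧ (Cfsg.Geo.IsPlusTypeOn Q ⊤ ∨ Odd d)) := by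
  subst hp
  have hQ' : Agent.Forms.SympOrthCover.IsForm Q := ⟨fun c v => by rw [hQ.smul, sq], fun u v => by
    rw [← hQf]; simp only [QuadraticMap.polar]; ring⟩
  rw [Agent.Forms.SympOrthCover.plus_top_iff]
  constructor
  · intro hall
    by_cases hr : r = 2
    · subst hr
      refine ⟨rfl, ?_⟩
      by_contra hcon
      push Not at hcon
      obtain ⟨x, hx, hx2, hx1, honly⟩ := Agent.Forms.SympOrthCover.exists_plus_only (F := F) (m := d) (by omega)
        (Nat.not_odd_iff_even.1 hcon.2)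
      obtain ⟨Q', hQ'', hP, hinv⟩ := (Agent.Forms.SympOrthCover.exists_conj_iff (by omega) hQ' hx).1
        (hall x hx ⟨1, by rw [hx2, Units.val_one, one_smul]⟩
          fun z hz => hx1 (Agent.Forms.SympOrthCover.scalar_eq_one (by omega) hx hz))
      exact hcon.1 (hP.1 (honly Q' hQ'' hinv))
    · obtain ⟨x, hx, hxr, hx1, honly⟩ := Agent.Forms.SympOrthCover.exists_free (by omega) hQ' r hr hΩ
      obtain ⟨Q', hQ'', hP, hinv⟩ := (Agent.Forms.SympOrthCover.exists_conj_iff (by omega) hQ' hx).1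
        (hall x hx ⟨1, by rw [hxr, Units.val_one, one_smul]⟩
          fun z hz => hx1 (Agent.Forms.SympOrthCover.scalar_eq_one (by omega) hx hz))
      exact absurd hP (honly Q' hQ'' hinv)
  · rintro ⟨rfl, hor⟩ x hx ⟨z, hz⟩ hns
    have hsq := Agent.Forms.SympOrthCover.scalar_eq_one (by omega) (pow_mem hx 2) hz
    have hne : x ≠ 1 := fun e => hns 1 (by rw [e, Units.val_one, one_smul])
    obtain ⟨Qp, hQp, hPlus, hinv, hodd⟩ := Agent.Forms.SympOrthCover.exists_plus_invariant (by omega) hx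
      (by rw [← Units.val_mul, ← pow_two, hsq, Units.val_one]) hne
    refine (Agent.Forms.SympOrthCover.exists_conj_iff (by omega) hQ' hx).2 ?_
    by_cases hP : Agent.Forms.SympOrthCover.Plus Q
    · exact ⟨Qp, hQp, iff_of_true hPlus hP, hinv⟩
    obtain ⟨u, hxu, hu⟩ := hodd (hor.resolve_left hP)
    obtain ⟨a, ha⟩ := Agent.Forms.SympOrthCover.exists_not_as (F := F)
    obtain ⟨s, hs⟩ := Agent.Forms.SympTwo.exists_sqrt (a / Qp u)
    have hsu : ¬ Agent.Forms.SympOrthCover.AS (Qp (s • u)) := by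
      rw [hQp.smul, ← hs, div_mul_cancel₀ _ hu]; exact ha
    refine ⟨_, hQp.twist (s • u), ((Agent.Forms.SympOrthCover.plus_twist_iff hQp hsu).trans
      (iff_of_false (not_not_intro hPlus) hP)), fun v => ?_⟩
    show Qp _ + _ = Qp v + _
    rw [hinv]
    conv_lhs => rw [← hxu, ← Matrix.mulVec_smul]
    rw [show Cfsg.sympForm d F ((x : Matrix (Fin d ⊕ Fin d) (Fin d ⊕ Fin d) F) *ᵥ (s • u))
      ((x : Matrix (Fin d ⊕ Fin d) (Fin d ⊕ Fin d) F) *ᵥ v) = Cfsg.sympForm d F (s • u) v from hx _ _]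

end Cfsg.Agent.S5983
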