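import Cfsg.Statements.S5984
import Cfsg.Agent.S5982
import Cfsg.Agent.Lib.Elusive.InvolutionPairs
import Cfsg.Agent.Lib.Semisimple.PrimeOrder

set_option autoImplicit false
set_option linter.unusedSectionVars false
set_option linter.style.haveILetI false
open scoped MatrixGroups Matrix
open Cfsg

namespace Cfsg.Agent.S5984

open Module

theorem mul_card_dvd_of_normal {G : Type*} [Group G] [Finite G] (H K : Subgroup G) [K.Normal] {N r : ℕ}
    (hN : N ∣ Nat.card H) (h : r ∣ H.relIndex K) : r * N ∣ Nat.card G := by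
  have hH : Nat.card H ∣ Nat.card ↥(H ⊓ K) * K.index := by
    rw [← Subgroup.relIndex_bot_left H, ← Subgroup.relIndex_bot_left (H ⊓ K),
      ← Subgroup.relIndex_mul_relIndex ⊥ (H ⊓ K) H bot_le inf_le_left, Subgroup.inf_relIndex_left]
    exact mul_dvd_mul_left _ (Subgroup.relIndex_dvd_index_of_normal K H)
  have hK : H.relIndex K * Nat.card ↥(H ⊓ K) = Nat.card K := by
    rw [← Subgroup.relIndex_bot_left K, ← Subgroup.relIndex_bot_left (H ⊓ K),
      ← Subgroup.inf_relIndex_right H K, mul_comm, Subgroup.relIndex_mul_relIndex ⊥ (H ⊓ K) K bot_le inf_le_right]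
  rw [← Subgroup.card_mul_index K, ← hK, mul_assoc]
  exact mul_dvd_mul h (hN.trans hH)

theorem perm_two : ∀ (σ : Equiv.Perm (Fin 2)) (i : Fin 2), σ (σ i) = i := by decide

variable {F : Type*} [Field F] [Fintype F] {q : ℕ} {n : ℕ}

theorem herm_spec (hF : Fintype.card F = q ^ 2) : Geo.IsUnitaryFormPow q (hermForm n F q) where
  add_left x y v := by simp [hermForm, add_mul, Finset.sum_add_distrib]
  smul_left c x v := by simp [hermForm, Finset.mul_sum, mul_assoc]
  herm v w := by rw [← Forms.qEnd_apply hF, Forms.hermForm_swap hF]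
  nondegenerate v hv := by
    have hq0 : q ≠ 0 := by have := Forms.one_lt_q hF; omega
    obtain ⟨j, hj⟩ := Function.ne_iff.1 hv
    refine ⟨⟨Pi.single j 1, ?_⟩, ⟨Pi.single j 1, ?_⟩⟩
    · simp [hermForm, Pi.single_apply]
      exact fun h => absurd h hj
    · simp [hermForm, Pi.single_apply, zero_pow hq0]
      exact hj

theorem herm_add_right (hF : Fintype.card F = q ^ 2) (v x y : Fin n → F) :
    hermForm n F q v (x + y) = hermForm n F q v x + hermForm n F q v y :=
  S5982.add_right hF (herm_spec hF) v x y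

theorem herm_smul_right (hF : Fintype.card F = q ^ 2) (a : F) (v x : Fin n → F) :
    hermForm n F q v (a • x) = a ^ q * hermForm n F q v x :=
  S5982.smul_right (herm_spec hF) a v x

theorem herm_sub_left (hF : Fintype.card F = q ^ 2) (x y v : Fin n → F) :
    hermForm n F q (x - y) v = hermForm n F q x v - hermForm n F q y v := by
  have h := (herm_spec (n := n) hF).add_left (x - y) y v
  rw [sub_add_cancel] at h
  linear_combination -h

theorem herm_zero_left (hF : Fintype.card F = q ^ 2) (v : Fin n → F) : hermForm n F q 0 v = 0 := by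
  have h := herm_sub_left hF (0 : Fin n → F) 0 v
  rwa [sub_zero, sub_self] at h

theorem herm_zero_of_swap (hF : Fintype.card F = q ^ 2) {u v : Fin n → F} (h : hermForm n F q u v = 0) :
    hermForm n F q v u = 0 := by
  rw [(herm_spec hF).herm, h, zero_pow]
  have := Forms.one_lt_q hF
  omega

theorem herm_sum (hF : Fintype.card F = q ^ 2) {ι : Type*} [Fintype ι] (b : ι → Fin n → F) (s t : ι → F) :
    hermForm n F q (∑ i, s i • b i) (∑ j, t j • b j) =
      ∑ i, ∑ j, s i * t j ^ q * hermForm n F q (b i) (b j) := by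
  let L : (Fin n → F) → (Fin n → F) →+ F := fun v =>
    AddMonoidHom.mk' (fun u => hermForm n F q u v) fun x y => (herm_spec hF).add_left x y v
  let R : (Fin n → F) → (Fin n → F) →+ F := fun u => AddMonoidHom.mk' (hermForm n F q u) (herm_add_right hF u)
  show L _ _ = _
  rw [map_sum]
  refine Finset.sum_congr rfl fun i _ => ?_
  show R _ _ = _
  rw [map_sum]
  refine Finset.sum_congr rfl fun j _ => ?_
  show hermForm n F q (s i • b i) (t j • b j) = _
  rw [(herm_spec hF).smul_left, herm_smul_right hF]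
  ring

/-- A left-faithful pairing bounds the dimension. -/
theorem finrank_le_of_pairing (hF : Fintype.card F = q ^ 2) (A B : Submodule F (Fin n → F))
    (h : ∀ u ∈ A, (∀ v ∈ B, hermForm n F q u v = 0) → u = 0) : finrank F A ≤ finrank F B := by
  classical
  let c := finBasis F B
  let ψ : A →ₗ[F] (Fin (finrank F B) → F) :=
    { toFun := fun u j => hermForm n F q u (c j)
      map_add' := fun u v => funext fun j => (herm_spec hF).add_left _ _ _
      map_smul' := fun a u => funext fun j => (herm_spec hF).smul_left _ _ _ }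
  have hψ : Function.Injective ψ := by
    rw [injective_iff_map_eq_zero]
    intro u hu
    refine Subtype.ext (h u u.2 fun v hv => ?_)
    have hv' := congrArg Subtype.val (c.sum_repr ⟨v, hv⟩)
    change _ = v at hv'
    rw [← hv', Submodule.coe_sum]
    show (AddMonoidHom.mk' (hermForm n F q (u : Fin n → F)) (herm_add_right hF (u : Fin n → F))) _ = 0
    rw [map_sum]
    refine Finset.sum_eq_zero fun j _ => ?_
    show hermForm n F q u (_ • (c j : Fin n → F)) = 0
    rw [herm_smul_right hF, show hermForm n F q u (c j) = 0 from congrFun hu j, mul_zero]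
  simpa using LinearMap.finrank_le_finrank_of_injective hψ

section pair

variable {k : ℕ}

/-- The Gram matrix of a hyperbolic basis. -/
def hgram : Fin k ⊕ Fin k → Fin k ⊕ Fin k → F
  | .inl i, .inr j => if i = j then 1 else 0
  | .inr i, .inl j => if i = j then 1 else 0
  | _, _ => 0

/-- Bases of two totally singular complementary halves give hyperbolic ones. -/
theorem exists_hyperbolic (hF : Fintype.card F = q ^ 2) {a l : ℕ} (b : Basis (Fin a ⊕ Fin l) F (Fin n → F))
    (h0 : ∀ i j, hermForm n F q (b (.inl i)) (b (.inl j)) = 0)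
    (h1 : ∀ i j, hermForm n F q (b (.inr i)) (b (.inr j)) = 0) :
    ∃ (_ : a = l) (c : Basis (Fin a ⊕ Fin a) F (Fin n → F)),
      (∀ i j, hermForm n F q (c i) (c j) = hgram i j) ∧ (∀ i, c (.inl i) = b (.inl i)) ∧
      Submodule.span F (Set.range (c ∘ Sum.inr)) = Submodule.span F (Set.range (b ∘ Sum.inr)) := by
  classical
  have hsp := herm_spec (n := n) hF
  let G : Matrix (Fin a) (Fin l) F := Matrix.of fun i j => hermForm n F q (b (.inl i)) (b (.inr j))
  have hexp : ∀ (x : Fin a ⊕ Fin l → F) (t : Fin a ⊕ Fin l), hermForm n F q (∑ i, x i • b i) (b t) =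
      ∑ i, x i * hermForm n F q (b i) (b t) := fun x t => by
    have h := herm_sum hF b x (fun j => if j = t then 1 else 0)
    simp only [ite_smul, one_smul, zero_smul, Finset.sum_ite_eq', Finset.mem_univ, if_true] at h
    rw [h]
    refine Finset.sum_congr rfl fun i _ => ?_
    rw [Finset.sum_eq_single t (fun j _ hj => by
      simp [hj, zero_pow (show q ≠ 0 by have := Forms.one_lt_q hF; omega)]) (fun h => absurd (Finset.mem_univ _) h)]
    simp
  have horth : ∀ x : Fin a ⊕ Fin l → F, (∀ t, hermForm n F q (∑ i, x i • b i) (b t) = 0) → ∑ i, x i • b i = 0 := by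
    intro x hx
    by_contra hne
    obtain ⟨w, hw⟩ := (hsp.nondegenerate _ hne).2
    apply hw
    rw [← b.sum_repr w]
    show (AddMonoidHom.mk' (hermForm n F q (∑ i, x i • b i)) (herm_add_right hF _)) _ = 0
    rw [map_sum]
    refine Finset.sum_eq_zero fun t _ => ?_
    show hermForm n F q _ (_ • b t) = 0
    rw [herm_smul_right hF, hx t, mul_zero]
  have hlin := Fintype.linearIndependent_iff.1 b.linearIndependent
  have hG : Function.Injective G.vecMul := by
    intro x y hxy
    have h2 : ∑ i, Sum.elim (x - y) (0 : Fin l → F) i • b i = 0 := horth _ fun t => by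
      rw [hexp, Fintype.sum_sum_type]
      rcases t with t | t
      · simp [h0]
      · simp only [Sum.elim_inl, Sum.elim_inr, Pi.zero_apply, zero_mul, Finset.sum_const_zero, add_zero]
        have h3 : Matrix.vecMul (x - y) G t = 0 := by
          rw [Matrix.sub_vecMul, show Matrix.vecMul x G = Matrix.vecMul y G from hxy, sub_self]; rfl
        exact h3
    funext i
    exact sub_eq_zero.1 (hlin _ h2 (.inl i))
  have hG' : Function.Injective G.mulVec := by
    intro x y hxy
    let z : Fin l → F := fun j => (x j - y j) ^ q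
    have h2 : ∑ i, Sum.elim (0 : Fin a → F) z i • b i = 0 := horth _ fun t => by
      rw [hexp, Fintype.sum_sum_type]
      rcases t with t | t
      · simp only [Sum.elim_inl, Sum.elim_inr, Pi.zero_apply, zero_mul, Finset.sum_const_zero, zero_add]
        have h3 : Matrix.mulVec G (x - y) t = 0 := by
          rw [Matrix.mulVec_sub, show Matrix.mulVec G x = Matrix.mulVec G y from hxy, sub_self]; rfl
        have h4 : (∑ j, G t j * (x j - y j)) ^ q = 0 := by
          rw [show (∑ j, G t j * (x j - y j)) = 0 from h3, zero_pow]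
          have := Forms.one_lt_q hF
          omega
        rw [← h4, ← Forms.qEnd_apply hF (∑ j, G t j * (x j - y j)), map_sum]
        refine Finset.sum_congr rfl fun j _ => ?_
        rw [map_mul, Forms.qEnd_apply, Forms.qEnd_apply, hsp.herm (b (.inr j)) (b (.inl t))]
        show (x j - y j) ^ q * (G t j) ^ q = _
        ring
      · simp [h1]
    funext j
    have h3 : (x j - y j) ^ q = 0 := hlin _ h2 (.inr j)
    exact sub_eq_zero.1 (eq_zero_of_pow_eq_zero h3)
  have hal : a = l := by
    have e1 := LinearMap.finrank_le_finrank_of_injective (f := G.vecMulLinear) hG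
    have e2 := LinearMap.finrank_le_finrank_of_injective (f := G.mulVecLin) hG'
    simp at e1 e2
    omega
  subst hal
  have hGu : IsUnit G := Matrix.mulVec_injective_iff_isUnit.1 hG'
  set A : Matrix (Fin a) (Fin a) F := G⁻¹.map (Forms.qEnd hF) with hA
  let c' : Fin a ⊕ Fin a → Fin n → F :=
    Sum.elim (fun i => b (.inl i)) fun j => ∑ i, A i j • b (.inr i)
  have hGA : G * A.map (Forms.qEnd hF) = 1 := by
    have e : A.map (Forms.qEnd hF) = G⁻¹ := by
      ext i j
      simp only [hA, Matrix.map_apply, Forms.qEnd_qEnd]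
    rw [e, Matrix.mul_nonsing_inv _ ((Matrix.isUnit_iff_isUnit_det _).1 hGu)]
  have hgram' : ∀ i j, hermForm n F q (c' i) (c' j) = hgram i j := by
    have h01 : ∀ i j, hermForm n F q (b (.inl i)) (∑ t, A t j • b (.inr t)) = if i = j then 1 else 0 := by
      intro i j
      show (AddMonoidHom.mk' (hermForm n F q (b (.inl i))) (herm_add_right hF _)) _ = _
      rw [map_sum]
      have h := congrFun (congrFun hGA i) j
      rw [Matrix.mul_apply, Matrix.one_apply] at h
      rw [← h]
      refine Finset.sum_congr rfl fun t _ => ?_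
      show hermForm n F q (b (.inl i)) (A t j • b (.inr t)) = _
      rw [herm_smul_right hF, Matrix.map_apply, Forms.qEnd_apply]
      show _ * G i t = G i t * _
      ring
    rintro (i | i) (j | j)
    · exact h0 i j
    · exact h01 i j
    · show hermForm n F q (∑ t, A t i • b (.inr t)) (b (.inl j)) = _
      rw [hsp.herm, h01]
      simp only [hgram, eq_comm (a := j)]
      have := Forms.one_lt_q hF
      split_ifs <;> simp [show q ≠ 0 by omega]
    · show hermForm n F q (∑ t, A t i • b (.inr t)) (∑ t, A t j • b (.inr t)) = 0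
      rw [herm_sum hF (fun t => b (.inr t))]
      simp [h1]
  have hAu : IsUnit A.det := by
    have h := congrArg Matrix.det hGA
    rw [Matrix.det_mul, Matrix.det_one, ← RingHom.mapMatrix_apply, ← RingHom.map_det] at h
    refine isUnit_iff_ne_zero.2 fun h0 => ?_
    rw [h0, map_zero, mul_zero] at h
    exact zero_ne_one h
  have hspan : Submodule.span F (Set.range fun j => c' (.inr j)) = Submodule.span F (Set.range (b ∘ Sum.inr)) := by
    refine le_antisymm (Submodule.span_le.2 ?_) (Submodule.span_le.2 ?_)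
    · rintro _ ⟨j, rfl⟩
      exact Submodule.sum_mem _ fun i _ => Submodule.smul_mem _ _ (Submodule.subset_span ⟨i, rfl⟩)
    · rintro _ ⟨t, rfl⟩
      show b (.inr t) ∈ _
      rw [show b (.inr t) = ∑ j, A⁻¹ j t • c' (.inr j) from ?_]
      · exact Submodule.sum_mem _ fun j _ => Submodule.smul_mem _ _ (Submodule.subset_span ⟨j, rfl⟩)
      · simp only [c', Sum.elim_inr, Finset.smul_sum, smul_smul]
        rw [Finset.sum_comm]
        simp only [← Finset.sum_smul, mul_comm (A⁻¹ _ t), ← Matrix.mul_apply, Matrix.mul_nonsing_inv A hAu,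
          Matrix.one_apply, ite_smul, one_smul, zero_smul, Finset.sum_ite_eq', Finset.mem_univ, if_true]
  have hspan' : ⊤ ≤ Submodule.span F (Set.range c') := by
    rw [← b.span_eq, Submodule.span_le]
    rintro _ ⟨t | t, rfl⟩
    · exact Submodule.subset_span ⟨.inl t, rfl⟩
    · refine Submodule.span_mono (Set.range_comp_subset_range Sum.inr c') ?_
      show b (.inr t) ∈ Submodule.span F (Set.range fun j => c' (.inr j))
      rw [hspan]
      exact Submodule.subset_span ⟨t, rfl⟩
  refine ⟨rfl, basisOfTopLeSpanOfCardEqFinrank c' hspan' (finrank_eq_card_basis b).symm, ?_, ?_, ?_⟩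
  · intro i j; rw [coe_basisOfTopLeSpanOfCardEqFinrank]; exact hgram' i j
  · intro i; rw [coe_basisOfTopLeSpanOfCardEqFinrank]; rfl
  · rw [coe_basisOfTopLeSpanOfCardEqFinrank]; exact hspan

/-- Coordinates in a hyperbolic basis. -/
theorem herm_coords (hF : Fintype.card F = q ^ 2) (c : Basis (Fin k ⊕ Fin k) F (Fin n → F))
    (hc : ∀ i j, hermForm n F q (c i) (c j) = hgram i j) (u v : Fin n → F) :
    hermForm n F q u v = ∑ i, c.repr u (.inl i) * c.repr v (.inr i) ^ q +
      ∑ i, c.repr u (.inr i) * c.repr v (.inl i) ^ q := by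
  conv_lhs => rw [← c.sum_repr u, ← c.sum_repr v]
  rw [herm_sum hF]
  simp [hc, Fintype.sum_sum_type, hgram]

/-- The isometry between two hyperbolic bases. -/
theorem exists_gu_of_bases (hF : Fintype.card F = q ^ 2) (c c' : Basis (Fin k ⊕ Fin k) F (Fin n → F))
    (hc : ∀ i j, hermForm n F q (c i) (c j) = hgram i j)
    (hc' : ∀ i j, hermForm n F q (c' i) (c' j) = hgram i j) :
    ∃ g : GL (Fin n) F, g ∈ GU n F q ∧ ∀ i, g.val *ᵥ c i = c' i := by
  let E := c.equiv c' (Equiv.refl _)
  let g : GL (Fin n) F := ⟨LinearMap.toMatrix' E.toLinearMap, LinearMap.toMatrix' E.symm.toLinearMap,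
    by rw [← LinearMap.toMatrix'_comp, LinearEquiv.comp_symm, LinearMap.toMatrix'_id],
    by rw [← LinearMap.toMatrix'_comp, LinearEquiv.symm_comp, LinearMap.toMatrix'_id]⟩
  have hg : ∀ v, g.val *ᵥ v = E v := fun v => by
    show LinearMap.toMatrix' E.toLinearMap *ᵥ v = _
    simp [← Matrix.toLin'_apply, Matrix.toLin'_toMatrix']
  refine ⟨g, fun u v => ?_, fun i => by rw [hg]; simp [E]⟩
  show hermForm n F q (g.val *ᵥ u) (g.val *ᵥ v) = hermForm n F q u v
  have hrepr : ∀ w, c'.repr (E w) = c.repr w := fun w => by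
    ext i
    simp [E, Basis.equiv]
  rw [hg, hg, herm_coords hF c' hc', herm_coords hF c hc, hrepr, hrepr]

/-- An isometry of determinant one carrying one hyperbolic pair onto another. -/
theorem exists_su_of_bases (hF : Fintype.card F = q ^ 2) (hk : 0 < k)
    (c c' : Basis (Fin k ⊕ Fin k) F (Fin n → F)) (hc : ∀ i j, hermForm n F q (c i) (c j) = hgram i j)
    (hc' : ∀ i j, hermForm n F q (c' i) (c' j) = hgram i j) :
    ∃ g : GL (Fin n) F, g ∈ GU n F q ⊓ Geo.specialLinear (Fin n) F ∧
      ∃ s : Fin k ⊕ Fin k → F, (∀ i, s i ≠ 0) ∧ ∀ i, g.val *ᵥ c i = s i • c' i := by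
  classical
  obtain ⟨g₀, hg₀, hgb⟩ := exists_gu_of_bases hF c c' hc hc'
  have hq1 := Forms.one_lt_q hF
  have hd0 : g₀.val.det ≠ 0 := ((Matrix.isUnit_iff_isUnit_det _).1 g₀.isUnit).ne_zero
  obtain ⟨a, ha0, ha⟩ : ∃ a : F, a ≠ 0 ∧ a ^ (q - 1) = g₀.val.det := by
    obtain ⟨γ, hγ⟩ := IsCyclic.exists_generator (α := Fˣ)
    obtain ⟨t, ht : γ ^ t = Units.mk0 g₀.val.det hd0⟩ := (Submonoid.mem_powers_iff _ _).1
      (mem_powers_iff_mem_zpowers.2 (hγ (Units.mk0 g₀.val.det hd0)))
    have hord : orderOf γ = (q + 1) * (q - 1) := by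
      rw [orderOf_eq_card_of_forall_mem_zpowers hγ, Forms.units_card hF]
    have h1 : γ ^ (t * (q + 1)) = 1 := by
      rw [pow_mul, ht]
      exact Units.ext (by simpa using Forms.det_pow_of_mem_GU hF hg₀)
    rw [← orderOf_dvd_iff_pow_eq_one, hord, mul_comm t] at h1
    obtain ⟨e, rfl⟩ := Nat.dvd_of_mul_dvd_mul_left (by omega) h1
    refine ⟨((γ ^ e : Fˣ) : F), Units.ne_zero _, ?_⟩
    rw [← Units.val_pow_eq_pow_val, ← pow_mul, mul_comm, ht]; rfl
  let i₀ : Fin k := ⟨0, hk⟩
  let u : Fin k ⊕ Fin k → Fˣ :=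
    Sum.elim (Function.update 1 i₀ (Units.mk0 a ha0)) (Function.update 1 i₀ (Units.mk0 (a ^ q) (pow_ne_zero _ ha0))⁻¹)
  let c'' := c'.unitsSMul u
  have hc'' : ∀ i j, hermForm n F q (c'' i) (c'' j) = hgram i j := by
    intro i j
    simp only [c'', Basis.unitsSMul_apply, Units.smul_def]
    rw [(herm_spec hF).smul_left, herm_smul_right hF, hc']
    rcases i with i | i <;> rcases j with j | j <;> simp only [hgram, mul_zero]
    all_goals
      by_cases hij : i = j
      · subst hij
        by_cases hi : i = i₀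
        · subst hi
          have hqq := Forms.pow_q_q hF a
          simp [u, inv_pow, hqq, mul_inv_cancel₀ ha0, inv_mul_cancel₀ (pow_ne_zero q ha0)]
        · simp [u, hi]
      · simp [hij]
  obtain ⟨g, hg, hgb'⟩ := exists_gu_of_bases hF c c'' hc hc''
  refine ⟨g, ⟨hg, Units.ext ?_⟩, fun i => (u i : F), fun i => Units.ne_zero _, fun i => by
    rw [hgb']; simp [c'', Basis.unitsSMul_apply, Units.smul_def]⟩
  -- the determinant
  have hE : Matrix.toLin' g.val = (c'.constr F fun i => (u i : F) • c' i) * Matrix.toLin' g₀.val := by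
    refine c.ext fun i => ?_
    rw [Matrix.toLin'_apply, hgb', Module.End.mul_apply, Matrix.toLin'_apply, hgb, Basis.constr_basis]
    simp [c'', Basis.unitsSMul_apply, Units.smul_def]
  have h1 := congrArg LinearMap.det hE
  rw [map_mul, LinearMap.det_toLin', LinearMap.det_toLin'] at h1
  show g.val.det = 1
  rw [h1, ← LinearMap.det_toMatrix c', show LinearMap.toMatrix c' c' (c'.constr F fun i => (u i : F) • c' i) =
    Matrix.diagonal fun i => (u i : F) from Matrix.ext fun i j => by
      rw [LinearMap.toMatrix_apply, Basis.constr_basis, map_smul, Finsupp.smul_apply, Basis.repr_self,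
        Matrix.diagonal_apply, Finsupp.single_apply]
      by_cases hij : i = j <;> simp [hij, eq_comm (a := j)],
    Matrix.det_diagonal, Fintype.prod_sum_type, ← ha]
  rw [Finset.prod_eq_single i₀ (fun i _ hi => by simp [u, hi]) (fun h => absurd (Finset.mem_univ _) h),
    Finset.prod_eq_single i₀ (fun i _ hi => by simp [u, hi]) (fun h => absurd (Finset.mem_univ _) h)]
  simp [u]
  field_simp
  rw [← pow_succ', Nat.sub_add_cancel (by omega)]

/-- A hyperbolic basis adapted to a pair of complementary totally singular subspaces. -/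
theorem exists_adapted (hF : Fintype.card F = q ^ 2) {m : ℕ} {D : Fin 2 → Submodule F (Fin n → F)}
    (hD : Geo.IsMDecomposition m D) (hDs : ∀ i, Geo.IsTotallySingularFor (hermForm n F q) (D i)) :
    ∃ c : Basis (Fin m ⊕ Fin m) F (Fin n → F), (∀ i j, hermForm n F q (c i) (c j) = hgram i j) ∧
      Submodule.span F (Set.range (c ∘ Sum.inl)) = D 0 ∧ Submodule.span F (Set.range (c ∘ Sum.inr)) = D 1 := by
  classical
  have hc : IsCompl (D 0) (D 1) := by
    refine ⟨hD.indep.pairwiseDisjoint (by decide : (0 : Fin 2) ≠ 1), codisjoint_iff.2 ?_⟩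
    rw [eq_top_iff, ← hD.iSup_eq_top, iSup_le_iff]
    intro i; fin_cases i
    · exact le_sup_left
    · exact le_sup_right
  let b0 := finBasisOfFinrankEq F (D 0) (hD.finrank_eq 0)
  let b1 := finBasisOfFinrankEq F (D 1) (hD.finrank_eq 1)
  let b := (b0.prod b1).map (Submodule.prodEquivOfIsCompl _ _ hc)
  have e0 : ∀ i, b (.inl i) = b0 i := fun i => by simp [b]
  have e1 : ∀ i, b (.inr i) = b1 i := fun i => by simp [b]
  obtain ⟨-, c, hcg, hcl, hcr⟩ := exists_hyperbolic hF b
    (fun i j => by rw [e0, e0]; exact hDs 0 _ (b0 i).2 _ (b0 j).2)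
    (fun i j => by rw [e1, e1]; exact hDs 1 _ (b1 i).2 _ (b1 j).2)
  have hsub : ∀ (W : Submodule F (Fin n → F)) (β : Basis (Fin m) F W),
      Submodule.span F (Set.range fun i => (β i : Fin n → F)) = W := fun W β => by
    rw [show (fun i => (β i : Fin n → F)) = W.subtype ∘ β from rfl, Set.range_comp, Submodule.span_image,
      β.span_eq, Submodule.map_top, Submodule.range_subtype]
  refine ⟨c, hcg, ?_, ?_⟩
  · rw [show c ∘ Sum.inl = fun i => (b0 i : Fin n → F) from funext fun i => by
      rw [Function.comp_apply, hcl, e0], hsub]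
  · rw [hcr, show b ∘ Sum.inr = fun i => (b1 i : Fin n → F) from funext fun i => e1 i, hsub]

/-- An element permuting the halves of some hyperbolic basis is conjugate into the stabiliser. -/
theorem fixed_of_halves (hF : Fintype.card F = q ^ 2) {m : ℕ} {D : Fin 2 → Submodule F (Fin n → F)}
    (hD : Geo.IsMDecomposition m D) (hDs : ∀ i, Geo.IsTotallySingularFor (hermForm n F q) (D i))
    {a l : ℕ} (b : Basis (Fin a ⊕ Fin l) F (Fin n → F))
    (h0 : ∀ i j, hermForm n F q (b (.inl i)) (b (.inl j)) = 0)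
    (h1 : ∀ i j, hermForm n F q (b (.inr i)) (b (.inr j)) = 0) (x : GL (Fin n) F)
    (hx0 : ∀ i, x.val *ᵥ b (.inl i) ∈ Submodule.span F (Set.range (b ∘ Sum.inl)))
    (hx1 : ∀ i, x.val *ᵥ b (.inr i) ∈ Submodule.span F (Set.range (b ∘ Sum.inr))) :
    ∃ g ∈ GU n F q ⊓ Geo.specialLinear (Fin n) F, g⁻¹ * x * g ∈ Geo.decompositionStabilizer D := by
  classical
  obtain ⟨c, hc, hc0, hc1⟩ := exists_adapted hF hD hDs
  obtain ⟨rfl, c', hc', hcl, hcr⟩ := exists_hyperbolic hF b h0 h1
  have hm : m = a := by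
    have h := (finrank_eq_card_basis c).symm.trans (finrank_eq_card_basis c')
    simp at h
    omega
  subst hm
  obtain ⟨g, hg, s, hs, hgs⟩ := exists_su_of_bases hF hD.pos c c' hc hc'
  have hcl' : (c' ∘ Sum.inl) = b ∘ Sum.inl := funext hcl
  let W : Fin 2 → Submodule F (Fin n → F) :=
    ![Submodule.span F (Set.range (b ∘ Sum.inl)), Submodule.span F (Set.range (b ∘ Sum.inr))]
  have hmap : ∀ i, (D i).map (Matrix.toLin' g.val) = W i := by
    have key : ∀ (e : Fin m → Fin m ⊕ Fin m), (Submodule.span F (Set.range (c ∘ e))).map (Matrix.toLin' g.val) =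
        Submodule.span F (Set.range (c' ∘ e)) := by
      intro e
      rw [Submodule.map_span, ← Set.range_comp]
      refine le_antisymm (Submodule.span_le.2 ?_) (Submodule.span_le.2 ?_)
      · rintro _ ⟨i, rfl⟩
        show Matrix.toLin' g.val (c (e i)) ∈ _
        rw [Matrix.toLin'_apply, hgs]
        exact Submodule.smul_mem _ _ (Submodule.subset_span ⟨i, rfl⟩)
      · rintro _ ⟨i, rfl⟩
        show c' (e i) ∈ _
        rw [← inv_smul_smul₀ (hs (e i)) (c' (e i)), ← hgs]
        exact Submodule.smul_mem _ _ (Submodule.subset_span ⟨i, Matrix.toLin'_apply _ _⟩)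
    intro i
    fin_cases i
    · show (D 0).map _ = Submodule.span F (Set.range (b ∘ Sum.inl))
      rw [← hc0, key, hcl']
    · show (D 1).map _ = Submodule.span F (Set.range (b ∘ Sum.inr))
      rw [← hc1, key, hcr]
  have hle : ∀ i, (W i).map (Matrix.toLin' x.val) ≤ W i := by
    intro i
    fin_cases i
    · show (Submodule.span F (Set.range (b ∘ Sum.inl))).map _ ≤ _
      rw [Submodule.map_span_le]
      rintro _ ⟨j, rfl⟩
      exact hx0 j
    · show (Submodule.span F (Set.range (b ∘ Sum.inr))).map _ ≤ _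
      rw [Submodule.map_span_le]
      rintro _ ⟨j, rfl⟩
      exact hx1 j
  have hinjx : Function.Injective (Matrix.toLin' x.val) := Matrix.mulVec_injective_of_isUnit x.isUnit
  have hfix : ∀ i, (W i).map (Matrix.toLin' x.val) = W i := fun i => Submodule.eq_of_le_of_finrank_eq (hle i)
    (Submodule.equivMapOfInjective _ hinjx (W i)).finrank_eq.symm
  refine ⟨g, hg, 1, fun i => ?_⟩
  rw [Units.val_mul, Units.val_mul, Matrix.toLin'_mul, Matrix.toLin'_mul, Submodule.map_comp, Submodule.map_comp,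
    hmap, hfix, ← hmap, ← Submodule.map_comp, ← Matrix.toLin'_mul, ← Units.val_mul, inv_mul_cancel, Units.val_one,
    Matrix.toLin'_one, Submodule.map_id, Equiv.Perm.one_apply]

end pair

/-- The matrix of `u ↦ α (u + β f(u, v) v)`. -/
noncomputable def prefl (q : ℕ) (α β : F) (v : Fin n → F) : Matrix (Fin n) (Fin n) F :=
  α • (1 + β • Matrix.vecMulVec v fun i => v i ^ q)

theorem prefl_apply (α β : F) (v u : Fin n → F) :
    prefl q α β v *ᵥ u = α • (u + (β * hermForm n F q u v) • v) := by
  rw [prefl, Matrix.smul_mulVec, Matrix.add_mulVec, Matrix.one_mulVec, Matrix.smul_mulVec,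
    Matrix.vecMulVec_mulVec]
  congr 2
  funext j
  simp [hermForm, dotProduct, mul_comm, mul_left_comm, Finset.mul_sum]

/-- A pseudo-reflection times a scalar is not conjugate into the stabiliser. -/
theorem prefl_not_fixed (hF : Fintype.card F = q ^ 2) {m : ℕ} (hm : 2 ≤ m)
    {D : Fin 2 → Submodule F (Fin n → F)} (hD : Geo.IsMDecomposition m D)
    (hDs : ∀ i, Geo.IsTotallySingularFor (hermForm n F q) (D i)) {α β : F} (hα : α ≠ 0) (hβ : β ≠ 0)
    {v : Fin n → F} (hv : v ≠ 0) (x : GL (Fin n) F) (hx : x.val = prefl q α β v)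
    {g : GL (Fin n) F} (hg : g ∈ GU n F q) : g⁻¹ * x * g ∉ Geo.decompositionStabilizer D := by
  rintro ⟨σ, hσ⟩
  have hsp := herm_spec (n := n) hF
  set w : Fin n → F := (g⁻¹ : GL (Fin n) F).val *ᵥ v with hw
  have hgi : ∀ z, (g⁻¹ : GL (Fin n) F).val *ᵥ (g.val *ᵥ z) = z := fun z => by
    rw [Matrix.mulVec_mulVec, ← Units.val_mul, inv_mul_cancel, Units.val_one, Matrix.one_mulVec]
  have hgi' : ∀ z, g.val *ᵥ ((g⁻¹ : GL (Fin n) F).val *ᵥ z) = z := fun z => by
    rw [Matrix.mulVec_mulVec, ← Units.val_mul, mul_inv_cancel, Units.val_one, Matrix.one_mulVec]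
  have hw0 : w ≠ 0 := fun h0 => hv (by rw [← hgi' v, ← hw, h0, Matrix.mulVec_zero])
  have hfv : ∀ z, hermForm n F q (g.val *ᵥ z) v = hermForm n F q z w := fun z => by
    conv_lhs => rw [← hgi' v]
    exact hg z w
  have hy : ∀ z, (g⁻¹ * x * g : GL (Fin n) F).val *ᵥ z = α • (z + (β * hermForm n F q z w) • w) := fun z => by
    rw [Units.val_mul, Units.val_mul, ← Matrix.mulVec_mulVec, ← Matrix.mulVec_mulVec, hx, prefl_apply,
      Matrix.mulVec_smul, Matrix.mulVec_add, Matrix.mulVec_smul, hgi, hfv]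
  have hmem : ∀ i, ∀ z ∈ D i, α • (z + (β * hermForm n F q z w) • w) ∈ D (σ i) := fun i z hz => by
    rw [← hσ i, ← hy]
    exact ⟨z, hz, Matrix.toLin'_apply _ _⟩
  have hdisj : Disjoint (D 0) (D 1) := hD.indep.pairwiseDisjoint (by decide : (0 : Fin 2) ≠ 1)
  -- a vector of `D 0` fixed up to the scalar
  obtain ⟨z, hz, hz0, hzw⟩ : ∃ z ∈ D 0, z ≠ 0 ∧ hermForm n F q z w = 0 := by
    let φ : D 0 →ₗ[F] F :=
      { toFun := fun z => hermForm n F q z w
        map_add' := fun a b => hsp.add_left _ _ _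
        map_smul' := fun a b => hsp.smul_left _ _ _ }
    have hker : LinearMap.ker φ ≠ ⊥ := fun h => by
      have h1 := LinearMap.finrank_le_finrank_of_injective (LinearMap.ker_eq_bot.1 h)
      rw [hD.finrank_eq, finrank_self] at h1
      omega
    obtain ⟨z, hz, hz0⟩ := Submodule.exists_mem_ne_zero_of_ne_bot hker
    exact ⟨z, z.2, fun h => hz0 (Subtype.ext h), hz⟩
  have hσ0 : σ 0 = 0 := by
    by_contra hne
    have h1 := hmem 0 z hz
    rw [hzw, mul_zero, zero_smul, add_zero, Fin.eq_one_of_ne_zero _ hne, Submodule.smul_mem_iff _ hα] at h1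
    exact hz0 (Submodule.disjoint_def.1 hdisj z hz h1)
  have hσ1 : σ 1 = 1 := Fin.eq_one_of_ne_zero _ fun h => absurd (σ.injective (h.trans hσ0.symm)) (by decide)
  have hcases : ∀ i, σ i = i → w ∉ D i → ∀ z ∈ D i, hermForm n F q z w = 0 := by
    intro i hi hwi z hz
    by_contra hne
    have h1 := hmem i z hz
    rw [hi, Submodule.smul_mem_iff _ hα, Submodule.add_mem_iff_right _ hz,
      Submodule.smul_mem_iff _ (mul_ne_zero hβ hne)] at h1
    exact hwi h1
  have hperp : ∀ i : Fin 2, ∀ z ∈ D i, hermForm n F q z w = 0 := by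
    have hj : ∀ i : Fin 2, σ i = i := fun i => by fin_cases i <;> assumption
    intro i z hz
    by_cases hwi : w ∈ D i
    · exact hDs i z hz w hwi
    · exact hcases i (hj i) hwi z hz
  obtain ⟨u, hu⟩ := (hsp.nondegenerate w hw0).1
  apply hu
  have htop : u ∈ iSup D := by rw [hD.iSup_eq_top]; trivial
  clear hu
  induction htop using Submodule.iSup_induction' with
  | mem i z hz => exact hperp i z hz
  | zero => exact herm_zero_left hF w
  | add a b _ _ ha hb => rw [hsp.add_left, ha, hb, add_zero]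

/-- The form scales by `N(α)` and the defect of `β`. -/
theorem prefl_herm (hF : Fintype.card F = q ^ 2) (α β : F) (v u u' : Fin n → F) :
    hermForm n F q (prefl q α β v *ᵥ u) (prefl q α β v *ᵥ u') =
      α * α ^ q * (hermForm n F q u u' +
        (β + β ^ q + β * β ^ q * hermForm n F q v v) * (hermForm n F q u v * hermForm n F q v u')) := by
  have hsp := herm_spec (n := n) hF
  have h1 : hermForm n F q u' v ^ q = hermForm n F q v u' := (hsp.herm v u').symm
  rw [prefl_apply, prefl_apply, hsp.smul_left, herm_smul_right hF, hsp.add_left, herm_add_right hF,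
    herm_add_right hF, hsp.smul_left, hsp.smul_left, herm_smul_right hF, herm_smul_right hF, mul_pow, h1]
  ring

/-- A transvection or scalar times reflection as an element of the special unitary group. -/
theorem exists_prefl (hF : Fintype.card F = q ^ 2) {α β : F} {v : Fin n → F} (hα : α * α ^ q = 1)
    (hβ : β + β ^ q + β * β ^ q * hermForm n F q v v = 0) (hdet : (prefl q α β v).det = 1) :
    ∃ x : GL (Fin n) F, x.val = prefl q α β v ∧ x ∈ GU n F q ⊓ Geo.specialLinear (Fin n) F := by
  refine ⟨Matrix.GeneralLinearGroup.mkOfDetNeZero (prefl q α β v) (by rw [hdet]; exact one_ne_zero), rfl,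
    fun a b => ?_, Units.ext hdet⟩
  show hermForm n F q (prefl q α β v *ᵥ a) (prefl q α β v *ᵥ b) = hermForm n F q a b
  rw [prefl_herm hF, hα, hβ, zero_mul, add_zero, one_mul]

theorem transvection_witness (hF : Fintype.card F = q ^ 2) (r : ℕ) [Fact r.Prime] [CharP F r] (hn : 2 ≤ n) :
    ∃ (x : GL (Fin n) F) (β : F) (v : Fin n → F), β ≠ 0 ∧ v ≠ 0 ∧ x.val = prefl q 1 β v ∧
      x ∈ GU n F q ⊓ Geo.specialLinear (Fin n) F ∧ x.val ^ r = 1 ∧
      ∀ z : F, x.val ≠ z • (1 : Matrix (Fin n) (Fin n) F) := by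
  classical
  have hr := (Fact.out : r.Prime)
  have hsp := herm_spec (n := n) hF
  have hq1 := Forms.one_lt_q hF
  obtain ⟨β, hβ0, hβ⟩ : ∃ β : F, β ≠ 0 ∧ β + β ^ q = 0 := by
    by_contra hcon
    push Not at hcon
    refine Forms.qEnd_ne_id hF (RingHom.ext fun a => ?_)
    by_contra hne
    refine hcon (a - Forms.qEnd hF a) (sub_ne_zero.2 (Ne.symm hne)) ?_
    rw [← Forms.qEnd_apply hF (a - _), map_sub, Forms.qEnd_qEnd]
    ring
  obtain ⟨μ, hμ0, hμ⟩ := Forms.exists_norm_eq hF (c := (-1 : F)) (neg_ne_zero.2 one_ne_zero)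
    (by rw [← Forms.qEnd_apply hF, map_neg, map_one])
  let i0 : Fin n := ⟨0, by omega⟩
  let i1 : Fin n := ⟨1, by omega⟩
  have h01 : i0 ≠ i1 := by simp [i0, i1]
  set v : Fin n → F := Pi.single i0 1 + μ • Pi.single i1 1 with hv
  have hvv : hermForm n F q v v = 0 := by
    have hne : ∀ a b : Fin n, hermForm n F q (Pi.single a 1) (Pi.single b 1) = if a = b then 1 else 0 := by
      intro a b
      simp [hermForm, Pi.single_apply, zero_pow (show q ≠ 0 by omega), eq_comm]
    rw [hv, hsp.add_left, herm_add_right hF, herm_add_right hF, hsp.smul_left, hsp.smul_left, herm_smul_right hF,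
      herm_smul_right hF, hne, hne, hne, hne, if_pos rfl, if_neg h01, if_neg h01.symm, if_pos rfl]
    rw [pow_succ'] at hμ
    linear_combination hμ
  have hv0 : v ≠ 0 := fun h => by
    have := congrFun h i0
    simp [hv, h01] at this
  have hM : (prefl q 1 β v) ^ r = 1 := by
    haveI : Nonempty (Fin n) := ⟨i0⟩
    have hsq : ((prefl q 1 β v) - 1) * ((prefl q 1 β v) - 1) = 0 := by
      rw [prefl, one_smul, add_sub_cancel_left, Matrix.smul_mul, Matrix.mul_smul, smul_smul,
        Matrix.vecMulVec_mul_vecMulVec]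
      rw [show (fun i => v i ^ q) ⬝ᵥ v = 0 from by
        rw [← hvv, dotProduct_comm]; rfl]
      simp
    have h1 : ((prefl q 1 β v) - 1) ^ r = 0 := by
      obtain ⟨t, ht⟩ : ∃ t, r = 2 + t := ⟨r - 2, by have := hr.two_le; omega⟩
      rw [ht, pow_add, pow_two, hsq, zero_mul]
    haveI : CharP (Matrix (Fin n) (Fin n) F) r := charP_of_injective_algebraMap
      (algebraMap F (Matrix (Fin n) (Fin n) F)).injective r
    rw [sub_pow_char_of_commute r (Commute.one_right (prefl q 1 β v)), one_pow, sub_eq_zero] at h1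
    exact h1
  have hdet : (prefl q 1 β v).det = 1 := by
    have h1 := congrArg Matrix.det hM
    rw [Matrix.det_pow, Matrix.det_one] at h1
    have h2 : ((prefl q 1 β v).det - 1) ^ r = 0 := by rw [sub_pow_char, one_pow, h1, sub_self]
    exact sub_eq_zero.1 (eq_zero_of_pow_eq_zero h2)
  obtain ⟨x, hx, hmem⟩ := exists_prefl hF (v := v) (α := 1) (β := β) (by simp)
    (by rw [hvv]; linear_combination hβ) hdet
  refine ⟨x, β, v, hβ0, hv0, hx, hmem, by rw [hx, hM], fun z hz => ?_⟩
  have h2 := congrFun (congrFun hz i0) i1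
  rw [hx] at h2
  simp [prefl, hv, Matrix.vecMulVec, Pi.single_apply, h01, h01.symm, hβ0, hμ0] at h2

theorem reflection_witness (hF : Fintype.card F = q ^ 2) (h2 : (2 : F) ≠ 0) (hn : 2 ≤ n)
    (hv2 : padicValNat 2 n < padicValNat 2 (q + 1)) :
    ∃ (x : GL (Fin n) F) (α β : F) (v : Fin n → F), α ≠ 0 ∧ β ≠ 0 ∧ v ≠ 0 ∧ x.val = prefl q α β v ∧
      x ∈ GU n F q ⊓ Geo.specialLinear (Fin n) F ∧ (∃ z : F, x.val ^ 2 = z • (1 : Matrix (Fin n) (Fin n) F)) ∧
      ∀ z : F, x.val ≠ z • (1 : Matrix (Fin n) (Fin n) F) := by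
  classical
  haveI : Fact (Nat.Prime 2) := ⟨Nat.prime_two⟩
  have hq1 := Forms.one_lt_q hF
  set s := padicValNat 2 n with hs
  obtain ⟨w, hwq, hwn⟩ : ∃ w : F, w ^ (q + 1) = 1 ∧ w ^ n = -1 := by
    obtain ⟨t, ht⟩ : 2 ^ (s + 1) ∣ q + 1 := (padicValNat_dvd_iff_le (by omega)).2 hv2
    obtain ⟨γ, hγ⟩ := IsCyclic.exists_generator (α := Fˣ)
    have hord : orderOf γ = (q + 1) * (q - 1) := by
      rw [orderOf_eq_card_of_forall_mem_zpowers hγ, Forms.units_card hF]
    have ht0 : t * (q - 1) ≠ 0 := by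
      refine Nat.mul_ne_zero ?_ (by omega)
      rintro rfl
      simp at ht
    have hω : orderOf (γ ^ (t * (q - 1))) = 2 ^ (s + 1) := by
      rw [orderOf_pow_of_dvd ht0 (hord ▸ ⟨2 ^ (s + 1), by rw [ht]; ring⟩), hord, ht,
        show 2 ^ (s + 1) * t * (q - 1) = 2 ^ (s + 1) * (t * (q - 1)) by ring,
        Nat.mul_div_cancel _ (Nat.pos_of_ne_zero ht0)]
    have hprim : IsPrimitiveRoot ((γ ^ (t * (q - 1)) : Fˣ) : F) (2 ^ (s + 1)) :=
      IsPrimitiveRoot.coe_units_iff.2 (hω ▸ IsPrimitiveRoot.orderOf _)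
    refine ⟨_, (hprim.pow_eq_one_iff_dvd _).2 ⟨t, ht⟩, ?_⟩
    obtain ⟨o, ho⟩ : 2 ^ s ∣ n := hs ▸ pow_padicValNat_dvd
    have hodd : Odd o := by
      by_contra he
      obtain ⟨o', rfl⟩ := even_iff_two_dvd.1 (Nat.not_odd_iff_even.1 he)
      have h : 2 ^ (s + 1) ∣ n := ⟨o', by rw [ho]; ring⟩
      rw [padicValNat_dvd_iff_le (by omega)] at h
      omega
    rw [ho, pow_mul]
    rw [(hprim.pow (show 0 < 2 ^ (s + 1) by positivity) (pow_succ 2 s)).eq_neg_one_of_two_right]
    exact hodd.neg_one_pow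
  have hw0 : w ≠ 0 := fun h => by
    rw [h, zero_pow (by omega)] at hwn
    exact one_ne_zero (neg_eq_zero.1 hwn.symm)
  let i0 : Fin n := ⟨0, by omega⟩
  let i1 : Fin n := ⟨1, by omega⟩
  have h01 : i0 ≠ i1 := by simp [i0, i1]
  have hq0 : q ≠ 0 := by omega
  have hdiag : prefl q w (-2) (Pi.single i0 (1 : F)) = Matrix.diagonal fun j => if j = i0 then -w else w := by
    ext a b
    by_cases hab : a = b
    · subst hab
      by_cases ha : a = i0
      · simp [prefl, Matrix.vecMulVec, ha]; ring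
      · simp [prefl, Matrix.vecMulVec, ha, Pi.single_apply]
    · by_cases ha : a = i0
      · subst ha
        simp [prefl, Matrix.vecMulVec, hab, Ne.symm hab, Pi.single_apply, zero_pow hq0]
      · simp [prefl, Matrix.vecMulVec, hab, ha, Pi.single_apply]
  have hdet : (prefl q w (-2) (Pi.single i0 (1 : F))).det = 1 := by
    rw [hdiag, Matrix.det_diagonal, Finset.prod_ite, Finset.prod_const, Finset.prod_const,
      show (Finset.univ.filter fun j => j = i0) = {i0} from Finset.ext fun j => by simp,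
      show (Finset.univ.filter fun j => ¬ j = i0) = {i0}ᶜ from Finset.ext fun j => by simp,
      Finset.card_singleton, Finset.card_compl, Finset.card_singleton, Fintype.card_fin, pow_one, neg_mul,
      ← pow_succ', Nat.sub_add_cancel (by omega), hwn, neg_neg]
  have hherm : hermForm n F q (Pi.single i0 (1 : F)) (Pi.single i0 1) = 1 := by
    simp [hermForm, Pi.single_apply, zero_pow hq0]
  have h2q : (-2 : F) ^ q = -2 := by rw [← Forms.qEnd_apply hF, map_neg, map_ofNat]
  obtain ⟨x, hx, hmem⟩ := exists_prefl hF (v := Pi.single i0 (1 : F)) (α := w) (β := -2)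
    (by rw [← pow_succ', hwq]) (by rw [h2q, hherm]; ring) hdet
  refine ⟨x, w, -2, Pi.single i0 1, hw0, neg_ne_zero.2 h2, by simp, hx, hmem, ⟨w * w, ?_⟩, fun z hz => ?_⟩
  · rw [hx, hdiag, Matrix.diagonal_pow, ← Matrix.diagonal_one, ← Matrix.diagonal_smul]
    congr 1
    funext j
    by_cases hj : j = i0 <;> simp [hj] <;> ring
  · rw [hx, hdiag] at hz
    have e0 := congrFun (congrFun hz i0) i0
    have e1 := congrFun (congrFun hz i1) i1
    simp [h01.symm] at e0 e1
    exact mul_ne_zero h2 hw0 (by linear_combination e1 - e0)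

/-- The fixed space of a conjugate into the stabiliser has even dimension. -/
theorem fixed_space_even (hF : Fintype.card F = q ^ 2) {r : ℕ} [Fact r.Prime] (hr2 : r ≠ 2) (hr0 : (r : F) ≠ 0)
    {m : ℕ} {D : Fin 2 → Submodule F (Fin n → F)} (hD : Geo.IsMDecomposition m D)
    (hDs : ∀ i, Geo.IsTotallySingularFor (hermForm n F q) (D i)) {x g : GL (Fin n) F}
    (hx : x ∈ GU n F q) (hg : g ∈ GU n F q) (hxr : x ^ r = 1)
    (h : g⁻¹ * x * g ∈ Geo.decompositionStabilizer D) :
    Even (finrank F (LinearMap.ker (Matrix.toLin' x.val - 1))) := by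
  classical
  have hr := (Fact.out : r.Prime)
  obtain ⟨σ, hσ⟩ := h
  set y := g⁻¹ * x * g with hy
  have hyg : y ∈ GU n F q := mul_mem (mul_mem (inv_mem hg) hx) hg
  have hyr : y ^ r = 1 := by
    have h := conj_pow (i := r) (a := g⁻¹) (b := x)
    rw [inv_inv, hxr, mul_one, inv_mul_cancel] at h
    exact h
  have hpow : ∀ k i, (D i).map (Matrix.toLin' (y ^ k).val) = D ((σ ^ k : Equiv.Perm (Fin 2)) i) := by
    intro k
    induction k with
    | zero => intro i; simp
    | succ k ih =>
      intro i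
      rw [pow_succ', Units.val_mul, Matrix.toLin'_mul, Submodule.map_comp, ih, hσ, pow_succ', Equiv.Perm.mul_apply]
  have hσ1 : ∀ i, σ i = i := by
    intro i
    have h1 := hpow r i
    rw [hyr, Units.val_one, Matrix.toLin'_one, Submodule.map_id] at h1
    obtain ⟨k, hk⟩ := hr.odd_of_ne_two hr2
    have h2 : σ ^ r = σ := by
      rw [hk, pow_succ, pow_mul, show σ ^ 2 = 1 from Equiv.ext fun j => by
        rw [pow_two, Equiv.Perm.mul_apply]; exact perm_two σ j, one_pow, one_mul]
    rw [h2] at h1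
    by_contra hne
    have hd : Disjoint (D i) (D (σ i)) := hD.indep.pairwiseDisjoint (Ne.symm hne)
    rw [← h1, disjoint_self] at hd
    have := hD.finrank_eq i
    rw [hd, finrank_bot] at this
    exact absurd this.symm hD.pos.ne'
  set Y : End F (Fin n → F) := Matrix.toLin' y.val with hY
  set K := LinearMap.ker (Y - 1) with hK
  have hYpow : ∀ k : ℕ, Y ^ k = Matrix.toLin' (y ^ k).val := fun k => by
    rw [hY, Units.val_pow_eq_pow_val, Matrix.toLin'_pow]
  have hYr : Y ^ r = 1 := by rw [hYpow, hyr, Units.val_one, Matrix.toLin'_one]; rfl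
  have hpair : ∀ i j : Fin 2, i ≠ j → finrank F ↥(K ⊓ D i) ≤ finrank F ↥(K ⊓ D j) := by
    intro i j hij
    refine finrank_le_of_pairing hF _ _ fun u hu hperp => ?_
    obtain ⟨huK, huD⟩ := Submodule.mem_inf.1 hu
    by_contra hne
    obtain ⟨z, hz⟩ := ((herm_spec hF).nondegenerate u hne).2
    apply hz
    let L : (Fin n → F) →+ F := AddMonoidHom.mk' (hermForm n F q u) (herm_add_right hF u)
    have hfix : Y u = u := by
      have h3 : (Y - 1) u = 0 := huK
      simpa [sub_eq_zero] using h3
    have hz' : z ∈ iSup D := by rw [hD.iSup_eq_top]; trivial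
    clear hz
    induction hz' using Submodule.iSup_induction' with
    | zero => exact map_zero L
    | add a b _ _ ha hb => rw [herm_add_right hF, ha, hb, add_zero]
    | mem l c hc =>
      rcases (show l = i ∨ l = j by omega) with rfl | rfl
      · exact hDs _ u huD c hc
      let T : ℕ → (Fin n → F) := fun k => (Y ^ k) c
      have hT : T r = T 0 := by simp [T, hYr]
      have hsum : ∑ k ∈ Finset.range r, T k ∈ K ⊓ D l := by
        refine Submodule.mem_inf.2 ⟨?_, Submodule.sum_mem _ fun k _ => ?_⟩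
        · show (Y - 1) (∑ k ∈ Finset.range r, T k) = 0
          rw [LinearMap.sub_apply, map_sum, Module.End.one_apply, sub_eq_zero,
            Finset.sum_congr rfl fun k _ => show Y (T k) = T (k + 1) by
              simp only [T]; rw [pow_succ', Module.End.mul_apply]]
          have h1 := Finset.sum_range_succ' T r
          rw [Finset.sum_range_succ, hT] at h1
          exact (add_right_cancel h1).symm
        · have h1 := hpow k l
          have hfix' : ∀ a, (σ ^ k : Equiv.Perm (Fin 2)) a = a := fun a => by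
            rw [show σ = 1 from Equiv.ext hσ1, one_pow]; rfl
          rw [hfix'] at h1
          rw [← h1]
          exact ⟨c, hc, by simp [T, hYpow]⟩
      have h2 : L (∑ k ∈ Finset.range r, T k) = 0 := hperp _ hsum
      rw [map_sum, Finset.sum_congr rfl fun k _ => show L (T k) = hermForm n F q u c from ?_] at h2
      · rw [Finset.sum_const, Finset.card_range, ← Nat.cast_smul_eq_nsmul F, smul_eq_mul] at h2
        exact (mul_eq_zero.1 h2).resolve_left hr0
      · show hermForm n F q u ((Y ^ k) c) = _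
        have hk : ∀ k : ℕ, (Y ^ k) u = u := by
          intro k
          induction k with
          | zero => rfl
          | succ k ih => rw [pow_succ', Module.End.mul_apply, ih, hfix]
        conv_lhs => rw [← hk k]
        rw [hYpow, Matrix.toLin'_apply, Matrix.toLin'_apply]
        exact pow_mem hyg k u c
  have h01 : (0 : Fin 2) ≠ 1 := by decide
  have heq := le_antisymm (hpair 0 1 h01) (hpair 1 0 h01.symm)
  have hsup : (K ⊓ D 0) ⊔ (K ⊓ D 1) = K := by
    refine le_antisymm (sup_le inf_le_left inf_le_left) fun z hz => ?_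
    have htop : z ∈ D 0 ⊔ D 1 := by
      have h : D 0 ⊔ D 1 = ⊤ := by
        rw [eq_top_iff, ← hD.iSup_eq_top, iSup_le_iff]
        intro i; fin_cases i
        · exact le_sup_left
        · exact le_sup_right
      rw [h]; trivial
    obtain ⟨a, ha, b, hb, rfl⟩ := Submodule.mem_sup.1 htop
    have hm : ∀ i, ∀ c ∈ D i, (Y - 1) c ∈ D i := fun i c hc => by
      refine Submodule.sub_mem _ ?_ hc
      have h1 := hσ i
      rw [hσ1] at h1
      rw [← h1]
      exact ⟨c, hc, rfl⟩
    have hz' : (Y - 1) a + (Y - 1) b = 0 := by rw [← map_add]; exact hz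
    have hd : Disjoint (D 0) (D 1) := hD.indep.pairwiseDisjoint h01
    have ha0 : (Y - 1) a = 0 := Submodule.disjoint_def.1 hd _ (hm 0 a ha) (by
      rw [eq_neg_of_add_eq_zero_left hz']; exact Submodule.neg_mem _ (hm 1 b hb))
    have hb0 : (Y - 1) b = 0 := by rwa [ha0, zero_add] at hz'
    exact add_mem (Submodule.mem_sup_left (Submodule.mem_inf.2 ⟨ha0, ha⟩))
      (Submodule.mem_sup_right (Submodule.mem_inf.2 ⟨hb0, hb⟩))
  have hdim := Submodule.finrank_sup_add_finrank_inf_eq (K ⊓ D 0) (K ⊓ D 1)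
  rw [hsup, show (K ⊓ D 0) ⊓ (K ⊓ D 1) = ⊥ from le_bot_iff.1
    ((inf_le_inf inf_le_right inf_le_right).trans (hD.indep.pairwiseDisjoint h01).le_bot), finrank_bot,
    add_zero, heq] at hdim
  have hconj : finrank F (LinearMap.ker (Matrix.toLin' x.val - 1)) = finrank F K := by
    let E : (Fin n → F) ≃ₗ[F] (Fin n → F) :=
      Matrix.toLin'OfInv (M := (g⁻¹ : GL (Fin n) F).val) (M' := g.val)
        (by rw [← Units.val_mul, inv_mul_cancel, Units.val_one]) (by rw [← Units.val_mul, mul_inv_cancel, Units.val_one])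
    have hker : LinearMap.ker (Matrix.toLin' x.val - 1) = K.map E.toLinearMap := by
      have hxy : ∀ z, x.val *ᵥ (g.val *ᵥ z) = g.val *ᵥ (y.val *ᵥ z) := fun z => by
        rw [Matrix.mulVec_mulVec, Matrix.mulVec_mulVec, ← Units.val_mul, ← Units.val_mul, hy]
        congr 2
        group
      have hE : ∀ z, E z = g.val *ᵥ z := fun z => by simp [E, Matrix.toLin'OfInv]
      ext z
      obtain ⟨z, rfl⟩ := E.surjective z
      rw [Submodule.mem_map_equiv, LinearEquiv.symm_apply_apply, LinearMap.mem_ker, LinearMap.sub_apply,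
        sub_eq_zero, hK, LinearMap.mem_ker, LinearMap.sub_apply, sub_eq_zero]
      show x.val *ᵥ E z = E z ↔ y.val *ᵥ z = z
      rw [hE, hxy, ← hE, ← hE, E.injective.eq_iff]
    rw [hker, LinearEquiv.finrank_map_eq]
  rw [hconj, hdim]
  exact ⟨_, rfl⟩

/-- A prime dividing the index makes `-q` of odd order. -/
theorem odd_order_of_dvd (hF : Fintype.card F = q ^ 2) {r : ℕ} [Fact r.Prime] (hrq : ¬ r ∣ q) {m : ℕ}
    (hnm : n = 2 * m) {D : Fin 2 → Submodule F (Fin n → F)} (hD : Geo.IsMDecomposition m D)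
    (hDs : ∀ i, Geo.IsTotallySingularFor (hermForm n F q) (D i))
    (hΩ : r ∣ (Geo.decompositionStabilizer D).relIndex (GU n F q ⊓ Geo.specialLinear (Fin n) F)) :
    ∃ j, j < m ∧ (q : ZMod r) ^ (2 * j + 1) = -1 := by
  classical
  have hr := (Fact.out : r.Prime)
  have hq1 := Forms.one_lt_q hF
  obtain ⟨c, hc, hc0, hc1⟩ := exists_adapted hF hD hDs
  let σ := Forms.qEnd hF
  let S : Matrix (Fin m) (Fin m) F →* Matrix (Fin m) (Fin m) F := σ.mapMatrix.toMonoidHom
  let θ : GL (Fin m) F →* GL (Fin m) F := MonoidHom.mk'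
    (fun A => ⟨S ((A⁻¹ : GL (Fin m) F).valᵀ), S (A.valᵀ),
      by rw [← map_mul, ← Matrix.transpose_mul, ← Units.val_mul, mul_inv_cancel, Units.val_one,
        Matrix.transpose_one, map_one],
      by rw [← map_mul, ← Matrix.transpose_mul, ← Units.val_mul, inv_mul_cancel, Units.val_one,
        Matrix.transpose_one, map_one]⟩)
    fun A B => Units.ext (by
      show S (((A * B)⁻¹ : GL (Fin m) F).valᵀ) = S (A⁻¹ : GL (Fin m) F).valᵀ * S (B⁻¹ : GL (Fin m) F).valᵀ
      rw [← map_mul, ← Matrix.transpose_mul, ← Units.val_mul, ← _root_.mul_inv_rev])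
  let blk : GL (Fin m) F →* Matrix (Fin m ⊕ Fin m) (Fin m ⊕ Fin m) F :=
    { toFun := fun A => Matrix.fromBlocks A.val 0 0 (θ A).val
      map_one' := by simp
      map_mul' := fun A B => by simp [Matrix.fromBlocks_multiply] }
  let Φ : Matrix (Fin m ⊕ Fin m) (Fin m ⊕ Fin m) F ≃ₐ[F] Matrix (Fin n) (Fin n) F :=
    (Matrix.toLinAlgEquiv c).trans Matrix.toLinAlgEquiv'.symm
  let κ : GL (Fin m) F →* GL (Fin n) F := (Φ.toAlgHom.toRingHom.toMonoidHom.comp blk).toHomUnits
  have hκ : ∀ A v, (κ A).val *ᵥ v = Matrix.toLin c c (blk A) v := by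
    intro A v
    show Matrix.toLinAlgEquiv'.symm (Matrix.toLinAlgEquiv c (blk A)) *ᵥ v = _
    rw [← Matrix.toLinAlgEquiv'_apply, AlgEquiv.apply_symm_apply]
    rfl
  have hrepr : ∀ A v, ⇑(c.repr ((κ A).val *ᵥ v)) = blk A *ᵥ ⇑(c.repr v) := fun A v => by
    rw [hκ, Matrix.repr_toLin]
  have hmem : ∀ A, κ A ∈ GU n F q ⊓ Geo.decompositionStabilizer D ∧ True := by
    refine fun A => ⟨⟨fun u v => ?_, 1, fun i => ?_⟩, trivial⟩
    · show hermForm n F q ((κ A).val *ᵥ u) ((κ A).val *ᵥ v) = _
      rw [herm_coords hF c hc, herm_coords hF c hc, hrepr, hrepr]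
      set a : Fin m → F := fun i => c.repr u (.inl i) with ha
      set b : Fin m → F := fun i => c.repr u (.inr i) with hb
      set a' : Fin m → F := fun i => c.repr v (.inl i) with ha'
      set b' : Fin m → F := fun i => c.repr v (.inr i) with hb'
      have e1 : ∀ (w : Fin m ⊕ Fin m → F) i, (blk A *ᵥ w) (.inl i) = (A.val *ᵥ (w ∘ Sum.inl)) i := fun w i => by
        simp [blk, Matrix.fromBlocks_mulVec]
      have e2 : ∀ (w : Fin m ⊕ Fin m → F) i, (blk A *ᵥ w) (.inr i) = ((θ A).val *ᵥ (w ∘ Sum.inr)) i := fun w i => by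
        simp [blk, Matrix.fromBlocks_mulVec]
      simp only [e1, e2]
      have hσθ : (θ A).val.map σ = (A⁻¹ : GL (Fin m) F).valᵀ := by
        ext i j
        simp [θ, S, σ, Forms.qEnd_qEnd]
      have hd1 : ∀ (x y : Fin m → F), ∑ i, (A.val *ᵥ x) i * ((θ A).val *ᵥ y) i ^ q = ∑ i, x i * y i ^ q := by
        intro x y
        show (A.val *ᵥ x) ⬝ᵥ (σ ∘ ((θ A).val *ᵥ y)) = x ⬝ᵥ (σ ∘ y)
        rw [show σ ∘ ((θ A).val *ᵥ y) = (θ A).val.map σ *ᵥ (σ ∘ y) from funext fun i => σ.map_mulVec _ _ i, hσθ,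
          Matrix.mulVec_transpose, dotProduct_comm, ← Matrix.dotProduct_mulVec, Matrix.mulVec_mulVec,
          ← Units.val_mul, inv_mul_cancel, Units.val_one, Matrix.one_mulVec, dotProduct_comm]
      have hd2 : ∀ (x y : Fin m → F), ∑ i, ((θ A).val *ᵥ y) i * (A.val *ᵥ x) i ^ q = ∑ i, y i * x i ^ q := by
        intro x y
        have h := congrArg σ (hd1 x y)
        simp only [map_sum, map_mul, σ, Forms.qEnd_apply, Forms.pow_q_q hF] at h
        simpa [mul_comm] using h
      exact congrArg₂ (· + ·) (hd1 _ _) (hd2 _ _)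
    · have hcol : ∀ t, (κ A).val *ᵥ c t = ∑ s, blk A s t • c s := fun t => by
        rw [hκ, Matrix.toLin_self]
      have hle : (D i).map (Matrix.toLin' (κ A).val) ≤ D i := by
        fin_cases i
        · show (D 0).map _ ≤ D 0
          conv_lhs => rw [← hc0]
          rw [Submodule.map_span_le]
          rintro _ ⟨t, rfl⟩
          rw [Matrix.toLin'_apply, Function.comp_apply, hcol, Fintype.sum_sum_type, ← hc0]
          refine add_mem (Submodule.sum_mem _ fun s _ => Submodule.smul_mem _ _ (Submodule.subset_span ⟨s, rfl⟩))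
            (Submodule.sum_mem _ fun s _ => ?_)
          simp [blk]
        · show (D 1).map _ ≤ D 1
          conv_lhs => rw [← hc1]
          rw [Submodule.map_span_le]
          rintro _ ⟨t, rfl⟩
          rw [Matrix.toLin'_apply, Function.comp_apply, hcol, Fintype.sum_sum_type, ← hc1]
          refine add_mem (Submodule.sum_mem _ fun s _ => ?_)
            (Submodule.sum_mem _ fun s _ => Submodule.smul_mem _ _ (Submodule.subset_span ⟨s, rfl⟩))
          simp [blk]
      exact Submodule.eq_of_le_of_finrank_eq hle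
        (Submodule.equivMapOfInjective _ (Matrix.mulVec_injective_of_isUnit (κ A).isUnit) (D i)).finrank_eq.symm
  -- inside the unitary group
  set U := GU n F q
  let K := (Geo.specialLinear (Fin n) F).subgroupOf U
  let H := (Geo.decompositionStabilizer D).subgroupOf U
  haveI hKn : (Geo.specialLinear (Fin n) F).Normal := MonoidHom.normal_ker _
  haveI : K.Normal := hKn.subgroupOf U
  have hN : Nat.card (GL (Fin m) F) ∣ Nat.card H := by
    refine Subgroup.card_dvd_of_injective ((κ.codRestrict U fun A => (hmem A).1.1).codRestrict H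
      fun A => (hmem A).1.2) fun A B hAB => Units.ext ?_
    have h1 : Φ (blk A) = Φ (blk B) := congrArg (fun z => (z.1.1 : GL (Fin n) F).val) hAB
    exact (Matrix.fromBlocks_inj.1 (Φ.injective h1)).1
  have hHK : r ∣ H.relIndex K := by
    show r ∣ ((Geo.decompositionStabilizer D).subgroupOf U).relIndex ((Geo.specialLinear (Fin n) F).subgroupOf U)
    rw [← Subgroup.inf_subgroupOf_right (Geo.specialLinear (Fin n) F), Subgroup.relIndex_subgroupOf inf_le_right,
      inf_comm]
    exact hΩ
  have h1 := mul_card_dvd_of_normal H K hN hHK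
  rw [Forms.card_GU hF, Matrix.card_GL_field, Elusive.prod_frames _ le_rfl, hF, hnm] at h1
  have hfp : ∀ k, Elusive.fallProd (q ^ 2) k k = ∏ l ∈ Finset.range k, (q ^ (2 * (l + 1)) - 1) := by
    intro k
    rw [Elusive.fallProd, ← Finset.prod_range_reflect]
    refine Finset.prod_congr rfl fun l hl => ?_
    have hl' := Finset.mem_range.1 hl
    rw [show k - (k - 1 - l) = l + 1 by omega, ← pow_mul]
  have hsplit : ∀ k, ∏ i ∈ Finset.range (2 * k), (if Even i then q ^ (i + 1) + 1 else q ^ (i + 1) - 1) =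
      (∏ l ∈ Finset.range k, (q ^ (2 * (l + 1)) - 1)) * ∏ l ∈ Finset.range k, (q ^ (2 * l + 1) + 1) := by
    intro k
    induction k with
    | zero => simp
    | succ k ih =>
      rw [show 2 * (k + 1) = 2 * k + 1 + 1 by ring, Finset.prod_range_succ, Finset.prod_range_succ, ih,
        Finset.prod_range_succ, Finset.prod_range_succ, if_pos (even_two_mul k),
        if_neg (Nat.not_even_iff_odd.2 ⟨k, rfl⟩), show 2 * k + 1 + 1 = 2 * (k + 1) by ring]
      ring
  rw [hfp, hsplit] at h1
  have h2 : r ∣ q ^ (2 * m * (2 * m - 1) / 2) * ∏ l ∈ Finset.range m, (q ^ (2 * l + 1) + 1) := by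
    refine Nat.dvd_of_mul_dvd_mul_right (k := ∏ l ∈ Finset.range m, (q ^ (2 * (l + 1)) - 1))
      (Finset.prod_pos fun l _ => Nat.sub_pos_of_lt (Nat.one_lt_pow (by omega) hq1))
      (dvd_trans (Dvd.intro (∏ j ∈ Finset.range m, (q ^ 2) ^ j) ?_) (h1.trans (dvd_of_eq ?_)))
    · ring
    · ring
  have h3 := (hr.dvd_mul.1 h2).resolve_left fun h => hrq (hr.dvd_of_dvd_pow h)
  obtain ⟨j, hj, hjd⟩ := hr.prime.dvd_finsetProd_iff _ |>.1 h3
  refine ⟨j, Finset.mem_range.1 hj, ?_⟩
  rw [← ZMod.natCast_eq_zero_iff, Nat.cast_add, Nat.cast_pow, Nat.cast_one] at hjd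
  exact eq_neg_of_add_eq_zero_left hjd


/-- For `r ∣ q + 1` a diagonal element with an odd fixed space. -/
theorem diag_witness (hF : Fintype.card F = q ^ 2) {r : ℕ} [Fact r.Prime] (hr2 : r ≠ 2) (hr1 : r ∣ q + 1)
    (hn : 4 ≤ n) (he : Even n) :
    ∃ x : GL (Fin n) F, x ∈ GU n F q ⊓ Geo.specialLinear (Fin n) F ∧ x ^ r = 1 ∧
      (∀ z : F, x.val ≠ z • (1 : Matrix (Fin n) (Fin n) F)) ∧
      ¬ Even (finrank F (LinearMap.ker (Matrix.toLin' x.val - 1))) := by
  classical
  have hr := (Fact.out : r.Prime)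
  haveI : NeZero r := ⟨hr.ne_zero⟩
  haveI : Fact (1 < r) := ⟨hr.one_lt⟩
  haveI : Fact (2 < r) := ⟨by have := hr.two_le; omega⟩
  have hq1 := Forms.one_lt_q hF
  obtain ⟨u, hu⟩ : ∃ u : Fˣ, orderOf u = r := exists_prime_orderOf_dvd_card' r (by
    rw [Forms.units_card hF]; exact hr1.mul_right _)
  have hprim : IsPrimitiveRoot (u : F) r := IsPrimitiveRoot.coe_units_iff.2 (hu ▸ IsPrimitiveRoot.orderOf u)
  obtain ⟨k, rfl⟩ : ∃ k, n = 3 + k := ⟨n - 3, by omega⟩
  let v : Fin 3 ⊕ Fin k → ℕ := Sum.elim (fun i => if i = 2 then r - 2 else 1) fun _ => 0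
  let d : Fin (3 + k) → F := fun j => (u : F) ^ v (finSumFinEquiv.symm j)
  have hdpow : ∀ j, d j ^ r = 1 := fun j => by
    simp only [d]; rw [← pow_mul, mul_comm, pow_mul, hprim.pow_eq_one, one_pow]
  have hne1 : (u : F) ≠ 1 := hprim.ne_one hr.one_lt
  have hr2' : (u : F) ^ (r - 2) ≠ 1 := fun h => by
    have h1 := (hprim.pow_eq_one_iff_dvd _).1 h
    have := Nat.le_of_dvd (by have := hr.two_le; omega) h1
    have := hr.two_le
    omega
  have hd1 : ∀ j, d j = 1 ↔ ∃ t, finSumFinEquiv.symm j = .inr t := by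
    intro j
    rcases h : finSumFinEquiv.symm j with t | t
    · simp only [d, h, v, Sum.elim_inl]
      by_cases ht : t = 2 <;> simp [ht, hne1, hr2']
    · simp [d, h, v]
  have hdet : (Matrix.diagonal d).det = 1 := by
    rw [Matrix.det_diagonal, ← finSumFinEquiv.prod_comp, Fintype.prod_sum_type]
    simp [d, v, Fin.prod_univ_three]
    rw [← pow_two, ← pow_add, Nat.add_sub_cancel' (by have := hr.two_le; omega), hprim.pow_eq_one]
  let x : GL (Fin (3 + k)) F :=
    Matrix.GeneralLinearGroup.mkOfDetNeZero (Matrix.diagonal d) (by rw [hdet]; exact one_ne_zero)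
  refine ⟨x, ⟨fun a b => ?_, Units.ext hdet⟩, Units.ext ?_, fun z hz => ?_, ?_⟩
  · show hermForm _ F q (Matrix.diagonal d *ᵥ a) (Matrix.diagonal d *ᵥ b) = hermForm _ F q a b
    refine Finset.sum_congr rfl fun j _ => ?_
    rw [Matrix.mulVec_diagonal, Matrix.mulVec_diagonal, mul_pow]
    have : d j * d j ^ q = 1 := by
      obtain ⟨t, ht⟩ := hr1
      rw [← pow_succ', ht, pow_mul, hdpow, one_pow]
    linear_combination (a j * b j ^ q) * this
  · show (x ^ r : GL _ F).val = 1
    rw [Units.val_pow_eq_pow_val]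
    show Matrix.diagonal d ^ r = 1
    rw [Matrix.diagonal_pow, show d ^ r = 1 from funext hdpow, Matrix.diagonal_one']
  · have hz' : Matrix.diagonal d = z • (1 : Matrix _ _ F) := hz
    have e0 := congrFun (congrFun hz' (finSumFinEquiv (.inr ⟨0, by omega⟩))) (finSumFinEquiv (.inr ⟨0, by omega⟩))
    have e1 := congrFun (congrFun hz' (finSumFinEquiv (.inl 0))) (finSumFinEquiv (.inl 0))
    simp only [Matrix.diagonal_apply_eq, Matrix.smul_apply, Matrix.one_apply_eq, d, Equiv.symm_apply_apply, v,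
      Sum.elim_inl, Sum.elim_inr, pow_zero, smul_eq_mul, mul_one] at e0 e1
    rw [if_neg (by decide), pow_one, ← e0] at e1
    exact hne1 e1
  · have hrk := (Matrix.toLin' (Matrix.diagonal fun j => d j - 1)).finrank_range_add_finrank_ker
    have hsub : Matrix.toLin' (Matrix.diagonal d) - 1 = Matrix.toLin' (Matrix.diagonal fun j => d j - 1) := by
      rw [← Matrix.diagonal_sub, map_sub, Matrix.diagonal_one, Matrix.toLin'_one]; rfl
    show ¬ Even (finrank F (LinearMap.ker (Matrix.toLin' (Matrix.diagonal d) - 1)))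
    rw [Module.finrank_fin_fun] at hrk
    have hrank : finrank F (LinearMap.range (Matrix.toLin' (Matrix.diagonal fun j => d j - 1))) = 3 := by
      show (Matrix.diagonal fun j => d j - 1).rank = 3
      rw [Matrix.rank_diagonal]
      let e : {j // d j - 1 ≠ 0} ≃ Fin 3 :=
        { toFun := fun j => (finSumFinEquiv.symm j.1).elim id fun _ => 0
          invFun := fun t => ⟨finSumFinEquiv (.inl t), by
            rw [sub_ne_zero, Ne, hd1]
            simp⟩
          left_inv := fun j => by
            obtain ⟨j, hj⟩ := j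
            rw [sub_ne_zero, Ne, hd1] at hj
            apply Subtype.ext
            rcases h : finSumFinEquiv.symm j with t | t
            · rw [Equiv.symm_apply_eq] at h
              subst h
              simp
            · exact absurd ⟨t, h⟩ hj
          right_inv := fun t => by simp }
      rw [Fintype.card_congr e, Fintype.card_fin]
    obtain ⟨t, ht⟩ := he
    intro hev
    obtain ⟨s, hs⟩ := hev
    have hB : finrank F (LinearMap.ker (Matrix.toLin' (Matrix.diagonal fun j => d j - 1))) = s + s :=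
      (LinearEquiv.ofEq _ _ (congrArg LinearMap.ker hsub)).finrank_eq.symm.trans hs
    omega

/-- For `-q` of odd order `i ≥ 2` modulo `r` an element with fixed space of dimension `n - i`. -/
theorem orbit_witness {p : ℕ} [Fact p.Prime] [CharP F p] (hF : Fintype.card F = q ^ 2) {r : ℕ} [Fact r.Prime]
    (hrp : r ≠ p) (he : Even n) {i : ℕ} (hi : i = orderOf (Fintype.card F : ZMod r))
    (hi2 : 2 ≤ i) (hiodd : Odd i) (hin : i ≤ n) (hneg : (-(q : ZMod r)) ^ i = 1) :
    ∃ x : GL (Fin n) F, x ∈ GU n F q ⊓ Geo.specialLinear (Fin n) F ∧ x ^ r = 1 ∧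
      (∀ z : F, x.val ≠ z • (1 : Matrix (Fin n) (Fin n) F)) ∧
      ¬ Even (finrank F (LinearMap.ker (Matrix.toLin' x.val - 1))) := by
  classical
  have hr := (Fact.out : r.Prime)
  have hq1 := Forms.one_lt_q hF
  obtain ⟨K, _, _, _, ζ, hK⟩ := Semisimple.exists_rootField (F := F) (r := r) p hrp
  haveI : Module.Finite F K := Module.Finite.of_finite
  haveI : Fintype K := Fintype.ofFinite K
  haveI : CharP K p := charP_of_injective_algebraMap' F p
  obtain ⟨e₀, -, hqp⟩ : ∃ e, 0 < e ∧ q = p ^ e := by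
    obtain ⟨p', k, hp', hc', hk⟩ := Forms.exists_prime_pow_q hF
    rw [CharP.eq F hc' ‹CharP F p›] at hk
    exact ⟨k, Nat.pos_of_ne_zero fun h => by rw [h, pow_zero] at hk; omega, hk⟩
  set Q := q ^ i with hQ
  let τ : K →+* K := iterateFrobenius K p (e₀ * i)
  have hτ : ∀ a, τ a = a ^ Q := fun a => by rw [hQ, hqp, ← pow_mul]; rfl
  have hττ : ∀ a, τ (τ a) = a := fun a => by
    have hcardK : Fintype.card K = Q * Q := by
      rw [Module.card_eq_pow_finrank (K := F) (V := K), hK.deg, ← hi, hF, hQ, ← pow_mul, ← pow_add, two_mul]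
    rw [hτ, hτ, ← pow_mul, ← hcardK, FiniteField.pow_card]
  have hτF : ∀ a : F, τ (algebraMap F K a) = algebraMap F K (a ^ q) := fun a => by
    rw [hτ, ← map_pow]
    congr 1
    obtain ⟨t, ht⟩ := hiodd
    rw [hQ, ht, pow_succ, pow_mul q 2 t, ← hF, pow_mul, FiniteField.pow_card_pow]
  have htr : ∀ a, Algebra.trace F K (τ a) = Algebra.trace F K a ^ q := by
    intro a
    apply (algebraMap F K).injective
    rw [← hτF, FiniteField.algebraMap_trace_eq_sum_pow, FiniteField.algebraMap_trace_eq_sum_pow, map_sum]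
    refine Finset.sum_congr rfl fun j _ => ?_
    rw [map_pow]
  have hζτ : ζ * τ ζ = 1 := by
    rw [hτ, ← pow_succ']
    refine (hK.prim.pow_eq_one_iff_dvd _).2 ?_
    rw [← ZMod.natCast_eq_zero_iff, Nat.cast_add, hQ, Nat.cast_pow, Nat.cast_one]
    rw [hiodd.neg_pow] at hneg
    linear_combination -hneg
  let V := (Fin (n - i) → F) × K
  let h : V → V → F := fun a b => hermForm (n - i) F q a.1 b.1 + Algebra.trace F K (a.2 * τ b.2)
  have hsp := herm_spec (n := n - i) hF
  have hfin : finrank F V = n := by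
    rw [Module.finrank_prod, Module.finrank_fin_fun, hK.deg, ← hi]
    omega
  obtain ⟨e, hiso⟩ := S5982.exists_coords hF hfin h
    (fun a b c => by
      show hermForm _ F q (a.1 + b.1) c.1 + Algebra.trace F K ((a.2 + b.2) * τ c.2) = _
      rw [hsp.add_left, add_mul, map_add]; ring)
    (fun s a c => by
      show hermForm _ F q (s • a.1) c.1 + Algebra.trace F K ((s • a.2) * τ c.2) = _
      rw [hsp.smul_left, smul_mul_assoc, map_smul, smul_eq_mul]; ring)
    (fun a b => by
      show _ = Forms.qEnd hF (hermForm _ F q b.1 a.1 + Algebra.trace F K (b.2 * τ a.2))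
      rw [map_add, Forms.hermForm_swap hF, Forms.qEnd_apply, ← htr, map_mul, hττ, mul_comm (τ b.2)])
    (fun c hc => by
      by_cases h1 : c.1 = 0
      · have h2 : c.2 ≠ 0 := fun h => hc (Prod.ext h1 h)
        obtain ⟨a₀, ha₀⟩ := Algebra.trace_surjective F K 1
        refine ⟨(0, a₀ / τ c.2), ?_⟩
        show hermForm _ F q 0 c.1 + Algebra.trace F K (a₀ / τ c.2 * τ c.2) ≠ 0
        rw [div_mul_cancel₀ _ ((map_ne_zero τ).2 h2), ha₀, herm_zero_left hF, zero_add]
        exact one_ne_zero
      · obtain ⟨a, ha⟩ := (hsp.nondegenerate c.1 h1).1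
        refine ⟨(a, 0), ?_⟩
        show hermForm _ F q a c.1 + Algebra.trace F K ((0 : K) * τ c.2) ≠ 0
        rwa [zero_mul, map_zero, add_zero])
  let f₀ : End F V := (1 : End F (Fin (n - i) → F)).prodMap (LinearMap.mulLeft F ζ)
  have happ : ∀ a : V, f₀ a = (a.1, ζ * a.2) := fun a => rfl
  have hpowapp : ∀ (k : ℕ) (a : V), (f₀ ^ k) a = (a.1, ζ ^ k * a.2) := by
    intro k
    induction k with
    | zero => intro a; simp
    | succ k ih => intro a; rw [pow_succ', Module.End.mul_apply, ih, happ, ← mul_assoc, ← pow_succ']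
  have hfr : f₀ ^ r = 1 := LinearMap.ext fun a => by
    rw [hpowapp, hK.prim.pow_eq_one, one_mul]; rfl
  have hdet : LinearMap.det f₀ = 1 := by
    have h1 : LinearMap.det f₀ ^ r = 1 := by rw [← map_pow, hfr, map_one]
    by_contra hne
    have h0 : LinearMap.det f₀ ≠ 0 := fun h0 => by
      rw [h0, zero_pow hr.ne_zero] at h1; exact zero_ne_one h1
    have h2 := FiniteField.pow_card_sub_one_eq_one _ h0
    rw [← orderOf_dvd_iff_pow_eq_one, orderOf_eq_prime h1 hne] at h2
    exact Elusive.not_dvd_card_sub_one (hi ▸ hi2) h2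
  obtain ⟨M, hM⟩ : ∃ M, M = LinearMap.toMatrix' (e.conjAlgEquiv F f₀) := ⟨_, rfl⟩
  have hMdet : M.det = 1 := by
    rw [hM, LinearMap.det_toMatrix']
    show LinearMap.det (e.toLinearMap ∘ₗ f₀ ∘ₗ e.symm.toLinearMap) = 1
    rw [LinearMap.det_conj, hdet]
  have hMapp : ∀ a, M *ᵥ e a = e (f₀ a) := fun a => by
    rw [hM, ← Matrix.toLin'_apply, Matrix.toLin'_toMatrix']
    simp [LinearEquiv.conjAlgEquiv_apply]
  let x : GL (Fin n) F := Matrix.GeneralLinearGroup.mkOfDetNeZero M (by rw [hMdet]; exact one_ne_zero)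
  have hxr : M ^ r = 1 := by
    apply Matrix.toLinAlgEquiv'.injective
    rw [map_pow, map_one, show Matrix.toLinAlgEquiv' M = e.conjAlgEquiv F f₀ by
      rw [hM]; exact Matrix.toLin'_toMatrix' _, ← map_pow, hfr, map_one]
  have hker : finrank F (LinearMap.ker (Matrix.toLin' M - 1)) = n - i := by
    have h1 : LinearMap.ker (Matrix.toLin' M - 1) =
        (LinearMap.range (LinearMap.inl F (Fin (n - i) → F) K)).map e.toLinearMap := by
      ext w
      obtain ⟨a, rfl⟩ := e.surjective w
      rw [Submodule.mem_map_equiv, LinearEquiv.symm_apply_apply, LinearMap.mem_ker, LinearMap.sub_apply,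
        Matrix.toLin'_apply, hMapp, sub_eq_zero, Module.End.one_apply, e.injective.eq_iff, happ]
      constructor
      · intro h
        refine ⟨a.1, Prod.ext rfl ?_⟩
        have h2 : ζ * a.2 = a.2 := congrArg Prod.snd h
        by_contra h0
        exact hK.prim.ne_one hr.one_lt ((mul_eq_right₀ (Ne.symm h0)).1 h2)
      · rintro ⟨b, rfl⟩
        exact Prod.ext rfl (mul_zero ζ)
    rw [h1, LinearEquiv.finrank_map_eq, LinearMap.finrank_range_of_inj LinearMap.inl_injective, Module.finrank_fin_fun]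
  have hodd : Odd (n - i) := Nat.Even.sub_odd hin he hiodd
  refine ⟨x, ⟨fun a b => ?_, Units.ext hMdet⟩, Units.ext ?_, fun z hz => ?_, ?_⟩
  · show hermForm n F q (M *ᵥ a) (M *ᵥ b) = hermForm n F q a b
    obtain ⟨a, rfl⟩ := e.surjective a
    obtain ⟨b, rfl⟩ := e.surjective b
    rw [hMapp, hMapp, ← hiso, ← hiso]
    show hermForm _ F q a.1 b.1 + Algebra.trace F K (ζ * a.2 * τ (ζ * b.2)) = _
    rw [map_mul τ, show ζ * a.2 * (τ ζ * τ b.2) = ζ * τ ζ * (a.2 * τ b.2) by ring, hζτ, one_mul]
  · rw [Units.val_pow_eq_pow_val]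
    exact hxr
  · have hz' : M = z • (1 : Matrix _ _ F) := hz
    have h1 := hMapp ((fun _ => 1 : Fin (n - i) → F), 0)
    have h2 := hMapp ((0 : Fin (n - i) → F), 1)
    rw [hz', Matrix.smul_mulVec, Matrix.one_mulVec, ← map_smul, happ] at h1 h2
    have h3 := congrFun (congrArg Prod.fst (e.injective h1)) ⟨0, hodd.pos⟩
    have h4 : z • (1 : K) = ζ * 1 := congrArg Prod.snd (e.injective h2)
    have h3' : z * 1 = 1 := h3
    rw [mul_one] at h3'
    rw [h3', one_smul, mul_one] at h4
    exact hK.prim.ne_one hr.one_lt h4.symm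
  · show ¬ Even (finrank F (LinearMap.ker (Matrix.toLin' M - 1)))
    exact fun hev => Nat.not_even_iff_odd.2 hodd ((congrArg Even hker).mp hev)

/-- An orthogonal pair of families gives orthonormal ones. -/
theorem exists_onb_half (hF : Fintype.card F = q ^ 2) {a l : ℕ} (b : Basis (Fin a ⊕ Fin l) F (Fin n → F))
    (horth : ∀ i j, hermForm n F q (b (.inr j)) (b (.inl i)) = 0) :
    ∃ c : Fin a → Fin n → F, (∀ i j, hermForm n F q (c i) (c j) = if i = j then 1 else 0) ∧
      ∀ i, c i ∈ Submodule.span F (Set.range (b ∘ Sum.inl)) := by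
  classical
  have hsp := herm_spec (n := n) hF
  let L : (Fin a → F) →ₗ[F] (Fin n → F) := Fintype.linearCombination F (b ∘ Sum.inl)
  have hLinj : Function.Injective L :=
    linearIndependent_iff_injective_fintypeLinearCombination.1 (b.linearIndependent.comp _ Sum.inl_injective)
  obtain ⟨e, he⟩ := S5982.exists_coords hF (V := Fin a → F) (Module.finrank_fin_fun F)
    (fun u v => hermForm n F q (L u) (L v))
    (fun x y v => by simp only [map_add, hsp.add_left]) (fun s x v => by simp only [map_smul, hsp.smul_left])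
    (fun v w => hsp.herm _ _) (fun v hv => by
      obtain ⟨z, hz⟩ := (hsp.nondegenerate (L v) fun h => hv (hLinj (by rw [h, map_zero]))).1
      refine ⟨fun i => b.repr z (.inl i), fun h0 => hz ?_⟩
      have hzs : z = L (fun i => b.repr z (.inl i)) + ∑ j, b.repr z (.inr j) • b (.inr j) := by
        conv_lhs => rw [← b.sum_repr z, Fintype.sum_sum_type]
        rfl
      have hperp : hermForm n F q (∑ j, b.repr z (.inr j) • b (.inr j)) (L v) = 0 := by
        rw [show L v = ∑ i, v i • b (.inl i) from rfl]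
        let A : (Fin n → F) →+ F :=
          AddMonoidHom.mk' (fun u => hermForm n F q u (∑ i, v i • b (.inl i))) fun x y => hsp.add_left x y _
        show A _ = 0
        rw [map_sum]
        refine Finset.sum_eq_zero fun j _ => ?_
        show hermForm n F q (_ • b (.inr j)) _ = 0
        rw [hsp.smul_left, show hermForm n F q (b (.inr j)) (∑ i, v i • b (.inl i)) =
          (AddMonoidHom.mk' (hermForm n F q (b (.inr j))) (herm_add_right hF _)) (∑ i, v i • b (.inl i)) from rfl,
          map_sum, Finset.sum_eq_zero fun i _ => ?_, mul_zero]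
        show hermForm n F q (b (.inr j)) (_ • b (.inl i)) = 0
        rw [herm_smul_right hF, horth, mul_zero]
      rw [hzs, hsp.add_left, h0, hperp, add_zero])
  refine ⟨fun i => L (e.symm (Pi.single i 1)), fun i j => ?_, fun i => ?_⟩
  · rw [he, e.apply_symm_apply, e.apply_symm_apply]
    simp [hermForm, Pi.single_apply, zero_pow (show q ≠ 0 by have := Forms.one_lt_q hF; omega), eq_comm]
  · show (∑ j, e.symm (Pi.single i 1) j • b (.inl j)) ∈ _
    exact Submodule.sum_mem _ fun j _ => Submodule.smul_mem _ _ (Submodule.subset_span ⟨j, rfl⟩)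

/-- The positive case for involutions. -/
theorem two_fixed (hF : Fintype.card F = q ^ 2) (h2 : (2 : F) ≠ 0) {m : ℕ} (hnm : n = 2 * m) (hm : 0 < m)
    (hv : padicValNat 2 (q + 1) ≤ padicValNat 2 n)
    {D : Fin 2 → Submodule F (Fin n → F)} (hD : Geo.IsMDecomposition m D)
    (hDs : ∀ i, Geo.IsTotallySingularFor (hermForm n F q) (D i))
    (x : GL (Fin n) F) (hx : x ∈ GU n F q ⊓ Geo.specialLinear (Fin n) F) {z : F}
    (hz : (x ^ 2 : GL (Fin n) F).val = z • (1 : Matrix (Fin n) (Fin n) F)) :
    ∃ g ∈ GU n F q ⊓ Geo.specialLinear (Fin n) F, g⁻¹ * x * g ∈ Geo.decompositionStabilizer D := by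
  classical
  haveI : Fact (Nat.Prime 2) := ⟨Nat.prime_two⟩
  have hn : 0 < n := by omega
  haveI := Fin.pos_iff_nonempty.1 hn
  have hq1 := Forms.one_lt_q hF
  have hsp := herm_spec (n := n) hF
  have hiso : ∀ u v, hermForm n F q (x.val *ᵥ u) (x.val *ᵥ v) = hermForm n F q u v := hx.1
  have hxdet : x.val.det = 1 := congrArg Units.val hx.2
  set f : End F (Fin n → F) := Matrix.toLin' x.val with hf
  have hf2 : ∀ v, f (f v) = z • v := fun v => by
    rw [hf, Matrix.toLin'_apply, Matrix.toLin'_apply, Matrix.mulVec_mulVec,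
      show x.val * x.val = z • (1 : Matrix (Fin n) (Fin n) F) by rw [← hz, pow_two]; rfl,
      Matrix.smul_mulVec, Matrix.one_mulVec]
  have hzN : z * z ^ q = 1 := by
    obtain ⟨v₀, hv₀⟩ := exists_ne (0 : Fin n → F)
    obtain ⟨v₁, hv₁⟩ := (hsp.nondegenerate v₀ hv₀).2
    have h1 := (hiso (f v₀) (f v₁)).trans (hiso v₀ v₁)
    change hermForm n F q (f (f v₀)) (f (f v₁)) = _ at h1
    rw [hf2, hf2, hsp.smul_left, herm_smul_right hF, ← mul_assoc] at h1
    exact mul_right_cancel₀ hv₁ (h1.trans (one_mul _).symm)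
  have hz0 : z ≠ 0 := fun h => by rw [h, zero_mul] at hzN; exact zero_ne_one hzN
  have hqodd : Odd q := by
    rcases Nat.even_or_odd q with he | ho
    · exfalso
      apply h2
      have h := FiniteField.cast_card_eq_zero F
      rw [hF] at h
      obtain ⟨p', k, hp', hc', hk⟩ := Forms.exists_prime_pow_q hF
      have hp2 : p' = 2 := (hp'.eq_one_or_self_of_dvd 2 (Nat.prime_two.dvd_of_dvd_pow (hk ▸ he.two_dvd))).elim
        (fun h => absurd h (by norm_num)) Eq.symm
      have := CharP.cast_eq_zero F p'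
      rwa [hp2, Nat.cast_ofNat] at this
    · exact ho
  obtain ⟨w, hw⟩ : ∃ w, z = w * w := by
    have h2F : ringChar F ≠ 2 := fun h => h2 (by
      have := ringChar.Nat.cast_ringChar (R := F); rw [h] at this; exact_mod_cast this)
    have hsq : IsSquare z := by
      rw [FiniteField.isSquare_iff h2F hz0, hF]
      obtain ⟨k, hk⟩ := hqodd
      rw [hk, show (2 * k + 1) ^ 2 / 2 = (q + 1) * k by
        rw [hk, show (2 * k + 1) ^ 2 = 2 * ((2 * k + 1 + 1) * k) + 1 by ring]; omega, pow_mul,
        pow_succ', hzN, one_pow]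
    exact hsq
  subst hw
  have hw0 : w ≠ 0 := left_ne_zero_of_mul hz0
  obtain ⟨a, l, b, e0, e1⟩ := Elusive.exists_eigen_basis h2 hw0 hf2
  have hN : (w * w ^ q) * (w * w ^ q) = 1 := by rw [← hzN, mul_pow]; ring
  have hb0 : ∀ i, x.val *ᵥ b (.inl i) = (-w) • b (.inl i) := fun i => by rw [← Matrix.toLin'_apply]; exact e0 i
  have hb1 : ∀ i, x.val *ᵥ b (.inr i) = w • b (.inr i) := fun i => by rw [← Matrix.toLin'_apply]; exact e1 i
  have hnegq : (-w) ^ q = -(w ^ q) := hqodd.neg_pow w
  rcases mul_self_eq_one_iff.1 hN with hN1 | hN1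
  · -- the eigenspaces are non-degenerate of even dimension
    have horth : ∀ i j, hermForm n F q (b (.inr j)) (b (.inl i)) = 0 := fun i j => by
      have h1 := hiso (b (.inr j)) (b (.inl i))
      rw [hb0, hb1, hsp.smul_left, herm_smul_right hF, hnegq] at h1
      refine (mul_eq_zero.1 (show (2 : F) * hermForm n F q (b (.inr j)) (b (.inl i)) = 0 from ?_)).resolve_left h2
      linear_combination -h1 - hermForm n F q (b (.inr j)) (b (.inl i)) * hN1
    have hal : a + l = n := by
      have := finrank_eq_card_basis b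
      simp at this
      omega
    have hdet : (-w) ^ a * w ^ l = 1 := by
      rw [← Elusive.det_eigen b e0 e1, hf, LinearMap.det_toLin', hxdet]
    have hwn : w ^ n ≠ -1 := by
      intro h
      obtain ⟨o, ho⟩ : 2 ^ padicValNat 2 (q + 1) ∣ q + 1 := pow_padicValNat_dvd
      obtain ⟨t, ht⟩ : 2 ^ padicValNat 2 (q + 1) ∣ n := (padicValNat_dvd_iff_le hn.ne').2 hv
      have hodd : Odd o := by
        by_contra he
        obtain ⟨o', rfl⟩ := even_iff_two_dvd.1 (Nat.not_odd_iff_even.1 he)
        have h' : 2 ^ (padicValNat 2 (q + 1) + 1) ∣ q + 1 := ⟨o', by rw [pow_succ, mul_assoc]; exact ho⟩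
        rw [padicValNat_dvd_iff_le (by omega)] at h'
        omega
      have h1 : (w ^ n) ^ o = 1 := by
        rw [← pow_mul, ht, show 2 ^ padicValNat 2 (q + 1) * t * o = (q + 1) * t by
          conv_rhs => rw [ho]
          ring, pow_mul, pow_succ', hN1, one_pow]
      rw [h, hodd.neg_one_pow] at h1
      exact h2 (by linear_combination -h1)
    have hae : Even a := by
      by_contra hodd
      apply hwn
      rw [(Nat.not_even_iff_odd.1 hodd).neg_pow, neg_mul, ← pow_add, hal] at hdet
      linear_combination -hdet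
    have hle : Even l := by
      obtain ⟨a', rfl⟩ := hae
      exact ⟨m - a', by omega⟩
    obtain ⟨a', rfl⟩ := even_iff_two_dvd.1 hae
    obtain ⟨l', rfl⟩ := even_iff_two_dvd.1 hle
    obtain ⟨c0, hc0, hc0m⟩ := exists_onb_half hF b horth
    obtain ⟨c1, hc1, hc1m⟩ := exists_onb_half hF (b.reindex (Equiv.sumComm _ _))
      (fun i j => by simpa using herm_zero_of_swap hF (horth j i))
    have hx0 : ∀ i, x.val *ᵥ c0 i = (-w) • c0 i := by
      intro i
      have key : ∀ v ∈ Submodule.span F (Set.range (b ∘ Sum.inl)), x.val *ᵥ v = (-w) • v := by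
        intro v hv
        induction hv using Submodule.span_induction with
        | mem v hv => obtain ⟨t, rfl⟩ := hv; exact hb0 t
        | zero => simp
        | add u v _ _ hu hv => rw [Matrix.mulVec_add, hu, hv, smul_add]
        | smul s v _ hv => rw [Matrix.mulVec_smul, hv, smul_comm]
      exact key _ (hc0m i)
    have hx1 : ∀ i, x.val *ᵥ c1 i = w • c1 i := by
      intro i
      have key : ∀ v ∈ Submodule.span F (Set.range (b.reindex (Equiv.sumComm _ _) ∘ Sum.inl)),
          x.val *ᵥ v = w • v := by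
        intro v hv
        induction hv using Submodule.span_induction with
        | mem v hv => obtain ⟨t, rfl⟩ := hv; simpa using hb1 t
        | zero => simp
        | add u v _ _ hu hv => rw [Matrix.mulVec_add, hu, hv, smul_add]
        | smul s v _ hv => rw [Matrix.mulVec_smul, hv, smul_comm]
      exact key _ (hc1m i)
    have h01 : ∀ i j, hermForm n F q (c0 i) (c1 j) = 0 := fun i j => by
      have h1 := hiso (c0 i) (c1 j)
      rw [hx0, hx1, hsp.smul_left, herm_smul_right hF] at h1
      refine (mul_eq_zero.1 (show (2 : F) * hermForm n F q (c0 i) (c1 j) = 0 from ?_)).resolve_left h2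
      linear_combination -h1 - hermForm n F q (c0 i) (c1 j) * hN1
    let cc : Fin (2 * a') ⊕ Fin (2 * l') → Fin n → F := Sum.elim c0 c1
    have hcc : ∀ s t, hermForm n F q (cc s) (cc t) = if s = t then 1 else 0 := by
      rintro (s | s) (t | t)
      · simpa [cc] using hc0 s t
      · simpa [cc] using h01 s t
      · simpa [cc] using herm_zero_of_swap hF (h01 t s)
      · simpa [cc] using hc1 s t
    have hli : LinearIndependent F cc := by
      rw [Fintype.linearIndependent_iff]
      intro s hs t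
      have h1 := herm_sum hF cc s (fun j => if j = t then 1 else 0)
      simp only [ite_smul, one_smul, zero_smul, Finset.sum_ite_eq', Finset.mem_univ, if_true] at h1
      rw [hs, herm_zero_left hF] at h1
      simpa [hcc, zero_pow (show q ≠ 0 by omega)] using h1.symm
    have hcard : Fintype.card (Fin (2 * a') ⊕ Fin (2 * l')) = finrank F (Fin n → F) := by
      simp; omega
    have hspan : ⊤ ≤ Submodule.span F (Set.range cc) := (hli.span_eq_top_of_card_eq_finrank' hcard).ge
    obtain ⟨μ, hμ0, hμ⟩ := Forms.exists_norm_eq hF (c := (-1 : F)) (neg_ne_zero.2 one_ne_zero)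
      (by rw [← Forms.qEnd_apply hF, map_neg, map_one])
    rw [pow_succ'] at hμ
    let κ := Fin a' ⊕ Fin l'
    let π := Elusive.pairPair a' l'
    let γ : Fin 2 × κ → Fin n → F := fun p => cc (π.symm p)
    have hγ : ∀ s t, hermForm n F q (γ s) (γ t) = if s = t then 1 else 0 := fun s t => by
      simp [γ, hcc]
    have hγx : ∀ k, ∃ s : F, ∀ i, x.val *ᵥ γ (i, k) = s • γ (i, k) := by
      rintro (k | k)
      · exact ⟨-w, fun i => hx0 _⟩
      · exact ⟨w, fun i => hx1 _⟩
    let ε := Fintype.equivFin κ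
    let d : Fin (Fintype.card κ) ⊕ Fin (Fintype.card κ) → Fin n → F :=
      Sum.elim (fun k => γ (0, ε.symm k) + μ • γ (1, ε.symm k)) fun k => γ (0, ε.symm k) + (-μ) • γ (1, ε.symm k)
    have hdspan : ⊤ ≤ Submodule.span F (Set.range d) := by
      refine hspan.trans (Submodule.span_le.2 ?_)
      rintro _ ⟨t, rfl⟩
      obtain ⟨⟨i, k⟩, rfl⟩ := π.symm.surjective t
      show γ (i, k) ∈ Submodule.span F (Set.range d)
      obtain ⟨k, rfl⟩ := ε.symm.surjective k
      have hp : d (.inl k) ∈ Submodule.span F (Set.range d) := Submodule.subset_span ⟨_, rfl⟩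
      have hm' : d (.inr k) ∈ Submodule.span F (Set.range d) := Submodule.subset_span ⟨_, rfl⟩
      fin_cases i
      · have e : γ (0, ε.symm k) = (2 : F)⁻¹ • (d (.inl k) + d (.inr k)) := by
          simp only [d, Sum.elim_inl, Sum.elim_inr]
          match_scalars <;> field_simp <;> ring
        show γ (0, ε.symm k) ∈ _
        rw [e]; exact Submodule.smul_mem _ _ (add_mem hp hm')
      · have e : γ (1, ε.symm k) = (2 * μ)⁻¹ • (d (.inl k) - d (.inr k)) := by
          simp only [d, Sum.elim_inl, Sum.elim_inr]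
          match_scalars <;> field_simp <;> ring
        show γ (1, ε.symm k) ∈ _
        rw [e]; exact Submodule.smul_mem _ _ (sub_mem hp hm')
    let β := basisOfTopLeSpanOfCardEqFinrank d hdspan (by simp [κ]; omega)
    have hβ : ⇑β = d := coe_basisOfTopLeSpanOfCardEqFinrank _ _ _
    have hts : ∀ (ν : F), ν * ν ^ q = -1 → ∀ s t,
        hermForm n F q (γ (0, s) + ν • γ (1, s)) (γ (0, t) + ν • γ (1, t)) = 0 := by
      intro ν hν s t
      rw [hsp.add_left, herm_add_right hF, herm_add_right hF, hsp.smul_left, hsp.smul_left, herm_smul_right hF,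
        herm_smul_right hF, hγ, hγ, hγ, hγ]
      by_cases hst : s = t
      · subst hst; simp; linear_combination hν
      · simp [hst]
    refine fixed_of_halves hF hD hDs β (fun i j => by rw [hβ]; exact hts μ hμ _ _) (fun i j => by
      rw [hβ]
      exact hts (-μ) (by rw [hqodd.neg_pow]; linear_combination hμ) _ _) x (fun i => ?_) (fun i => ?_)
    all_goals
      obtain ⟨s, hs⟩ := hγx (ε.symm i)
    · refine (?_ : x.val *ᵥ β (.inl i) = s • β (.inl i)) ▸ Submodule.smul_mem _ _ (Submodule.subset_span ⟨i, rfl⟩)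
      simp only [hβ, d, Sum.elim_inl, Matrix.mulVec_add, Matrix.mulVec_smul, hs]
      module
    · refine (?_ : x.val *ᵥ β (.inr i) = s • β (.inr i)) ▸ Submodule.smul_mem _ _ (Submodule.subset_span ⟨i, rfl⟩)
      simp only [hβ, d, Sum.elim_inr, Matrix.mulVec_add, Matrix.mulVec_smul, hs]
      module
  · -- the eigenspaces are totally singular
    have key : ∀ {s : F}, s * s ^ q = -1 → ∀ u v, x.val *ᵥ u = s • u → x.val *ᵥ v = s • v →
        hermForm n F q u v = 0 := by
      intro s hs u v hu hv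
      have h1 := hiso u v
      rw [hu, hv, hsp.smul_left, herm_smul_right hF] at h1
      refine (mul_eq_zero.1 (show (2 : F) * hermForm n F q u v = 0 from ?_)).resolve_left h2
      linear_combination -h1 + hermForm n F q u v * hs
    refine fixed_of_halves hF hD hDs b (fun i j => key (by rw [hnegq]; linear_combination hN1) _ _ (hb0 i) (hb0 j))
      (fun i j => key hN1 _ _ (hb1 i) (hb1 j)) x (fun i => ?_) (fun i => ?_)
    · rw [hb0]; exact Submodule.smul_mem _ _ (Submodule.subset_span ⟨i, rfl⟩)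
    · rw [hb1]; exact Submodule.smul_mem _ _ (Submodule.subset_span ⟨i, rfl⟩)


/-- Elements of prime order of PSU_n(q) and the stabilizers of pairs of complementary totally singular subspaces. Here `T = PSU_n(q)` is realised through `SU_n(q)`, the matrices of determinant 1 over the field `F` with `q²` elements preserving the hermitian form `Σ uᵢ vᵢ^q`, with `n ≥ 4` even; `D` is a pair of complementary subspaces of dimension `n/2` on each of which the form vanishes identically, and `H` is the subgroup of `SU_n(q)` fixing or interchanging the two members — a subgroup of type GL_{n/2}(q²).2 (maximality is not assumed). Ω is the set of cosets of `H`, so an element of `T` of prime order `r` (`x ∈ SU_n(q)` with `x^r` scalar, `x` not scalar) fixes a point of Ω exactly when some `SU_n(q)`-conjugate of `x` lies in `H`. Let `r` be a prime dividing the index of `H`. Then every element of `T` of order `r` fixes a point of Ω if and only if `r = 2`, `q` is odd and `(q + 1)_2 ≤ (n)_2` (2-parts). -/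
theorem result {F : Type*} [Field F] [Fintype F] {p : ℕ} [Fact p.Prime] [CharP F p] {q : ℕ} (hq : Fintype.card F = q ^ 2)
    (n : ℕ) (hn : 4 ≤ n) (he : Even n) (D : Fin 2 → Submodule F (Fin n → F)) (hD : Cfsg.Geo.IsMDecomposition (n / 2) D)
    (hDs : ∀ i, Cfsg.Geo.IsTotallySingularFor (Cfsg.hermForm n F q) (D i))
    (r : ℕ) [Fact r.Prime]
    (hΩ : r ∣ (Cfsg.Geo.decompositionStabilizer D).relIndex (Cfsg.GU n F q ⊓ Cfsg.Geo.specialLinear (Fin n) F)) :
    (∀ x ∈ Cfsg.GU n F q ⊓ Cfsg.Geo.specialLinear (Fin n) F, (∃ z : F, ((x ^ r : GL (Fin n) F) : Matrix (Fin n) (Fin n) F) = z • (1 : Matrix (Fin n) (Fin n) F)) →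
      (∀ z : F, (x : Matrix (Fin n) (Fin n) F) ≠ z • (1 : Matrix (Fin n) (Fin n) F)) →
      ∃ g ∈ Cfsg.GU n F q ⊓ Cfsg.Geo.specialLinear (Fin n) F, g⁻¹ * x * g ∈ Cfsg.Geo.decompositionStabilizer D) ↔
    (r = 2 ∧ Odd q ∧ padicValNat 2 (q + 1) ≤ padicValNat 2 n) := by
  classical
  obtain ⟨m, rfl⟩ : ∃ m, n = 2 * m := even_iff_two_dvd.1 he
  rw [Nat.mul_div_cancel_left m two_pos] at hD
  have hrP := (Fact.out : r.Prime)
  have hpP := (Fact.out : p.Prime)
  obtain ⟨k, hk, hqp⟩ : ∃ k, 0 < k ∧ q = p ^ k := by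
    obtain ⟨p', k, hp', hc', hk⟩ := Forms.exists_prime_pow_q hq
    rw [CharP.eq F hc' ‹CharP F p›] at hk
    refine ⟨k, Nat.pos_of_ne_zero fun h => ?_, hk⟩
    have := Forms.one_lt_q hq
    rw [h, pow_zero] at hk
    omega
  have hodd_iff : Odd q ↔ p ≠ 2 := by
    rw [hqp, Nat.odd_pow_iff hk.ne']
    exact ⟨fun h h2 => by rw [h2] at h; exact absurd h (by decide), hpP.odd_of_ne_two⟩
  constructor
  · intro H
    by_contra hrhs
    push Not at hrhs
    have hnot : ∀ (x : GL (Fin (2 * m)) F) (α β : F) (v : Fin (2 * m) → F), α ≠ 0 → β ≠ 0 → v ≠ 0 →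
        x.val = prefl q α β v → x ∈ GU (2 * m) F q ⊓ Geo.specialLinear (Fin (2 * m)) F →
        (∃ z : F, (x ^ r : GL (Fin (2 * m)) F).val = z • (1 : Matrix _ _ F)) →
        (∀ z : F, x.val ≠ z • (1 : Matrix _ _ F)) → False := by
      intro x α β v hα hβ hv hx hm hz hns
      obtain ⟨g, hg, hgm⟩ := H x hm hz hns
      exact prefl_not_fixed hq (by omega) hD hDs hα hβ hv x hx hg.1 hgm
    by_cases hrp : r = p
    · subst hrp
      obtain ⟨x, β, v, hβ, hv, hx, hm, hxr, hns⟩ := transvection_witness hq (n := 2 * m) r (by omega)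
      exact hnot x 1 β v one_ne_zero hβ hv hx hm ⟨1, by rw [Units.val_pow_eq_pow_val, hxr, one_smul]⟩ hns
    by_cases hr2 : r = 2
    · subst hr2
      have hp2 : p ≠ 2 := fun h => hrp h.symm
      have h2F : (2 : F) ≠ 0 := fun h => hrp ((Nat.prime_dvd_prime_iff_eq hpP Nat.prime_two).1
        ((CharP.cast_eq_zero_iff F p 2).1 (by exact_mod_cast h))).symm
      obtain ⟨x, α, β, v, hα, hβ, hv, hx, hm, ⟨z, hz⟩, hns⟩ := reflection_witness hq h2F (n := 2 * m) (by omega)
        (hrhs rfl (hodd_iff.2 hp2))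
      exact hnot x α β v hα hβ hv hx hm ⟨z, by rw [Units.val_pow_eq_pow_val, hz]⟩ hns
    have hrq : ¬ r ∣ q := fun h => hrp ((Nat.prime_dvd_prime_iff_eq hrP hpP).1 (hrP.dvd_of_dvd_pow (hqp ▸ h)))
    have hr0 : (r : F) ≠ 0 := by
      rw [Ne, CharP.cast_eq_zero_iff F p, Nat.prime_dvd_prime_iff_eq hpP hrP]
      exact Ne.symm hrp
    obtain ⟨j, hj, hjQ⟩ := odd_order_of_dvd hq hrq (m := m) rfl hD hDs hΩ
    have hneg : (-(q : ZMod r)) ^ (2 * j + 1) = 1 := by rw [Odd.neg_pow ⟨j, rfl⟩, hjQ, neg_neg]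
    set i := orderOf (-(q : ZMod r)) with hi
    have hidvd : i ∣ 2 * j + 1 := orderOf_dvd_of_pow_eq_one hneg
    have hiodd : Odd i := Odd.of_dvd_nat ⟨j, rfl⟩ hidvd
    have hiq : i = orderOf (Fintype.card F : ZMod r) := by
      rw [hq, Nat.cast_pow, ← neg_sq, hi, Nat.Coprime.orderOf_pow (by
        rw [Nat.coprime_comm, Nat.prime_two.coprime_iff_not_dvd, ← even_iff_two_dvd, Nat.not_even_iff_odd]
        exact hiodd)]
    have hile := Nat.le_of_dvd (by omega) hidvd
    have wit : ∀ x : GL (Fin (2 * m)) F, x ∈ GU (2 * m) F q ⊓ Geo.specialLinear (Fin (2 * m)) F → x ^ r = 1 →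
        (∀ z : F, x.val ≠ z • (1 : Matrix _ _ F)) →
        ¬ Even (Module.finrank F (LinearMap.ker (Matrix.toLin' x.val - 1))) → False := by
      intro x hm hxr hns hker
      obtain ⟨g, hg, hgm⟩ := H x hm ⟨1, by rw [hxr, Units.val_one, one_smul]⟩ hns
      exact hker (fixed_space_even hq hr2 hr0 hD hDs hm.1 hg.1 hxr hgm)
    by_cases hi1 : i = 1
    · rw [hi, orderOf_eq_one_iff] at hi1
      have hd : r ∣ q + 1 := by
        rw [← ZMod.natCast_eq_zero_iff, Nat.cast_add, Nat.cast_one]
        linear_combination -hi1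
      obtain ⟨x, h1, h2, h3, h4⟩ := diag_witness hq hr2 hd hn he
      exact wit x h1 h2 h3 h4
    · obtain ⟨x, h1, h2, h3, h4⟩ := orbit_witness (p := p) (r := r) (n := 2 * m) hq hrp he hiq
        (by have := hiodd.pos; omega) hiodd (by omega) (pow_orderOf_eq_one _)
      exact wit x h1 h2 h3 h4
  · rintro ⟨rfl, hodd, hv⟩ x hx ⟨z, hz⟩ -
    have h2F : (2 : F) ≠ 0 := fun h => hodd_iff.1 hodd ((Nat.prime_dvd_prime_iff_eq hpP Nat.prime_two).1
      ((CharP.cast_eq_zero_iff F p 2).1 (by exact_mod_cast h)))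
    exact two_fixed hq h2F rfl (by omega) hv hD hDs x hx hz

end Cfsg.Agent.S5984
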