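import Cfsg.Statements.S5985
import Cfsg.Agent.Lib.Forms.FixedNonsingular
import Cfsg.Agent.Lib.Forms.CentTwoOrth

set_option autoImplicit false
open scoped MatrixGroups
open Cfsg

namespace Cfsg.Agent.S5985

/-- Elements of prime order of Ω⁺_n(q), q even, with no fixed nonsingular 1-space. Here `T = PΩ⁺_n(F)`, `n = 2d ≥ 8`, realised through `Ω⁺_n(q)`, the commutator subgroup of the isometry group of `Q = Σ xᵢyᵢ` over the field `F` with `q` elements; an element of `T` of prime order `r` is an element `x` of `Ω⁺_n(q)` with `x^r` scalar and `x` not scalar; `q` is even (so the centre is trivial). Let Ω be the set of 1-dimensional subspaces spanned by a vector `v` with `Q(v) ≠ 0`, and let `r` be a prime dividing their number. Then every element of `T` of order `r` fixes some nonsingular 1-space if and only if `r = 2` and `n ≡ 2 (mod 4)` (that is, `d` is odd). -/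
theorem result {F : Type*} [Field F] [Fintype F] {p : ℕ} [Fact p.Prime] [CharP F p] {q : ℕ} (hq : Fintype.card F = q)
    (hp : p = 2) (d : ℕ) (hd : 4 ≤ d) (r : ℕ) [Fact r.Prime]
    (hrΩ : r ∣ Nat.card {W : Submodule F (Fin d ⊕ Fin d → F) // Module.finrank F ↥W = 1 ∧ ∃ v ∈ W, Cfsg.quadFormPlus d F v ≠ 0}) :
    (∀ x : GL (Fin d ⊕ Fin d) F, x ∈ Cfsg.Geo.omegaGL (Cfsg.quadFormPlus d F) →
      (∃ z : F, ((x ^ r : GL (Fin d ⊕ Fin d) F) : Matrix (Fin d ⊕ Fin d) (Fin d ⊕ Fin d) F) = z • (1 : Matrix (Fin d ⊕ Fin d) (Fin d ⊕ Fin d) F)) →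
      (∀ z : F, (x : Matrix (Fin d ⊕ Fin d) (Fin d ⊕ Fin d) F) ≠ z • (1 : Matrix (Fin d ⊕ Fin d) (Fin d ⊕ Fin d) F)) →
      ∃ W : Submodule F (Fin d ⊕ Fin d → F), (Module.finrank F ↥W = 1 ∧ ∃ v ∈ W, Cfsg.quadFormPlus d F v ≠ 0) ∧ W.map (Matrix.toLin' (x : Matrix (Fin d ⊕ Fin d) (Fin d ⊕ Fin d) F)) ≤ W) ↔ (r = 2 ∧ Odd d) := by
  subst hp
  classical
  have hr' : r.Prime := Fact.out
  have hnd := Forms.quadPlus_nondegenerate (F := F) d
  have hh : Fintype.card F ≠ 2 ∨ Fintype.card (Fin d ⊕ Fin d) ≠ 4 := Or.inr (by simp; omega)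
  have hf : Cfsg.quadFormPlus d F = ⇑(Forms.quadPlus d F) := funext fun v => (Forms.quadPlus_apply (F := F) v).symm
  obtain ⟨hiff, hpar⟩ := Forms.OmegaTwoClasses.omega_criteria _ _ hf hnd hh
  have hline : ∀ M : Matrix (Fin d ⊕ Fin d) (Fin d ⊕ Fin d) F,
      (∀ v, Cfsg.quadFormPlus d F (M.mulVec v) = Cfsg.quadFormPlus d F v) →
      ((∃ W : Submodule F (Fin d ⊕ Fin d → F), (Module.finrank F ↥W = 1 ∧ ∃ v ∈ W, Cfsg.quadFormPlus d F v ≠ 0) ∧
          W.map (Matrix.toLin' M) ≤ W) ↔ ∃ v, M.mulVec v = v ∧ Cfsg.quadFormPlus d F v ≠ 0) := fun M hM => by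
    rw [hf] at hM ⊢
    exact Forms.FixedNonsingular.exists_line_iff _ M hM
  constructor
  · intro hall
    have hbad : ∀ g : ↥(Cfsg.isometryGroup F (Cfsg.quadFormPlus d F)), g ∈ Cfsg.Omega F (Cfsg.quadFormPlus d F) →
        orderOf g = r → ∃ v, (g.1 : Matrix (Fin d ⊕ Fin d) (Fin d ⊕ Fin d) F).mulVec v = v ∧ Cfsg.quadFormPlus d F v ≠ 0 := by
      intro g hg hgo
      refine (hline _ fun v => g.2 v 0).1 (hall g.1 ⟨g, hg, rfl⟩ ⟨1, ?_⟩ fun z hz => ?_)
      · have : g ^ r = 1 := by rw [← hgo, pow_orderOf_eq_one]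
        rw [one_smul, show g.1 ^ r = 1 from congrArg Subtype.val this]; rfl
      · have hz1 : z = 1 := by
          have hq := g.2 (Sum.elim (Pi.single ⟨0, by omega⟩ 1) (Pi.single ⟨0, by omega⟩ 1)) 0
          change Cfsg.quadFormPlus d F ((g.1 : Matrix (Fin d ⊕ Fin d) (Fin d ⊕ Fin d) F).mulVec _) = Cfsg.quadFormPlus d F _ at hq
          rw [hz, Matrix.smul_mulVec, Matrix.one_mulVec, hf, QuadraticMap.map_smul, ← hf] at hq
          have hone : Cfsg.quadFormPlus d F (Sum.elim (Pi.single ⟨0, by omega⟩ 1) (Pi.single ⟨0, by omega⟩ 1)) = 1 := by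
            rw [Cfsg.quadFormPlus, Finset.sum_eq_single ⟨0, by omega⟩ (fun b _ hb => by simp [hb]) (by simp)]
            simp
          rw [hone, smul_eq_mul, mul_one] at hq
          exact Forms.CentTwo.sq_inj (hq.trans (one_mul 1).symm)
        rw [hz1, one_smul] at hz
        rw [show g = 1 from Subtype.ext (Units.ext hz), orderOf_one] at hgo
        exact hr'.one_lt.ne hgo
    by_cases hr2 : r = 2
    · subst hr2
      refine ⟨rfl, ?_⟩
      by_contra hodd
      rw [Nat.not_odd_iff_even] at hodd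
      obtain ⟨k, rfl⟩ := hodd
      -- the involution swapping all coordinate pairs
      have hk : 2 * k ≤ k + k := by omega
      set π : Fin (k + k) ⊕ Fin (k + k) → Fin (k + k) ⊕ Fin (k + k) := Forms.InvolTwoCount.swapPairs hk
      have hπ := Forms.InvolTwoCount.swapPairs_involutive (m := k + k) hk
      let g : ↥(Cfsg.isometryGroup F (Cfsg.quadFormPlus (k + k) F)) :=
        ⟨⟨_, _, Forms.InvolTwoCount.permMat_mul_self hπ, Forms.InvolTwoCount.permMat_mul_self hπ⟩, fun u _ => by
          have := Forms.InvolTwoCount.quad_swapPairs (F := F) hk u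
          rwa [Forms.quadPlus_apply, Forms.quadPlus_apply] at this⟩
      have hrank := Forms.InvolTwoCount.rank_swapPairs (F := F) (m := k + k) hk
      have hg2 : orderOf g = 2 := by
        refine orderOf_eq_prime (Subtype.ext (Units.ext ?_)) fun e => ?_
        · show (g.1 ^ 2 : GL _ F).1 = 1
          rw [pow_two]; exact Forms.InvolTwoCount.permMat_mul_self hπ
        · have e' : (Forms.InvolTwoCount.permMat π : Matrix (Fin (k + k) ⊕ Fin (k + k)) _ F) = 1 :=
            congrArg (fun y : ↥(Cfsg.isometryGroup F (Cfsg.quadFormPlus (k + k) F)) =>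
              (y.1 : Matrix (Fin (k + k) ⊕ Fin (k + k)) (Fin (k + k) ⊕ Fin (k + k)) F)) e
          rw [e', sub_self, Matrix.rank_zero] at hrank
          omega
      have hgO : g ∈ Cfsg.Omega F (Cfsg.quadFormPlus (k + k) F) := by
        rw [hiff]; exact ⟨k, hrank⟩
      obtain ⟨v, hv, hQv⟩ := hbad g hgO hg2
      set a := (g.1 : Matrix (Fin (k + k) ⊕ Fin (k + k)) (Fin (k + k) ⊕ Fin (k + k)) F) with ha
      have hQ : ∀ u, Forms.quadPlus (k + k) F (a.mulVec u) = Forms.quadPlus (k + k) F u := fun u => by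
        rw [Forms.quadPlus_apply, Forms.quadPlus_apply]; exact g.2 u 0
      have hsq : a * a = 1 := Forms.InvolTwoCount.permMat_mul_self hπ
      have hker : LinearMap.range (Forms.SympTwo.nil a) = LinearMap.ker (Forms.SympTwo.nil a) := by
        refine Submodule.eq_of_le_of_finrank_eq ?_ ?_
        · rintro _ ⟨u, rfl⟩
          exact Forms.SympTwo.nil_nil hsq u
        · have h1 := (Forms.SympTwo.nil a).finrank_range_add_finrank_ker
          rw [Module.finrank_fintype_fun_eq_card] at h1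
          simp only [Fintype.card_sum, Fintype.card_fin] at h1
          have h2 : Module.finrank F (LinearMap.range (Forms.SympTwo.nil a)) = k + k := hrank
          omega
      obtain ⟨u, rfl⟩ : v ∈ LinearMap.range (Forms.SympTwo.nil a) := by
        rw [hker, LinearMap.mem_ker, Forms.SympTwo.nil_apply, hv, sub_self]
      apply hQv
      rw [← Forms.quadPlus_apply, Forms.OrthTwo.q_nil hQ]
      exact Forms.InvolTwoCount.swapPairs_alt hk u
    · exfalso
      haveI : Nonempty (Fin d ⊕ Fin d) := ⟨.inl ⟨0, by omega⟩⟩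
      obtain ⟨g, hgo, hgfree⟩ := Forms.FixedNonsingular.exists_order_free _ _ hf hnd r hr2 hrΩ
      obtain ⟨v, hv, hQv⟩ := hbad g
        (Forms.FixedNonsingular.mem_of_odd_order _ hpar hgo (hr'.odd_of_ne_two hr2)) hgo
      exact hQv (hgfree v hv)
  · rintro ⟨rfl, hodd⟩ _ ⟨g, hg, rfl⟩ ⟨z, hz⟩ hns
    set a := (g.1 : Matrix (Fin d ⊕ Fin d) (Fin d ⊕ Fin d) F) with ha
    refine (hline a fun v => g.2 v 0).2 ?_
    have hQ : ∀ u, Forms.quadPlus d F (a.mulVec u) = Forms.quadPlus d F u := fun u => by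
      rw [Forms.quadPlus_apply, Forms.quadPlus_apply]; exact g.2 u 0
    have hsq : a * a = 1 := by
      have hz' : a * a = z • (1 : Matrix (Fin d ⊕ Fin d) (Fin d ⊕ Fin d) F) := by
        rw [← hz, Units.val_pow_eq_pow_val, pow_two]; rfl
      have hz1 : z = 1 := by
        set v : Fin d ⊕ Fin d → F := Sum.elim (Pi.single ⟨0, by omega⟩ 1) (Pi.single ⟨0, by omega⟩ 1)
        have hv1 : Forms.quadPlus d F v = 1 := by
          rw [Forms.quadPlus_apply, Cfsg.quadFormPlus,
            Finset.sum_eq_single ⟨0, by omega⟩ (fun b _ hb => by simp [v, hb]) (by simp)]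
          simp [v]
        have h1 := (hQ (a.mulVec v)).trans (hQ v)
        rw [Matrix.mulVec_mulVec, hz', Matrix.smul_mulVec, Matrix.one_mulVec, QuadraticMap.map_smul, hv1,
          smul_eq_mul, mul_one] at h1
        exact Forms.CentTwo.sq_inj (h1.trans (one_mul 1).symm)
      rw [hz', hz1, one_smul]
    by_contra hne
    push Not at hne
    have hle := Forms.InvolTwoCount.rank_le hsq
    have hker : ∀ v ∈ LinearMap.ker (Forms.SympTwo.nil a), Forms.quadPlus d F v = 0 := fun v hv => by
      rw [Forms.quadPlus_apply]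
      exact hne v (sub_eq_zero.1 (by rw [← Forms.SympTwo.nil_apply]; exact hv))
    have hrk := (hiff g).1 hg
    have h1 := (Forms.SympTwo.nil a).finrank_range_add_finrank_ker
    rw [Module.finrank_fintype_fun_eq_card] at h1
    simp only [Fintype.card_sum, Fintype.card_fin] at h1
    have hts : QForm.TotallySingular (Forms.quadPlus d F) (LinearMap.ker (Forms.SympTwo.nil a)) := hker
    have h3 := hts.le_orthogonal
    have h4 := Submodule.finrank_mono h3
    rw [LinearMap.BilinForm.finrank_orthogonal hnd, Module.finrank_fintype_fun_eq_card] at h4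
    simp only [Fintype.card_sum, Fintype.card_fin] at h4
    have h5 : (a - 1).rank = d := by
      show Module.finrank F (LinearMap.range (Forms.SympTwo.nil a)) = d
      have : Module.finrank F (LinearMap.range (Forms.SympTwo.nil a)) ≤ d := hle
      omega
    rw [← ha, h5] at hrk
    exact (Nat.not_even_iff_odd.2 hodd) hrk

end Cfsg.Agent.S5985
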