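import Cfsg.Statements.S5986
import Cfsg.Agent.Lib.Forms.FixedNonsingular
import Cfsg.Agent.Lib.Forms.CentTwoOrth

set_option autoImplicit false
open scoped MatrixGroups
open Cfsg

namespace Cfsg.Agent.S5986

/-- Elements of prime order of Ω⁻_n(q), q even, with no fixed nonsingular 1-space. Here `T = PΩ⁻_n(F)`, `n = 2d ≥ 8`, realised through `Ω⁻_n(q)`, the commutator subgroup of the isometry group of `Q = Σ_{i<d−1} xᵢyᵢ + z₁² + a z₁z₂ + b z₂²` with `z₁² + a z₁z₂ + b z₂²` anisotropic, over the field `F` with `q` elements; an element of `T` of prime order `r` is an element `x` of `Ω⁻_n(q)` with `x^r` scalar and `x` not scalar; `q` is even (so the centre is trivial). Let Ω be the set of 1-dimensional subspaces spanned by a vector `v` with `Q(v) ≠ 0`, and let `r` be a prime dividing their number. Then every element of `T` of order `r` fixes some nonsingular 1-space if and only if `r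 = 2`. -/
theorem result {F : Type*} [Field F] [Fintype F] {p : ℕ} [Fact p.Prime] [CharP F p] {q : ℕ} (hq : Fintype.card F = q)
    (hp : p = 2) (d : ℕ) (hd : 4 ≤ d) (a b : F) (hab : ∀ x y : F, x ^ 2 + a * x * y + b * y ^ 2 = 0 → x = 0 ∧ y = 0) (r : ℕ) [Fact r.Prime]
    (hrΩ : r ∣ Nat.card {W : Submodule F ((Fin (d - 1) ⊕ Fin (d - 1)) ⊕ Fin 2 → F) // Module.finrank F ↥W = 1 ∧ ∃ v ∈ W, Cfsg.quadFormMinus (d - 1) F a b v ≠ 0}) :
    (∀ x : GL ((Fin (d - 1) ⊕ Fin (d - 1)) ⊕ Fin 2) F, x ∈ Cfsg.Geo.omegaGL (Cfsg.quadFormMinus (d - 1) F a b) →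
      (∃ z : F, ((x ^ r : GL ((Fin (d - 1) ⊕ Fin (d - 1)) ⊕ Fin 2) F) : Matrix ((Fin (d - 1) ⊕ Fin (d - 1)) ⊕ Fin 2) ((Fin (d - 1) ⊕ Fin (d - 1)) ⊕ Fin 2) F) = z • (1 : Matrix ((Fin (d - 1) ⊕ Fin (d - 1)) ⊕ Fin 2) ((Fin (d - 1) ⊕ Fin (d - 1)) ⊕ Fin 2) F)) →
      (∀ z : F, (x : Matrix ((Fin (d - 1) ⊕ Fin (d - 1)) ⊕ Fin 2) ((Fin (d - 1) ⊕ Fin (d - 1)) ⊕ Fin 2) F) ≠ z • (1 : Matrix ((Fin (d - 1) ⊕ Fin (d - 1)) ⊕ Fin 2) ((Fin (d - 1) ⊕ Fin (d - 1)) ⊕ Fin 2) F)) →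
      ∃ W : Submodule F ((Fin (d - 1) ⊕ Fin (d - 1)) ⊕ Fin 2 → F), (Module.finrank F ↥W = 1 ∧ ∃ v ∈ W, Cfsg.quadFormMinus (d - 1) F a b v ≠ 0) ∧ W.map (Matrix.toLin' (x : Matrix ((Fin (d - 1) ⊕ Fin (d - 1)) ⊕ Fin 2) ((Fin (d - 1) ⊕ Fin (d - 1)) ⊕ Fin 2) F)) ≤ W) ↔ r = 2 := by
  subst hp
  classical
  have hr' : r.Prime := Fact.out
  have hnd := Forms.quadMinus_nondegenerate (F := F) (d - 1) hab
  have hh : Fintype.card F ≠ 2 ∨ Fintype.card ((Fin (d - 1) ⊕ Fin (d - 1)) ⊕ Fin 2) ≠ 4 :=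
    Or.inr (by simp; omega)
  have hf : Cfsg.quadFormMinus (d - 1) F a b = ⇑(Forms.quadMinus (d - 1) F a b) :=
    funext fun v => (Forms.quadMinus_apply (F := F) v).symm
  obtain ⟨hiff, hpar⟩ := Forms.OmegaTwoClasses.omega_criteria _ _ hf hnd hh
  have hline : ∀ M : Matrix ((Fin (d - 1) ⊕ Fin (d - 1)) ⊕ Fin 2) ((Fin (d - 1) ⊕ Fin (d - 1)) ⊕ Fin 2) F,
      (∀ v, Cfsg.quadFormMinus (d - 1) F a b (M.mulVec v) = Cfsg.quadFormMinus (d - 1) F a b v) →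
      ((∃ W : Submodule F ((Fin (d - 1) ⊕ Fin (d - 1)) ⊕ Fin 2 → F),
          (Module.finrank F ↥W = 1 ∧ ∃ v ∈ W, Cfsg.quadFormMinus (d - 1) F a b v ≠ 0) ∧
          W.map (Matrix.toLin' M) ≤ W) ↔ ∃ v, M.mulVec v = v ∧ Cfsg.quadFormMinus (d - 1) F a b v ≠ 0) :=
    fun M hM => by
    rw [hf] at hM ⊢
    exact Forms.FixedNonsingular.exists_line_iff _ M hM
  set w : (Fin (d - 1) ⊕ Fin (d - 1)) ⊕ Fin 2 → F := Pi.single (.inr 0) 1
  have hw : Cfsg.quadFormMinus (d - 1) F a b w = 1 := by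
    simp [w, Cfsg.quadFormMinus]
  have hscal : ∀ (g : ↥(Cfsg.isometryGroup F (Cfsg.quadFormMinus (d - 1) F a b))) (z : F),
      (g.1 : Matrix _ _ F) = z • (1 : Matrix ((Fin (d - 1) ⊕ Fin (d - 1)) ⊕ Fin 2)
        ((Fin (d - 1) ⊕ Fin (d - 1)) ⊕ Fin 2) F) → z = 1 := fun g z hz => by
    have hq := g.2 w 0
    change Cfsg.quadFormMinus (d - 1) F a b ((g.1 : Matrix ((Fin (d - 1) ⊕ Fin (d - 1)) ⊕ Fin 2) ((Fin (d - 1) ⊕ Fin (d - 1)) ⊕ Fin 2) F).mulVec w) =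
      Cfsg.quadFormMinus (d - 1) F a b w at hq
    rw [hz, Matrix.smul_mulVec, Matrix.one_mulVec, hf, QuadraticMap.map_smul, ← hf, hw, smul_eq_mul, mul_one] at hq
    exact Forms.CentTwo.sq_inj (hq.trans (one_mul 1).symm)
  constructor
  · intro hall
    by_contra hr2
    haveI : Nonempty ((Fin (d - 1) ⊕ Fin (d - 1)) ⊕ Fin 2) := ⟨.inr 0⟩
    obtain ⟨g, hgo, hgfree⟩ := Forms.FixedNonsingular.exists_order_free _ _ hf hnd r hr2 hrΩ
    have hgO := Forms.FixedNonsingular.mem_of_odd_order _ hpar hgo (hr'.odd_of_ne_two hr2)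
    obtain ⟨v, hv, hQv⟩ := (hline _ fun v => g.2 v 0).1 (hall g.1 ⟨g, hgO, rfl⟩ ⟨1, by
      have : g ^ r = 1 := by rw [← hgo, pow_orderOf_eq_one]
      rw [one_smul, show g.1 ^ r = 1 from congrArg Subtype.val this]; rfl⟩ fun z hz => by
      rw [hscal g z hz, one_smul] at hz
      rw [show g = 1 from Subtype.ext (Units.ext hz), orderOf_one] at hgo
      exact hr'.one_lt.ne hgo)
    exact hQv (hgfree v hv)
  · rintro rfl _ ⟨g, -, rfl⟩ ⟨z, hz⟩ -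
    refine (hline _ fun v => g.2 v 0).2 ?_
    set A := (g.1 : Matrix ((Fin (d - 1) ⊕ Fin (d - 1)) ⊕ Fin 2) ((Fin (d - 1) ⊕ Fin (d - 1)) ⊕ Fin 2) F)
    have hz1 : z = 1 := hscal (g ^ 2) z hz
    have hsq : (A - 1) * (A - 1) = 0 := by
      have hAA : A * A = 1 := by
        rw [hz1, one_smul] at hz
        rwa [← pow_two, ← Units.val_pow_eq_pow_val]
      have h2 : (2 : Matrix ((Fin (d - 1) ⊕ Fin (d - 1)) ⊕ Fin 2) ((Fin (d - 1) ⊕ Fin (d - 1)) ⊕ Fin 2) F) = 0 := by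
        rw [show (2 : Matrix ((Fin (d - 1) ⊕ Fin (d - 1)) ⊕ Fin 2) ((Fin (d - 1) ⊕ Fin (d - 1)) ⊕ Fin 2) F) =
          algebraMap F _ 2 from (map_ofNat _ 2).symm, CharTwo.two_eq_zero (R := F), map_zero]
      calc (A - 1) * (A - 1) = A * A - 1 + 2 * (1 - A) := by noncomm_ring
        _ = 0 := by rw [hAA, h2, zero_mul, sub_self, add_zero]
    set N := (A - 1).mulVecLin
    have hle : LinearMap.range N ≤ LinearMap.ker N := by
      rintro _ ⟨v, rfl⟩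
      simp only [N, LinearMap.mem_ker, Matrix.mulVecLin_apply, Matrix.mulVec_mulVec, hsq, Matrix.zero_mulVec]
    have h1 := Submodule.finrank_mono hle
    have h2 := N.finrank_range_add_finrank_ker
    rw [Module.finrank_fintype_fun_eq_card] at h2
    simp only [Fintype.card_sum, Fintype.card_fin] at h2
    by_contra! hne
    have h3 := Forms.MinusTwo.singular_le hab (LinearMap.ker N) fun v hv => by
      rw [Forms.quadMinus_apply]
      refine hne v (sub_eq_zero.1 ?_)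
      simpa [N, Matrix.sub_mulVec] using hv
    omega

end Cfsg.Agent.S5986
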