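import Cfsg.Statements.S5987
import Cfsg.Agent.Lib.Elusive.OrthTwoFix
-- import your own Cfsg.Agent.* helpers here

set_option autoImplicit false
open scoped MatrixGroups
open Cfsg

namespace Cfsg.Agent.S5987

open Elusive Elusive.OrthType Elusive.OrthStd
open Elusive.OrthCriteria (SingP EvenP)


/-- Elements of prime order of PΩ⁻_n(q) with no fixed totally singular `m`-space. Here `T = PΩ⁻_n(F)`, `n = 2d ≥ 8`, realised through `Ω⁻_n(q)`, the commutator subgroup of the isometry group of `Q = Σ_{i<d−1} xᵢyᵢ + z₁² + a z₁z₂ + b z₂²` with `z₁² + a z₁z₂ + b z₂²` anisotropic, over the field `F` with `q` elements; an element of `T` of prime order `r` is an element `x` of `Ω⁻_n(q)` with `x^r` scalar and `x` not scalar. Let `1 ≤ m ≤ d − 1` and let `r` be a prime dividing the number of totally singular `m`-spaces (subspaces of dimension `m` on which `Q` vanishes); for `r ≠ p` let `i` be the multiplicative order of `q` modulo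 `r`, `c = i` for `i` even and `c = 2i` for `i` odd, and write `k = n mod c`, `ℓ = m mod i`, `n' = ⌊n/i⌋`, `m' = ⌊m/i⌋`, `t = (r−1)/i`. Then every element of `T` of order `r` fixes some totally singular `m`-space if and only if one of: (i) `r = 2 ≠ p` and (`n ≡ 0 (mod 4)`, or `m` is even, or `q ≢ 7 (mod 8)`); (ii) `r ≠ p` odd, `i` odd, `i ≤ m` and (`k = 0` or `k > 2ℓ`); (iii) `r ≠ p` odd, `i` even, `i ≤ m`, `n' − 2m' ≥ t`, and one of: (a) `i ≥ 2ℓ`, `k = 0`, `n/i` even and `n' − 2m' > t` (all four); (b) `k ≥ 2ℓ` and `n'` odd; (c) `k > 2ℓ` and `n'` even. -/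
theorem result {F : Type*} [Field F] [Fintype F] {p : ℕ} [Fact p.Prime] [CharP F p] {q : ℕ} (hq : Fintype.card F = q)
    (d m : ℕ) (hd : 4 ≤ d) (hm : 1 ≤ m) (hmd : m + 1 ≤ d) (a b : F) (hab : ∀ x y : F, x ^ 2 + a * x * y + b * y ^ 2 = 0 → x = 0 ∧ y = 0)
    (r : ℕ) [Fact r.Prime]
    (hrΩ : r ∣ Nat.card {W : Submodule F ((Fin (d - 1) ⊕ Fin (d - 1)) ⊕ Fin 2 → F) // Module.finrank F ↥W = m ∧ Cfsg.Geo.IsTotallySingularQuad (Cfsg.quadFormMinus (d - 1) F a b) W})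
    (i c : ℕ) (hi : i = orderOf (q : ZMod r)) (hc : c = if Even i then i else 2 * i) :
    (∀ x : GL ((Fin (d - 1) ⊕ Fin (d - 1)) ⊕ Fin 2) F, x ∈ Cfsg.Geo.omegaGL (Cfsg.quadFormMinus (d - 1) F a b) →
      (∃ z : F, ((x ^ r : GL ((Fin (d - 1) ⊕ Fin (d - 1)) ⊕ Fin 2) F) : Matrix ((Fin (d - 1) ⊕ Fin (d - 1)) ⊕ Fin 2) ((Fin (d - 1) ⊕ Fin (d - 1)) ⊕ Fin 2) F) = z • (1 : Matrix ((Fin (d - 1) ⊕ Fin (d - 1)) ⊕ Fin 2) ((Fin (d - 1) ⊕ Fin (d - 1)) ⊕ Fin 2) F)) →
      (∀ z : F, (x : Matrix ((Fin (d - 1) ⊕ Fin (d - 1)) ⊕ Fin 2) ((Fin (d - 1) ⊕ Fin (d - 1)) ⊕ Fin 2) F) ≠ z • (1 : Matrix ((Fin (d - 1) ⊕ Fin (d - 1)) ⊕ Fin 2) ((Fin (d - 1) ⊕ Fin (d - 1)) ⊕ Fin 2) F)) →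
      ∃ W : Submodule F ((Fin (d - 1) ⊕ Fin (d - 1)) ⊕ Fin 2 → F), (Module.finrank F ↥W = m ∧ Cfsg.Geo.IsTotallySingularQuad (Cfsg.quadFormMinus (d - 1) F a b) W) ∧ W.map (Matrix.toLin' (x : Matrix ((Fin (d - 1) ⊕ Fin (d - 1)) ⊕ Fin 2) ((Fin (d - 1) ⊕ Fin (d - 1)) ⊕ Fin 2) F)) ≤ W) ↔
    ((r = 2 ∧ p ≠ 2 ∧ (Even d ∨ Even m ∨ q % 8 ≠ 7)) ∨
     (r ≠ p ∧ 2 < r ∧ Odd i ∧ i ≤ m ∧ ((2 * d) % c = 0 ∨ 2 * (m % i) < (2 * d) % c)) ∨
     (r ≠ p ∧ 2 < r ∧ Even i ∧ i ≤ m ∧ (r - 1) / i + 2 * (m / i) ≤ (2 * d) / i ∧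
       ((2 * (m % i) ≤ i ∧ (2 * d) % c = 0 ∧ Even ((2 * d) / i) ∧ (r - 1) / i + 2 * (m / i) < (2 * d) / i) ∨
        (2 * (m % i) ≤ (2 * d) % c ∧ Odd ((2 * d) / i)) ∨
        (2 * (m % i) < (2 * d) % c ∧ Even ((2 * d) / i))))) := by
  subst hq hi
  obtain rfl : c = OrthBridge.bdim _ := hc
  simp only [coe_minus, Cfsg.Geo.IsTotallySingularQuad] at hrΩ ⊢
  set Q := Forms.quadMinus (d - 1) F a b
  have hQ : Sep Q := sep_minus (d - 1) hab
  have hs : sgn Q = -1 := sgn_minus (d - 1) hab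
  have hn := card_minus (d := d) (by omega)
  have hfr : Module.finrank F ((Fin (d - 1) ⊕ Fin (d - 1)) ⊕ Fin 2 → F) = 2 * d := by
    rw [Module.finrank_fintype_fun_eq_card, hn]
  have hev : ¬ Odd (Fintype.card ((Fin (d - 1) ⊕ Fin (d - 1)) ⊕ Fin 2)) := by
    rw [hn]; exact Nat.not_odd_iff_even.2 (even_two_mul d)
  rcases eq_or_ne r p with rfl | hrp
  · exact absurd hrΩ (OrthCount.not_dvd_card_ts hQ
      (fun h => absurd (hfr ▸ h) (Nat.not_odd_iff_even.2 (even_two_mul d))) (by omega))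
  rcases eq_or_ne r 2 with rfl | hr2
  · have hp2 : p ≠ 2 := hrp.symm
    have h2 : (2 : F) ≠ 0 := two_ne_zero_of_ne (p := p) hp2
    have hqo : Fintype.card F % 2 = 1 := Nat.odd_iff.1 (odd_card_of_ne (p := p) hp2)
    constructor
    · intro h
      refine Or.inl ⟨rfl, hp2, ?_⟩
      by_contra hcon
      push Not at hcon
      obtain ⟨hd1, hm1, hq7⟩ := hcon
      have he : OrthPlanes.e1 F = -1 := OrthTwo.e1_eq_or.resolve_left fun he =>
        (by omega : ¬ Fintype.card F % 4 = 1) ((OrthTwo.e1_eq_one_iff h2).1 he)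
      obtain ⟨x, hx, hJ⟩ := OrthTwo.exists_J hQ h2 hn
        (by rw [hs, he, (Nat.not_even_iff_odd.1 hd1).neg_one_pow])
        (by rw [(OrthTwo.two_square_iff h2).2 (Or.inr hq7), one_pow])
      obtain ⟨hz, hns⟩ := OrthTwo.J_elem hQ (by omega) h2 hx hJ
      obtain ⟨W, ⟨hWd, -⟩, hWi⟩ := h x hx hz hns
      exact hm1 (hWd ▸ OrthTwo.even_J hJ he (inv_iff_map.2 hWi))
    · rintro (⟨-, -, hcond⟩ | ⟨-, h, -⟩ | ⟨-, h, -⟩)
      rotate_left
      · omega
      · omega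
      intro x hx hz hns
      rcases OrthTwo.elem_cases hQ h2 (by omega) hx hz hns with ⟨hsq, h1, h1'⟩ | hJ
      · obtain ⟨C, M, α, β, hcpl, horth, hC, hM, hCd, hMd, hα, hβ, hab', hMs, hCM, hinv⟩ :=
          OrthTwoFix.invol_data hQ h2 hn hx hsq h1 h1'
        obtain ⟨hC1, hC2⟩ := OrthTwoFix.widx_even hα (sgn_eq_or (res Q C))
        obtain ⟨hM1, hM2⟩ := OrthTwoFix.widx_even hβ (sgn_eq_or (res Q M))
        obtain ⟨A, hA, B, hB, hP⟩ := OrthTwo.split_ts hcpl horth h2 hC hM (m := m) (by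
          rw [hCd, hMd]
          rcases sgn_eq_or (res Q M) with h | h
          · rw [h, mul_one, hs] at hCM
            rw [hC2 hCM, hM1 h]
            omega
          · rw [h, hs] at hCM
            rw [hC1 (by omega), hM2 h]
            omega)
        exact ⟨A ⊔ B, ⟨hP.1, hP.2⟩, hinv A hA B hB⟩
      · obtain ⟨hsd, hsp, -, hU1, hU2⟩ := OrthTwoFix.J_data hQ h2 hn hx hJ
        rw [hs] at hsd
        rcases OrthTwo.e1_eq_or (F := F) with he | he
        · rw [he, one_pow] at hsd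
          omega
        have hdo : Odd d := by
          by_contra hev'
          rw [he, (Nat.not_odd_iff_even.1 hev').neg_one_pow] at hsd
          omega
        have hq1 : Fintype.card F % 4 ≠ 1 := fun hq1 => by
          rw [(OrthTwo.e1_eq_one_iff h2).2 hq1] at he
          omega
        have h2s : OrthPlanes.chi (2 : F) = 1 := by
          rcases OrthPlanes.chi_eq_or h2 with h | h
          · exact h
          · rw [h, hdo.neg_one_pow] at hsp
            omega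
        have hq7 : Fintype.card F % 8 = 7 := by
          rcases (OrthTwo.two_square_iff h2).1 h2s with h | h <;> omega
        obtain ⟨j, hj⟩ : Even m := (hcond.resolve_left (Nat.not_even_iff_odd.2 hdo)).resolve_right
          (not_not_intro hq7)
        obtain ⟨U, hU, hUd, hU0⟩ := hU2 j (by omega)
        exact ⟨U, ⟨by omega, hU0⟩, hU⟩
  refine (OrthGroup.allFix_iff hQ (by omega) hr2 (SingP Q m)).trans ?_
  rw [OrthMain.sing_main (p := p) hrp hr2 hQ (fun h => absurd h hev)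
      (by rw [hn, widx, if_neg (by omega), hs, if_neg (by norm_num)]; omega) hrΩ, hn, hs]
  have hr : 2 < r := by have := (Fact.out : r.Prime).two_le; omega
  have hi0 := OrthMain.order_pos (F := F) (p := p) hrp
  have ht := OrthMain.orbit_pos (F := F) (p := p) hrp
  generalize orderOf (Fintype.card F : ZMod r) = i at *
  have key := fun h : i ≤ m =>
    OrthBridge.sing_even_dim (d := d) hi0 ht h (by omega) (σ := 1) le_rfl (-1) (by norm_num)
  simp only [hr2, hr, hrp, true_and, false_and, false_or, ne_eq, not_false_eq_true,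
    Nat.odd_iff, Nat.even_iff] at key ⊢
  constructor
  · rintro ⟨hle, hall⟩
    have := (key hle).1 hall
    omega
  · intro h
    have hle : i ≤ m := by omega
    exact ⟨hle, (key hle).2 (by omega)⟩

end Cfsg.Agent.S5987
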