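import Cfsg.Statements.S5988
import Cfsg.Agent.Lib.Elusive.OrthTwoFix
import Cfsg.Agent.Lib.Elusive.OrthUnipFree
import Cfsg.Agent.Lib.Elusive.OrthEven
import Cfsg.Agent.Lib.Elusive.OrthNum
-- import your own Cfsg.Agent.* helpers here

set_option autoImplicit false
open scoped MatrixGroups
open Cfsg

namespace Cfsg.Agent.S5988

open Elusive Elusive.OrthType Elusive.OrthStd
open Elusive.OrthCriteria (SingP EvenP)


/-- Elements of prime order of PΩ⁺_n(q) with no fixed elliptic `m`-space. Here `T = PΩ⁺_n(F)`, `n = 2d ≥ 8`, realised through `Ω⁺_n(q)`, the commutator subgroup of the isometry group of `Q = Σ xᵢyᵢ` over the field `F` with `q` elements; an element of `T` of prime order `r` is an element `x` of `Ω⁺_n(q)` with `x^r` scalar and `x` not scalar; a nondegenerate `m`-space (even `m`) is a subspace on which the polar form of `Q` is nondegenerate; it is hyperbolic if it contains an `m/2`-dimensional subspace on which `Q` vanishes,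 elliptic otherwise. Let `m` be even with `2 ≤ m < n/2` and let `r` be a prime dividing the number of elliptic `m`-spaces; for `r ≠ p` let `i` be the multiplicative order of `q` modulo `r`, `c = i` for `i` even and `c = 2i` for `i` odd, and write `k = n mod c`, `ℓ = m mod i`, `ℓ' = m mod c`, `n' = ⌊n/i⌋`, `m' = ⌊m/i⌋`, `t = (r−1)/i`. Then every element of `T` of order `r` fixes some elliptic `m`-space if and only if one of: (i) `r = 2 ≠ p` and either `n ≡ 0 (mod 4)`, `q ≡ 3 (mod 4)` and `m ≡ 2 (mod 4)`, or `n ≡ 2 (mod 4)` and `q ≢ 1 (mod 8)`; (ii) `r ≠ p` odd, `i` odd, `c ≤ m` and `k > ℓ' > 0`; (iii) `r ≠ p` odd, `i` even, and either `k = 0` and (`n/i` odd, or `ℓ' = 0` and `m/i` odd), or `i ≤ m` and (`k > ℓ' > 0`, or `k = ℓ' > 0` and `(n + m − 2k)/i` odd, or `k > ℓ' = 0` and `m/i` odd). (For `r = p` there is always an element of order `p` fixing no elliptic `m`-space.) -/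
theorem result {F : Type*} [Field F] [Fintype F] {p : ℕ} [Fact p.Prime] [CharP F p] {q : ℕ} (hq : Fintype.card F = q)
    (d m : ℕ) (hd : 4 ≤ d) (hm : 2 ≤ m) (hme : Even m) (hmd : m < d)
    (r : ℕ) [Fact r.Prime]
    (hrΩ : r ∣ Nat.card {W : Submodule F (Fin d ⊕ Fin d → F) // Module.finrank F ↥W = m ∧ Cfsg.Geo.IsNondegenerateOn (QuadraticMap.polar (Cfsg.quadFormPlus d F)) W ∧ ¬ Cfsg.Geo.IsPlusTypeOn (Cfsg.quadFormPlus d F) W})
    (i c : ℕ) (hi : i = orderOf (q : ZMod r)) (hc : c = if Even i then i else 2 * i) :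
    (∀ x : GL (Fin d ⊕ Fin d) F, x ∈ Cfsg.Geo.omegaGL (Cfsg.quadFormPlus d F) →
      (∃ z : F, ((x ^ r : GL (Fin d ⊕ Fin d) F) : Matrix (Fin d ⊕ Fin d) (Fin d ⊕ Fin d) F) = z • (1 : Matrix (Fin d ⊕ Fin d) (Fin d ⊕ Fin d) F)) →
      (∀ z : F, (x : Matrix (Fin d ⊕ Fin d) (Fin d ⊕ Fin d) F) ≠ z • (1 : Matrix (Fin d ⊕ Fin d) (Fin d ⊕ Fin d) F)) →
      ∃ W : Submodule F (Fin d ⊕ Fin d → F), (Module.finrank F ↥W = m ∧ Cfsg.Geo.IsNondegenerateOn (QuadraticMap.polar (Cfsg.quadFormPlus d F)) W ∧ ¬ Cfsg.Geo.IsPlusTypeOn (Cfsg.quadFormPlus d F) W) ∧ W.map (Matrix.toLin' (x : Matrix (Fin d ⊕ Fin d) (Fin d ⊕ Fin d) F)) ≤ W) ↔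
    ((r = 2 ∧ p ≠ 2 ∧ ((Even d ∧ q % 4 = 3 ∧ m % 4 = 2) ∨ (Odd d ∧ q % 8 ≠ 1))) ∨
     (r ≠ p ∧ 2 < r ∧ Odd i ∧ c ≤ m ∧ 0 < m % c ∧ m % c < (2 * d) % c) ∨
     (r ≠ p ∧ 2 < r ∧ Even i ∧
       (((2 * d) % c = 0 ∧ (Odd ((2 * d) / i) ∨ (m % c = 0 ∧ Odd (m / i)))) ∨
        (i ≤ m ∧ ((0 < m % c ∧ m % c < (2 * d) % c) ∨
                  (0 < m % c ∧ m % c = (2 * d) % c ∧ Odd ((2 * d + m - 2 * ((2 * d) % c)) / i)) ∨
                  (m % c = 0 ∧ 0 < (2 * d) % c ∧ Odd (m / i))))))) := by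
  subst hq hi
  obtain rfl : c = OrthBridge.bdim _ := hc
  obtain ⟨μ, rfl⟩ := hme
  simp only [← two_mul, coe_plus, minus_iff] at *
  set Q := Forms.quadPlus d F
  have hQ : Sep Q := sep_plus d
  have hs : sgn Q = 1 := sgn_plus d
  have hn := card_plus d
  have hnd : ¬ Odd (Fintype.card (Fin d ⊕ Fin d)) := by rw [hn]; exact Nat.not_odd_iff_even.2 (even_two_mul d)
  rcases eq_or_ne r 2 with rfl | hr2
  · have hred : (2 = 2 ∧ p ≠ 2 ∧ ((Even d ∧ Fintype.card F % 4 = 3 ∧ (2 * μ) % 4 = 2) ∨ (Odd d ∧ Fintype.card F % 8 ≠ 1))) ↔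
        (p ≠ 2 ∧ ((d % 2 = 0 ∧ Fintype.card F % 4 = 3 ∧ μ % 2 = 1) ∨ (d % 2 = 1 ∧ Fintype.card F % 8 ≠ 1))) := by
      rw [Nat.even_iff, Nat.odd_iff]; omega
    refine Iff.trans ?_ (Iff.symm (Iff.trans (or_iff_left (by omega)) hred))
    rcases eq_or_ne p 2 with rfl | hp2
    · refine iff_of_false (fun h => ?_) (fun h => h.1 rfl)
      obtain ⟨N, hf, hN, halt, hev, hbig⟩ := OrthEven.exists_alt hQ hn (Or.inl hs)
      obtain ⟨x, hx, hz, hns, hxN⟩ := OrthEven.exists_elem hQ (by omega) hf hN hev fun h0 => by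
        rw [h0, LinearMap.range_zero, finrank_bot] at hbig
        omega
      obtain ⟨W, ⟨hWd, hWn, hWs⟩, hWi⟩ := h x hx hz hns
      rcases OrthEven.large_alt hf hN hQ hn halt hbig (W := W) (μ := μ)
        ⟨hWn, OrthUnip.inv_of_map hxN hWi, hWd⟩ with ⟨-, hw⟩ | ⟨-, hw⟩
      · rw [hWs] at hw; omega
      · rw [hWs, hs] at hw; omega
    · have h2 : (2 : F) ≠ 0 := two_ne_zero_of_ne (p := p) hp2
      have hqo : Fintype.card F % 2 = 1 := Nat.odd_iff.1 (odd_card_of_ne (p := p) hp2)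
      constructor
      · intro h
        refine ⟨hp2, ?_⟩
        by_contra hcon
        have hJex : OrthPlanes.e1 F ^ d = 1 ∧ OrthPlanes.chi (2 : F) ^ d = 1 ∧ OrthPlanes.e1 F ^ μ = 1 := by
          rcases Nat.even_or_odd d with hde | hdo
          · have hone : ∀ z : ℤ, (z = 1 ∨ z = -1) → z ^ d = 1 := fun z hz => by
              rcases hz with rfl | rfl
              · exact one_pow d
              · exact hde.neg_one_pow
            refine ⟨hone _ OrthTwo.e1_eq_or, hone _ (OrthPlanes.chi_eq_or h2), ?_⟩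
            rcases OrthTwo.e1_eq_or (F := F) with he | he
            · rw [he, one_pow]
            rw [he]
            refine Even.neg_one_pow ?_
            have hq1 : Fintype.card F % 4 ≠ 1 := fun hq1 => by
              rw [(OrthTwo.e1_eq_one_iff h2).2 hq1] at he
              omega
            rw [Nat.even_iff] at hde ⊢
            omega
          · have hq1 : Fintype.card F % 8 = 1 := by rw [Nat.odd_iff] at hdo; omega
            rw [(OrthTwo.e1_eq_one_iff h2).2 (by omega), (OrthTwo.two_square_iff h2).2 (Or.inl hq1), one_pow, one_pow]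
            exact ⟨rfl, rfl, rfl⟩
        obtain ⟨x, hx, hJ⟩ := OrthTwo.exists_J hQ h2 hn (hs.trans hJex.1.symm) hJex.2.1
        obtain ⟨hz, hns⟩ := OrthTwo.J_elem hQ (by omega) h2 hx hJ
        obtain ⟨W, ⟨hWd, hWn, hWs⟩, hWi⟩ := h x hx hz hns
        obtain ⟨k, hk, hks⟩ := OrthTwo.nd_J (OrthGroup.isometry_of_omega hx) hJ h2 (inv_iff_map.2 hWi) hWn
        obtain rfl : k = μ := by omega
        rw [hWs, hJex.2.2] at hks
        omega
      · rintro ⟨-, hcond⟩ x hx hz hns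
        rcases OrthTwo.elem_cases hQ h2 (by omega) hx hz hns with ⟨hsq, h1, h1'⟩ | hJ
        · obtain ⟨C, M, α, β, hcpl, horth, hC, hM, hCd, hMd, -, -, hab, -, -, hinv⟩ :=
            OrthTwoFix.invol_data hQ h2 hn hx hsq h1 h1'
          obtain ⟨A, hA, B, hB, hP⟩ := OrthTwo.split_even hcpl horth h2 hC hM hCd hMd (μ := μ) (by omega) (by omega)
            (by omega) (τ := -1) (Or.inr rfl)
          exact ⟨A ⊔ B, hP, hinv A hA B hB⟩
        · obtain ⟨hsd, hsp, hA, -, -⟩ := OrthTwoFix.J_data hQ h2 hn hx hJ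
          obtain ⟨A, hAi, hAn, hAd, hAs⟩ := hA μ (by omega)
          refine ⟨A, ⟨hAd, hAn, ?_⟩, hAi⟩
          rw [hAs]
          rcases hcond with ⟨-, hq3, hμo⟩ | ⟨hdo, hq8⟩
          · have he : OrthPlanes.e1 F = -1 := OrthTwo.e1_eq_or.resolve_left fun he =>
              (by omega : ¬ Fintype.card F % 4 = 1) ((OrthTwo.e1_eq_one_iff h2).1 he)
            rw [he, (Nat.odd_iff.2 hμo).neg_one_pow]
          · exfalso
            have hdo' : Odd d := Nat.odd_iff.2 hdo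
            rcases OrthTwo.e1_eq_or (F := F) with he | he
            swap
            · rw [hs, he, hdo'.neg_one_pow] at hsd
              omega
            rcases OrthPlanes.chi_eq_or h2 with hc2 | hc2
            swap
            · rw [hc2, hdo'.neg_one_pow] at hsp
              omega
            have := (OrthTwo.e1_eq_one_iff h2).1 he
            have := (OrthTwo.two_square_iff h2).1 hc2
            omega
  rcases eq_or_ne r p with rfl | hrp
  · refine iff_of_false (fun hall => ?_) (by rintro (⟨h, -⟩ | ⟨h, -⟩ | ⟨h, -⟩) <;> omega)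
    have hp3 : 3 ≤ r := by have := (Fact.out : r.Prime).two_le; omega
    have h2 : (2 : F) ≠ 0 := two_ne_zero_of_ne (p := r) hr2
    obtain ⟨a, k, hk, hk0, hsum, ha⟩ : ∃ a k : ℕ, Even k ∧ 0 < k ∧ a + 2 * k = 2 * d ∧ a ≤ 2 := by
      rcases Nat.even_or_odd' d with ⟨t, rfl | rfl⟩
      · exact ⟨0, 2 * t, even_two_mul t, by omega, by omega, by omega⟩
      · exact ⟨2, 2 * t, even_two_mul t, by omega, by omega, le_rfl⟩
    obtain ⟨x, N, hx, hz, hns, hiso, hnil, ht, hxN⟩ :=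
      OrthUnipFree.exists_of_parts (p := r) h2 hp3 hQ (a := a) (k := k) (b := 0) hk (by omega) (by omega) (Or.inr hs)
    obtain ⟨W, ⟨hWd, hWn, hWs⟩, hWi⟩ := hall x hx hz hns
    have hWN := OrthUnip.inv_of_map hxN hWi
    obtain ⟨c₁, c₂, c₃, h1, -, h3, ⟨e₂, he₂⟩, hcs, hc3⟩ :=
      OrthUnipFree.seen (p := r) h2 hp3 hQ hiso hnil rfl ht hxN hWn hWN
    obtain ⟨hsq, hd1⟩ := hc3 (by omega)
    rcases Nat.eq_zero_or_pos c₁ with h0 | h0
    · have := OrthUnip.twos_plus h2 hiso hWN hsq (by omega)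
      rw [hWs] at this
      omega
    have hY := nd_orth hQ hWn
    have hYN := OrthUnip.inv_orth hiso hnil hWN
    have hc := isCompl_orth hWn
    have hdim := Submodule.finrank_add_eq_of_isCompl hc
    rw [Module.finrank_fintype_fun_eq_card, hn] at hdim
    obtain ⟨c₁', c₂', c₃', h1', -, h3', ⟨e₂', he₂'⟩, hcs', hc3'⟩ :=
      OrthUnipFree.seen (p := r) h2 hp3 hQ hiso hnil rfl ht hxN hY hYN
    obtain ⟨hsq', hd1'⟩ := hc3' (by omega)
    obtain ⟨j, hj⟩ := hk
    have hYs := OrthUnip.twos_plus h2 hiso hYN hsq' (by omega)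
    have hsg := sgn_sup hWn hY hc.disjoint (fun a ha b hb => mem_orth.1 hb a ha) ⟨μ, by omega⟩ ⟨d - μ, by omega⟩
    rw [hc.sup_eq_top, ← (iso_top Q).sgn_eq, hs, hWs, hYs] at hsg
    omega
  refine (OrthGroup.allFix_iff hQ (by omega) hr2 (EvenP Q (2 * μ) (-1))).trans ?_
  obtain ⟨hmain, hsmall⟩ := OrthMain.even_main_all (p := p) hrp hr2 hQ (fun h => absurd h hnd) (μ := μ) (by omega)
    (by omega) (Or.inr rfl) hrΩ
  rw [hn, hs] at hmain hsmall
  have h3 : 2 < r := by have := (Fact.out : r.Prime).two_le; omega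
  rw [hmain, OrthNum.plus_minus (OrthMain.order_pos (p := p) hrp) (by omega) (by omega) hsmall]
  simp only [hr2, hrp, h3, ne_eq, not_false_eq_true, true_and, false_and, false_or]

end Cfsg.Agent.S5988
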