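import Cfsg.Statements.S5989
import Cfsg.Agent.Lib.Elusive.OrthTwoFix
import Cfsg.Agent.Lib.Elusive.OrthUnipFree
-- import your own Cfsg.Agent.* helpers here

set_option autoImplicit false
open scoped MatrixGroups
open Cfsg

namespace Cfsg.Agent.S5989

open Elusive Elusive.OrthType Elusive.OrthStd
open Elusive.OrthCriteria (SingP EvenP)


/-- Elements of prime order of PΩ⁺_n(q), q odd, with no fixed nondegenerate `m`-space of odd dimension. Here `T = PΩ⁺_n(F)`, `n = 2d ≥ 8`, realised through `Ω⁺_n(q)`, the commutator subgroup of the isometry group of `Q = Σ xᵢyᵢ` over the field `F` with `q` elements; an element of `T` of prime order `r` is an element `x` of `Ω⁺_n(q)` with `x^r` scalar and `x` not scalar; `q` and `m` are odd, `1 ≤ m < n/2`. The nondegenerate `m`-spaces (subspaces on which the polar form is nondegenerate) fall into two isometry classes, each an orbit of `T`, and the two actions are equivalent; fix one such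 space `W₀` and let Ω be the set of nondegenerate `m`-spaces isometric to `W₀` (some linear isomorphism preserves `Q`). Let `r` be a prime dividing the size of Ω; for `r ≠ p` let `i` be the multiplicative order of `q` modulo `r`, `c = i` for `i` even and `c = 2i` for `i` odd, and write `k = n mod c`, `ℓ = m mod i`, `ℓ' = m mod c`, `n' = ⌊n/i⌋`, `m' = ⌊m/i⌋`, `t = (r−1)/i`. Then every element of `T` of order `r` fixes a member of Ω if and only if one of: (i) `r = 2`, `n ≡ 2 (mod 4)` and `q ≢ 1 (mod 8)`; (ii) `r ≠ p` odd, `i` odd, `c ≤ m` and `k > ℓ' > 0`; (iii) `r ≠ p` odd, `i` even, and either `k = 0` and `n/i` odd, or `i ≤ m` and `k > ℓ' > 0`. (For `r = p` there is always an element of order `p` fixing no member of Ω.) -/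
theorem result {F : Type*} [Field F] [Fintype F] {p : ℕ} [Fact p.Prime] [CharP F p] {q : ℕ} (hq : Fintype.card F = q)
    (hodd : Odd q) (d m : ℕ) (hd : 4 ≤ d) (hm : Odd m) (hmd : m < d)
    (W₀ : Submodule F (Fin d ⊕ Fin d → F)) (hW₀ : Module.finrank F ↥W₀ = m ∧ Cfsg.Geo.IsNondegenerateOn (QuadraticMap.polar (Cfsg.quadFormPlus d F)) W₀)
    (r : ℕ) [Fact r.Prime]
    (hrΩ : r ∣ Nat.card {W : Submodule F (Fin d ⊕ Fin d → F) // Module.finrank F ↥W = m ∧ Cfsg.Geo.IsNondegenerateOn (QuadraticMap.polar (Cfsg.quadFormPlus d F)) W ∧ Cfsg.Geo.AreIsometricFor (Cfsg.quadFormPlus d F) W W₀})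
    (i c : ℕ) (hi : i = orderOf (q : ZMod r)) (hc : c = if Even i then i else 2 * i) :
    (∀ x : GL (Fin d ⊕ Fin d) F, x ∈ Cfsg.Geo.omegaGL (Cfsg.quadFormPlus d F) →
      (∃ z : F, ((x ^ r : GL (Fin d ⊕ Fin d) F) : Matrix (Fin d ⊕ Fin d) (Fin d ⊕ Fin d) F) = z • (1 : Matrix (Fin d ⊕ Fin d) (Fin d ⊕ Fin d) F)) →
      (∀ z : F, (x : Matrix (Fin d ⊕ Fin d) (Fin d ⊕ Fin d) F) ≠ z • (1 : Matrix (Fin d ⊕ Fin d) (Fin d ⊕ Fin d) F)) →
      ∃ W : Submodule F (Fin d ⊕ Fin d → F), (Module.finrank F ↥W = m ∧ Cfsg.Geo.IsNondegenerateOn (QuadraticMap.polar (Cfsg.quadFormPlus d F)) W ∧ Cfsg.Geo.AreIsometricFor (Cfsg.quadFormPlus d F) W W₀) ∧ W.map (Matrix.toLin' (x : Matrix (Fin d ⊕ Fin d) (Fin d ⊕ Fin d) F)) ≤ W) ↔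
    ((r = 2 ∧ Odd d ∧ q % 8 ≠ 1) ∨
     (r ≠ p ∧ 2 < r ∧ Odd i ∧ c ≤ m ∧ 0 < m % c ∧ m % c < (2 * d) % c) ∨
     (r ≠ p ∧ 2 < r ∧ Even i ∧ (((2 * d) % c = 0 ∧ Odd ((2 * d) / i)) ∨ (i ≤ m ∧ 0 < m % c ∧ m % c < (2 * d) % c)))) := by
  subst hq hi
  obtain rfl : c = OrthBridge.bdim _ := hc
  have hp2 : p ≠ 2 := ne_two_of_odd (p := p) hodd
  have h2 : (2 : F) ≠ 0 := two_ne_zero_of_ne (p := p) hp2
  simp only [coe_plus] at hW₀ hrΩ ⊢
  set Q := Forms.quadPlus d F
  have hQ : Sep Q := sep_plus d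
  have hs : sgn Q = 1 := sgn_plus d
  have hn := card_plus d
  obtain ⟨hW₀d, hW₀n⟩ := hW₀
  rw [isNondegenerateOn_iff] at hW₀n
  simp only [class_iff hW₀d hW₀n] at hrΩ ⊢
  obtain ⟨μ, rfl⟩ := hm
  rcases eq_or_ne r 2 with rfl | hr2
  · have hqo : Fintype.card F % 2 = 1 := Nat.odd_iff.1 hodd
    constructor
    · intro h
      refine Or.inl ⟨rfl, ?_⟩
      by_contra hcon
      have hJex : OrthPlanes.e1 F ^ d = 1 ∧ OrthPlanes.chi (2 : F) ^ d = 1 := by
        rcases Nat.even_or_odd d with hde | hdo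
        · have hone : ∀ z : ℤ, (z = 1 ∨ z = -1) → z ^ d = 1 := fun z hz => by
            rcases hz with rfl | rfl
            · exact one_pow d
            · exact hde.neg_one_pow
          exact ⟨hone _ OrthTwo.e1_eq_or, hone _ (OrthPlanes.chi_eq_or h2)⟩
        · have hq1 : Fintype.card F % 8 = 1 := not_not.1 fun h => hcon ⟨hdo, h⟩
          rw [(OrthTwo.e1_eq_one_iff h2).2 (by omega), (OrthTwo.two_square_iff h2).2 (Or.inl hq1), one_pow]
          exact ⟨rfl, rfl⟩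
      obtain ⟨x, hx, hJ⟩ := OrthTwo.exists_J hQ h2 hn (hs.trans hJex.1.symm) hJex.2
      obtain ⟨hz, hns⟩ := OrthTwo.J_elem hQ (by omega) h2 hx hJ
      obtain ⟨W, hW, hWi⟩ := h x hx hz hns
      obtain ⟨k, hk, -⟩ := OrthTwo.nd_J (OrthGroup.isometry_of_omega hx) hJ h2 (inv_iff_map.2 hWi)
        (nd_iff.2 (hW.sep (nd_iff.1 hW₀n)))
      have := hW.finrank_eq.symm.trans hW₀d
      omega
    · rintro (⟨-, hdo, hq8⟩ | ⟨-, h, -⟩ | ⟨-, h, -⟩)
      rotate_left
      · omega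
      · omega
      intro x hx hz hns
      rcases OrthTwo.elem_cases hQ h2 (by omega) hx hz hns with ⟨hsq, h1, h1'⟩ | hJ
      · obtain ⟨C, M, α, β, hcpl, horth, hC, hM, hCd, hMd, -, -, hab, -, -, hinv⟩ :=
          OrthTwoFix.invol_data hQ h2 hn hx hsq h1 h1'
        obtain ⟨A, hA, B, hB, hP⟩ := OrthTwo.split_odd hcpl horth h2 hC hM hCd hMd hW₀n hW₀d (by omega)
        exact ⟨A ⊔ B, hP, hinv A hA B hB⟩
      · obtain ⟨hsd, hsp, -⟩ := OrthTwoFix.J_data hQ h2 hn hx hJ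
        rcases OrthTwo.e1_eq_or (F := F) with he | he
        swap
        · rw [hs, he, hdo.neg_one_pow] at hsd
          omega
        rcases OrthPlanes.chi_eq_or h2 with hc2 | hc2
        swap
        · rw [hc2, hdo.neg_one_pow] at hsp
          omega
        have := (OrthTwo.e1_eq_one_iff h2).1 he
        have := (OrthTwo.two_square_iff h2).1 hc2
        omega
  rcases eq_or_ne r p with rfl | hrp
  · refine iff_of_false (fun hall => ?_) (by rintro (⟨h, -⟩ | ⟨h, -⟩ | ⟨h, -⟩) <;> omega)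
    have hp3 : 3 ≤ r := by have := (Fact.out : r.Prime).two_le; omega
    obtain ⟨a, k, b, hk, hkb, hsum, hno⟩ : ∃ a k b : ℕ, Even k ∧ 0 < k + b ∧ a + 2 * k + 3 * b = 2 * d ∧
        ∀ c₁ c₂ c₃ : ℕ, c₁ ≤ a → c₃ ≤ b → c₂ % 2 = 0 → c₁ + 2 * c₂ + 3 * c₃ ≠ 2 * μ + 1 := by
      rcases Nat.even_or_odd' d with ⟨t, rfl | rfl⟩
      · exact ⟨0, 2 * t, 0, even_two_mul t, by omega, by omega, fun c₁ c₂ c₃ _ _ _ => by omega⟩
      rcases Nat.even_or_odd' μ with ⟨w, rfl | rfl⟩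
      · exact ⟨0, 2 * (t - 1), 2, even_two_mul _, by omega, by omega, fun c₁ c₂ c₃ _ _ _ => by omega⟩
      · exact ⟨2, 2 * t, 0, even_two_mul _, by omega, by omega, fun c₁ c₂ c₃ _ _ _ => by omega⟩
    obtain ⟨x, N, hx, hz, hns, hiso, hnil, ht, hxN⟩ :=
      OrthUnipFree.exists_of_parts (p := r) h2 hp3 hQ hk hkb (hsum.trans hn.symm) (Or.inr hs)
    obtain ⟨W, hW, hWi⟩ := hall x hx hz hns
    obtain ⟨c₁, c₂, c₃, h1, -, h3, hev, hcs, -⟩ := OrthUnipFree.seen (p := r) h2 hp3 hQ hiso hnil rfl ht hxN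
      (nd_iff.2 (hW.sep (nd_iff.1 hW₀n))) (OrthUnip.inv_of_map hxN hWi)
    exact hno c₁ c₂ c₃ h1 h3 (Nat.even_iff.1 hev) (hcs.trans (hW.finrank_eq.symm.trans hW₀d))
  refine (OrthGroup.allFix_iff hQ (by omega) hr2 _).trans ?_
  obtain ⟨hmain, hsmall⟩ :=
    OrthMain.odd_main_all (p := p) hrp hr2 hQ h2 (by rw [hn]; exact even_two_mul d) ⟨μ, rfl⟩ hW₀n hW₀d hrΩ
  rw [hn, hs] at hmain hsmall
  rw [hmain]
  have hr : 2 < r := by have := (Fact.out : r.Prime).two_le; omega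
  have hi0 := OrthMain.order_pos (F := F) (p := p) hrp
  generalize orderOf (Fintype.card F : ZMod r) = i at *
  have key := OrthBridge.odd_dim (d := d) (μ := μ) hi0 (by omega) 1
  rcases Nat.even_or_odd i with he | ho
  · have hb : OrthBridge.bdim i = i := if_pos he
    have hsg : OrthBridge.bsgn i = -1 := if_pos he
    rw [hb, hsg] at key hsmall ⊢
    rw [key] at hsmall ⊢
    have hpw : ∀ E : ℕ, (1 : ℤ) ≠ (-1) ^ E ↔ E % 2 = 1 := fun E => by
      rw [OrthBridge.neg_pow]; split <;> omega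
    simp only [hpw] at hsmall ⊢
    simp only [hr2, hr, hrp, he, Nat.not_odd_iff_even.2 he, Nat.odd_iff, ne_eq, not_false_eq_true, true_and, false_and,
      false_or] at hsmall ⊢
    obtain ⟨h', rfl⟩ := he
    rw [show h' + h' = 2 * h' by ring, OrthBridge.two_succ_mod μ h' (by omega)] at hsmall ⊢
    omega
  · have hb : OrthBridge.bdim i = 2 * i := if_neg (Nat.not_even_iff_odd.2 ho)
    have hsg : OrthBridge.bsgn i = 1 := if_neg (Nat.not_even_iff_odd.2 ho)
    rw [hb, hsg] at key hsmall ⊢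
    rw [key] at hsmall ⊢
    simp only [hr2, hr, hrp, ho, Nat.not_even_iff_odd.2 ho, ne_eq, not_false_eq_true, true_and, false_and, false_or,
      or_false, one_pow, not_true_eq_false, and_false, OrthBridge.two_succ_mod μ i hi0] at hsmall ⊢
    omega

end Cfsg.Agent.S5989
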