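import Cfsg.Statements.S5990
import Cfsg.Agent.Lib.Elusive.OrthTwoFix
import Cfsg.Agent.Lib.Elusive.OrthUnipFree
import Cfsg.Agent.Lib.Elusive.OrthEven
import Cfsg.Agent.Lib.Elusive.OrthNum
-- import your own Cfsg.Agent.* helpers here

set_option autoImplicit false
open scoped MatrixGroups
open Cfsg

namespace Cfsg.Agent.S5990

open Elusive Elusive.OrthType Elusive.OrthStd
open Elusive.OrthCriteria (SingP EvenP)


/-- Elements of prime order of PΩ⁻_n(q) with no fixed elliptic `m`-space. Here `T = PΩ⁻_n(F)`, `n = 2d ≥ 8`, realised through `Ω⁻_n(q)`, the commutator subgroup of the isometry group of `Q = Σ_{i<d−1} xᵢyᵢ + z₁² + a z₁z₂ + b z₂²` with `z₁² + a z₁z₂ + b z₂²` anisotropic, over the field `F` with `q` elements; an element of `T` of prime order `r` is an element `x` of `Ω⁻_n(q)` with `x^r` scalar and `x` not scalar; a nondegenerate `m`-space (even `m`) is a subspace on which the polar form of `Q` is nondegenerate;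 it is hyperbolic if it contains an `m/2`-dimensional subspace on which `Q` vanishes, elliptic otherwise. Let `m` be even with `2 ≤ m ≤ n − 2` (no restriction `m < n/2`: fixing an elliptic `m`-space is the same as fixing its hyperbolic orthogonal complement) and let `r` be a prime dividing the number of elliptic `m`-spaces, with `r = 2` or `r ≠ p`; for `r ≠ p` let `i` be the multiplicative order of `q` modulo `r`, `c = i` for `i` even and `c = 2i` for `i` odd, and write `k = n mod c`, `ℓ = m mod i`, `ℓ' = m mod c`, `n' = ⌊n/i⌋`, `m' = ⌊m/i⌋`, `t = (r−1)/i`. Then every element of `T` of order `r` fixes some elliptic `m`-space if and only if one of: (i) `r = p = 2` and (`n ≡ 0 (mod 4)` or `m ≡ 2 (mod 4)`); (ii) `r = 2 ≠ p` and (`n ≡ 0 (mod 4)`, or `q ≢ 7 (mod 8)`, or `m ≡ 2 (mod 4)`); (iii) `r ≠ p` odd, `i` odd, and `k = 0` or (`c ≤ m` and `k ≥ ℓ' > 0`); (iv) `r ≠ p` odd, `i` even, and either `k = 0` and (`n/i` even,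 or `ℓ' = 0` and `m/i` odd), or `k > 0`, `i ≤ m` and (`k > ℓ' > 0`, or `ℓ' = 0` and `m/i` odd, or `k = ℓ'` and `(n + m − 2k)/i` even). (Odd `r = p` is not covered by this statement.) -/
theorem result {F : Type*} [Field F] [Fintype F] {p : ℕ} [Fact p.Prime] [CharP F p] {q : ℕ} (hq : Fintype.card F = q)
    (d m : ℕ) (hd : 4 ≤ d) (hm : 2 ≤ m) (hme : Even m) (hmn : m + 2 ≤ 2 * d) (a b : F) (hab : ∀ x y : F, x ^ 2 + a * x * y + b * y ^ 2 = 0 → x = 0 ∧ y = 0)
    (r : ℕ) [Fact r.Prime] (hr : r = 2 ∨ r ≠ p)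
    (hrΩ : r ∣ Nat.card {W : Submodule F ((Fin (d - 1) ⊕ Fin (d - 1)) ⊕ Fin 2 → F) // Module.finrank F ↥W = m ∧ Cfsg.Geo.IsNondegenerateOn (QuadraticMap.polar (Cfsg.quadFormMinus (d - 1) F a b)) W ∧ ¬ Cfsg.Geo.IsPlusTypeOn (Cfsg.quadFormMinus (d - 1) F a b) W})
    (i c : ℕ) (hi : i = orderOf (q : ZMod r)) (hc : c = if Even i then i else 2 * i) :
    (∀ x : GL ((Fin (d - 1) ⊕ Fin (d - 1)) ⊕ Fin 2) F, x ∈ Cfsg.Geo.omegaGL (Cfsg.quadFormMinus (d - 1) F a b) →
      (∃ z : F, ((x ^ r : GL ((Fin (d - 1) ⊕ Fin (d - 1)) ⊕ Fin 2) F) : Matrix ((Fin (d - 1) ⊕ Fin (d - 1)) ⊕ Fin 2) ((Fin (d - 1) ⊕ Fin (d - 1)) ⊕ Fin 2) F) = z • (1 : Matrix ((Fin (d - 1) ⊕ Fin (d - 1)) ⊕ Fin 2) ((Fin (d - 1) ⊕ Fin (d - 1)) ⊕ Fin 2) F)) →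
      (∀ z : F, (x : Matrix ((Fin (d - 1) ⊕ Fin (d - 1)) ⊕ Fin 2) ((Fin (d - 1) ⊕ Fin (d - 1)) ⊕ Fin 2) F) ≠ z • (1 : Matrix ((Fin (d - 1) ⊕ Fin (d - 1)) ⊕ Fin 2) ((Fin (d - 1) ⊕ Fin (d - 1)) ⊕ Fin 2) F)) →
      ∃ W : Submodule F ((Fin (d - 1) ⊕ Fin (d - 1)) ⊕ Fin 2 → F), (Module.finrank F ↥W = m ∧ Cfsg.Geo.IsNondegenerateOn (QuadraticMap.polar (Cfsg.quadFormMinus (d - 1) F a b)) W ∧ ¬ Cfsg.Geo.IsPlusTypeOn (Cfsg.quadFormMinus (d - 1) F a b) W) ∧ W.map (Matrix.toLin' (x : Matrix ((Fin (d - 1) ⊕ Fin (d - 1)) ⊕ Fin 2) ((Fin (d - 1) ⊕ Fin (d - 1)) ⊕ Fin 2) F)) ≤ W) ↔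
    ((r = 2 ∧ p = 2 ∧ (Even d ∨ m % 4 = 2)) ∨
     (r = 2 ∧ p ≠ 2 ∧ (Even d ∨ q % 8 ≠ 7 ∨ m % 4 = 2)) ∨
     (r ≠ p ∧ 2 < r ∧ Odd i ∧ ((2 * d) % c = 0 ∨ (c ≤ m ∧ 0 < m % c ∧ m % c ≤ (2 * d) % c))) ∨
     (r ≠ p ∧ 2 < r ∧ Even i ∧
       (((2 * d) % c = 0 ∧ (Even ((2 * d) / i) ∨ (m % c = 0 ∧ Odd (m / i)))) ∨
        (0 < (2 * d) % c ∧ i ≤ m ∧ ((0 < m % c ∧ m % c < (2 * d) % c) ∨ (m % c = 0 ∧ Odd (m / i)) ∨
                                    (m % c = (2 * d) % c ∧ Even ((2 * d + m - 2 * ((2 * d) % c)) / i))))))) := by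
  subst hq hi
  obtain rfl : c = OrthBridge.bdim _ := hc
  obtain ⟨μ, rfl⟩ := hme
  simp only [← two_mul, coe_minus, minus_iff] at *
  set Q := Forms.quadMinus (d - 1) F a b
  have hQ : Sep Q := sep_minus (d - 1) hab
  have hs : sgn Q = -1 := sgn_minus (d - 1) hab
  have hn := card_minus (d := d) (by omega)
  have hnd : ¬ Odd (Fintype.card ((Fin (d - 1) ⊕ Fin (d - 1)) ⊕ Fin 2)) := by rw [hn]; exact Nat.not_odd_iff_even.2 (even_two_mul d)
  rcases eq_or_ne r 2 with rfl | hr2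
  · refine Iff.trans ?_ (Iff.symm (Iff.trans ((or_congr Iff.rfl (or_iff_left (by omega))))
      (show ((2 = 2 ∧ p = 2 ∧ (Even d ∨ (2 * μ) % 4 = 2)) ∨ (2 = 2 ∧ p ≠ 2 ∧ (Even d ∨ Fintype.card F % 8 ≠ 7 ∨ (2 * μ) % 4 = 2))) ↔
        (d % 2 = 0 ∨ μ % 2 = 1 ∨ (p ≠ 2 ∧ Fintype.card F % 8 ≠ 7)) by rw [Nat.even_iff]; omega)))
    rcases eq_or_ne p 2 with rfl | hp2
    · constructor
      · intro h
        by_contra hcon
        have hdo : Odd d := by rw [Nat.odd_iff]; omega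
        obtain ⟨N, hf, hN, halt, hev, hbig⟩ := OrthEven.exists_alt hQ hn (Or.inr hdo)
        obtain ⟨x, hx, hz, hns, hxN⟩ := OrthEven.exists_elem hQ (by omega) hf hN hev fun h0 => by
          rw [h0, LinearMap.range_zero, finrank_bot] at hbig
          omega
        obtain ⟨W, ⟨hWd, hWn, hWs⟩, hWi⟩ := h x hx hz hns
        rcases OrthEven.large_alt hf hN hQ hn halt hbig (W := W) (μ := μ)
          ⟨hWn, OrthUnip.inv_of_map hxN hWi, hWd⟩ with ⟨-, hw⟩ | ⟨he, -⟩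
        · rw [hWs] at hw; omega
        · rw [Nat.even_iff] at he; omega
      · intro hcond x hx hz hns
        obtain ⟨N, hf, hN, hev, hxN⟩ := OrthEven.elem hQ (by omega) hx hz
        obtain ⟨W, hW, hWi⟩ := OrthEven.exists_inv hf hN hQ hn hev (μ := μ) (by omega) (by omega) hs
          (fun h => absurd h (by norm_num)) (fun _ h => by rw [Nat.even_iff] at h ⊢; omega)
        exact ⟨W, hW, inv_iff_map.1 fun v hv => by rw [hxN]; exact W.add_mem hv (hWi v hv)⟩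
    · have h2 : (2 : F) ≠ 0 := two_ne_zero_of_ne (p := p) hp2
      constructor
      · intro h
        by_contra hcon
        have hq7 : Fintype.card F % 8 = 7 := not_not.1 fun hne => hcon (Or.inr (Or.inr ⟨hp2, hne⟩))
        have he : OrthPlanes.e1 F = -1 := OrthTwo.e1_eq_or.resolve_left fun he =>
          (by omega : ¬ Fintype.card F % 4 = 1) ((OrthTwo.e1_eq_one_iff h2).1 he)
        have hdo : Odd d := by rw [Nat.odd_iff]; omega
        have hμe : Even μ := by rw [Nat.even_iff]; omega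
        obtain ⟨x, hx, hJ⟩ := OrthTwo.exists_J hQ h2 hn (by rw [hs, he, hdo.neg_one_pow])
          (by rw [(OrthTwo.two_square_iff h2).2 (Or.inr hq7), one_pow])
        obtain ⟨hz, hns⟩ := OrthTwo.J_elem hQ (by omega) h2 hx hJ
        obtain ⟨W, ⟨hWd, hWn, hWs⟩, hWi⟩ := h x hx hz hns
        obtain ⟨k, hk, hks⟩ := OrthTwo.nd_J (OrthGroup.isometry_of_omega hx) hJ h2 (inv_iff_map.2 hWi) hWn
        obtain rfl : k = μ := by omega
        rw [hWs, he, hμe.neg_one_pow] at hks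
        omega
      · intro hcond x hx hz hns
        rcases OrthTwo.elem_cases hQ h2 (by omega) hx hz hns with ⟨hsq, h1, h1'⟩ | hJ
        · obtain ⟨C, M, α, β, hcpl, horth, hC, hM, hCd, hMd, -, -, hab', -, -, hinv⟩ :=
            OrthTwoFix.invol_data hQ h2 hn hx hsq h1 h1'
          obtain ⟨A, hA, B, hB, hP⟩ := OrthTwo.split_even hcpl horth h2 hC hM hCd hMd (μ := μ) (by omega) (by omega)
            (by omega) (τ := -1) (Or.inr rfl)
          exact ⟨A ⊔ B, hP, hinv A hA B hB⟩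
        · obtain ⟨hsd, hsp, hA, -, -⟩ := OrthTwoFix.J_data hQ h2 hn hx hJ
          obtain ⟨A, hAi, hAn, hAd, hAs⟩ := hA μ (by omega)
          refine ⟨A, ⟨hAd, hAn, ?_⟩, hAi⟩
          rw [hs] at hsd
          rcases OrthTwo.e1_eq_or (F := F) with he | he
          · rw [he, one_pow] at hsd
            omega
          have hdo : Odd d := by
            by_contra hev'
            rw [he, (Nat.not_odd_iff_even.1 hev').neg_one_pow] at hsd
            omega
          rcases OrthPlanes.chi_eq_or h2 with hc2 | hc2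
          swap
          · rw [hc2, hdo.neg_one_pow] at hsp
            omega
          have hq1 : Fintype.card F % 4 ≠ 1 := fun hq1 => by
            rw [(OrthTwo.e1_eq_one_iff h2).2 hq1] at he
            omega
          have := (OrthTwo.two_square_iff h2).1 hc2
          have hμo : Odd μ := by rw [Nat.odd_iff] at hdo ⊢; omega
          rw [hAs, he, hμo.neg_one_pow]
  have hrp : r ≠ p := hr.resolve_left hr2
  refine (OrthGroup.allFix_iff hQ (by omega) hr2 (EvenP Q (2 * μ) (-1))).trans ?_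
  obtain ⟨hmain, hsmall⟩ := OrthMain.even_main_all (p := p) hrp hr2 hQ (fun h => absurd h hnd) (μ := μ) (by omega)
    (by omega) (Or.inr rfl) hrΩ
  rw [hn, hs] at hmain hsmall
  have h3 : 2 < r := by have := (Fact.out : r.Prime).two_le; omega
  rw [hmain, OrthNum.minus_minus (OrthMain.order_pos (p := p) hrp) (by omega) (by omega) hsmall]
  simp only [hr2, hrp, h3, ne_eq, not_false_eq_true, true_and, false_and, false_or]

end Cfsg.Agent.S5990
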