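import Cfsg.Statements.S5991
import Cfsg.Agent.Lib.Elusive.OrthTwoFix
import Cfsg.Agent.Lib.Elusive.OrthUnipFree
-- import your own Cfsg.Agent.* helpers here

set_option autoImplicit false
open scoped MatrixGroups
open Cfsg

namespace Cfsg.Agent.S5991

open Elusive Elusive.OrthType Elusive.OrthStd
open Elusive.OrthCriteria (SingP EvenP)


/-- Elements of prime order of PΩ⁻_n(q), q odd, with no fixed nondegenerate `m`-space of odd dimension. Here `T = PΩ⁻_n(F)`, `n = 2d ≥ 8`, realised through `Ω⁻_n(q)`, the commutator subgroup of the isometry group of `Q = Σ_{i<d−1} xᵢyᵢ + z₁² + a z₁z₂ + b z₂²` with `z₁² + a z₁z₂ + b z₂²` anisotropic, over the field `F` with `q` elements; an element of `T` of prime order `r` is an element `x` of `Ω⁻_n(q)` with `x^r` scalar and `x` not scalar; `q` and `m` are odd, `1 ≤ m < n/2`. The nondegenerate `m`-spaces fall into two isometry classes, each an orbit of `T`, with equivalent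 actions; fix one such space `W₀` and let Ω be the set of nondegenerate `m`-spaces isometric to `W₀`. Let `r` be a prime dividing the size of Ω; for `r ≠ p` let `i` be the multiplicative order of `q` modulo `r`, `c = i` for `i` even and `c = 2i` for `i` odd, and write `k = n mod c`, `ℓ = m mod i`, `ℓ' = m mod c`, `n' = ⌊n/i⌋`, `m' = ⌊m/i⌋`, `t = (r−1)/i`. Then every element of `T` of order `r` fixes a member of Ω if and only if one of: (i) `r = 2` and (`n ≡ 0 (mod 4)` or `q ≢ 7 (mod 8)`); (ii) `r ≠ p` odd, `i` odd, and `k = 0` or (`c ≤ m` and `k > ℓ' > 0`); (iii) `r ≠ p` odd, `i` even, and either `k = 0` and `n/i` even, or `k > 0`, `i ≤ m` and `k > ℓ' > 0`. (For `r = p` there is always an element of order `p` fixing no member of Ω.) -/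
theorem result {F : Type*} [Field F] [Fintype F] {p : ℕ} [Fact p.Prime] [CharP F p] {q : ℕ} (hq : Fintype.card F = q)
    (hodd : Odd q) (d m : ℕ) (hd : 4 ≤ d) (hm : Odd m) (hmd : m < d) (a b : F) (hab : ∀ x y : F, x ^ 2 + a * x * y + b * y ^ 2 = 0 → x = 0 ∧ y = 0)
    (W₀ : Submodule F ((Fin (d - 1) ⊕ Fin (d - 1)) ⊕ Fin 2 → F)) (hW₀ : Module.finrank F ↥W₀ = m ∧ Cfsg.Geo.IsNondegenerateOn (QuadraticMap.polar (Cfsg.quadFormMinus (d - 1) F a b)) W₀)
    (r : ℕ) [Fact r.Prime]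
    (hrΩ : r ∣ Nat.card {W : Submodule F ((Fin (d - 1) ⊕ Fin (d - 1)) ⊕ Fin 2 → F) // Module.finrank F ↥W = m ∧ Cfsg.Geo.IsNondegenerateOn (QuadraticMap.polar (Cfsg.quadFormMinus (d - 1) F a b)) W ∧ Cfsg.Geo.AreIsometricFor (Cfsg.quadFormMinus (d - 1) F a b) W W₀})
    (i c : ℕ) (hi : i = orderOf (q : ZMod r)) (hc : c = if Even i then i else 2 * i) :
    (∀ x : GL ((Fin (d - 1) ⊕ Fin (d - 1)) ⊕ Fin 2) F, x ∈ Cfsg.Geo.omegaGL (Cfsg.quadFormMinus (d - 1) F a b) →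
      (∃ z : F, ((x ^ r : GL ((Fin (d - 1) ⊕ Fin (d - 1)) ⊕ Fin 2) F) : Matrix ((Fin (d - 1) ⊕ Fin (d - 1)) ⊕ Fin 2) ((Fin (d - 1) ⊕ Fin (d - 1)) ⊕ Fin 2) F) = z • (1 : Matrix ((Fin (d - 1) ⊕ Fin (d - 1)) ⊕ Fin 2) ((Fin (d - 1) ⊕ Fin (d - 1)) ⊕ Fin 2) F)) →
      (∀ z : F, (x : Matrix ((Fin (d - 1) ⊕ Fin (d - 1)) ⊕ Fin 2) ((Fin (d - 1) ⊕ Fin (d - 1)) ⊕ Fin 2) F) ≠ z • (1 : Matrix ((Fin (d - 1) ⊕ Fin (d - 1)) ⊕ Fin 2) ((Fin (d - 1) ⊕ Fin (d - 1)) ⊕ Fin 2) F)) →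
      ∃ W : Submodule F ((Fin (d - 1) ⊕ Fin (d - 1)) ⊕ Fin 2 → F), (Module.finrank F ↥W = m ∧ Cfsg.Geo.IsNondegenerateOn (QuadraticMap.polar (Cfsg.quadFormMinus (d - 1) F a b)) W ∧ Cfsg.Geo.AreIsometricFor (Cfsg.quadFormMinus (d - 1) F a b) W W₀) ∧ W.map (Matrix.toLin' (x : Matrix ((Fin (d - 1) ⊕ Fin (d - 1)) ⊕ Fin 2) ((Fin (d - 1) ⊕ Fin (d - 1)) ⊕ Fin 2) F)) ≤ W) ↔
    ((r = 2 ∧ (Even d ∨ q % 8 ≠ 7)) ∨
     (r ≠ p ∧ 2 < r ∧ Odd i ∧ ((2 * d) % c = 0 ∨ (c ≤ m ∧ 0 < m % c ∧ m % c < (2 * d) % c))) ∨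
     (r ≠ p ∧ 2 < r ∧ Even i ∧ (((2 * d) % c = 0 ∧ Even ((2 * d) / i)) ∨ (0 < (2 * d) % c ∧ i ≤ m ∧ 0 < m % c ∧ m % c < (2 * d) % c)))) := by
  subst hq hi
  obtain rfl : c = OrthBridge.bdim _ := hc
  have hp2 : p ≠ 2 := ne_two_of_odd (p := p) hodd
  have h2 : (2 : F) ≠ 0 := two_ne_zero_of_ne (p := p) hp2
  simp only [coe_minus] at hW₀ hrΩ ⊢
  set Q := Forms.quadMinus (d - 1) F a b
  have hQ : Sep Q := sep_minus (d - 1) hab
  have hs : sgn Q = -1 := sgn_minus (d - 1) hab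
  have hn := card_minus (d := d) (by omega)
  obtain ⟨hW₀d, hW₀n⟩ := hW₀
  rw [isNondegenerateOn_iff] at hW₀n
  simp only [class_iff hW₀d hW₀n] at hrΩ ⊢
  obtain ⟨μ, rfl⟩ := hm
  rcases eq_or_ne r 2 with rfl | hr2
  · have hqo : Fintype.card F % 2 = 1 := Nat.odd_iff.1 hodd
    constructor
    · intro h
      refine Or.inl ⟨rfl, ?_⟩
      by_contra hcon
      push Not at hcon
      obtain ⟨hd1, hq7⟩ := hcon
      have he : OrthPlanes.e1 F = -1 := OrthTwo.e1_eq_or.resolve_left fun he =>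
        (by omega : ¬ Fintype.card F % 4 = 1) ((OrthTwo.e1_eq_one_iff h2).1 he)
      obtain ⟨x, hx, hJ⟩ := OrthTwo.exists_J hQ h2 hn
        (by rw [hs, he, (Nat.not_even_iff_odd.1 hd1).neg_one_pow])
        (by rw [(OrthTwo.two_square_iff h2).2 (Or.inr hq7), one_pow])
      obtain ⟨hz, hns⟩ := OrthTwo.J_elem hQ (by omega) h2 hx hJ
      obtain ⟨W, hW, hWi⟩ := h x hx hz hns
      obtain ⟨k, hk, -⟩ := OrthTwo.nd_J (OrthGroup.isometry_of_omega hx) hJ h2 (inv_iff_map.2 hWi)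
        (nd_iff.2 (hW.sep (nd_iff.1 hW₀n)))
      have := hW.finrank_eq.symm.trans hW₀d
      omega
    · rintro (⟨-, hcond⟩ | ⟨-, h, -⟩ | ⟨-, h, -⟩)
      rotate_left
      · omega
      · omega
      intro x hx hz hns
      rcases OrthTwo.elem_cases hQ h2 (by omega) hx hz hns with ⟨hsq, h1, h1'⟩ | hJ
      · obtain ⟨C, M, α, β, hcpl, horth, hC, hM, hCd, hMd, -, -, hab, -, -, hinv⟩ :=
          OrthTwoFix.invol_data hQ h2 hn hx hsq h1 h1'
        obtain ⟨A, hA, B, hB, hP⟩ := OrthTwo.split_odd hcpl horth h2 hC hM hCd hMd hW₀n hW₀d (by omega)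
        exact ⟨A ⊔ B, hP, hinv A hA B hB⟩
      · obtain ⟨hsd, hsp, -⟩ := OrthTwoFix.J_data hQ h2 hn hx hJ
        rw [hs] at hsd
        rcases OrthTwo.e1_eq_or (F := F) with he | he
        · rw [he, one_pow] at hsd
          omega
        have hdo : Odd d := by
          by_contra hev'
          rw [he, (Nat.not_odd_iff_even.1 hev').neg_one_pow] at hsd
          omega
        rcases OrthPlanes.chi_eq_or h2 with hc2 | hc2
        swap
        · rw [hc2, hdo.neg_one_pow] at hsp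
          omega
        have hq1 : Fintype.card F % 4 ≠ 1 := fun hq1 => by
          rw [(OrthTwo.e1_eq_one_iff h2).2 hq1] at he
          omega
        have hq7 := hcond.resolve_left (Nat.not_even_iff_odd.2 hdo)
        have := (OrthTwo.two_square_iff h2).1 hc2
        omega
  rcases eq_or_ne r p with rfl | hrp
  · refine iff_of_false (fun hall => ?_) (by rintro (⟨h, -⟩ | ⟨h, -⟩ | ⟨h, -⟩) <;> omega)
    have hp3 : 3 ≤ r := by have := (Fact.out : r.Prime).two_le; omega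
    rcases Nat.even_or_odd' d with ⟨t, rfl | rfl⟩
    · obtain ⟨x, hx, hz, hns, hfree⟩ := OrthUnipFree.exists_free_line (p := r) h2 hp3 hQ hn (even_two_mul t)
        (by omega) ⟨μ, rfl⟩ hW₀n hW₀d
      obtain ⟨W, hW, hWi⟩ := hall x hx hz hns
      exact hfree W hW hWi
    obtain ⟨A, k, B, hk, hkb, hAB, hsum, hno⟩ : ∃ A k B : ℕ, Even k ∧ 0 < k + B ∧ 0 < A + B ∧
        A + 2 * k + 3 * B = 2 * (2 * t + 1) ∧
        ∀ c₁ c₂ c₃ : ℕ, c₁ ≤ A → c₃ ≤ B → c₂ % 2 = 0 → c₁ + 2 * c₂ + 3 * c₃ ≠ 2 * μ + 1 := by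
      rcases Nat.even_or_odd' μ with ⟨w, rfl | rfl⟩
      · exact ⟨0, 2 * (t - 1), 2, even_two_mul _, by omega, by omega, by omega, fun c₁ c₂ c₃ _ _ _ => by omega⟩
      · exact ⟨2, 2 * t, 0, even_two_mul _, by omega, by omega, by omega, fun c₁ c₂ c₃ _ _ _ => by omega⟩
    obtain ⟨x, N, hx, hz, hns, hiso, hnil, ht, hxN⟩ :=
      OrthUnipFree.exists_of_parts (p := r) h2 hp3 hQ hk hkb (hsum.trans hn.symm) (Or.inl hAB)
    obtain ⟨W, hW, hWi⟩ := hall x hx hz hns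
    obtain ⟨c₁, c₂, c₃, h1, -, h3, hev, hcs, -⟩ := OrthUnipFree.seen (p := r) h2 hp3 hQ hiso hnil rfl ht hxN
      (nd_iff.2 (hW.sep (nd_iff.1 hW₀n))) (OrthUnip.inv_of_map hxN hWi)
    exact hno c₁ c₂ c₃ h1 h3 (Nat.even_iff.1 hev) (hcs.trans (hW.finrank_eq.symm.trans hW₀d))
  refine (OrthGroup.allFix_iff hQ (by omega) hr2 _).trans ?_
  obtain ⟨hmain, hsmall⟩ :=
    OrthMain.odd_main_all (p := p) hrp hr2 hQ h2 (by rw [hn]; exact even_two_mul d) ⟨μ, rfl⟩ hW₀n hW₀d hrΩ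
  rw [hn, hs] at hmain hsmall
  rw [hmain]
  have hr : 2 < r := by have := (Fact.out : r.Prime).two_le; omega
  have hi0 := OrthMain.order_pos (F := F) (p := p) hrp
  generalize orderOf (Fintype.card F : ZMod r) = i at *
  have key := OrthBridge.odd_dim (d := d) (μ := μ) hi0 (by omega) (-1)
  rcases Nat.even_or_odd i with he | ho
  · have hb : OrthBridge.bdim i = i := if_pos he
    have hsg : OrthBridge.bsgn i = -1 := if_pos he
    rw [hb, hsg] at key hsmall ⊢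
    rw [key] at hsmall ⊢
    have hpw : ∀ E : ℕ, (-1 : ℤ) ≠ (-1) ^ E ↔ E % 2 = 0 := fun E => by
      rw [OrthBridge.neg_pow]; split <;> omega
    simp only [hpw] at hsmall ⊢
    simp only [hr2, hr, hrp, he, Nat.not_odd_iff_even.2 he, Nat.even_iff, Nat.even_iff.1 he, ne_eq, not_false_eq_true, true_and, false_and,
      false_or] at hsmall ⊢
    obtain ⟨h', rfl⟩ := he
    rw [show h' + h' = 2 * h' by ring, OrthBridge.two_succ_mod μ h' (by omega)] at hsmall ⊢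
    omega
  · have hb : OrthBridge.bdim i = 2 * i := if_neg (Nat.not_even_iff_odd.2 ho)
    have hsg : OrthBridge.bsgn i = 1 := if_neg (Nat.not_even_iff_odd.2 ho)
    rw [hb, hsg] at key hsmall ⊢
    rw [key] at hsmall ⊢
    simp only [hr2, hr, hrp, ho, Nat.not_even_iff_odd.2 ho, ne_eq, not_false_eq_true, true_and, false_and, false_or,
      or_false, one_pow, show ((-1 : ℤ) = 1) ↔ False from iff_false_intro (by norm_num), and_true, OrthBridge.two_succ_mod μ i hi0] at hsmall ⊢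
    omega

end Cfsg.Agent.S5991
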