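import Cfsg.Statements.S5992
import Cfsg.Agent.Lib.Elusive.OrthStd
-- import your own Cfsg.Agent.* helpers here

set_option autoImplicit false
open scoped MatrixGroups
open Cfsg

namespace Cfsg.Agent.S5992

open Elusive Elusive.OrthType Elusive.OrthStd
open Elusive.OrthCriteria (SingP EvenP)


/-- Elements of prime order r ≠ p of Ω_n(q), nq odd, with no fixed hyperbolic `m`-space. Here `T = Ω_n(F)`, `n = 2d+1 ≥ 7`, `q` odd, realised as the commutator subgroup of the isometry group of `Q = x₀² + Σ xᵢyᵢ` over the field `F` with `q` elements (trivial centre, so its elements of prime order `r` are used directly); a nondegenerate `m`-space (even `m`) is a subspace on which the polar form of `Q` is nondegenerate; it is hyperbolic if it contains an `m/2`-dimensional subspace on which `Q` vanishes, elliptic otherwise. Let `m` be even with `2 ≤ m ≤ n − 1` (no restriction `m < n/2`) and let `r ≠ p` be a prime dividing the number of hyperbolic `m`-spaces; for `r ≠ p` let `i` be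 the multiplicative order of `q` modulo `r`, `c = i` for `i` even and `c = 2i` for `i` odd, and write `k = n mod c`, `ℓ' = m mod c`. Then every element of `T` of order `r` fixes some hyperbolic `m`-space if and only if `r = 2`, or `r` is odd and one of: (i) `i` odd, `c ≤ m` and either `k > ℓ' > 0` or `ℓ' = 0`; (ii) `i` even, `i ≤ m`, `k > ℓ'`, and `m/i` even whenever `ℓ' = 0`. (`r = p` is not covered by this statement.) -/
theorem result {F : Type*} [Field F] [Fintype F] {p : ℕ} [Fact p.Prime] [CharP F p] {q : ℕ} (hq : Fintype.card F = q) (hqodd : Odd q)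
    (d m : ℕ) (hd : 3 ≤ d) (hm : 2 ≤ m) (hme : Even m) (hmn : m ≤ 2 * d)
    (r : ℕ) [Fact r.Prime] (hrp : r ≠ p)
    (hrΩ : r ∣ Nat.card {W : Submodule F (Unit ⊕ (Fin d ⊕ Fin d) → F) // Module.finrank F ↥W = m ∧ Cfsg.Geo.IsNondegenerateOn (QuadraticMap.polar (Cfsg.quadFormOdd d F)) W ∧ Cfsg.Geo.IsPlusTypeOn (Cfsg.quadFormOdd d F) W})
    (i c : ℕ) (hi : i = orderOf (q : ZMod r)) (hc : c = if Even i then i else 2 * i) :
    (∀ x : GL (Unit ⊕ (Fin d ⊕ Fin d)) F, x ∈ Cfsg.Geo.omegaGL (Cfsg.quadFormOdd d F) → orderOf x = r →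
      ∃ W : Submodule F (Unit ⊕ (Fin d ⊕ Fin d) → F), (Module.finrank F ↥W = m ∧ Cfsg.Geo.IsNondegenerateOn (QuadraticMap.polar (Cfsg.quadFormOdd d F)) W ∧ Cfsg.Geo.IsPlusTypeOn (Cfsg.quadFormOdd d F) W) ∧ W.map (Matrix.toLin' (x : Matrix (Unit ⊕ (Fin d ⊕ Fin d)) (Unit ⊕ (Fin d ⊕ Fin d)) F)) ≤ W) ↔
    (r = 2 ∨
     (2 < r ∧ Odd i ∧ c ≤ m ∧ (m % c = 0 ∨ (0 < m % c ∧ m % c < (2 * d + 1) % c))) ∨
     (2 < r ∧ Even i ∧ i ≤ m ∧ m % c < (2 * d + 1) % c ∧ (0 < m % c ∨ Even (m / i)))) := by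
  subst hq hi
  obtain rfl : c = OrthBridge.bdim _ := hc
  have hp2 : p ≠ 2 := ne_two_of_odd (p := p) hqodd
  have h2 : (2 : F) ≠ 0 := two_ne_zero_of_ne (p := p) hp2
  obtain ⟨μ, rfl⟩ := hme
  simp only [← two_mul, coe_odd, plus_iff] at *
  set Q := Forms.quadOdd d F
  have hQ : Sep Q := sep_odd h2 d
  have hn := card_odd d
  rcases eq_or_ne r 2 with rfl | hr2
  · refine iff_of_true (fun x hx hord => ?_) (Or.inl rfl)
    obtain ⟨hsq, h1⟩ := order_two hord
    obtain ⟨C, M, β, hc, horth, hC, hM, hxC, hxM, hβ0, hMd, -⟩ := OrthTwo.invol_split hQ h2 hx hsq h1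
    have hCM := Submodule.finrank_add_eq_of_isCompl hc
    rw [Module.finrank_fintype_fun_eq_card, hn, hMd] at hCM
    rcases (show μ < d ∨ μ = d by omega) with hlt | heq
    · obtain ⟨A, hA, B, hB, hP⟩ := OrthTwo.split_even_odd hc horth h2 hC hM (α := d - β) (μ := μ) (by omega) hMd
        (by omega) (by omega) (τ := 1) (Or.inl rfl)
      exact ⟨A ⊔ B, hP, inv_iff_map.1 (OrthTwo.inv_split hxC hxM hA hB)⟩
    · obtain ⟨W, hW, hWi⟩ := OrthTwo.top_even hQ h2 hn (by omega) hM hMd hβ0
        (OrthGroup.isometry_of_omega hx) hxM (τ := 1) (Or.inl rfl)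
      exact ⟨W, heq.symm ▸ hW, inv_iff_map.1 hWi⟩
  rw [OrthGroup.allFix_iff' hQ (by omega) hr2 (EvenP Q (2 * μ) 1),
    OrthMain.even_main (p := p) hrp hr2 hQ (fun _ => h2) (by omega) (by omega) (Or.inl rfl) hrΩ, hn]
  have hi0 := OrthMain.order_pos (F := F) (p := p) hrp
  have hr : 2 < r := by have := (Fact.out : r.Prime).two_le; omega
  generalize orderOf (Fintype.card F : ZMod r) = i at *
  have key : OrthBridge.bdim i ≤ 2 * μ → _ := fun h =>
    OrthBridge.even_odd_dim (d := d) hi0 (show 0 < μ by omega) (by omega) h (sgn Q) 1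
  rcases Nat.even_or_odd i with he | ho
  · have hb : OrthBridge.bdim i = i := if_pos he
    have hs : OrthBridge.bsgn i = -1 := if_pos he
    rw [hb, hs] at key ⊢
    simp only [hr2, hr, he, Nat.not_odd_iff_even.2 he, true_and, false_and, false_or]
    refine and_congr_right fun hle => (key hle).trans ?_
    rw [eq_comm (a := (1 : ℤ)), neg_one_pow_eq_one_iff_even (by norm_num)]
  · have hb : OrthBridge.bdim i = 2 * i := if_neg (Nat.not_even_iff_odd.2 ho)
    have hs : OrthBridge.bsgn i = 1 := if_neg (Nat.not_even_iff_odd.2 ho)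
    rw [hb, hs] at key ⊢
    simp only [hr2, hr, ho, Nat.not_even_iff_odd.2 ho, true_and, false_and, false_or, or_false]
    refine and_congr_right fun hle => (key hle).trans ?_
    rw [OrthBridge.two_mod, OrthBridge.two_succ_mod d i hi0, one_pow]
    simp only [or_true, and_true]
    omega

end Cfsg.Agent.S5992
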