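import Cfsg.Statements.S5993
import Cfsg.Agent.Lib.Elusive.OrthTwoFix
import Cfsg.Agent.Lib.Elusive.OrthUnip
-- import your own Cfsg.Agent.* helpers here

set_option autoImplicit false
open scoped MatrixGroups
open Cfsg

namespace Cfsg.Agent.S5993

open Elusive Elusive.OrthType Elusive.OrthStd
open Elusive.OrthCriteria (SingP EvenP)


/-- Elements of prime order of Ω_n(q), nq odd, with no fixed elliptic `m`-space. Here `T = Ω_n(F)`, `n = 2d+1 ≥ 7`, `q` odd, realised as the commutator subgroup of the isometry group of `Q = x₀² + Σ xᵢyᵢ` over the field `F` with `q` elements (trivial centre, so its elements of prime order `r` are used directly); a nondegenerate `m`-space (even `m`) is a subspace on which the polar form of `Q` is nondegenerate; it is hyperbolic if it contains an `m/2`-dimensional subspace on which `Q` vanishes, elliptic otherwise. Let `m` be even with `2 ≤ m ≤ n − 1` (no restriction `m < n/2`) and let `r` be a prime dividing the number of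 elliptic `m`-spaces; for `r ≠ p` let `i` be the multiplicative order of `q` modulo `r`, `c = i` for `i` even and `c = 2i` for `i` odd, and write `k = n mod c`, `ℓ' = m mod c`. Then every element of `T` of order `r` fixes some elliptic `m`-space if and only if `r = 2`, or `r ≠ p` is odd and one of: (i) `i` odd, `c ≤ m` and `k > ℓ' > 0`; (ii) `i` even, `i ≤ m`, `k > ℓ'`, and `m/i` odd whenever `ℓ' = 0`. (For `r = p` there is always an element of order `p` fixing no elliptic `m`-space.) -/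
theorem result {F : Type*} [Field F] [Fintype F] {p : ℕ} [Fact p.Prime] [CharP F p] {q : ℕ} (hq : Fintype.card F = q) (hqodd : Odd q)
    (d m : ℕ) (hd : 3 ≤ d) (hm : 2 ≤ m) (hme : Even m) (hmn : m ≤ 2 * d)
    (r : ℕ) [Fact r.Prime]
    (hrΩ : r ∣ Nat.card {W : Submodule F (Unit ⊕ (Fin d ⊕ Fin d) → F) // Module.finrank F ↥W = m ∧ Cfsg.Geo.IsNondegenerateOn (QuadraticMap.polar (Cfsg.quadFormOdd d F)) W ∧ ¬ Cfsg.Geo.IsPlusTypeOn (Cfsg.quadFormOdd d F) W})
    (i c : ℕ) (hi : i = orderOf (q : ZMod r)) (hc : c = if Even i then i else 2 * i) :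
    (∀ x : GL (Unit ⊕ (Fin d ⊕ Fin d)) F, x ∈ Cfsg.Geo.omegaGL (Cfsg.quadFormOdd d F) → orderOf x = r →
      ∃ W : Submodule F (Unit ⊕ (Fin d ⊕ Fin d) → F), (Module.finrank F ↥W = m ∧ Cfsg.Geo.IsNondegenerateOn (QuadraticMap.polar (Cfsg.quadFormOdd d F)) W ∧ ¬ Cfsg.Geo.IsPlusTypeOn (Cfsg.quadFormOdd d F) W) ∧ W.map (Matrix.toLin' (x : Matrix (Unit ⊕ (Fin d ⊕ Fin d)) (Unit ⊕ (Fin d ⊕ Fin d)) F)) ≤ W) ↔
    (r = 2 ∨
     (r ≠ p ∧ 2 < r ∧ Odd i ∧ c ≤ m ∧ 0 < m % c ∧ m % c < (2 * d + 1) % c) ∨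
     (r ≠ p ∧ 2 < r ∧ Even i ∧ i ≤ m ∧ m % c < (2 * d + 1) % c ∧ (0 < m % c ∨ Odd (m / i)))) := by
  subst hq hi
  obtain rfl : c = OrthBridge.bdim _ := hc
  have hp2 : p ≠ 2 := ne_two_of_odd (p := p) hqodd
  have h2 : (2 : F) ≠ 0 := two_ne_zero_of_ne (p := p) hp2
  obtain ⟨μ, rfl⟩ := hme
  simp only [← two_mul, coe_odd, minus_iff] at *
  set Q := Forms.quadOdd d F
  have hQ : Sep Q := sep_odd h2 d
  have hn := card_odd d
  rcases eq_or_ne r 2 with rfl | hr2
  · refine iff_of_true (fun x hx hord => ?_) (Or.inl rfl)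
    obtain ⟨hsq, h1⟩ := order_two hord
    obtain ⟨C, M, β, hc, horth, hC, hM, hxC, hxM, hβ0, hMd, -⟩ := OrthTwo.invol_split hQ h2 hx hsq h1
    have hCM := Submodule.finrank_add_eq_of_isCompl hc
    rw [Module.finrank_fintype_fun_eq_card, hn, hMd] at hCM
    rcases (show μ < d ∨ μ = d by omega) with hlt | heq
    · obtain ⟨A, hA, B, hB, hP⟩ := OrthTwo.split_even_odd hc horth h2 hC hM (α := d - β) (μ := μ) (by omega) hMd
        (by omega) (by omega) (τ := -1) (Or.inr rfl)
      exact ⟨A ⊔ B, hP, inv_iff_map.1 (OrthTwo.inv_split hxC hxM hA hB)⟩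
    · obtain ⟨W, hW, hWi⟩ := OrthTwo.top_even hQ h2 hn (by omega) hM hMd hβ0
        (OrthGroup.isometry_of_omega hx) hxM (τ := -1) (Or.inr rfl)
      exact ⟨W, heq.symm ▸ hW, inv_iff_map.1 hWi⟩
  rcases eq_or_ne r p with rfl | hrp
  · refine iff_of_false (fun hall => ?_) (by rintro (h | ⟨h, -⟩ | ⟨h, -⟩) <;> omega)
    have hp3 : 3 ≤ r := by have := (Fact.out : r.Prime).two_le; omega
    obtain ⟨μ', hle, hev', hsum, hodd', hbig, h13, h1⟩ : ∃ μ' : Multiset ℕ, (∀ e ∈ μ', 1 ≤ e ∧ e ≤ 3) ∧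
        (∀ j, Even j → Even (μ'.count j)) ∧ μ'.sum = 2 * d + 1 ∧ (∃ e ∈ μ', Odd e) ∧ (∃ e ∈ μ', 1 < e) ∧
        μ'.count 1 + μ'.count 3 ≤ 1 ∧ μ'.count 1 + μ'.count 3 = 1 := by
      have hsplit : ∀ a k : ℕ, a = 1 ∨ a = 3 → Even k → a + 2 * k = 2 * d + 1 → 0 < k →
          ∃ μ' : Multiset ℕ, (∀ e ∈ μ', 1 ≤ e ∧ e ≤ 3) ∧ (∀ j, Even j → Even (μ'.count j)) ∧
            μ'.sum = 2 * d + 1 ∧ (∃ e ∈ μ', Odd e) ∧ (∃ e ∈ μ', 1 < e) ∧
            μ'.count 1 + μ'.count 3 ≤ 1 ∧ μ'.count 1 + μ'.count 3 = 1 := by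
        intro a k ha hk hsum hk0
        refine ⟨a ::ₘ Multiset.replicate k 2, ?_, ?_, by simp; omega, ⟨a, Multiset.mem_cons_self _ _, ?_⟩,
          ⟨2, Multiset.mem_cons_of_mem (Multiset.mem_replicate.2 ⟨by omega, rfl⟩), by omega⟩, ?_, ?_⟩
        · intro e he
          rcases Multiset.mem_cons.1 he with rfl | he
          · omega
          · rw [Multiset.eq_of_mem_replicate he]; omega
        · intro j hj
          rw [Nat.even_iff] at hj
          rw [Multiset.count_cons_of_ne (by omega), Multiset.count_replicate]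
          split
          · exact hk
          · exact ⟨0, rfl⟩
        · rw [Nat.odd_iff]; omega
        all_goals rcases ha with rfl | rfl <;> simp [Multiset.count_cons, Multiset.count_replicate]
      rcases Nat.even_or_odd d with he | ⟨t, ht⟩
      · exact hsplit 1 d (Or.inl rfl) he (by omega) (by omega)
      · exact hsplit 3 (2 * t) (Or.inr rfl) (even_two_mul t) (by omega) (by omega)
    obtain ⟨N, hiso, hnil, ht⟩ := QForm.UnipFix.realize h2 (sep_iff.1 hQ) μ' (fun e he => (hle e he).1) hev'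
      (by rw [hsum, Module.finrank_fintype_fun_eq_card, hn]) (Or.inl hodd')
    obtain ⟨x, hx, hxN, -, -, hord⟩ := OrthUnip.element hr2 h2 hQ hiso hnil ht
      (fun e he => (hle e he).2.trans hp3) hbig
    obtain ⟨W, ⟨hWd, hWn, hWs⟩, hWi⟩ := hall x hx hord
    obtain ⟨ν, hνμ, hνs, hνe, hν2⟩ := OrthUnip.sub_data h2 hiso hnil hQ ht (by omega : 2 ≤ r)
      (fun e he => (hle e he).2.trans hp3) hWn (OrthUnip.inv_of_map hxN hWi)
    have hle' : ∀ e ∈ ν, 1 ≤ e ∧ e ≤ 3 := fun e he => hle e (Multiset.mem_of_le hνμ he)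
    have hs := OrthUnip.sum_small hle'
    have c1 := Multiset.count_le_of_le 1 hνμ
    have c3 := Multiset.count_le_of_le 3 hνμ
    rw [hνs, hWd] at hs
    obtain ⟨hsq, hd2⟩ := hν2 (OrthUnip.le_two_of_count hle' (by omega))
    have := OrthUnip.twos_plus h2 hiso (OrthUnip.inv_of_map hxN hWi) hsq (by omega)
    rw [hWs] at this
    omega
  rw [OrthGroup.allFix_iff' hQ (by omega) hr2 (EvenP Q (2 * μ) (-1)),
    OrthMain.even_main (p := p) hrp hr2 hQ (fun _ => h2) (by omega) (by omega) (Or.inr rfl) hrΩ, hn]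
  have hi0 := OrthMain.order_pos (F := F) (p := p) hrp
  have hr : 2 < r := by have := (Fact.out : r.Prime).two_le; omega
  generalize orderOf (Fintype.card F : ZMod r) = i at *
  have key : OrthBridge.bdim i ≤ 2 * μ → _ := fun h =>
    OrthBridge.even_odd_dim (d := d) hi0 (show 0 < μ by omega) (by omega) h (sgn Q) (-1)
  rcases Nat.even_or_odd i with he | ho
  · have hb : OrthBridge.bdim i = i := if_pos he
    have hs : OrthBridge.bsgn i = -1 := if_pos he
    rw [hb, hs] at key ⊢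
    simp only [hr2, hr, hrp, ne_eq, not_false_eq_true, he, Nat.not_odd_iff_even.2 he, true_and, false_and, false_or]
    refine and_congr_right fun hle => (key hle).trans ?_
    rw [eq_comm (a := (-1 : ℤ)), neg_one_pow_eq_neg_one_iff_odd (by norm_num)]
  · have hb : OrthBridge.bdim i = 2 * i := if_neg (Nat.not_even_iff_odd.2 ho)
    have hs : OrthBridge.bsgn i = 1 := if_neg (Nat.not_even_iff_odd.2 ho)
    rw [hb, hs] at key ⊢
    simp only [hr2, hr, hrp, ne_eq, not_false_eq_true, ho, Nat.not_even_iff_odd.2 ho, true_and, false_and, false_or, or_false]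
    refine and_congr_right fun hle => (key hle).trans ?_
    rw [OrthBridge.two_mod, OrthBridge.two_succ_mod d i hi0, one_pow]
    simp only [show ((-1 : ℤ) = 1) ↔ False from iff_false_intro (by norm_num), or_false]
    omega

end Cfsg.Agent.S5993
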