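import Cfsg.Statements.S5994
import Cfsg.Agent.Lib.QForm.UnipFix
-- import your own Cfsg.Agent.* helpers here

set_option autoImplicit false
open scoped MatrixGroups
open Cfsg

namespace Cfsg.Agent.S5994

/-- A necessary condition for every element of order p of PΩ⁻_n(q), q odd, to fix an elliptic `m`-space. Here `T = PΩ⁻_n(F)`, `n = 2d ≥ 8`, realised through `Ω⁻_n(q)`, the commutator subgroup of the isometry group of `Q = Σ_{i<d−1} xᵢyᵢ + z₁² + a z₁z₂ + b z₂²` with `z₁² + a z₁z₂ + b z₂²` anisotropic, over the field `F` with `q` elements; an element of `T` of prime order `r` is an element `x` of `Ω⁻_n(q)` with `x^r` scalar and `x` not scalar; `q` is odd; a nondegenerate `m`-space (even `m`) is a subspace on which the polar form of `Q` is nondegenerate; it is hyperbolic if it contains an `m/2`-dimensional subspace on which `Q` vanishes, elliptic otherwise. Let `m` be even with `2 ≤ m ≤ n − 2` and suppose `p` divides the number of elliptic `m`-spaces. If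 every element of `T` of order `p` fixes some elliptic `m`-space, then `n ≡ m (mod 4)` and every partition of `n` into parts of size at most `p` in which every even part has even multiplicity contains (as a sub-multiset) a partition of `m` in which every even part has even multiplicity. -/
theorem result {F : Type*} [Field F] [Fintype F] {p : ℕ} [Fact p.Prime] [CharP F p] {q : ℕ} (hq : Fintype.card F = q) (hqodd : Odd q)
    (d m : ℕ) (hd : 4 ≤ d) (hm : 2 ≤ m) (hme : Even m) (hmn : m + 2 ≤ 2 * d) (a b : F) (hab : ∀ x y : F, x ^ 2 + a * x * y + b * y ^ 2 = 0 → x = 0 ∧ y = 0)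
    (hpΩ : p ∣ Nat.card {W : Submodule F ((Fin (d - 1) ⊕ Fin (d - 1)) ⊕ Fin 2 → F) // Module.finrank F ↥W = m ∧ Cfsg.Geo.IsNondegenerateOn (QuadraticMap.polar (Cfsg.quadFormMinus (d - 1) F a b)) W ∧ ¬ Cfsg.Geo.IsPlusTypeOn (Cfsg.quadFormMinus (d - 1) F a b) W}) :
    (∀ x : GL ((Fin (d - 1) ⊕ Fin (d - 1)) ⊕ Fin 2) F, x ∈ Cfsg.Geo.omegaGL (Cfsg.quadFormMinus (d - 1) F a b) →
      (∃ z : F, ((x ^ p : GL ((Fin (d - 1) ⊕ Fin (d - 1)) ⊕ Fin 2) F) : Matrix ((Fin (d - 1) ⊕ Fin (d - 1)) ⊕ Fin 2) ((Fin (d - 1) ⊕ Fin (d - 1)) ⊕ Fin 2) F) = z • (1 : Matrix ((Fin (d - 1) ⊕ Fin (d - 1)) ⊕ Fin 2) ((Fin (d - 1) ⊕ Fin (d - 1)) ⊕ Fin 2) F)) →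
      (∀ z : F, (x : Matrix ((Fin (d - 1) ⊕ Fin (d - 1)) ⊕ Fin 2) ((Fin (d - 1) ⊕ Fin (d - 1)) ⊕ Fin 2) F) ≠ z • (1 : Matrix ((Fin (d - 1) ⊕ Fin (d - 1)) ⊕ Fin 2) ((Fin (d - 1) ⊕ Fin (d - 1)) ⊕ Fin 2) F)) →
      ∃ W : Submodule F ((Fin (d - 1) ⊕ Fin (d - 1)) ⊕ Fin 2 → F), (Module.finrank F ↥W = m ∧ Cfsg.Geo.IsNondegenerateOn (QuadraticMap.polar (Cfsg.quadFormMinus (d - 1) F a b)) W ∧ ¬ Cfsg.Geo.IsPlusTypeOn (Cfsg.quadFormMinus (d - 1) F a b) W) ∧ W.map (Matrix.toLin' (x : Matrix ((Fin (d - 1) ⊕ Fin (d - 1)) ⊕ Fin 2) ((Fin (d - 1) ⊕ Fin (d - 1)) ⊕ Fin 2) F)) ≤ W) →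
    ((2 * d) % 4 = m % 4 ∧ (∀ μ : Multiset ℕ, (∀ e ∈ μ, 0 < e ∧ e ≤ p) → (∀ e : ℕ, Even e → Even (μ.count e)) → μ.sum = 2 * d →
        ∃ ν : Multiset ℕ, ν ≤ μ ∧ ν.sum = m ∧ ∀ e : ℕ, Even e → Even (ν.count e))) := by
  classical
  have hp : p ≠ 2 := by
    rintro rfl
    obtain ⟨k, -, hk⟩ := FiniteField.card F 2
    rw [← hq, hk] at hqodd
    exact Nat.not_even_iff_odd.2 hqodd ((Nat.even_pow' k.ne_zero).2 even_two)
  have hp3 : 3 ≤ p := by
    have := (Fact.out : p.Prime).two_le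
    omega
  have h2 : (2 : F) ≠ 0 := by
    intro h
    have h' : p ∣ 2 := (CharP.cast_eq_zero_iff F p 2).1 (by simpa using h)
    have := Nat.le_of_dvd two_pos h'
    omega
  intro h
  obtain ⟨d, rfl⟩ : ∃ d' : ℕ, d = d' + 1 := ⟨d - 1, by omega⟩
  have hQ := Cfsg.Agent.QForm.UnipFix.minusForm_sep h2 (d + 1 - 1) hab
  rw [← Cfsg.Agent.QForm.coe_minusForm] at h
  have hc : Fintype.card ((Fin (d + 1 - 1) ⊕ Fin (d + 1 - 1)) ⊕ Fin 2) = 2 * (d + 1) := by simp; omega
  have main₀ : ∀ μ : Multiset ℕ, (∀ e ∈ μ, 0 < e ∧ e ≤ p) → (∀ e : ℕ, Even e → Even (μ.count e)) →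
      μ.sum = 2 * (d + 1) → (∃ e ∈ μ, Odd e) →
      ∃ ν : Multiset ℕ, ν ≤ μ ∧ ν.sum = m ∧ ∀ e : ℕ, Even e → Even (ν.count e) := fun μ hle hev hsum hodd =>
    Cfsg.Agent.QForm.UnipFix.exists_part hp (Cfsg.Agent.QForm.minusForm F (d + 1 - 1) a b) hQ _
      (fun W hW => ⟨hW.1, hW.2.1⟩)
      (fun x hx hxp _ hns => h x hx ⟨1, by rw [hxp, one_smul]; rfl⟩ hns)
      (by omega) hle hev (hsum.trans hc.symm) (Or.inl hodd)
  have main : ∀ μ : Multiset ℕ, (∀ e ∈ μ, 0 < e ∧ e ≤ p) → (∀ e : ℕ, Even e → Even (μ.count e)) →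
      μ.sum = 2 * (d + 1) → ∃ ν : Multiset ℕ, ν ≤ μ ∧ ν.sum = m ∧ ∀ e : ℕ, Even e → Even (ν.count e) := by
    intro μ hle hev hsum
    by_cases hodd : ∃ e ∈ μ, Odd e
    · exact main₀ μ hle hev hsum hodd
    push Not at hodd
    have hall : ∀ e ∈ μ, Even e := fun e he => Nat.not_odd_iff_even.1 (hodd e he)
    obtain ⟨e, he⟩ := Multiset.exists_mem_of_ne_zero (s := μ) (by rintro rfl; simp at hsum)
    obtain ⟨μ₁, rfl⟩ := Multiset.exists_cons_of_mem he
    have he1 : e ∈ μ₁ := by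
      have := hev e (hall e he)
      rw [Multiset.count_cons_self] at this
      obtain ⟨c, hc'⟩ := this
      exact Multiset.count_pos.1 (by omega)
    obtain ⟨μ', rfl⟩ := Multiset.exists_cons_of_mem he1
    have hee := hall e he
    have hep := hle e he
    obtain ⟨u, hu⟩ := hee
    have hep' : e + 1 ≤ p := by
      obtain ⟨w, hw⟩ := (Fact.out : p.Prime).odd_of_ne_two hp
      omega
    refine Cfsg.Agent.QForm.UnipFix.part_of_traded rfl ⟨u, hu⟩ hep.1 hall hme
      (main₀ _ ?_ ?_ ?_ ⟨e + 1, Multiset.mem_cons_self _ _, u, by omega⟩)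
    · intro j hj
      rcases Multiset.mem_cons.1 hj with rfl | hj
      · omega
      rcases Multiset.mem_cons.1 hj with rfl | hj
      · omega
      exact hle j (Multiset.mem_cons_of_mem (Multiset.mem_cons_of_mem hj))
    · intro j hj
      have := hev j hj
      obtain ⟨v, hv⟩ := hj
      rw [Multiset.count_cons_of_ne (by omega), Multiset.count_cons_of_ne (by omega)]
      simp only [Multiset.count_cons] at this
      split_ifs at this with h'
      · obtain ⟨c, hc'⟩ := this; exact ⟨c - 1, by omega⟩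
      · simpa using this
    · simp only [Multiset.sum_cons] at hsum ⊢
      omega
  refine ⟨?_, main⟩
  rcases Nat.even_or_odd (d + 1) with ⟨k, hk⟩ | ⟨k, hk⟩
  · obtain ⟨ν, hle, hs, hev⟩ := main (Multiset.replicate (d + 1) 2)
      (fun e he => by rw [Multiset.eq_of_mem_replicate he]; omega)
      (fun e he => by
        rw [Multiset.count_replicate]
        split
        · exact ⟨k, hk⟩
        · exact ⟨0, rfl⟩)
      (by simp; omega)
    obtain ⟨j, -, rfl⟩ := Multiset.le_replicate_iff.1 hle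
    have := hev 2 even_two
    rw [Multiset.count_replicate_self] at this
    obtain ⟨v, rfl⟩ := this
    rw [Multiset.sum_replicate, smul_eq_mul] at hs
    omega
  · by_contra hne
    obtain ⟨w, hw⟩ := hme
    have hm4 : m % 4 = 0 := by omega
    obtain ⟨N, W, hiso, hnil, ht, ⟨hWm, hWn, hWell⟩, hinv⟩ :=
      Cfsg.Agent.QForm.UnipFix.exists_fixed hp (Cfsg.Agent.QForm.minusForm F (d + 1 - 1) a b) hQ _
        (fun x hx hxp _ hns => h x hx ⟨1, by rw [hxp, one_smul]; rfl⟩ hns)
        (μ := 1 ::ₘ 1 ::ₘ Multiset.replicate d 2)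
        (fun e he => by
          rcases Multiset.mem_cons.1 he with rfl | he
          · omega
          rcases Multiset.mem_cons.1 he with rfl | he
          · omega
          rw [Multiset.eq_of_mem_replicate he]; omega)
        (fun e he => by
          have h1 : e ≠ 1 := by rintro rfl; exact Nat.not_even_one he
          rw [Multiset.count_cons_of_ne h1, Multiset.count_cons_of_ne h1, Multiset.count_replicate]
          split
          · exact ⟨k, by omega⟩
          · exact ⟨0, rfl⟩)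
        (by simp; omega) ⟨2, Multiset.mem_cons_of_mem (Multiset.mem_cons_of_mem (Multiset.mem_replicate.2 ⟨by omega, rfl⟩)), one_lt_two⟩ (Or.inl ⟨1, by simp, odd_one⟩)
    have hμ2 : ∀ e ∈ 1 ::ₘ 1 ::ₘ Multiset.replicate d 2, e ≤ 2 := fun e he => by
      rcases Multiset.mem_cons.1 he with rfl | he
      · omega
      rcases Multiset.mem_cons.1 he with rfl | he
      · omega
      rw [Multiset.eq_of_mem_replicate he]
    rw [Cfsg.Agent.QForm.coe_minusForm] at hWn
    obtain ⟨ν, hle, hs, hev, hplus⟩ := Cfsg.Agent.QForm.UnipFix.sub_type h2 hQ hiso hnil ht hμ2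
      (fun w hw hw0 => by rw [Cfsg.Agent.QForm.coe_minusForm]; exact (hWn w hw hw0).1) hinv
    have key : ∀ s : Multiset ℕ, (∀ e ∈ s, e = 1 ∨ e = 2) → s.sum = s.count 1 + 2 * s.count 2 := by
      intro s
      induction s using Multiset.induction with
      | empty => simp
      | cons e s ih =>
        intro hs'
        have := ih fun x hx => hs' x (Multiset.mem_cons_of_mem hx)
        rcases hs' e (Multiset.mem_cons_self _ _) with rfl | rfl <;>
          simp [Multiset.count_cons, this] <;> omega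
    have hk' := key ν fun e he => by
      have := Multiset.mem_of_le hle he
      rcases Multiset.mem_cons.1 this with rfl | this
      · left; rfl
      rcases Multiset.mem_cons.1 this with rfl | this
      · left; rfl
      right; exact Multiset.eq_of_mem_replicate this
    have h1 := Multiset.count_le_of_le 1 hle
    simp [Multiset.count_replicate] at h1
    obtain ⟨c, hc'⟩ := hev 2 even_two
    obtain ⟨U, hUW, hU, hUd⟩ := hplus hμ2 (by omega)
    apply hWell
    refine ⟨U, hUW, fun u hu => ?_, hUd⟩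
    exact hU u hu

end Cfsg.Agent.S5994
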