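import Cfsg.Statements.S5995
import Cfsg.Agent.Lib.QForm.UnipFix
import Cfsg.Agent.Lib.AutPO.Odd
-- import your own Cfsg.Agent.* helpers here

set_option autoImplicit false
open scoped MatrixGroups
open Cfsg

namespace Cfsg.Agent.S5995

/-- A necessary condition for every element of order p of Ω_n(q), nq odd, to fix a hyperbolic `m`-space. Here `T = Ω_n(F)`, `n = 2d+1 ≥ 7`, `q` odd, realised as the commutator subgroup of the isometry group of `Q = x₀² + Σ xᵢyᵢ` over the field `F` with `q` elements (trivial centre, so its elements of prime order `r` are used directly); a nondegenerate `m`-space (even `m`) is a subspace on which the polar form of `Q` is nondegenerate; it is hyperbolic if it contains an `m/2`-dimensional subspace on which `Q` vanishes, elliptic otherwise. Let `m` be even with `2 ≤ m ≤ n − 1` and suppose `p` divides the number of hyperbolic `m`-spaces. If every element of `T` of order `p` fixes some hyperbolic `m`-space, then `m ≡ 0 (mod 4)` and every partition of `n`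 into parts of size at most `p` in which every even part has even multiplicity contains (as a sub-multiset) a partition of `m` in which every even part has even multiplicity. -/
theorem result {F : Type*} [Field F] [Fintype F] {p : ℕ} [Fact p.Prime] [CharP F p] {q : ℕ} (hq : Fintype.card F = q) (hqodd : Odd q)
    (d m : ℕ) (hd : 3 ≤ d) (hm : 2 ≤ m) (hme : Even m) (hmn : m ≤ 2 * d)
    (hpΩ : p ∣ Nat.card {W : Submodule F (Unit ⊕ (Fin d ⊕ Fin d) → F) // Module.finrank F ↥W = m ∧ Cfsg.Geo.IsNondegenerateOn (QuadraticMap.polar (Cfsg.quadFormOdd d F)) W ∧ Cfsg.Geo.IsPlusTypeOn (Cfsg.quadFormOdd d F) W}) :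
    (∀ x : GL (Unit ⊕ (Fin d ⊕ Fin d)) F, x ∈ Cfsg.Geo.omegaGL (Cfsg.quadFormOdd d F) → orderOf x = p →
      ∃ W : Submodule F (Unit ⊕ (Fin d ⊕ Fin d) → F), (Module.finrank F ↥W = m ∧ Cfsg.Geo.IsNondegenerateOn (QuadraticMap.polar (Cfsg.quadFormOdd d F)) W ∧ Cfsg.Geo.IsPlusTypeOn (Cfsg.quadFormOdd d F) W) ∧ W.map (Matrix.toLin' (x : Matrix (Unit ⊕ (Fin d ⊕ Fin d)) (Unit ⊕ (Fin d ⊕ Fin d)) F)) ≤ W) →
    (m % 4 = 0 ∧ (∀ μ : Multiset ℕ, (∀ e ∈ μ, 0 < e ∧ e ≤ p) → (∀ e : ℕ, Even e → Even (μ.count e)) → μ.sum = 2 * d + 1 →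
        ∃ ν : Multiset ℕ, ν ≤ μ ∧ ν.sum = m ∧ ∀ e : ℕ, Even e → Even (ν.count e))) := by
  classical
  have hp : p ≠ 2 := by
    rintro rfl
    obtain ⟨k, -, hk⟩ := FiniteField.card F 2
    rw [← hq, hk] at hqodd
    exact Nat.not_even_iff_odd.2 hqodd ((Nat.even_pow' k.ne_zero).2 even_two)
  have hp3 : 3 ≤ p := by
    have := (Fact.out : p.Prime).two_le
    omega
  have h2 : (2 : F) ≠ 0 := by
    intro h
    have h' : p ∣ 2 := (CharP.cast_eq_zero_iff F p 2).1 (by simpa using h)
    have := Nat.le_of_dvd two_pos h'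
    omega
  intro h
  have hQ := Cfsg.Agent.AutPO.nondeg_odd (F := F) (m := d) h2
  rw [← Cfsg.Agent.AutPO.coe_quadOdd] at h
  have hc : Fintype.card (Unit ⊕ (Fin d ⊕ Fin d)) = 2 * d + 1 := by simp; omega
  have main : ∀ μ : Multiset ℕ, (∀ e ∈ μ, 0 < e ∧ e ≤ p) → (∀ e : ℕ, Even e → Even (μ.count e)) →
      μ.sum = 2 * d + 1 → ∃ ν : Multiset ℕ, ν ≤ μ ∧ ν.sum = m ∧ ∀ e : ℕ, Even e → Even (ν.count e) := by
    intro μ hle hev hsum
    have hodd : ∃ e ∈ μ, Odd e := by
      by_contra hc'
      push Not at hc'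
      have h2d : 2 ∣ μ.sum := Multiset.dvd_sum fun e he => even_iff_two_dvd.1 (Nat.not_odd_iff_even.1 (hc' e he))
      omega
    exact Cfsg.Agent.QForm.UnipFix.exists_part hp (Cfsg.Agent.Forms.quadOdd d F) hQ _
      (fun W hW => ⟨hW.1, hW.2.1⟩)
      (fun x hx hxp hx1 _ => h x hx (orderOf_eq_prime hxp hx1))
      (by omega) hle hev (hsum.trans hc.symm) (Or.inl hodd)
  refine ⟨?_, main⟩
  rcases Nat.even_or_odd d with ⟨k, hk⟩ | ⟨k, hk⟩
  · obtain ⟨ν, hle, hs, hev⟩ := main (1 ::ₘ Multiset.replicate d 2)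
      (fun e he => by
        rcases Multiset.mem_cons.1 he with rfl | he
        · omega
        · rw [Multiset.eq_of_mem_replicate he]; omega)
      (fun e he => by
        rw [Multiset.count_cons_of_ne (by rintro rfl; exact Nat.not_even_one he), Multiset.count_replicate]
        split
        · exact ⟨k, hk⟩
        · exact ⟨0, rfl⟩)
      (by simp; omega)
    exact Cfsg.Agent.QForm.UnipFix.four_dvd_of_le_cons odd_one hme hle hs hev
  · obtain ⟨ν, hle, hs, hev⟩ := main (3 ::ₘ Multiset.replicate (d - 1) 2)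
      (fun e he => by
        rcases Multiset.mem_cons.1 he with rfl | he
        · omega
        · rw [Multiset.eq_of_mem_replicate he]; omega)
      (fun e he => by
        rw [Multiset.count_cons_of_ne (by rintro rfl; revert he; decide), Multiset.count_replicate]
        split
        · exact ⟨k, by omega⟩
        · exact ⟨0, rfl⟩)
      (by simp; omega)
    exact Cfsg.Agent.QForm.UnipFix.four_dvd_of_le_cons ⟨1, rfl⟩ hme hle hs hev

end Cfsg.Agent.S5995
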