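import Cfsg.Statements.S5997
import Cfsg.Agent.Lib.PSL2.TraceClasses

set_option autoImplicit false
open scoped MatrixGroups
open Cfsg

namespace Cfsg.Agent.S5997

open Matrix Cfsg.Agent.PSL2.TraceClasses

section
variable {F : Type*} [Field F]

local notation "M2" => Matrix (Fin 2) (Fin 2) F

theorem cayley_hamilton (g : M2) : g * g = g.trace • g - g.det • (1 : M2) := by
  ext i j
  fin_cases i <;> fin_cases j <;>
    simp [Matrix.mul_apply, Fin.sum_univ_two, Matrix.trace_fin_two, Matrix.det_fin_two] <;> ring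

/-- A matrix commuting with a non-scalar matrix is a polynomial in it. -/
theorem commute_nonscalar {N M : M2} (hN : ¬ IsScalar' N) (h : M * N = N * M) :
    ∃ α β : F, M = α • (1 : M2) + β • N := by
  have e00 := congrFun (congrFun h 0) 0
  have e01 := congrFun (congrFun h 0) 1
  have e10 := congrFun (congrFun h 1) 0
  simp [Matrix.mul_apply, Fin.sum_univ_two] at e00 e01 e10
  by_cases h01 : N 0 1 = 0
  · by_cases h10 : N 1 0 = 0
    · have hd : N 0 0 - N 1 1 ≠ 0 := fun hh => hN ⟨h01, h10, sub_eq_zero.mp hh⟩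
      obtain ⟨β, hβ⟩ : ∃ β, β * (N 0 0 - N 1 1) = M 0 0 - M 1 1 :=
        ⟨_, div_mul_cancel₀ _ hd⟩
      refine ⟨M 0 0 - β * N 0 0, β, ?_⟩
      have a1 : M 0 1 = 0 := by
        have : M 0 1 * (N 0 0 - N 1 1) = 0 := by rw [h01] at e01; linear_combination -e01
        exact (mul_eq_zero.mp this).resolve_right hd
      have a2 : M 1 0 = 0 := by
        have : M 1 0 * (N 0 0 - N 1 1) = 0 := by rw [h10] at e10; linear_combination e10
        exact (mul_eq_zero.mp this).resolve_right hd
      ext i j
      fin_cases i <;> fin_cases j <;> simp [h01, h10, a1, a2]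
      linear_combination hβ
    · obtain ⟨β, hβ⟩ : ∃ β, β * N 1 0 = M 1 0 := ⟨_, div_mul_cancel₀ _ h10⟩
      refine ⟨M 0 0 - β * N 0 0, β, ?_⟩
      ext i j
      fin_cases i <;> fin_cases j <;> simp
      · apply mul_left_cancel₀ h10
        linear_combination e00 - N 0 1 * hβ
      · exact hβ.symm
      · apply mul_left_cancel₀ h10
        linear_combination e10 + (N 0 0 - N 1 1) * hβ
  · obtain ⟨β, hβ⟩ : ∃ β, β * N 0 1 = M 0 1 := ⟨_, div_mul_cancel₀ _ h01⟩
    refine ⟨M 0 0 - β * N 0 0, β, ?_⟩
    ext i j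
    fin_cases i <;> fin_cases j <;> simp
    · exact hβ.symm
    · apply mul_left_cancel₀ h01
      linear_combination -e00 - N 1 0 * hβ
    · apply mul_left_cancel₀ h01
      linear_combination -e01 + (N 0 0 - N 1 1) * hβ

theorem isScalar'_iff (N : M2) : IsScalar' N ↔ ∃ c : F, N = c • (1 : M2) := by
  constructor
  · rintro ⟨h1, h2, h3⟩
    refine ⟨N 0 0, ?_⟩
    ext i j
    fin_cases i <;> fin_cases j <;> simp [h1, h2, h3]
  · rintro ⟨c, rfl⟩
    simp [IsScalar']

theorem eq_neg_one {C A B : M2} (hC2 : C * C = 1) (hC1 : C ≠ 1) (hAC : A * C = C * A)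
    (hBC : B * C = C * B) (hAB : A * B ≠ B * A) : C = -1 := by
  by_cases hs : IsScalar' C
  · obtain ⟨c, rfl⟩ := (isScalar'_iff C).mp hs
    have hc : c * c = 1 := by
      simpa using congrFun (congrFun hC2 0) 0
    rcases mul_self_eq_one_iff.mp hc with rfl | rfl
    · exact absurd (one_smul F (1 : M2)) hC1
    · exact neg_one_smul F (1 : M2)
  · exfalso
    obtain ⟨α, β, rfl⟩ := commute_nonscalar hs hAC
    obtain ⟨γ, δ, rfl⟩ := commute_nonscalar hs hBC
    apply hAB
    simp only [add_mul, mul_add, Matrix.smul_mul, Matrix.mul_smul, Matrix.one_mul, Matrix.mul_one,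
      smul_add, smul_smul]
    module

/-- Quaternion relations among 2 × 2 matrices. -/
structure QuatRel (A B : M2) : Prop where
  sqA : A * A = -1
  sqB : B * B = -1
  anti : B * A = -(A * B)

variable {A B : Matrix (Fin 2) (Fin 2) F}

theorem QuatRel.nonscalar (h : QuatRel A B) (h2 : (2 : F) ≠ 0) : ¬ IsScalar' A := by
  intro hs
  obtain ⟨c, rfl⟩ := (isScalar'_iff A).mp hs
  have h1 := h.anti
  simp at h1
  have hB : (c + c) • B = 0 := by
    rw [add_smul]; exact eq_neg_iff_add_eq_zero.mp h1
  rcases smul_eq_zero.mp hB with hc | hB0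
  · have hc0 : c = 0 := by rw [← two_mul] at hc; exact (mul_eq_zero.mp hc).resolve_left h2
    have := h.sqA
    rw [hc0, zero_smul, zero_mul] at this
    exact one_ne_zero (neg_eq_zero.mp this.symm)
  · have := h.sqB
    rw [hB0, zero_mul] at this
    exact one_ne_zero (neg_eq_zero.mp this.symm)

theorem QuatRel.swap (h : QuatRel A B) : QuatRel B A :=
  ⟨h.sqB, h.sqA, by rw [h.anti, neg_neg]⟩

theorem QuatRel.mul (h : QuatRel A B) : QuatRel (A * B) B := by
  refine ⟨?_, h.sqB, ?_⟩
  · rw [show A * B * (A * B) = A * (B * A) * B by noncomm_ring, h.anti,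
      show A * -(A * B) * B = -((A * A) * (B * B)) by noncomm_ring, h.sqA, h.sqB]
    simp
  · rw [← mul_assoc, h.anti]; noncomm_ring

theorem QuatRel.trace_det (h : QuatRel A B) (h2 : (2 : F) ≠ 0) : A.trace = 0 ∧ A.det = 1 := by
  have hns := h.nonscalar h2
  have hch := cayley_hamilton A
  rw [h.sqA] at hch
  have ht : A.trace = 0 := by
    by_contra ht
    apply hns
    rw [isScalar'_iff]
    refine ⟨(A.det - 1) / A.trace, ?_⟩
    have : A.trace • A = (A.det - 1) • (1 : M2) := by
      rw [sub_smul, one_smul]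
      linear_combination (norm := module) -hch
    rw [div_eq_inv_mul, mul_smul, ← this, smul_smul, inv_mul_cancel₀ ht, one_smul]
  refine ⟨ht, ?_⟩
  rw [ht, zero_smul, zero_sub, neg_inj] at hch
  have := congrFun (congrFun hch 0) 0
  simp at this
  exact this.symm

/-- The element of order three permuting `A`, `B`, `A * B`. -/
def cyc (A B : M2) : M2 := (2⁻¹ : F) • (-1 + A + B + A * B)

theorem QuatRel.cyc_conj (h : QuatRel A B) :
    cyc A B * A = A * B * cyc A B ∧ cyc A B * B = A * cyc A B := by
  have aAB : A * (A * B) = -B := by rw [← mul_assoc, h.sqA, neg_one_mul]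
  have ABa : A * B * A = B := by rw [mul_assoc, h.anti, mul_neg, aAB, neg_neg]
  have ABb : A * B * B = -A := by rw [mul_assoc, h.sqB, mul_neg_one]
  have bAB : B * (A * B) = A := by rw [← mul_assoc, h.anti, neg_mul, ABb, neg_neg]
  have hAB2 : A * B * (A * B) = -1 := h.mul.sqA
  unfold cyc
  constructor
  · simp only [Matrix.smul_mul, Matrix.mul_smul, add_mul, mul_add, neg_mul, mul_neg, Matrix.one_mul,
      Matrix.mul_one, h.sqA, h.anti, ABa, ABb, hAB2]
    congr 1
    abel
  · simp only [Matrix.smul_mul, Matrix.mul_smul, add_mul, mul_add, neg_mul, mul_neg, Matrix.one_mul,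
      Matrix.mul_one, h.sqA, h.sqB, ABb, aAB]
    congr 1
    abel

theorem QuatRel.cyc_trace_det (h : QuatRel A B) (h2 : (2 : F) ≠ 0) :
    (cyc A B).trace = -1 ∧ (cyc A B).det = 1 := by
  have htA := (h.trace_det h2).1
  have htB := (h.swap.trace_det h2).1
  have htAB := (h.mul.trace_det h2).1
  have ht : (cyc A B).trace = -1 := by
    simp [cyc, Matrix.trace_add, htA, htB, htAB, Matrix.trace_one]
    field_simp
  refine ⟨ht, ?_⟩
  have aAB : A * (A * B) = -B := by rw [← mul_assoc, h.sqA, neg_one_mul]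
  have ABa : A * B * A = B := by rw [mul_assoc, h.anti, mul_neg, aAB, neg_neg]
  have ABb : A * B * B = -A := by rw [mul_assoc, h.sqB, mul_neg_one]
  have bAB : B * (A * B) = A := by rw [← mul_assoc, h.anti, neg_mul, ABb, neg_neg]
  have hAB2 : A * B * (A * B) = -1 := h.mul.sqA
  have hsq : cyc A B * cyc A B = -cyc A B - 1 := by
    unfold cyc
    simp only [Matrix.smul_mul, Matrix.mul_smul, add_mul, mul_add, neg_mul, mul_neg, Matrix.one_mul,
      Matrix.mul_one, h.sqA, h.sqB, h.anti, ABa, ABb, aAB, bAB, hAB2, smul_add, smul_smul]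
    match_scalars <;> field_simp <;> ring
  have hch := cayley_hamilton (cyc A B)
  rw [hsq, ht] at hch
  have hh : ((cyc A B).det - 1) • (1 : M2) = 0 := by
    rw [sub_smul, one_smul]
    linear_combination (norm := module) hch
  exact sub_eq_zero.mp ((smul_eq_zero.mp hh).resolve_right one_ne_zero)

theorem QuatRel.eq_scalar (h : QuatRel A B) (h2 : (2 : F) ≠ 0) {M : M2}
    (hA : M * A = A * M) (hB : M * B = B * M) : IsScalar' M := by
  obtain ⟨α, β, rfl⟩ := commute_nonscalar (h.nonscalar h2) hA
  have hβ : β = 0 := by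
    have h1 : (2 * β) • (A * B) = 0 := by
      simp only [add_mul, mul_add, Matrix.smul_mul, Matrix.mul_smul, Matrix.one_mul, Matrix.mul_one,
        h.anti] at hB
      linear_combination (norm := module) hB
    have hAB : A * B ≠ 0 := fun h0 => by
      have := h.mul.sqA
      rw [h0, zero_mul] at this
      exact one_ne_zero (neg_eq_zero.mp this.symm)
    exact (mul_eq_zero.mp ((smul_eq_zero.mp h1).resolve_right hAB)).resolve_left h2
  rw [hβ, zero_smul, add_zero]
  exact (isScalar'_iff _).mpr ⟨α, rfl⟩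

end

/-- The candidate automorphism of `Q₈` with prescribed images of the two generators. -/
def qmap (u v : QuaternionGroup 2) : QuaternionGroup 2 → QuaternionGroup 2
  | .a i => u ^ i.val
  | .xa i => v * u ^ i.val

theorem qmap_iterate : ∀ u v : QuaternionGroup 2, u * v ≠ v * u →
    (qmap u v)^[12] (.a 1) = .a 1 ∧ (qmap u v)^[12] (.xa 0) = .xa 0 := by decide

theorem mulEquiv_pow_twelve (σ : MulAut (QuaternionGroup 2)) :
    (σ ^ 12) (.a 1) = .a 1 ∧ (σ ^ 12) (.xa 0) = .xa 0 := by
  have hf : ⇑σ = qmap (σ (.a 1)) (σ (.xa 0)) := by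
    funext g
    cases g with
    | a i =>
      show σ (.a i) = σ (.a 1) ^ i.val
      rw [← map_pow]; congr 1
      revert i; decide
    | xa i =>
      show σ (.xa i) = σ (.xa 0) * σ (.a 1) ^ i.val
      rw [← map_pow, ← map_mul]; congr 1
      revert i; decide
  have hne : σ (.a 1) * σ (.xa 0) ≠ σ (.xa 0) * σ (.a 1) := by
    rw [← map_mul, ← map_mul]
    intro h
    exact absurd (σ.injective h) (by decide)
  have hp : ∀ k : ℕ, ⇑(σ ^ k) = (⇑σ)^[k] := by
    intro k
    induction k with
    | zero => rfl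
    | succ k ih => funext g; rw [pow_succ, Function.iterate_succ_apply]; exact congrFun ih (σ g)
  rw [hp, hf]
  exact qmap_iterate _ _ hne

set_option maxHeartbeats 2000000 in
/-- Elements of prime order of PSL_2(p) and the normalizer of a quaternion subgroup. Here `T = PSL_2(F)` for the field `F` with `p` elements, `p ≥ 5` prime; `R` is a subgroup of GL_2(F) isomorphic to the quaternion group of order 8 (an absolutely irreducible 2-group of symplectic type), and `H` is the subgroup of matrices of determinant 1 normalizing `R` — a subgroup of type 2^{1+2}.O₂⁻(2), isomorphic modulo scalars to A₄ or S₄ (maximality is not assumed). Ω is the set of cosets of `H` in `T`, so an element of `T` of prime order `r` (a matrix `x` of determinant 1 with `x^r` scalar, `x` not scalar) fixes a point of Ω exactly when some conjugate of `x` by a matrix of determinant 1 normalizes `R`. Let `r` be a prime dividing the index of `H`. Then every element of `T` of order `r` fixes a point of Ω if and only if `r = 2` or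 `r = 3`. -/
theorem result {F : Type*} [Field F] [Fintype F] {p : ℕ} [Fact p.Prime] [CharP F p] (hF : Fintype.card F = p) (hp : 5 ≤ p)
    (R : Subgroup (GL (Fin 2) F)) (hR : Nonempty (↥R ≃* QuaternionGroup 2))
    (r : ℕ) [Fact r.Prime]
    (hΩ : r ∣ (Cfsg.Geo.subgroupNormalizer R).relIndex (Cfsg.Geo.specialLinear (Fin 2) F)) :
    (∀ x ∈ Cfsg.Geo.specialLinear (Fin 2) F, (∃ z : F, ((x ^ r : GL (Fin 2) F) : Matrix (Fin 2) (Fin 2) F) = z • (1 : Matrix (Fin 2) (Fin 2) F)) →
      (∀ z : F, (x : Matrix (Fin 2) (Fin 2) F) ≠ z • (1 : Matrix (Fin 2) (Fin 2) F)) →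
      ∃ g ∈ Cfsg.Geo.specialLinear (Fin 2) F, g⁻¹ * x * g ∈ Cfsg.Geo.subgroupNormalizer R) ↔ (r = 2 ∨ r = 3) := by
  classical
  have h2 : (2 : F) ≠ 0 := by
    intro h
    have : (p : ℕ) ∣ 2 := (CharP.cast_eq_zero_iff F p 2).mp (by simpa using h)
    have := Nat.le_of_dvd two_pos this
    omega
  obtain ⟨e⟩ := hR
  obtain ⟨a, ha⟩ : ∃ a : R, e a = .a 1 := ⟨e.symm _, e.apply_symm_apply _⟩
  obtain ⟨b, hb⟩ : ∃ b : R, e b = .xa 0 := ⟨e.symm _, e.apply_symm_apply _⟩
  have hgen : ∀ x : R, ∃ i : ℕ, x = a ^ i ∨ x = b * a ^ i := by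
    intro x
    have d1 : ∀ i : ZMod (2 * 2), (QuaternionGroup.a i : QuaternionGroup 2) = .a 1 ^ i.val := by decide
    have d2 : ∀ i : ZMod (2 * 2), (QuaternionGroup.xa i : QuaternionGroup 2) = .xa 0 * .a 1 ^ i.val := by decide
    rcases hx : e x with i | i
    · exact ⟨i.val, Or.inl (e.injective (by rw [map_pow, ha, hx]; exact d1 i))⟩
    · exact ⟨i.val, Or.inr (e.injective (by rw [map_mul, map_pow, ha, hb, hx]; exact d2 i))⟩
  let ρ : R →* Matrix (Fin 2) (Fin 2) F := (Units.coeHom _).comp R.subtype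
  have hρinj : Function.Injective ρ := fun x y h => Subtype.ext (Units.ext h)
  set A := ρ a with hA
  set B := ρ b with hB
  have hrel1 : a * a * (a * a) = 1 := e.injective (by rw [map_mul, map_mul, map_one, ha]; decide)
  have hrel2 : a * a = b * b := e.injective (by rw [map_mul, map_mul, ha, hb]; decide)
  have hrel3 : b * a = a * a * (a * b) := e.injective (by rw [map_mul, map_mul, map_mul, map_mul, ha, hb]; decide)
  have hne1 : a * a ≠ 1 := fun h => by
    have := congrArg e h; rw [map_mul, map_one, ha] at this; revert this; decide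
  have hne2 : a * b ≠ b * a := fun h => by
    have := congrArg e h; rw [map_mul, map_mul, ha, hb] at this; revert this; decide
  have hC : ρ (a * a) = -1 := by
    refine eq_neg_one (by rw [← map_mul, hrel1, map_one]) ?_ (A := A) (B := B) ?_ ?_ ?_
    · exact fun h => hne1 (hρinj (h.trans (map_one ρ).symm))
    · rw [hA, ← map_mul, ← map_mul, mul_assoc]
    · rw [hB, hrel2, ← map_mul, ← map_mul, mul_assoc]
    · exact fun h => hne2 (hρinj (by simpa [hA, hB] using h))
  have hq : QuatRel A B := ⟨by rw [← map_mul, hC], by rw [← map_mul, ← hrel2, hC],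
    by rw [← map_mul, hrel3, map_mul, hC, map_mul, neg_one_mul]⟩
  -- membership in the normaliser
  have hmem : ∀ g : GL (Fin 2) F, (∃ a' : R, g * a = a' * g) → (∃ b' : R, g * b = b' * g) →
      g ∈ Cfsg.Geo.subgroupNormalizer R := by
    intro g ⟨a', ha'⟩ ⟨b', hb'⟩
    have ha'' : g * a * g⁻¹ = a' := by rw [ha', mul_inv_cancel_right]
    have hb'' : g * b * g⁻¹ = b' := by rw [hb', mul_inv_cancel_right]
    have hle : R.map (MulAut.conj g).toMonoidHom ≤ R := by
      rintro _ ⟨x, hx, rfl⟩
      obtain ⟨i, hi | hi⟩ := hgen ⟨x, hx⟩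
      · replace hi : x = (a : GL (Fin 2) F) ^ i := congrArg Subtype.val hi
        rw [hi, map_pow]
        refine pow_mem ?_ _
        show g * a * g⁻¹ ∈ R
        rw [ha'']; exact a'.2
      · replace hi : x = (b : GL (Fin 2) F) * (a : GL (Fin 2) F) ^ i := congrArg Subtype.val hi
        rw [hi, map_mul, map_pow]
        refine mul_mem ?_ (pow_mem ?_ _)
        · show g * b * g⁻¹ ∈ R
          rw [hb'']; exact b'.2
        · show g * a * g⁻¹ ∈ R
          rw [ha'']; exact a'.2
    have heq := Subgroup.eq_of_le_of_card_ge hle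
      (Nat.card_congr (R.equivMapOfInjective _ (MulAut.conj g).injective).toEquiv).le
    show g ∈ Subgroup.normalizer (R : Set (GL (Fin 2) F))
    rw [Subgroup.mem_normalizer_iff]
    intro x
    constructor
    · intro hx; exact hle ⟨x, hx, rfl⟩
    · intro hx
      rw [← heq] at hx
      obtain ⟨y, hy, hy'⟩ := hx
      rwa [← (MulAut.conj g).injective hy']
  have hSL : ∀ {x : GL (Fin 2) F}, x ∈ Cfsg.Geo.specialLinear (Fin 2) F ↔
      Matrix.det (x : Matrix (Fin 2) (Fin 2) F) = 1 := by
    intro x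
    show Matrix.GeneralLinearGroup.det x = 1 ↔ _
    rw [Units.ext_iff, Matrix.GeneralLinearGroup.val_det_apply, Units.val_one]
  -- conjugating an element into the normaliser by trace
  have hconj : ∀ (x y : GL (Fin 2) F), x ∈ Cfsg.Geo.specialLinear (Fin 2) F →
      y ∈ Cfsg.Geo.specialLinear (Fin 2) F → y ∈ Cfsg.Geo.subgroupNormalizer R →
      Matrix.trace (x : Matrix (Fin 2) (Fin 2) F) = Matrix.trace (y : Matrix (Fin 2) (Fin 2) F) →
      (∀ z : F, (x : Matrix (Fin 2) (Fin 2) F) ≠ z • 1) →
      (∀ z : F, (y : Matrix (Fin 2) (Fin 2) F) ≠ z • 1) →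
      Matrix.trace (x : Matrix (Fin 2) (Fin 2) F) ^ 2 ≠ 4 →
      ∃ g ∈ Cfsg.Geo.specialLinear (Fin 2) F, g⁻¹ * x * g ∈ Cfsg.Geo.subgroupNormalizer R := by
    intro x y hx hy hyN ht hxs hys h4
    let x₁ : SL2 F := ⟨_, hSL.mp hx⟩
    let y₁ : SL2 F := ⟨_, hSL.mp hy⟩
    obtain ⟨c, hc⟩ := isConj_iff.mp (isConj_of_trace x₁ y₁
      (fun h => by obtain ⟨z, hz⟩ := (isScalar'_iff _).mp h; exact hxs z hz)
      (fun h => by obtain ⟨z, hz⟩ := (isScalar'_iff _).mp h; exact hys z hz) ht h4)
    refine ⟨(Matrix.SpecialLinearGroup.toGL c)⁻¹, hSL.mpr (by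
      rw [← map_inv]; exact (c⁻¹).2), ?_⟩
    rw [inv_inv]
    have : Matrix.SpecialLinearGroup.toGL c * x * (Matrix.SpecialLinearGroup.toGL c)⁻¹ = y := by
      have hx' : Matrix.SpecialLinearGroup.toGL x₁ = x := Units.ext rfl
      have hy' : Matrix.SpecialLinearGroup.toGL y₁ = y := Units.ext rfl
      rw [← hx', ← hy', ← hc, map_mul, map_mul, map_inv]
    rw [this]; exact hyN
  have hA1 : (a : GL (Fin 2) F) ∈ Cfsg.Geo.specialLinear (Fin 2) F := hSL.mpr (hq.trace_det h2).2
  have hAns : ∀ z : F, A ≠ z • 1 := fun z h => hq.nonscalar h2 ((isScalar'_iff _).mpr ⟨z, h⟩)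
  have hfree : ∀ z : F, z • (1 : Matrix (Fin 2) (Fin 2) F) = 0 → z = 0 := fun z h =>
    (smul_eq_zero.mp h).resolve_right one_ne_zero
  constructor
  · intro hfix
    by_contra hr
    push Not at hr
    have hr5 : 5 ≤ r := by
      have := (Fact.out : r.Prime).two_le
      rcases eq_or_ne r 4 with h4 | h4
      · exact absurd (h4 ▸ (Fact.out : r.Prime)) (by norm_num)
      · omega
    have hdvd : r ∣ Nat.card (Cfsg.Geo.specialLinear (Fin 2) F) :=
      hΩ.trans (Subgroup.index_dvd_card _)
    obtain ⟨x, hx⟩ := exists_prime_orderOf_dvd_card' r hdvd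
    have hxr : (x : GL (Fin 2) F) ^ r = 1 := by
      rw [← SubmonoidClass.coe_pow, ← hx, pow_orderOf_eq_one]; rfl
    have hord : orderOf (x : GL (Fin 2) F) = r := by rw [Subgroup.orderOf_coe]; exact hx
    have hxns : ∀ z : F, ((x : GL (Fin 2) F) : Matrix (Fin 2) (Fin 2) F) ≠ z • 1 := by
      intro z hz
      have hd := hSL.mp x.2
      rw [hz, Matrix.det_smul, Matrix.det_one, mul_one, Fintype.card_fin] at hd
      have hx2 : (x : GL (Fin 2) F) ^ 2 = 1 := by
        apply Units.ext
        rw [Units.val_pow_eq_pow_val, hz, sq, Matrix.smul_mul, one_mul, smul_smul, ← sq, hd, one_smul]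
        rfl
      have := orderOf_dvd_of_pow_eq_one hx2
      rw [hord] at this
      have := Nat.le_of_dvd two_pos this
      omega
    obtain ⟨g, hg, hgn⟩ := hfix x x.2 ⟨1, by rw [hxr, one_smul]; rfl⟩ hxns
    set y := g⁻¹ * (x : GL (Fin 2) F) * g with hy
    have hyr : y ^ r = 1 := by
      rw [hy, show g⁻¹ * (x : GL (Fin 2) F) * g = MulAut.conj g⁻¹ x by simp, ← map_pow, hxr, map_one]
    have hyn : ∀ z, z ∈ R ↔ y * z * y⁻¹ ∈ R := Subgroup.mem_normalizer_iff.mp hgn
    let σ : MulAut R :=
      { toFun := fun z => ⟨y * z * y⁻¹, (hyn z).mp z.2⟩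
        invFun := fun z => ⟨y⁻¹ * z * y, (hyn _).mpr (by simpa [mul_assoc] using z.2)⟩
        left_inv := fun z => Subtype.ext (by simp [mul_assoc])
        right_inv := fun z => Subtype.ext (by simp [mul_assoc])
        map_mul' := fun z w => Subtype.ext (by simp [mul_assoc]) }
    have hσpow : ∀ k : ℕ, ∀ z : R, ((σ ^ k) z : GL (Fin 2) F) = y ^ k * z * (y ^ k)⁻¹ := by
      intro k
      induction k with
      | zero => simp
      | succ k ih =>
        intro z
        rw [pow_succ, MulAut.mul_apply, ih]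
        show y ^ k * (y * z * y⁻¹) * (y ^ k)⁻¹ = _
        rw [pow_succ]; group
    have hσr : σ ^ r = 1 := MulEquiv.ext fun z => Subtype.ext (by rw [hσpow, hyr]; simp)
    have h12 : (σ ^ 12) a = a ∧ (σ ^ 12) b = b := by
      let Θ : MulAut R ≃* MulAut (QuaternionGroup 2) := MulAut.congr e
      have h := mulEquiv_pow_twelve (Θ σ)
      rw [← map_pow] at h
      have hΘ : ∀ (τ : MulAut R) (z : R), (Θ τ) (e z) = e (τ z) := by
        intro τ z
        simp [Θ, MulAut.congr]
      rw [← ha, ← hb, hΘ, hΘ] at h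
      exact ⟨e.injective h.1, e.injective h.2⟩
    have hcop : Nat.Coprime 12 r := by
      rw [Nat.coprime_comm, (Fact.out : r.Prime).coprime_iff_not_dvd]
      intro h
      have hle := Nat.le_of_dvd (by norm_num) h
      have hp' := (Fact.out : r.Prime)
      interval_cases r
      all_goals first | omega | norm_num at hp'
    have key : ∀ z : R, (σ ^ 12) z = z → y * z * y⁻¹ = z := by
      intro z hz
      have hf : ∀ k : ℕ, ((σ ^ 12) ^ k) z = z := by
        intro k
        induction k with
        | zero => rfl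
        | succ k ih => rw [pow_succ, MulAut.mul_apply, hz, ih]
      obtain ⟨m, -, hm⟩ := Nat.exists_mul_mod_eq_one_of_coprime hcop (by omega)
      have h1 : σ = (σ ^ 12) ^ m := by
        rw [← pow_mul, pow_eq_pow_mod (12 * m) hσr, hm, pow_one]
      have h2' : σ z = z := by rw [h1]; exact hf m
      exact congrArg Subtype.val h2'
    have hcA : (y : Matrix (Fin 2) (Fin 2) F) * A = A * y := by
      have := key a h12.1
      rw [mul_inv_eq_iff_eq_mul] at this
      exact congrArg Units.val this
    have hcB : (y : Matrix (Fin 2) (Fin 2) F) * B = B * y := by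
      have := key b h12.2
      rw [mul_inv_eq_iff_eq_mul] at this
      exact congrArg Units.val this
    obtain ⟨z, hz⟩ := (isScalar'_iff _).mp (hq.eq_scalar h2 hcA hcB)
    refine hxns z ?_
    have hxy : (x : GL (Fin 2) F) = g * y * g⁻¹ := by rw [hy]; group
    rw [hxy, Units.val_mul, Units.val_mul, hz, Matrix.mul_smul, mul_one, Matrix.smul_mul,
      ← Units.val_mul, mul_inv_cancel]
    rfl
  · rintro hr x hx ⟨z, hz⟩ hxns
    have hd := hSL.mp hx
    set X := (x : Matrix (Fin 2) (Fin 2) F) with hX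
    set t := X.trace with ht
    have hch := cayley_hamilton X
    rw [hd, one_smul, ← ht] at hch
    have hpow : ((x ^ r : GL (Fin 2) F) : Matrix (Fin 2) (Fin 2) F) = X ^ r := Units.val_pow_eq_pow_val x r
    rw [hpow] at hz
    have hind : ∀ u w : F, u • X = w • (1 : Matrix (Fin 2) (Fin 2) F) → u = 0 ∧ w = 0 := by
      intro u w huw
      have hu : u = 0 := by
        by_contra hu
        exact hxns (u⁻¹ * w) (by rw [mul_smul, ← huw, smul_smul, inv_mul_cancel₀ hu, one_smul])
      exact ⟨hu, hfree w (by rw [← huw, hu, zero_smul])⟩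
    rcases hr with rfl | rfl
    · rw [sq, hch] at hz
      have ht0 : t = 0 := (hind t (1 + z) (by rw [add_smul, one_smul]; linear_combination (norm := module) hz)).1
      exact hconj x a hx hA1 (hmem _ ⟨a, rfl⟩ ⟨⟨_, R.mul_mem (R.mul_mem a.2 b.2) (R.inv_mem a.2)⟩, by simp⟩)
        (by rw [← hX, ← ht, ht0]; exact (hq.trace_det h2).1.symm) hxns hAns
        (by rw [← hX, ← ht, ht0]; intro h
            have : (2 : F) * 2 = 0 := by linear_combination -h
            exact h2 ((mul_self_eq_zero).mp this))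
    · rw [pow_succ, sq, hch, sub_mul, Matrix.smul_mul, hch, Matrix.one_mul] at hz
      have hu := hind (t * t - 1) (z + t) (by
        rw [sub_smul, mul_smul, add_smul, one_smul]
        linear_combination (norm := module) hz)
      have ht1 : t = 1 ∨ t = -1 := mul_self_eq_one_iff.mp (sub_eq_zero.mp hu.1)
      obtain ⟨hct, hcd⟩ := hq.cyc_trace_det h2
      let G0 : GL (Fin 2) F := Matrix.GeneralLinearGroup.mkOfDetNeZero (cyc A B) (by rw [hcd]; exact one_ne_zero)
      have hGN : G0 ∈ Cfsg.Geo.subgroupNormalizer R :=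
        hmem _ ⟨a * b, Units.ext (by
          rw [Units.val_mul, Units.val_mul]
          show cyc A B * A = ρ (a * b) * cyc A B
          rw [map_mul]; exact (hq.cyc_conj).1)⟩ ⟨a, Units.ext (hq.cyc_conj).2⟩
      have hGS : G0 ∈ Cfsg.Geo.specialLinear (Fin 2) F := hSL.mpr hcd
      have h3 : (3 : F) ≠ 0 := by
        intro h
        have : (p : ℕ) ∣ 3 := (CharP.cast_eq_zero_iff F p 3).mp (by simpa using h)
        have := Nat.le_of_dvd (by norm_num) this
        omega
      have hGns : ∀ w : F, cyc A B ≠ w • 1 := by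
        intro w hw
        have e1 := hct
        have e2 := hcd
        rw [hw, Matrix.trace_smul, Matrix.trace_one, Fintype.card_fin] at e1
        rw [hw, Matrix.det_smul, Matrix.det_one, mul_one, Fintype.card_fin] at e2
        simp at e1
        apply h3
        linear_combination (2 * w - 1) * e1 - 4 * e2
      have h4 : t ^ 2 ≠ 4 := by
        intro h
        apply h3
        rcases ht1 with rfl' | rfl'
        · rw [rfl'] at h; linear_combination -h
        · rw [rfl'] at h; linear_combination -h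
      rcases ht1 with ht1 | ht1
      · refine hconj x (-G0) hx (hSL.mpr ?_) (hmem _ ⟨a * b, ?_⟩ ⟨a, ?_⟩) ?_ hxns ?_ h4
        · rw [Units.val_neg, Matrix.det_neg, Fintype.card_fin]
          show (-1 : F) ^ 2 * (cyc A B).det = 1
          rw [hcd]; ring
        · rw [neg_mul, mul_neg]
          refine congrArg Neg.neg (Units.ext ?_)
          rw [Units.val_mul, Units.val_mul]
          show cyc A B * A = ρ (a * b) * cyc A B
          rw [map_mul]; exact (hq.cyc_conj).1
        · rw [neg_mul, mul_neg]; exact congrArg Neg.neg (Units.ext (hq.cyc_conj).2)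
        · rw [Units.val_neg, Matrix.trace_neg, ← hX, ← ht, ht1]
          show (1 : F) = -(cyc A B).trace
          rw [hct, neg_neg]
        · intro w hw
          refine hGns (-w) ?_
          rw [neg_smul, ← hw]; exact (neg_neg _).symm
      · exact hconj x G0 hx hGS hGN (by rw [← hX, ← ht, ht1]; exact hct.symm) hxns hGns h4

end Cfsg.Agent.S5997
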