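import Cfsg.Statements.S5999
import Cfsg.Agent.Lib.PrimeFix.HeisenbergFrames
-- import your own Cfsg.Agent.* helpers here

set_option autoImplicit false
open scoped MatrixGroups
open Cfsg

namespace Cfsg.Agent.S5999

/-- Elements of prime order of PSU_3(p), p ≡ 2 (mod 3), and the normalizer of an extraspecial subgroup of order 27. Here `T = PSU_3(p)` for a prime `p ≥ 5` with `p ≡ 2 (mod 3)`, realised through `SU_3(p)`, the matrices of determinant 1 over the field `F` with `p²` elements preserving the hermitian form `Σ uᵢvᵢ^p`; `R` is a non-abelian subgroup of order 27 and exponent 3 of the full unitary group of that form (an extraspecial group 3^{1+2}, acting absolutely irreducibly), and `H` is the subgroup of `SU_3(p)` normalizing `R` — a subgroup of type 3^{1+2}.Sp₂(3) (maximality is not assumed). Ω is the set of cosets of `H`, so an element of `T` of prime order `r` (`x ∈ SU_3(p)` with `x^r` scalar, `x` not scalar) fixes a point of Ω exactly when some `SU_3(p)`-conjugate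 of `x` normalizes `R`. Let `r` be a prime dividing the index of `H`. Then every element of `T` of order `r` fixes a point of Ω if and only if `r = 2`, or `r = 3` and `p ≡ 8 (mod 9)`. -/
theorem result {F : Type*} [Field F] [Fintype F] {p : ℕ} [Fact p.Prime] [CharP F p] (hF : Fintype.card F = p ^ 2) (hp : 5 ≤ p) (hp3 : p % 3 = 2)
    (R : Subgroup (GL (Fin 3) F)) (hRU : R ≤ Cfsg.GU 3 F p) (hR : Nat.card R = 27) (hRe : Monoid.exponent R = 3) (hRna : ¬ IsMulCommutative R)
    (r : ℕ) [Fact r.Prime]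
    (hΩ : r ∣ (Cfsg.Geo.subgroupNormalizer R).relIndex (Cfsg.GU 3 F p ⊓ Cfsg.Geo.specialLinear (Fin 3) F)) :
    (∀ x ∈ Cfsg.GU 3 F p ⊓ Cfsg.Geo.specialLinear (Fin 3) F, (∃ z : F, ((x ^ r : GL (Fin 3) F) : Matrix (Fin 3) (Fin 3) F) = z • (1 : Matrix (Fin 3) (Fin 3) F)) →
      (∀ z : F, (x : Matrix (Fin 3) (Fin 3) F) ≠ z • (1 : Matrix (Fin 3) (Fin 3) F)) →
      ∃ g ∈ Cfsg.GU 3 F p ⊓ Cfsg.Geo.specialLinear (Fin 3) F, g⁻¹ * x * g ∈ Cfsg.Geo.subgroupNormalizer R) ↔ (r = 2 ∨ (r = 3 ∧ p % 9 = 8)) := by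
  classical
  have hcardU : Nat.card Fˣ = (p + 1) * (p - 1) := Cfsg.Agent.Forms.units_card hF
  have hroot : ∀ n : ℕ, n ∣ Nat.card Fˣ → ∃ u : Fˣ, orderOf u = n := by
    intro n hn
    obtain ⟨g, hg⟩ := IsCyclic.exists_generator (α := Fˣ)
    have hN : orderOf g = Nat.card Fˣ := orderOf_eq_card_of_forall_mem_zpowers hg
    obtain ⟨e, he⟩ := hn
    have hpos : 0 < n * e := he ▸ Nat.card_pos
    have he0 : 0 < e := Nat.pos_of_mul_pos_left hpos
    refine ⟨g ^ e, ?_⟩
    rw [orderOf_pow' _ he0.ne', hN, he, Nat.gcd_eq_right (dvd_mul_left e n), Nat.mul_div_cancel _ he0]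
  have hodd : p % 2 = 1 := Nat.odd_iff.1 ((Fact.out : p.Prime).odd_of_ne_two (by omega))
  have h2 : (2 : F) ≠ 0 := fun h => by
    have := Nat.le_of_dvd two_pos ((CharP.cast_eq_zero_iff F p 2).1 (by simpa using h))
    omega
  obtain ⟨u, hu⟩ := hroot 3 (by rw [hcardU]; exact dvd_mul_of_dvd_left (by omega) _)
  have hω : (u : F) ^ 3 = 1 := by
    have := pow_orderOf_eq_one u
    rw [hu] at this
    simpa using congrArg Units.val this
  have hω1 : (u : F) ≠ 1 := fun h => by
    rw [Units.val_eq_one.1 h, orderOf_one] at hu; omega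
  have hf := Cfsg.Agent.PrimeFix.Heis3.frame_GU hF hω hω1 h2 (by omega) (by omega)
  refine hf.fixes_iff hRU hR hRe hRna r (p % 9 = 8) ?_ ?_ hΩ
  · intro h9
    obtain ⟨v, hv⟩ := hroot 9 (by rw [hcardU]; exact dvd_mul_of_dvd_left (by omega) _)
    have hv9 : (v : F) ^ 9 = 1 := by
      have := pow_orderOf_eq_one v
      rw [hv] at this
      simpa using congrArg Units.val this
    have hv3 : ((v : F) ^ 3) ^ 3 = 1 := by rw [← pow_mul]; exact hv9
    have hv1 : (v : F) ^ 3 ≠ 1 := fun h => by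
      have h' : v ^ 3 = 1 := Units.ext (by simpa using h)
      have := orderOf_dvd_of_pow_eq_one h'
      rw [hv] at this
      have := Nat.le_of_dvd (by norm_num) this
      omega
    have hvn : (v : F) ^ (p + 1) = 1 := by
      obtain ⟨e, he⟩ : 9 ∣ p + 1 := by omega
      rw [he, pow_mul, hv9, one_pow]
    obtain ⟨e, he⟩ := hf.roots hv3
    fin_cases e
    · exact absurd (by simpa using he) hv1
    · exact ⟨v, hvn, by simpa using he⟩
    · refine ⟨(v : F) ^ 2, by rw [← pow_mul, mul_comm, pow_mul, hvn, one_pow], ?_⟩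
      simp at he
      linear_combination ((v : F) ^ 3 + (u : F) ^ 2) * he + (u : F) * hω
  · intro h9 h81
    have hcard : Nat.card ↥(Cfsg.GU 3 F p ⊓ Cfsg.Geo.specialLinear (Fin 3) F) =
        p ^ 3 * ((p ^ 2 - 1) * (p ^ 3 + 1)) := by
      have h := Cfsg.Agent.Aschbacher.SUThree.card_SUG (q := p) hF
      refine Nat.eq_of_mul_eq_mul_left (show 0 < p + 1 by omega) (Eq.trans h ?_)
      ring
    rw [hcard, ← ZMod.natCast_eq_zero_iff] at h81
    have h1 : 1 ≤ p ^ 2 := Nat.one_le_pow _ _ (by omega)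
    push_cast [Nat.cast_sub h1] at h81
    have key : ∀ x : ZMod 81, (x.val % 9 = 2 ∨ x.val % 9 = 5) →
        x ^ 3 * ((x ^ 2 - 1) * (x ^ 3 + 1)) ≠ 0 := by decide +kernel
    refine key (p : ZMod 81) ?_ h81
    rw [ZMod.val_natCast]
    omega

end Cfsg.Agent.S5999
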