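import Cfsg.Statements.S6000
import Cfsg.Agent.Lib.PrimeFix.PauliBlock
import Cfsg.Agent.Lib.PrimeFix.PauliForm
import Cfsg.Agent.Lib.Semisimple.Classes

set_option autoImplicit false
open scoped MatrixGroups
open Cfsg

namespace Cfsg.Agent.S6000

open PauliFour

variable {F : Type*} [Field F]

theorem mem_sl {x : GL (Fin 4) F} :
    x ∈ Cfsg.Geo.specialLinear (Fin 4) F ↔ (x : Matrix (Fin 4) (Fin 4) F).det = 1 := by
  rw [Cfsg.Geo.specialLinear, MonoidHom.mem_ker]
  constructor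
  · intro h; simpa using congrArg Units.val h
  · intro h; exact Units.ext h

theorem conjBy_sl [Finite F] : ConjBy (Cfsg.Geo.specialLinear (Fin 4) F) := by
  intro x hx y hy N hxN hyN hN hc
  have hSS : ∀ g : GL (Fin 4) F, g ^ N = 1 → Semisimple.SS (K := F) (g : Matrix (Fin 4) (Fin 4) F) := fun g hg =>
    ⟨Polynomial.X ^ N - 1, (Polynomial.separable_X_pow_sub_C 1 hN one_ne_zero).squarefree, by
      rw [map_sub, map_pow, Polynomial.aeval_X, map_one, ← Units.val_pow_eq_pow_val, hg, Units.val_one, sub_self]⟩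
  obtain ⟨x', hx'⟩ : ∃ x' : Matrix.SpecialLinearGroup (Fin 4) F,
      (x' : Matrix (Fin 4) (Fin 4) F) = (x : Matrix (Fin 4) (Fin 4) F) := ⟨⟨_, mem_sl.1 hx⟩, rfl⟩
  obtain ⟨y', hy'⟩ : ∃ y' : Matrix.SpecialLinearGroup (Fin 4) F,
      (y' : Matrix (Fin 4) (Fin 4) F) = (y : Matrix (Fin 4) (Fin 4) F) := ⟨⟨_, mem_sl.1 hy⟩, rfl⟩
  have h := Semisimple.isConj_sl x' y' (hx' ▸ hSS x hxN) (hy' ▸ hSS y hyN) (by rw [hx', hy']; exact hc)
  obtain ⟨M, hM⟩ := isConj_iff.1 h
  have h1 : (M.1 : Matrix (Fin 4) (Fin 4) F) * (x : Matrix (Fin 4) (Fin 4) F) = (y : Matrix (Fin 4) (Fin 4) F) * M.1 := by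
    rw [← hx', ← hy']
    have h2 : M * x' = y' * M := mul_inv_eq_iff_eq_mul.1 hM
    exact congrArg (fun g : Matrix.SpecialLinearGroup (Fin 4) F => (g : Matrix (Fin 4) (Fin 4) F)) h2
  refine ⟨(Matrix.SpecialLinearGroup.toGL M)⁻¹, Subgroup.inv_mem _ (mem_sl.2 M.2), ?_⟩
  rw [inv_inv, mul_inv_eq_iff_eq_mul]
  exact Units.ext h1

theorem fixes_iff {p : ℕ} [Fact p.Prime] [CharP F p] [Fintype F] (hF : Fintype.card F = p) (hp4 : p % 4 = 1)
    (r : ℕ) [Fact r.Prime] {R : Subgroup (GL (Fin 4) F)}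
    (hΩ : r ∣ (Cfsg.Geo.subgroupNormalizer R).relIndex (Cfsg.Geo.specialLinear (Fin 4) F)) :
    Fixes (Cfsg.Geo.specialLinear (Fin 4) F) (R0 (Par.std F) 2) r ↔
      (r = 2 ∨ (r = 3 ∧ p % 3 = 2) ∨ (r = 5 ∧ orderOf (p : ZMod 5) = 4)) := by
  have hp : p.Prime := Fact.out
  have hne : ∀ n : ℕ, n.Prime → n ≠ p → (n : F) ≠ 0 := fun n hn hnp h =>
    hnp ((Nat.prime_dvd_prime_iff_eq hp hn).1 ((CharP.cast_eq_zero_iff F p n).1 h)).symm
  have h2 : (2 : F) ≠ 0 := by simpa using hne 2 Nat.prime_two (by omega)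
  have h3 : (3 : F) ≠ 0 := by simpa using hne 3 Nat.prime_three (by omega)
  obtain ⟨i, hi⟩ : IsSquare (-1 : F) := FiniteField.isSquare_neg_one_iff.2 (by omega)
  have hi' : i * i = -1 := hi.symm
  set S := Cfsg.Geo.specialLinear (Fin 4) F
  have hdet : ∀ x ∈ S, (x : Matrix (Fin 4) (Fin 4) F).det = 1 := fun x hx => mem_sl.1 hx
  have hchar : ∀ M : Matrix (Fin 4) (Fin 4) F, (M ^ p).charpoly = M.charpoly := fun M => by
    rw [← hF]; exact FiniteField.Matrix.charpoly_pow_card M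
  rcases (Fact.out : r.Prime).eq_two_or_odd with rfl | hodd
  · refine iff_of_true ?_ (Or.inl rfl)
    refine fixes_two _ _ h2 hdet conjBy_sl (fun e => mem_sl.2 (det_P _ e)) fun x hx z _ hzz w hw _ => ?_
    have hw0 : w ≠ 0 := by rintro rfl; rw [← hw] at hzz; simp at hzz
    refine ⟨dUnit (Units.mk0 w hw0), mem_sl.2 ?_, dUnit_mem_normalizer 2 _, coe_dUnit _⟩
    rw [coe_dUnit, dMat, ← Matrix.diagonal_smul, Matrix.det_diagonal]
    simp [Fin.prod_univ_four]
    rw [← hw] at hzz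
    linear_combination -hzz
  have hr2 : r ≠ 2 := by omega
  by_cases h7 : 7 ≤ r
  · exact iff_of_false (not_fixes_large _ h2 (Or.inr rfl) hdet h7 hΩ) (by omega)
  have hr : r = 3 ∨ r = 5 := by
    have := (Fact.out : r.Prime).two_le
    interval_cases r <;> omega
  rcases hr with rfl | rfl
  · by_cases hp3 : p % 3 = 2
    · refine iff_of_true ?_ (Or.inr (Or.inl ⟨rfl, hp3⟩))
      refine fixes_three h2 h3 hi' hdet conjBy_sl (fun b => mem_sl.2 (tUnit_spec h2 hi' b).2.2.1) fun y _ hy => ?_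
      have hy3 : (y : Matrix (Fin 4) (Fin 4) F) ^ 3 = 1 := by rw [← Units.val_pow_eq_pow_val, hy, Units.val_one]
      rw [← hp3, ← pow_eq_pow_mod p hy3]
      exact hchar _
    · refine iff_of_false ?_ (by omega)
      have h3d : 3 ∣ Nat.card Fˣ := by
        classical
        rw [Nat.card_eq_fintype_card, Fintype.card_units, hF]
        have : p % 3 ≠ 0 := fun h0 => by
          have := (Nat.prime_dvd_prime_iff_eq Nat.prime_three hp).1 (Nat.dvd_of_mod_eq_zero h0)
          omega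
        omega
      obtain ⟨w, hw⟩ := exists_prime_orderOf_dvd_card' 3 h3d
      have hw3 : w ^ 3 = 1 := hw ▸ pow_orderOf_eq_one w
      exact not_fixes_tri _ h2 h3 (Or.inr rfl) hw3 (fun h => by rw [h, orderOf_one] at hw; omega)
        (mem_sl.2 (det_triUnit hw3))
  · by_cases ho : orderOf (p : ZMod 5) = 4
    · refine iff_of_true ?_ (Or.inr (Or.inr ⟨rfl, ho⟩))
      have hp5 := (orderOf_four_iff p).1 ho
      have h5 : (5 : F) ≠ 0 := by simpa using hne 5 (by norm_num) (by omega)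
      have hi4 : i ^ (2 * 2) = 1 := by
        rw [show i ^ (2 * 2) = (i * i) * (i * i) by ring, hi']; norm_num
      have hl : i * i = -(Par.std F).s := hi'
      have hy4 : fiveUnit h2 hl ^ 4 ∈ S := mem_sl.2 (by
        rw [Units.val_pow_eq_pow_val, Matrix.det_pow, coe_fiveUnit]
        linear_combination ((fiveMat (Par.std F) i).det ^ 2 + 1) * det_fiveUnit_sq h2 hl)
      refine fixes_five _ _ h2 h5 hl hi4 hdet conjBy_sl hy4 (t := ⟨p % 5, Nat.mod_lt _ (by norm_num)⟩)
        (by rcases hp5 with h | h <;> [left; right] <;> exact Fin.ext h) fun y _ hy => ?_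
      have hy5 : (y : Matrix (Fin 4) (Fin 4) F) ^ 5 = 1 := by rw [← Units.val_pow_eq_pow_val, hy, Units.val_one]
      rw [← pow_eq_pow_mod p hy5]
      exact hchar _
    · refine iff_of_false ?_ (by omega)
      obtain ⟨s, hs, -⟩ := exists_golden (F := F) (p := p) (by omega)
        (by rw [orderOf_four_iff] at ho; omega)
      have hC : (!![0, -1; 1, s] : Matrix (Fin 2) (Fin 2) F).det = 1 := by simp [Matrix.det_fin_two]
      exact not_fixes_block_five _ h2 (Or.inr rfl) hC (by simp [Matrix.trace_fin_two]) hs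
        (mem_sl.2 ((congrArg Matrix.det (coe_embUnit _ hC)).trans ((det_emb _).trans hC))) (fun _ => by simp)

/-- Elements of prime order of PSL_4(p), p ≡ 1 (mod 4), and the normalizer of a 2-group of symplectic type of order 2⁶. Here `T = PSL_4(F)` for the field `F` with `p` elements, `p` a prime with `p ≡ 1 (mod 4)`; `R` is an absolutely irreducible subgroup of GL_4(F) of order 2⁶ that is a 2-group of symplectic type of exponent 4 with centre of order 4 (the central product of the scalars of order 4 with an extraspecial group 2^{1+4}), and `H` is the subgroup of matrices of determinant 1 normalizing `R` — a subgroup of type 2⁴.Sp₄(2) (maximality is not assumed). Ω is the set of cosets of `H` in `T`, so an element of `T` of prime order `r` (a matrix `x` of determinant 1 with `x^r` scalar, `x` not scalar) fixes a point of Ω exactly when some conjugate of `x` by a matrix of determinant 1 normalizes `R`. Let `r` be a prime dividing the index of `H`.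 Then every element of `T` of order `r` fixes a point of Ω if and only if `r = 2`, or `r = 3` and `p ≡ 2 (mod 3)`, or `r = 5` and `p ≡ ±2 (mod 5)` (`p` has multiplicative order 4 modulo 5). -/
theorem result {F : Type*} [Field F] [Fintype F] {p : ℕ} [Fact p.Prime] [CharP F p] (hF : Fintype.card F = p) (hp4 : p % 4 = 1)
    (R : Subgroup (GL (Fin 4) F)) (hR : Cfsg.Geo.IsLinearSymplecticTypeData 2 R) (hR6 : Nat.card R = 2 ^ 6)
    (r : ℕ) [Fact r.Prime]
    (hΩ : r ∣ (Cfsg.Geo.subgroupNormalizer R).relIndex (Cfsg.Geo.specialLinear (Fin 4) F)) :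
    (∀ x ∈ Cfsg.Geo.specialLinear (Fin 4) F, (∃ z : F, ((x ^ r : GL (Fin 4) F) : Matrix (Fin 4) (Fin 4) F) = z • (1 : Matrix (Fin 4) (Fin 4) F)) →
      (∀ z : F, (x : Matrix (Fin 4) (Fin 4) F) ≠ z • (1 : Matrix (Fin 4) (Fin 4) F)) →
      ∃ g ∈ Cfsg.Geo.specialLinear (Fin 4) F, g⁻¹ * x * g ∈ Cfsg.Geo.subgroupNormalizer R) ↔ (r = 2 ∨ (r = 3 ∧ p % 3 = 2) ∨ (r = 5 ∧ orderOf (p : ZMod 5) = 4)) := by
  classical
  have hp : p.Prime := Fact.out
  have h2 : (2 : F) ≠ 0 := fun h => by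
    have h' := (CharP.cast_eq_zero_iff F p 2).1 (by simpa using h)
    have := (Nat.prime_dvd_prime_iff_eq hp Nat.prime_two).1 h'
    omega
  obtain ⟨p', e, -, -, hcases⟩ := hR.field
  have hZ : Nat.card (Subgroup.center R) = 4 := by
    rcases hcases with ⟨h, -⟩ | ⟨-, -, h, -⟩ | ⟨-, -, -, h, -⟩
    · exact absurd h (by decide)
    · exact h
    · omega
  have hd : RData R 4 := rdata_of (Or.inr rfl) h2 hR.symplecticType.pGroup hR.symplecticType.cyclic_of_characteristic
    (by simpa using hR.symplecticType.exponent_eq) hR.absIrred (by omega) hZ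
  obtain ⟨X, hX, Y, hY, B, hB, A, hA, hfr⟩ := hd.frame_plus (q := Par.std F) rfl
  obtain ⟨g, hg, -⟩ := hd.eq_conj (k := 2) rfl hX hY hB hA hfr
  have hnormal : ∀ x, x ∈ Cfsg.Geo.specialLinear (Fin 4) F → ∀ g : GL (Fin 4) F,
      g⁻¹ * x * g ∈ Cfsg.Geo.specialLinear (Fin 4) F := fun x hx g => by
    rw [mem_sl] at hx ⊢
    rw [Units.val_mul, Units.val_mul, Matrix.det_mul, Matrix.det_mul, hx, mul_one, ← Matrix.det_mul,
      Units.inv_mul, Matrix.det_one]
  refine Iff.trans ?_ (fixes_iff hF hp4 r hΩ)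
  show Fixes _ R r ↔ _
  rw [hg]
  exact fixes_map_iff _ _ r g (fun x hx => hnormal x hx g) (fun x hx => by simpa using hnormal x hx g⁻¹)

end Cfsg.Agent.S6000
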