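import Cfsg.Statements.S6001
import Cfsg.Agent.Lib.PrimeFix.PauliBlock
import Cfsg.Agent.Lib.PrimeFix.PauliForm
import Cfsg.Agent.Lib.Semisimple.UnitaryConj
import Cfsg.Agent.S2390

set_option autoImplicit false
open scoped MatrixGroups
open Cfsg

namespace Cfsg.Agent.S6001

open PauliFour Matrix

variable {F : Type*} [Field F]

local notation "M4" => Matrix (Fin 4) (Fin 4) F

theorem det_of_mem_sl {x : GL (Fin 4) F} (hx : x ∈ Cfsg.Geo.specialLinear (Fin 4) F) : (x : M4).det = 1 := by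
  rw [Cfsg.Geo.specialLinear, MonoidHom.mem_ker] at hx
  simpa using congrArg Units.val hx

theorem mem_sl_of_det {x : GL (Fin 4) F} (hx : (x : M4).det = 1) : x ∈ Cfsg.Geo.specialLinear (Fin 4) F := by
  rw [Cfsg.Geo.specialLinear, MonoidHom.mem_ker]
  exact Units.ext hx

variable [Fintype F] {p : ℕ}

/-- The unitary adjoint. -/
noncomputable def uAdj (hF : Fintype.card F = p ^ 2) : Adjoint F where
  σ := Forms.qEnd hF
  adj := UnitaryConj.adj hF
  mul := UnitaryConj.adj_mul hF
  sub A B := by rw [sub_eq_add_neg, UnitaryConj.adj_add, UnitaryConj.adj_neg, ← sub_eq_add_neg]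
  smul := UnitaryConj.adj_smul hF
  one := UnitaryConj.adj_one hF

theorem mem_GU (hF : Fintype.card F = p ^ 2) (g : GL (Fin 4) F) : g ∈ Cfsg.GU 4 F p ↔ g ∈ (uAdj hF).group :=
  UnitaryConj.mem_GU_iff hF g

theorem adj_k4 (hF : Fintype.card F = p ^ 2) (A B : Matrix (Fin 2) (Fin 2) F) :
    UnitaryConj.adj hF (k4 A B) = k4 ((A.map (Forms.qEnd hF))ᵀ) ((B.map (Forms.qEnd hF))ᵀ) := by
  rw [UnitaryConj.adj, map_k4, transpose_k4]

theorem gens_mem (hF : Fintype.card F = p ^ 2) (i : Fin 4) :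
    U (Par.std F) (gens i) ∈ (uAdj hF).group := by
  rw [Adjoint.mem_group, coe_U]
  show UnitaryConj.adj hF (P (Par.std F) (gens i)) * P (Par.std F) (gens i) = 1
  have h : UnitaryConj.adj hF (P (Par.std F) (gens i)) = P (Par.std F) (gens i) := by
    rw [P, adj_k4]
    fin_cases i <;> congr 1 <;>
      (ext a b; fin_cases a <;> fin_cases b <;> simp [gens, P2, Par.X, Par.Y, Par.std])
  rw [h, P_sq]
  fin_cases i <;> simp [gens, κ, k2, Par.std]

theorem conjBy_su (hF : Fintype.card F = p ^ 2) [Fact p.Prime] [CharP F p] :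
    ConjBy (Cfsg.GU 4 F p ⊓ Cfsg.Geo.specialLinear (Fin 4) F) := by
  intro x hx y hy N hxN hyN hN hc
  obtain ⟨x', hx'⟩ : ∃ x' : ↥(Cfsg.SU 4 F p), ((x' : Matrix.SpecialLinearGroup (Fin 4) F) : M4) = (x : M4) :=
    ⟨⟨⟨_, det_of_mem_sl hx.2⟩, fun u v => hx.1 u v⟩, rfl⟩
  obtain ⟨y', hy'⟩ : ∃ y' : ↥(Cfsg.SU 4 F p), ((y' : Matrix.SpecialLinearGroup (Fin 4) F) : M4) = (y : M4) :=
    ⟨⟨⟨_, det_of_mem_sl hy.2⟩, fun u v => hy.1 u v⟩, rfl⟩
  have hcop : ∀ (g' : ↥(Cfsg.SU 4 F p)) (g : GL (Fin 4) F),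
      ((g' : Matrix.SpecialLinearGroup (Fin 4) F) : M4) = (g : M4) → g ^ N = 1 → (orderOf g').Coprime p := by
    intro g' g hg hgN
    have h1 : g' ^ N = 1 := by
      refine Subtype.ext (Subtype.ext ?_)
      simp only [SubmonoidClass.coe_pow, Matrix.SpecialLinearGroup.coe_pow, hg, OneMemClass.coe_one,
        Matrix.SpecialLinearGroup.coe_one]
      rw [← Units.val_pow_eq_pow_val, hgN, Units.val_one]
    refine Nat.Coprime.coprime_dvd_left (orderOf_dvd_of_pow_eq_one h1) (Nat.Coprime.symm ?_)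
    exact (Fact.out : p.Prime).coprime_iff_not_dvd.2 fun h => hN ((CharP.cast_eq_zero_iff F p N).2 h)
  obtain ⟨M, hM⟩ := isConj_iff.1 (S2390.result hF p 4 x' y' (hcop x' x hx' hxN) (hcop y' y hy' hyN)
    (by rw [hx', hy']; exact hc))
  have h2 : M * x' = y' * M := mul_inv_eq_iff_eq_mul.1 hM
  have h3 := congrArg (fun g : ↥(Cfsg.SU 4 F p) => ((g : Matrix.SpecialLinearGroup (Fin 4) F) : M4)) h2
  simp only [Subgroup.coe_mul, Matrix.SpecialLinearGroup.coe_mul, hx', hy'] at h3
  refine ⟨(Matrix.SpecialLinearGroup.toGL M.1)⁻¹,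
    Subgroup.inv_mem _ ⟨fun u v => M.2 u v, mem_sl_of_det M.1.2⟩, ?_⟩
  rw [inv_inv, mul_inv_eq_iff_eq_mul]
  exact Units.ext h3

theorem charpoly_pow_char [Fact p.Prime] [CharP F p] (hF : Fintype.card F = p ^ 2) (A : M4) {N : ℕ}
    (hA : A ^ N = 1) (hN : (N : F) ≠ 0) : (A ^ p).charpoly = A.charpoly.map (Forms.qEnd hF) := by
  let K := AlgebraicClosure F
  haveI : CharP K p := charP_of_injective_algebraMap (algebraMap F K).injective p
  haveI : ExpChar K p := ExpChar.prime Fact.out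
  obtain ⟨d, -, hchar, -, hpc, -, -⟩ := exists_diag A hA hN
  apply map_inj_poly F
  rw [hpc p, Polynomial.map_map, show (algebraMap F K).comp (Forms.qEnd hF) = (frobenius K p).comp (algebraMap F K) from
    RingHom.ext fun c => by simp [frobenius_def, Forms.qEnd_apply], ← Polynomial.map_map, hchar, Polynomial.map_prod]
  simp [frobenius_def]

theorem charpoly_pow_invariant [Fact p.Prime] [CharP F p] (hF : Fintype.card F = p ^ 2) {y : GL (Fin 4) F}
    (hy : y ∈ Cfsg.GU 4 F p) {n : ℕ} (hn : 0 < n) (hyn : y ^ n = 1) (hN : (n : F) ≠ 0) :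
    ((y : M4) ^ (n - 1)).charpoly = ((y : M4) ^ p).charpoly := by
  have hyn' : (y : M4) ^ n = 1 := by rw [← Units.val_pow_eq_pow_val, hyn, Units.val_one]
  rw [charpoly_pow_char hF _ hyn' hN]
  have hadj : UnitaryConj.adj hF (y : M4) = (y : M4) ^ (n - 1) := by
    have h1 : (y : M4) * (y : M4) ^ (n - 1) = 1 := by rw [← pow_succ', Nat.sub_add_cancel hn, hyn']
    have h0 : UnitaryConj.adj hF (y : M4) * (y : M4) = 1 := (UnitaryConj.mem_GU_iff hF y).1 hy
    calc UnitaryConj.adj hF (y : M4) = UnitaryConj.adj hF (y : M4) * ((y : M4) * (y : M4) ^ (n - 1)) := by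
          rw [h1, mul_one]
      _ = (y : M4) ^ (n - 1) := by rw [← mul_assoc, h0, one_mul]
  rw [← hadj, UnitaryConj.adj, Matrix.charpoly_transpose, Matrix.charpoly_map]

theorem fixes_iff [Fact p.Prime] [CharP F p] (hF : Fintype.card F = p ^ 2) (hp4 : p % 4 = 3)
    (r : ℕ) [Fact r.Prime] {R : Subgroup (GL (Fin 4) F)}
    (hΩ : r ∣ (Cfsg.Geo.subgroupNormalizer R).relIndex (Cfsg.GU 4 F p ⊓ Cfsg.Geo.specialLinear (Fin 4) F)) :
    Fixes (Cfsg.GU 4 F p ⊓ Cfsg.Geo.specialLinear (Fin 4) F) (R0 (Par.std F) 2) r ↔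
      (r = 2 ∨ (r = 3 ∧ p % 3 = 1) ∨ (r = 5 ∧ orderOf (p : ZMod 5) = 4)) := by
  have hp : p.Prime := Fact.out
  have hne : ∀ n : ℕ, n.Prime → n ≠ p → (n : F) ≠ 0 := fun n hn hnp h =>
    hnp ((Nat.prime_dvd_prime_iff_eq hp hn).1 ((CharP.cast_eq_zero_iff F p n).1 h)).symm
  have h2 : (2 : F) ≠ 0 := by simpa using hne 2 Nat.prime_two (by omega)
  have hcard4 : Fintype.card F % 4 ≠ 3 := by rw [hF, pow_two, Nat.mul_mod, hp4]; norm_num
  obtain ⟨i, hi⟩ : IsSquare (-1 : F) := FiniteField.isSquare_neg_one_iff.2 hcard4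
  have hi' : i * i = -1 := hi.symm
  have hi4 : i ^ 4 = 1 := by linear_combination (i * i - 1) * hi'
  have hip : i ^ p = -i := by
    rw [pow_eq_pow_mod p hi4, hp4, pow_succ, pow_two, hi']; ring
  set σ := Forms.qEnd hF with hσdef
  have hσ : ∀ c, σ c = c ^ p := Forms.qEnd_apply hF
  set S := Cfsg.GU 4 F p ⊓ Cfsg.Geo.specialLinear (Fin 4) F
  have hdet : ∀ x ∈ S, (x : M4).det = 1 := fun x hx => det_of_mem_sl hx.2
  have hmem : ∀ x : GL (Fin 4) F, x ∈ (uAdj hF).group → (x : M4).det = 1 → x ∈ S := fun x h1 h3 =>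
    ⟨(mem_GU hF x).2 h1, mem_sl_of_det h3⟩
  rcases (Fact.out : r.Prime).eq_two_or_odd with rfl | hodd
  · refine iff_of_true ?_ (Or.inl rfl)
    refine fixes_two _ _ h2 hdet (conjBy_su hF) (fun e => hmem _ ((uAdj hF).U_mem _ (gens_mem hF) e) (det_P _ e))
      fun x hx z hxz hzz w hw htr => ?_
    have hw0 : w ≠ 0 := by rintro rfl; rw [← hw] at hzz; simp at hzz
    have hnorm : w ^ p * w = 1 := by
      have h0 : UnitaryConj.adj hF (x : M4) * (x : M4) = 1 := (UnitaryConj.mem_GU_iff hF x).1 hx.1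
      have h1 : z • UnitaryConj.adj hF (x : M4) = (x : M4) := by
        have := congrArg (· * (x : M4)) h0
        simpa [mul_assoc, hxz] using this
      have h3 := congrArg Matrix.trace h1
      have h4 : (UnitaryConj.adj hF (x : M4)).trace = σ ((x : M4).trace) := by
        simp [UnitaryConj.adj, Matrix.trace, hσdef]
      rw [Matrix.trace_smul, h4, smul_eq_mul, htr, map_mul, map_ofNat, hσ, ← hw] at h3
      have : (2 * w) * (w ^ p * w - 1) = 0 := by linear_combination h3
      exact sub_eq_zero.1 ((mul_eq_zero.1 this).resolve_left (mul_ne_zero h2 hw0))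
    refine ⟨dUnit (Units.mk0 w hw0), hmem _ ?_ ?_, dUnit_mem_normalizer 2 _, coe_dUnit _⟩
    · rw [Adjoint.mem_group, coe_dUnit, (uAdj hF).smul]
      show (σ _ • UnitaryConj.adj hF dMat) * _ = 1
      have hD : UnitaryConj.adj hF (dMat : M4) = dMat := by
        rw [UnitaryConj.adj, dMat, Matrix.diagonal_map (map_zero _), Matrix.diagonal_transpose]
        congr 1; funext j; fin_cases j <;> simp
      rw [hD, Matrix.smul_mul, Matrix.mul_smul, dMat_sq, smul_smul, hσ, Units.val_mk0, hnorm, one_smul]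
    · rw [coe_dUnit, dMat, ← Matrix.diagonal_smul, Matrix.det_diagonal]
      simp [Fin.prod_univ_four]
      rw [← hw] at hzz
      linear_combination -hzz
  have hr2 : r ≠ 2 := by omega
  by_cases h7 : 7 ≤ r
  · exact iff_of_false (not_fixes_large _ h2 (Or.inr rfl) hdet h7 hΩ) (by omega)
  have hr : r = 3 ∨ r = 5 := by
    have := (Fact.out : r.Prime).two_le
    interval_cases r <;> omega
  have hblock : ∀ s : F, s ^ p = s → ∀ _hz : (3 : F) = 0 → s = -1, ∃ (C : Matrix (Fin 2) (Fin 2) F) (hC : C.det = 1),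
      C.trace = s ∧ embUnit C hC ∈ S ∧ ((3 : F) = 0 → C 1 0 ≠ 0) := by
    intro s hs hs3
    set a := s / 2 + i with ha
    have hap : a ^ p = s / 2 - i := by
      rw [ha, ← hσ, map_add, map_div₀, map_ofNat, hσ, hσ, hs, hip]; ring
    have hn : (1 - a ^ p * a) ^ p = 1 - a ^ p * a := by
      have : σ (σ a) = a := Forms.qEnd_qEnd hF a
      rw [← hσ, map_sub, map_one, map_mul, ← hσ a, this, mul_comm]
    clear_value a
    obtain ⟨b, hb, hb0⟩ : ∃ b : F, b ^ p * b = 1 - a ^ p * a ∧ (1 - a ^ p * a ≠ 0 → b ≠ 0) := by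
      by_cases h0 : 1 - a ^ p * a = 0
      · exact ⟨0, by rw [mul_zero, h0], fun h => absurd h0 h⟩
      · obtain ⟨b, hb0, hb⟩ := Forms.exists_norm_eq hF h0 hn
        exact ⟨b, by rw [← pow_succ, hb], fun _ => hb0⟩
    have hC : (!![a, b; -(b ^ p), a ^ p] : Matrix (Fin 2) (Fin 2) F).det = 1 := by
      simp [Matrix.det_fin_two]; linear_combination hb
    refine ⟨_, hC, ?_, hmem _ ?_ ((congrArg Matrix.det (coe_embUnit _ hC)).trans ((det_emb _).trans hC)), ?_⟩
    · rw [Matrix.trace_fin_two]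
      show a + a ^ p = s
      rw [hap, ha]; field_simp; ring
    · rw [Adjoint.mem_group, coe_embUnit]
      show UnitaryConj.adj hF _ * _ = 1
      have hpp : ∀ c : F, (c ^ p) ^ p = c := fun c => by rw [← hσ, ← hσ]; exact Forms.qEnd_qEnd hF c
      have hodd : Odd p := hp.odd_of_ne_two (by omega)
      have hp0 : (0 : F) ^ p = 0 := zero_pow hp.ne_zero
      ext j l
      fin_cases j <;> fin_cases l <;>
        simp [UnitaryConj.adj, emb, Matrix.mul_apply, Fin.sum_univ_four, Forms.qEnd_apply, hpp, hp0, hodd.neg_pow] <;>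
        first
        | ring1
        | linear_combination hb
        | linear_combination -hb
    · intro h3
      have hb' : b ≠ 0 := hb0 fun h0 => by
        rw [hap, ha, hs3 h3] at h0
        have h4 : (4 : F) ≠ 0 := by rw [show (4 : F) = 2 * 2 by norm_num]; exact mul_ne_zero h2 h2
        have : (1 : F) = 0 := by
          field_simp at h0
          linear_combination (-1 : F) * h0 + (4 : F) * hi'
        exact one_ne_zero this
      simpa using pow_ne_zero p hb'
  rcases hr with rfl | rfl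
  · by_cases hp3 : p % 3 = 1
    · refine iff_of_true ?_ (Or.inr (Or.inl ⟨rfl, hp3⟩))
      have h3 : (3 : F) ≠ 0 := by simpa using hne 3 Nat.prime_three (by omega)
      have hTT : ((tMat i).map σ)ᵀ = tMat' i := by
        ext a b
        have hσi : σ i = -i := by rw [hσ, hip]
        have hσh : σ ((2 : F)⁻¹) = (2 : F)⁻¹ := by rw [map_inv₀, map_ofNat]
        fin_cases a <;> fin_cases b <;>
          simp only [tMat, tMat', Matrix.transpose_apply, Matrix.map_apply, Matrix.smul_apply, smul_eq_mul, map_mul, hσh,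
            Matrix.of_apply, Matrix.cons_val', Matrix.cons_val_zero, Matrix.cons_val_one, Fin.zero_eta, Fin.mk_one,
            Matrix.empty_val', Matrix.cons_val_fin_one, map_add, map_sub, map_neg, map_one, hσi] <;> ring
      refine fixes_three h2 h3 hi' hdet (conjBy_su hF)
        (fun both => hmem _ ?_ (tUnit_spec h2 hi' both).2.2.1) fun y hy hy3 => ?_
      · rw [Adjoint.mem_group]
        have h1 := (tUnit h2 hi' both).inv_mul
        rw [(tUnit_spec h2 hi' both).2.2.2.1] at h1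
        refine (congrArg (· * _) ?_).trans h1
        show UnitaryConj.adj hF (k4 _ _) = _
        rw [adj_k4]
        simp only [hσdef] at hTT
        cases both <;> simp [hTT]
      · have h := charpoly_pow_invariant hF hy.1 (by norm_num) hy3 (by simpa using h3)
        have hy3' : (y : M4) ^ 3 = 1 := by rw [← Units.val_pow_eq_pow_val, hy3, Units.val_one]
        rw [h, pow_eq_pow_mod p hy3', hp3, pow_one]
    · refine iff_of_false ?_ (by omega)
      by_cases h3p : p = 3
      · have h3 : (3 : F) = 0 := by subst h3p; exact_mod_cast CharP.cast_eq_zero F 3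
        obtain ⟨C, hC, htr, hS, hC10⟩ := hblock (-1) (by rw [(hp.odd_of_ne_two (by omega)).neg_pow, one_pow])
          (fun _ => rfl)
        exact not_fixes_block_three _ h2 (Or.inr rfl) hC htr hS (Or.inl ⟨h3, hC10 h3⟩)
      have h3 : (3 : F) ≠ 0 := by simpa using hne 3 Nat.prime_three (Ne.symm h3p)
      have hp0 : p % 3 ≠ 0 := fun h0 =>
        h3p ((Nat.prime_dvd_prime_iff_eq Nat.prime_three hp).1 (Nat.dvd_of_mod_eq_zero h0)).symm
      have h3d : 3 ∣ Nat.card Fˣ := by
        classical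
        rw [Nat.card_eq_fintype_card, Fintype.card_units, hF]
        refine Nat.dvd_of_mod_eq_zero ?_
        have : p ^ 2 % 3 = 1 := by rw [Nat.pow_mod, show p % 3 = 2 by omega]
        omega
      obtain ⟨w, hw⟩ := exists_prime_orderOf_dvd_card' 3 h3d
      have hw3 : w ^ 3 = 1 := hw ▸ pow_orderOf_eq_one w
      have hwp : (w : F) ^ p * w = 1 := by
        rw [← pow_succ, ← Units.val_pow_eq_pow_val, pow_eq_pow_mod (p + 1) hw3, show (p + 1) % 3 = 0 by omega,
          pow_zero, Units.val_one]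
      refine not_fixes_tri _ h2 h3 (Or.inr rfl) hw3 (fun h => by rw [h, orderOf_one] at hw; omega)
        (hmem _ ?_ (det_triUnit hw3))
      rw [Adjoint.mem_group]
      show UnitaryConj.adj hF (Matrix.diagonal _) * Matrix.diagonal _ = 1
      rw [UnitaryConj.adj, Matrix.diagonal_map (map_zero _), Matrix.diagonal_transpose, Matrix.diagonal_mul_diagonal,
        ← Matrix.diagonal_one]
      congr 1; funext j; fin_cases j <;> simp [Forms.qEnd_apply, hwp]
  · have h5 : (5 : F) ≠ 0 := by simpa using hne 5 (by norm_num) (by omega)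
    by_cases ho : orderOf (p : ZMod 5) = 4
    · refine iff_of_true ?_ (Or.inr (Or.inr ⟨rfl, ho⟩))
      have hp5 := (orderOf_four_iff p).1 ho
      have hl : i * i = -(Par.std F).s := hi'
      have hyU : fiveUnit h2 hl ∈ (uAdj hF).group := (uAdj hF).fiveUnit_mem h2 hl (gens_mem hF) (by
        show σ i = _
        rw [hσ, hip, hi']; ring)
      have hy4 : fiveUnit h2 hl ^ 4 ∈ S := hmem _ (Subgroup.pow_mem _ hyU 4) (by
        rw [Units.val_pow_eq_pow_val, Matrix.det_pow, coe_fiveUnit]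
        linear_combination ((fiveMat (Par.std F) i).det ^ 2 + 1) * det_fiveUnit_sq h2 hl)
      refine fixes_five _ 2 h2 h5 hl (by rw [← hi4]) hdet (conjBy_su hF) hy4
        (t := ⟨p % 5, Nat.mod_lt _ (by norm_num)⟩)
        (by rcases hp5 with h | h <;> [left; right] <;> exact Fin.ext h) fun y hy hy5 => ?_
      have hy5' : (y : M4) ^ 5 = 1 := by rw [← Units.val_pow_eq_pow_val, hy5, Units.val_one]
      rw [← pow_eq_pow_mod p hy5']
      have h := charpoly_pow_invariant hF hy.1 (by norm_num) hy5 (by simpa using h5)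
      rw [← h]
      have h2' := FiniteField.Matrix.charpoly_pow_card (y : M4)
      rw [hF] at h2'
      conv_rhs => rw [← h2', pow_eq_pow_mod _ hy5']
      have : p ^ 2 % 5 = 4 := by
        rw [Nat.pow_mod]
        rcases hp5 with h | h <;> rw [h]
      rw [this]
    · refine iff_of_false ?_ (by omega)
      obtain ⟨s, hs, hsp⟩ := exists_golden (F := F) (p := p) (by omega)
        (by rw [orderOf_four_iff] at ho; omega)
      obtain ⟨C, hC, htr, hS, -⟩ := hblock s hsp (fun h3 => by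
        have hsq : (s - 1) * (s - 1) = -1 * (1 : F) + 0 := by linear_combination hs - s * h3 + h3
        exfalso
        have hp3 : p = 3 := by
          by_contra hp3
          exact (by simpa using hne 3 Nat.prime_three (Ne.symm hp3) : (3 : F) ≠ 0) h3
        rw [hp3] at ho
        exact ho ((orderOf_four_iff 3).2 (Or.inr rfl)))
      exact not_fixes_block_five _ h2 (Or.inr rfl) hC htr hs hS (fun h => absurd h h5)

/-- Elements of prime order of PSU_4(p), p ≡ 3 (mod 4), and the normalizer of a 2-group of symplectic type of order 2⁶. Here `T = PSU_4(p)` for a prime `p ≡ 3 (mod 4)`, realised through `SU_4(p)`, the matrices of determinant 1 over the field `F` with `p²` elements preserving the hermitian form `f = Σ uᵢvᵢ^p`; `R` is an absolutely irreducible subgroup of the full unitary group of `f` of order 2⁶ that is a 2-group of symplectic type of exponent 4 with centre of order 4, and `H` is the subgroup of `SU_4(p)` normalizing `R` — a subgroup of type 2⁴.Sp₄(2)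 (maximality is not assumed). Ω is the set of cosets of `H`, so an element of `T` of prime order `r` (`x ∈ SU_4(p)` with `x^r` scalar, `x` not scalar) fixes a point of Ω exactly when some `SU_4(p)`-conjugate of `x` normalizes `R`. Let `r` be a prime dividing the index of `H`. Then every element of `T` of order `r` fixes a point of Ω if and only if `r = 2`, or `r = 3` and `p ≡ 1 (mod 3)`, or `r = 5` and `p ≡ ±2 (mod 5)` (`p` has multiplicative order 4 modulo 5). -/
theorem result {F : Type*} [Field F] [Fintype F] {p : ℕ} [Fact p.Prime] [CharP F p] (hF : Fintype.card F = p ^ 2) (hp4 : p % 4 = 3)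
    (R : Subgroup (GL (Fin 4) F)) (hRs : Cfsg.Geo.IsSymplecticTypeGroup 2 R) (hRi : Cfsg.Geo.ActsAbsolutelyIrreducibly (Cfsg.Geo.matrixSet R))
    (hRU : R ≤ Cfsg.GU 4 F p) (hR6 : Nat.card R = 2 ^ 6) (hRZ : Nat.card (Subgroup.center R) = 4)
    (r : ℕ) [Fact r.Prime]
    (hΩ : r ∣ (Cfsg.Geo.subgroupNormalizer R).relIndex (Cfsg.GU 4 F p ⊓ Cfsg.Geo.specialLinear (Fin 4) F)) :
    (∀ x ∈ Cfsg.GU 4 F p ⊓ Cfsg.Geo.specialLinear (Fin 4) F, (∃ z : F, ((x ^ r : GL (Fin 4) F) : Matrix (Fin 4) (Fin 4) F) = z • (1 : Matrix (Fin 4) (Fin 4) F)) →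
      (∀ z : F, (x : Matrix (Fin 4) (Fin 4) F) ≠ z • (1 : Matrix (Fin 4) (Fin 4) F)) →
      ∃ g ∈ Cfsg.GU 4 F p ⊓ Cfsg.Geo.specialLinear (Fin 4) F, g⁻¹ * x * g ∈ Cfsg.Geo.subgroupNormalizer R) ↔ (r = 2 ∨ (r = 3 ∧ p % 3 = 1) ∨ (r = 5 ∧ orderOf (p : ZMod 5) = 4)) := by
  classical
  have hp : p.Prime := Fact.out
  have h2 : (2 : F) ≠ 0 := fun h => by
    have h' := (CharP.cast_eq_zero_iff F p 2).1 (by simpa using h)
    have := (Nat.prime_dvd_prime_iff_eq hp Nat.prime_two).1 h'
    omega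
  have hd : RData R 4 := rdata_of (Or.inr rfl) h2 hRs.pGroup hRs.cyclic_of_characteristic
    (by simpa using hRs.exponent_eq) hRi (by omega) hRZ
  obtain ⟨X, hX, Y, hY, B, hB, A, hA, hfr⟩ := hd.frame_plus (q := Par.std F) rfl
  obtain ⟨g, hg, hgR⟩ := hd.eq_conj (k := 2) rfl hX hY hB hA hfr
  have hnorm := (uAdj hF).normalizes h2 (gens_mem hF) (fun i => (mem_GU hF _).1 (hRU (hgR i)))
  have hSL : ∀ x, x ∈ Cfsg.Geo.specialLinear (Fin 4) F → ∀ g : GL (Fin 4) F,
      g⁻¹ * x * g ∈ Cfsg.Geo.specialLinear (Fin 4) F := fun x hx g => by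
    refine mem_sl_of_det ?_
    rw [Units.val_mul, Units.val_mul, Matrix.det_mul, Matrix.det_mul, det_of_mem_sl hx, mul_one, ← Matrix.det_mul,
      Units.inv_mul, Matrix.det_one]
  refine Iff.trans ?_ (fixes_iff hF hp4 r hΩ)
  show Fixes _ R r ↔ _
  rw [hg]
  exact fixes_map_iff _ _ r g
    (fun x hx => ⟨(mem_GU hF _).2 (hnorm x ((mem_GU hF x).1 hx.1)).1, hSL x hx.2 g⟩)
    (fun x hx => ⟨(mem_GU hF _).2 (hnorm x ((mem_GU hF x).1 hx.1)).2, by simpa using hSL x hx.2 g⁻¹⟩)

end Cfsg.Agent.S6001
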