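import Cfsg.Statements.S6002
import Cfsg.Agent.Lib.PrimeFix.PauliBlock
import Cfsg.Agent.Lib.PrimeFix.PauliForm
import Cfsg.Agent.Lib.Forms.Symp
import Cfsg.Agent.S2389

set_option autoImplicit false
open scoped MatrixGroups
open Cfsg

namespace Cfsg.Agent.S6002

open PauliFour Matrix

variable {F : Type*} [Field F]

local notation "M4" => Matrix (Fin 4) (Fin 4) F
local notation "M22" => Matrix (Fin 2 ⊕ Fin 2) (Fin 2 ⊕ Fin 2) F

/-- The coordinates. -/
def idx : Fin 2 ⊕ Fin 2 ≃ Fin 4 := finSumFinEquiv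

/-- The change of coordinates. -/
def toFour : GL (Fin 2 ⊕ Fin 2) F ≃* GL (Fin 4) F := Cfsg.Geo.glReindex idx

theorem coe_toFour (g : GL (Fin 2 ⊕ Fin 2) F) :
    ((toFour g : GL (Fin 4) F) : M4) = Matrix.reindexAlgEquiv F F idx (g : M22) := rfl

/-- The form in the new coordinates. -/
def J4 (F : Type*) [Field F] : Matrix (Fin 4) (Fin 4) F :=
  !![0, 0, -1, 0; 0, 0, 0, -1; 1, 0, 0, 0; 0, 1, 0, 0]

theorem J4_sq : J4 F * J4 F = -1 := by
  ext i j; fin_cases i <;> fin_cases j <;> simp [J4, Matrix.mul_apply, Fin.sum_univ_four]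

theorem reindex_J : Matrix.reindexAlgEquiv F F idx (Matrix.J (Fin 2) F) = J4 F := by
  ext i j; fin_cases i <;> fin_cases j <;>
    simp [J4, idx, Matrix.J, finSumFinEquiv, Fin.addCases, Matrix.one_apply]

/-- The symplectic adjoint. -/
def sAdj (F : Type*) [Field F] : Adjoint F where
  σ := RingHom.id F
  adj M := -(J4 F * Mᵀ * J4 F)
  mul A B := by
    have h : ∀ X Y : Matrix (Fin 4) (Fin 4) F, -(J4 F * X * J4 F) * -(J4 F * Y * J4 F) = -(J4 F * (X * Y) * J4 F) := by
      intro X Y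
      rw [neg_mul_neg, show J4 F * X * J4 F * (J4 F * Y * J4 F) = J4 F * X * (J4 F * J4 F) * Y * J4 F by
        simp only [mul_assoc], J4_sq]
      simp [mul_assoc]
    rw [Matrix.transpose_mul, h]
  sub A B := by rw [Matrix.transpose_sub, mul_sub, sub_mul]; abel
  smul c A := by simp
  one := by simp [J4_sq]

theorem mem_sAdj {g : GL (Fin 4) F} : g ∈ (sAdj F).group ↔ (g : M4)ᵀ * J4 F * (g : M4) = J4 F := by
  rw [Adjoint.mem_group]
  show -(J4 F * (g : M4)ᵀ * J4 F) * (g : M4) = 1 ↔ _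
  constructor
  · intro h
    have := congrArg (J4 F * ·) h
    simpa [← mul_assoc, J4_sq] using this
  · intro h
    rw [neg_mul, show J4 F * (g : M4)ᵀ * J4 F * (g : M4) = J4 F * ((g : M4)ᵀ * J4 F * (g : M4)) by simp only [mul_assoc],
      h, J4_sq, neg_neg]

theorem toFour_mem {x : GL (Fin 2 ⊕ Fin 2) F} : x ∈ Cfsg.spGL 2 F ↔ toFour x ∈ (sAdj F).group := by
  have h1 : x ∈ Cfsg.spGL 2 F ↔ (x : M22)ᵀ * Matrix.J (Fin 2) F * (x : M22) = Matrix.J (Fin 2) F := by
    rw [← SymplecticGroup.mem_iff', Forms.mem_symplecticGroup_iff_form]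
    exact Iff.rfl
  rw [h1, mem_sAdj, coe_toFour, ← reindex_J,
    ← (Matrix.reindexAlgEquiv F F idx).injective.eq_iff, map_mul, map_mul]
  simp [Matrix.transpose_reindex]

theorem det_group {x : GL (Fin 4) F} (hx : x ∈ (sAdj F).group) : (x : M4).det = 1 := by
  obtain ⟨y, rfl⟩ := toFour.surjective x
  rw [coe_toFour, Matrix.det_reindexAlgEquiv]
  exact SymplecticGroup.det_eq_one (Forms.mem_symplecticGroup_iff_form.2 fun u v => (toFour_mem.2 hx) u v)

theorem gens_mem (q : Par F) (hq : q.s = -1) (i : Fin 4) : U q (gens i) ∈ (sAdj F).group := by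
  have hJ : J4 F = k4 q.X 1 := by
    ext a b; fin_cases a <;> fin_cases b <;>
      simp [J4, k4, Par.X, hq, finProdFinEquiv, Fin.divNat, Fin.modNat, Matrix.one_apply]
  rw [mem_sAdj, coe_U, hJ, P, transpose_k4, k4_mul, k4_mul]
  have h0 := q.hab
  rw [hq] at h0
  fin_cases i <;> congr 1 <;>
    (ext a b; fin_cases a <;> fin_cases b <;>
      simp [gens, P2, Par.X, Par.Y, Par.std, hq, Matrix.mul_apply, Fin.sum_univ_two] <;>
      first
      | ring1
      | linear_combination h0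
      | linear_combination -h0)

theorem embUnit_mem {C : Matrix (Fin 2) (Fin 2) F} (hC : C.det = 1) : embUnit C hC ∈ (sAdj F).group := by
  rw [mem_sAdj, coe_embUnit]
  rw [Matrix.det_fin_two] at hC
  ext a b
  fin_cases a <;> fin_cases b <;> simp [emb, J4, Matrix.mul_apply, Fin.sum_univ_four] <;>
    first
    | ring1
    | linear_combination hC
    | linear_combination -hC

theorem conjBy_sp [Fintype F] (p : ℕ) [Fact p.Prime] [CharP F p] : ConjBy (sAdj F).group := by
  intro x hx y hy N hxN hyN hN hc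
  obtain ⟨a, rfl⟩ := toFour.surjective x
  obtain ⟨b, rfl⟩ := toFour.surjective y
  have ha := Forms.mem_symplecticGroup_iff_form.2 (fun u v => (toFour_mem.2 hx) u v)
  have hb := Forms.mem_symplecticGroup_iff_form.2 (fun u v => (toFour_mem.2 hy) u v)
  have hcop : ∀ (g : GL (Fin 2 ⊕ Fin 2) F) (hg : (g : M22) ∈ Matrix.symplecticGroup (Fin 2) F),
      toFour g ^ N = 1 → (orderOf (⟨_, hg⟩ : Matrix.symplecticGroup (Fin 2) F)).Coprime p := by
    intro g hg hgN
    rw [← map_pow, map_eq_one_iff _ toFour.injective] at hgN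
    have h1 : (⟨_, hg⟩ : Matrix.symplecticGroup (Fin 2) F) ^ N = 1 :=
      Subtype.ext (by rw [SubmonoidClass.coe_pow, OneMemClass.coe_one]; exact congrArg Units.val hgN)
    refine Nat.Coprime.coprime_dvd_left (orderOf_dvd_of_pow_eq_one h1) (Nat.Coprime.symm ?_)
    exact (Fact.out : p.Prime).coprime_iff_not_dvd.2 fun h => hN ((CharP.cast_eq_zero_iff F p N).2 h)
  obtain ⟨M, hM⟩ := isConj_iff.1 (S2389.result p 2 ⟨_, ha⟩ ⟨_, hb⟩ (hcop a ha hxN) (hcop b hb hyN) (by
    rw [coe_toFour, coe_toFour, Matrix.reindexAlgEquiv_apply, Matrix.charpoly_reindex,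
      Matrix.reindexAlgEquiv_apply, Matrix.charpoly_reindex] at hc
    exact hc))
  have h3 := congrArg Subtype.val (mul_inv_eq_iff_eq_mul.1 hM)
  simp only [Submonoid.coe_mul] at h3
  let m : GL (Fin 2 ⊕ Fin 2) F := Matrix.GeneralLinearGroup.mkOfDetNeZero (M : M22)
    (by rw [SymplecticGroup.det_eq_one M.2]; exact one_ne_zero)
  have hm : m ∈ Cfsg.spGL 2 F := fun u v => Forms.mem_symplecticGroup_iff_form.1 M.2 u v
  refine ⟨(toFour m)⁻¹, Subgroup.inv_mem _ (toFour_mem.1 hm), ?_⟩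
  rw [inv_inv, mul_inv_eq_iff_eq_mul, ← map_mul, ← map_mul]
  exact congrArg toFour (Units.ext h3)

theorem fixes_iff {p : ℕ} [Fact p.Prime] [CharP F p] [Fintype F] (hF : Fintype.card F = p) (hodd : Odd p)
    {q : Par F} (hq : q.s = -1) (r : ℕ) [Fact r.Prime] {R : Subgroup (GL (Fin 4) F)}
    (hΩ : r ∣ (Cfsg.Geo.subgroupNormalizer R).relIndex (sAdj F).group) :
    Fixes (sAdj F).group (R0 q 1) r ↔ (r = 2 ∨ (r = 5 ∧ orderOf (p : ZMod 5) = 4)) := by
  have hp : p.Prime := Fact.out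
  have hp2 : p ≠ 2 := fun h => by rw [h] at hodd; exact absurd hodd (by decide)
  have hne : ∀ n : ℕ, n.Prime → n ≠ p → (n : F) ≠ 0 := fun n hn hnp h =>
    hnp ((Nat.prime_dvd_prime_iff_eq hp hn).1 ((CharP.cast_eq_zero_iff F p n).1 h)).symm
  have h2 : (2 : F) ≠ 0 := by simpa using hne 2 Nat.prime_two (Ne.symm hp2)
  set S := (sAdj F).group
  have hdet : ∀ x ∈ S, (x : M4).det = 1 := fun x hx => det_group hx
  rcases (Fact.out : r.Prime).eq_two_or_odd with rfl | hrodd
  · refine iff_of_true ?_ (Or.inl rfl)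
    refine fixes_two _ _ h2 hdet (conjBy_sp p) (fun e => (sAdj F).U_mem q (gens_mem q hq) e) fun x hx z hxz hzz => ?_
    exfalso
    have h := (mem_sAdj.1 (S.mul_mem hx hx))
    rw [Units.val_mul, hxz, Matrix.transpose_smul, Matrix.transpose_one, Matrix.smul_mul, one_mul,
      Matrix.mul_smul, mul_one, smul_smul, hzz] at h
    have h02 := congrFun (congrFun h 2) 0
    simp [J4] at h02
    exact h2 (by linear_combination -h02)
  have hr2 : r ≠ 2 := by omega
  by_cases h7 : 7 ≤ r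
  · exact iff_of_false (not_fixes_large _ h2 (Or.inl rfl) hdet h7 hΩ) (by omega)
  have hr : r = 3 ∨ r = 5 := by
    have := (Fact.out : r.Prime).two_le
    interval_cases r <;> omega
  rcases hr with rfl | rfl
  · refine iff_of_false ?_ (by omega)
    have hC : (!![0, -1; 1, -1] : Matrix (Fin 2) (Fin 2) F).det = 1 := by simp [Matrix.det_fin_two]
    refine not_fixes_block_three _ h2 (Or.inl rfl) hC (by simp [Matrix.trace_fin_two]) (embUnit_mem hC) ?_
    by_cases h3 : (3 : F) = 0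
    · exact Or.inl ⟨h3, by simp⟩
    · exact Or.inr ⟨h3, hq, rfl⟩
  · by_cases ho : orderOf (p : ZMod 5) = 4
    · refine iff_of_true ?_ (Or.inr ⟨rfl, ho⟩)
      have hp5 := (orderOf_four_iff p).1 ho
      have h5 : (5 : F) ≠ 0 := by simpa using hne 5 (by norm_num) (by omega)
      have hl : (1 : F) * 1 = -q.s := by rw [hq]; norm_num
      have hy4 : fiveUnit h2 hl ^ 4 ∈ S :=
        S.pow_mem ((sAdj F).fiveUnit_mem h2 hl (gens_mem q hq) (by simp [sAdj])) 4
      refine fixes_five _ 1 h2 h5 hl (by simp) hdet (conjBy_sp p) hy4 (t := ⟨p % 5, Nat.mod_lt _ (by norm_num)⟩)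
        (by rcases hp5 with h | h <;> [left; right] <;> exact Fin.ext h) fun y _ hy => ?_
      have hy5 : (y : M4) ^ 5 = 1 := by rw [← Units.val_pow_eq_pow_val, hy, Units.val_one]
      rw [← pow_eq_pow_mod p hy5, ← hF]
      exact FiniteField.Matrix.charpoly_pow_card _
    · refine iff_of_false ?_ (by omega)
      obtain ⟨s, hs, -⟩ := exists_golden (F := F) (p := p) hp2 (by rw [orderOf_four_iff] at ho; omega)
      have hC : (!![0, -1; 1, s] : Matrix (Fin 2) (Fin 2) F).det = 1 := by simp [Matrix.det_fin_two]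
      exact not_fixes_block_five _ h2 (Or.inl rfl) hC (by simp [Matrix.trace_fin_two]) hs (embUnit_mem hC)
        (fun _ => by simp)

theorem exists_par {p : ℕ} [Fact p.Prime] [CharP F p] : ∃ q : Par F, q.s = -1 := by
  obtain ⟨a, b, hab⟩ := ZMod.sq_add_sq p (-1)
  set ι := ZMod.castHom (dvd_refl p) F
  have h : ι a ^ 2 + ι b ^ 2 = -1 := by rw [← map_pow, ← map_pow, ← map_add, hab, map_neg, map_one]
  by_cases ha : ι a = 0
  · refine ⟨⟨-1, ι b, ι a, Or.inr rfl, fun hb => ?_, by linear_combination h⟩, rfl⟩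
    rw [ha, hb] at h; simp at h
  · exact ⟨⟨-1, ι a, ι b, Or.inr rfl, ha, by linear_combination h⟩, rfl⟩

/-- Elements of prime order of PSp_4(p), p odd, and the normalizer of an extraspecial 2-group of order 2⁵ of minus type. Here `T = PSp_4(F)` for the field `F` with `p` elements, `p` an odd prime, realised through the matrices preserving the standard alternating form `f`; `R` is an absolutely irreducible subgroup of `T` (it preserves `f`) that is a 2-group of symplectic type of exponent 4, order 2⁵ and centre of order 2, of minus type (no elementary abelian subgroup of order 2³), and `H` is the subgroup of `T` normalizing `R` — a subgroup of type 2^{1+4}.O₄⁻(2) (maximality is not assumed). Ω is the set of cosets of `H` in `T`, so an element of `T` of prime order `r` (`x ∈ T` with `x^r` scalar, `x` not scalar) fixes a point of Ω exactly when some `T`-conjugate of `x` normalizes `R`. Let `r` be a prime dividing the index of `H`. Then every element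 of `T` of order `r` fixes a point of Ω if and only if `r = 2`, or `r = 5` and `p` has multiplicative order 4 modulo 5. -/
theorem result {F : Type*} [Field F] [Fintype F] {p : ℕ} [Fact p.Prime] [CharP F p] (hF : Fintype.card F = p) (hodd : Odd p)
    (R : Subgroup (GL (Fin 2 ⊕ Fin 2) F)) (hRs : Cfsg.Geo.IsSymplecticTypeGroup 2 R) (hRi : Cfsg.Geo.ActsAbsolutelyIrreducibly (Cfsg.Geo.matrixSet R))
    (hRf : R ≤ Cfsg.spGL 2 F) (hR5 : Nat.card R = 2 ^ 5) (hRZ : Nat.card (Subgroup.center R) = 2) (hRm : Cfsg.Geo.IsOfMinusType 2 R)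
    (r : ℕ) [Fact r.Prime]
    (hΩ : r ∣ (Cfsg.Geo.subgroupNormalizer R).relIndex (Cfsg.spGL 2 F)) :
    (∀ x ∈ Cfsg.spGL 2 F, (∃ z : F, ((x ^ r : GL (Fin 2 ⊕ Fin 2) F) : Matrix (Fin 2 ⊕ Fin 2) (Fin 2 ⊕ Fin 2) F) = z • (1 : Matrix (Fin 2 ⊕ Fin 2) (Fin 2 ⊕ Fin 2) F)) →
      (∀ z : F, (x : Matrix (Fin 2 ⊕ Fin 2) (Fin 2 ⊕ Fin 2) F) ≠ z • (1 : Matrix (Fin 2 ⊕ Fin 2) (Fin 2 ⊕ Fin 2) F)) →
      ∃ g ∈ Cfsg.spGL 2 F, g⁻¹ * x * g ∈ Cfsg.Geo.subgroupNormalizer R) ↔ (r = 2 ∨ (r = 5 ∧ orderOf (p : ZMod 5) = 4)) := by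
  classical
  have hp : p.Prime := Fact.out
  have h2 : (2 : F) ≠ 0 := fun h => by
    have h' := (CharP.cast_eq_zero_iff F p 2).1 (by simpa using h)
    have := (Nat.prime_dvd_prime_iff_eq hp Nat.prime_two).1 h'
    subst this
    exact absurd hodd (by decide)
  obtain ⟨q, hq⟩ := exists_par (F := F) (p := p)
  set φ : GL (Fin 2 ⊕ Fin 2) F ≃* GL (Fin 4) F := toFour
  set R' : Subgroup (GL (Fin 4) F) := R.map φ.toMonoidHom with hR'
  let ψ : R ≃* R' := R.equivMapOfInjective φ.toMonoidHom φ.injective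
  have hsymp : ∀ A : Subgroup R', A.Characteristic → IsMulCommutative A → IsCyclic A := by
    intro A hA hAc
    have hB : (A.map ψ.symm.toMonoidHom).Characteristic := by
      rw [Subgroup.characteristic_iff_map_eq]
      intro χ
      have h1 := Subgroup.characteristic_iff_map_eq.1 hA ((ψ.symm.trans χ).trans ψ)
      conv_rhs => rw [← h1]
      rw [Subgroup.map_map, Subgroup.map_map]
      congr 1
      exact MonoidHom.ext fun a => by simp
    have e : A ≃* A.map ψ.symm.toMonoidHom := A.equivMapOfInjective _ ψ.symm.injective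
    have hBc : IsMulCommutative (A.map ψ.symm.toMonoidHom) :=
      ⟨⟨fun a b => e.symm.injective (by rw [map_mul, map_mul]; exact hAc.is_comm.comm _ _)⟩⟩
    have := hRs.cyclic_of_characteristic _ hB hBc
    exact isCyclic_of_surjective e.symm.toMonoidHom e.symm.surjective
  have habs : ∀ M : Matrix (Fin 4) (Fin 4) F, (∀ s ∈ Cfsg.Geo.matrixSet R', M * s = s * M) → ∃ c : F, M = c • 1 := by
    intro M hM
    set ρ := Matrix.reindexAlgEquiv F F idx
    obtain ⟨c, hc⟩ := hRi.2 (ρ.symm M) fun s hs => by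
      obtain ⟨x, hx, rfl⟩ := hs
      apply ρ.injective
      simp only [map_mul, AlgEquiv.apply_symm_apply]
      exact hM _ ⟨φ x, ⟨x, hx, rfl⟩, rfl⟩
    refine ⟨c, ?_⟩
    have := congrArg ρ hc
    simpa using this
  have hd : RData R' 2 := rdata_of' (Or.inl rfl) h2 (hRs.pGroup.of_equiv ψ) hsymp
    (by rw [← Monoid.exponent_eq_of_mulEquiv ψ]; simpa using hRs.exponent_eq) habs
    (by rw [hR', Subgroup.card_map_of_injective (f := φ.toMonoidHom) φ.injective, hR5]; norm_num)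
    (by rw [← Nat.card_congr (Subgroup.centerCongr ψ).toEquiv, hRZ])
  have hmin : Cfsg.Geo.IsOfMinusType 2 R' := by
    intro A hAc hA2
    have e : A ≃* A.map ψ.symm.toMonoidHom := A.equivMapOfInjective _ ψ.symm.injective
    rw [Nat.card_congr e.toEquiv]
    refine hRm _ ⟨⟨fun a b => e.symm.injective (by rw [map_mul, map_mul]; exact hAc.is_comm.comm _ _)⟩⟩ ?_
    rintro _ ⟨a, ha, rfl⟩
    rw [← map_mul, hA2 a ha, map_one]
  obtain ⟨X, hX, Y, hY, B, hB, A, hA, hfr⟩ := hd.frame_minus hq hmin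
  obtain ⟨g, hg, hgR⟩ := hd.eq_conj (k := 1) rfl hX hY hB hA hfr
  have hRU : R' ≤ (sAdj F).group := by
    rintro _ ⟨x, hx, rfl⟩
    exact toFour_mem.1 (hRf hx)
  have hnorm := (sAdj F).normalizes h2 (gens_mem q hq) (fun i => hRU (hgR i))
  have hS : (sAdj F).group = (Cfsg.spGL 2 F).map φ.toMonoidHom := by
    ext x
    obtain ⟨a, rfl⟩ := φ.surjective x
    exact ⟨fun h => ⟨a, toFour_mem.2 h, rfl⟩, fun ⟨b, hb, hbe⟩ => φ.injective hbe ▸ toFour_mem.1 hb⟩
  have hN : Cfsg.Geo.subgroupNormalizer R' = (Cfsg.Geo.subgroupNormalizer R).map φ.toMonoidHom :=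
    (Subgroup.map_equiv_normalizer_eq R φ).symm
  have hΩ' : r ∣ (Cfsg.Geo.subgroupNormalizer R').relIndex (sAdj F).group := by
    rwa [hS, hN, Subgroup.relIndex_map_map_of_injective (f := φ.toMonoidHom) _ _ φ.injective]
  refine Iff.trans ?_ (fixes_iff hF hodd hq r hΩ')
  rw [← fixes_map_iff _ _ r g (fun x hx => (hnorm x hx).1) (fun x hx => (hnorm x hx).2), ← hg]
  have hsc : ∀ (a : GL (Fin 2 ⊕ Fin 2) F) (z : F), ((φ a : GL (Fin 4) F) : Matrix (Fin 4) (Fin 4) F) = z • 1 ↔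
      (a : Matrix (Fin 2 ⊕ Fin 2) (Fin 2 ⊕ Fin 2) F) = z • 1 := fun a z => by
    rw [show ((φ a : GL (Fin 4) F) : Matrix (Fin 4) (Fin 4) F) = Matrix.reindexAlgEquiv F F idx a.val from rfl,
      ← (Matrix.reindexAlgEquiv F F idx).injective.eq_iff (b := z • 1), map_smul, map_one]
  constructor
  · intro h x hx hz hns
    obtain ⟨a, rfl⟩ := φ.surjective x
    obtain ⟨c, hc, hcN⟩ := h a (toFour_mem.2 hx) (by obtain ⟨z, hz⟩ := hz; exact ⟨z, (hsc _ z).1 (by rw [map_pow]; exact hz)⟩)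
      (fun z hz' => hns z ((hsc a z).2 hz'))
    refine ⟨φ c, toFour_mem.1 hc, ?_⟩
    rw [hN, ← map_inv, ← map_mul, ← map_mul]
    exact ⟨_, hcN, rfl⟩
  · intro h x hx hz hns
    obtain ⟨c, hc, hcN⟩ := h (φ x) (toFour_mem.1 hx)
      (by obtain ⟨z, hz⟩ := hz; exact ⟨z, by rw [← map_pow]; exact (hsc _ z).2 hz⟩)
      (fun z hz' => hns z ((hsc x z).1 hz'))
    obtain ⟨d, rfl⟩ := φ.surjective c
    refine ⟨d, toFour_mem.2 hc, ?_⟩
    rw [hN, ← map_inv, ← map_mul, ← map_mul] at hcN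
    obtain ⟨e, he, hee⟩ := hcN
    exact φ.injective hee ▸ he

end Cfsg.Agent.S6002
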